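import Mathlib

set_option autoImplicit false

namespace H16

open MulAction

/-- Orbit representatives of an invariant finite set, with the sum formula for invariant weights. -/
theorem exists_orbit_reps {G X : Type*} [Group G] [MulAction G X] (S : Finset X)
    (hS : ∀ (g : G) (x : X), x ∈ S → g • x ∈ S) :
    ∃ R : Finset X, R ⊆ S ∧ (∀ x ∈ S, ∃ r ∈ R, x ∈ orbit G r) ∧
      (∀ r ∈ R, ∀ r' ∈ R, r ∈ orbit G r' → r = r') ∧
      ∀ f : X → ℕ, (∀ (g : G) (x : X), f (g • x) = f x) →
        ∑ x ∈ S, f x = ∑ r ∈ R, Nat.card (orbit G r) * f r := by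
  classical
  let ρ : X → X := fun x => (Quotient.mk (orbitRel G X) x).out
  have hρ : ∀ x, ρ x ∈ orbit G x := fun x => by
    have : (orbitRel G X).r (ρ x) x := Quotient.exact (Quotient.out_eq _)
    exact this
  have hρ2 : ∀ x y, x ∈ orbit G y → ρ x = ρ y := fun x y h => by
    have : Quotient.mk (orbitRel G X) x = Quotient.mk (orbitRel G X) y := Quotient.sound h
    simp only [ρ, this]
  have hρρ : ∀ x, ρ (ρ x) = ρ x := fun x => hρ2 _ _ (hρ x)
  refine ⟨S.image ρ, ?_, ?_, ?_, ?_⟩
  · intro r hr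
    obtain ⟨x, hx, rfl⟩ := Finset.mem_image.1 hr
    obtain ⟨g, hg⟩ := hρ x
    rw [← hg]
    exact hS g x hx
  · intro x hx
    exact ⟨ρ x, Finset.mem_image_of_mem _ hx, mem_orbit_symm.1 (hρ x)⟩
  · intro r hr r' hr' h
    obtain ⟨x, hx, rfl⟩ := Finset.mem_image.1 hr
    obtain ⟨y, hy, rfl⟩ := Finset.mem_image.1 hr'
    rw [← hρρ x, hρ2 _ _ h, hρρ]
  · intro f hf
    rw [← Finset.sum_fiberwise_of_maps_to (g := ρ) (t := S.image ρ)
      (fun x hx => Finset.mem_image_of_mem _ hx)]
    refine Finset.sum_congr rfl fun r hr => ?_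
    obtain ⟨x, hx, rfl⟩ := Finset.mem_image.1 hr
    have hset : ((S.filter fun y => ρ y = ρ x : Finset X) : Set X) = orbit G (ρ x) := by
      ext y
      simp only [Finset.coe_filter, Set.mem_ofPred_eq]
      constructor
      · rintro ⟨-, h⟩
        rw [← h]
        exact mem_orbit_symm.1 (hρ y)
      · intro h
        refine ⟨?_, by rw [hρ2 _ _ h, hρρ]⟩
        obtain ⟨g, rfl⟩ := h
        obtain ⟨g', hg'⟩ := hρ x
        simp only at hg' ⊢
        rw [← hg']
        exact hS _ _ (hS _ _ hx)
    rw [Finset.sum_congr rfl (g := fun _ => f (ρ x)), Finset.sum_const, smul_eq_mul, ← hset]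
    · simp
    · intro y hy
      have : y ∈ orbit G (ρ x) := by rw [← hset]; exact_mod_cast hy
      obtain ⟨g, rfl⟩ := this
      exact hf g _

theorem card_orbit_mul_card_stabilizer {G X : Type*} [Group G] [MulAction G X] (x : X) :
    Nat.card (orbit G x) * Nat.card (stabilizer G x) = Nat.card G := by
  rw [← Nat.card_prod]
  exact Nat.card_congr (orbitProdStabilizerEquivGroup G x)

/-- A group acting semiregularly on an invariant finite set has order dividing its size. -/
theorem card_dvd_of_semiregular {G X : Type*} [Group G] [MulAction G X] (S : Finset X)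
    (hS : ∀ (g : G) (x : X), x ∈ S → g • x ∈ S)
    (hfree : ∀ (g : G), ∀ x ∈ S, g • x = x → g = 1) : Nat.card G ∣ S.card := by
  obtain ⟨R, hR, -, -, hsum⟩ := exists_orbit_reps S hS
  have := hsum (fun _ => 1) (fun _ _ => rfl)
  simp only [Finset.sum_const, smul_eq_mul, mul_one] at this
  rw [this]
  refine Finset.dvd_sum fun r hr => ?_
  have h1 := card_orbit_mul_card_stabilizer (G := G) r
  have h2 : stabilizer G r = ⊥ := by
    rw [Subgroup.eq_bot_iff_forall]
    intro g hg
    exact hfree g r (hR hr) hg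
  rw [h2, Subgroup.card_bot, mul_one] at h1
  rw [h1]

/-- Set version of `card_dvd_of_semiregular` for a subgroup. -/
theorem card_dvd_ncard_of_semiregular {G X : Type*} [Group G] [MulAction G X] (C : Subgroup G)
    (S : Set X) (hfin : S.Finite)
    (hS : ∀ g ∈ C, ∀ x ∈ S, g • x ∈ S)
    (hfree : ∀ g ∈ C, ∀ x ∈ S, g • x = x → g = 1) : Nat.card C ∣ S.ncard := by
  have := card_dvd_of_semiregular (G := C) hfin.toFinset
    (fun g x hx => hfin.mem_toFinset.2 (hS g g.2 x (by simpa using hx)))
    (fun g x hx h => Subtype.ext (hfree g g.2 x (by simpa using hx) h))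
  rwa [← Set.ncard_eq_toFinset_card S hfin] at this

end H16
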