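import Mathlib
import Cfsg.Agent.H16.Orbits

set_option autoImplicit false

namespace H16

open MulAction

variable {G : Type*} [Group G]

/-- The action on the cosets of a subgroup of index `n`, as a map to `Perm (Fin n)`. -/
theorem exists_perm_hom_of_index [Finite G] (H : Subgroup G) (n : ℕ) (hn : H.index = n) :
    ∃ f : G →* Equiv.Perm (Fin n), f.ker = H.normalCore := by
  have e : (G ⧸ H) ≃ Fin n := by
    apply Finite.equivFinOfCardEq
    rw [← hn, Subgroup.index_eq_card]
  refine ⟨(e.permCongrHom : _ →* _).comp (toPermHom G (G ⧸ H)), ?_⟩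
  rw [Subgroup.normalCore_eq_ker]
  ext g
  simp only [MonoidHom.mem_ker, MonoidHom.comp_apply, MonoidHom.coe_coe]
  exact map_eq_one_iff _ e.permCongrHom.injective

theorem equiv_alternating_of_injective [Finite G] {n : ℕ} (f : G →* Equiv.Perm (Fin n))
    (hf : Function.Injective f) (h : 2 * Nat.card G = n.factorial) :
    Nonempty (G ≃* alternatingGroup (Fin n)) := by
  have h1 : Nat.card f.range = Nat.card G := (Nat.card_congr (MonoidHom.ofInjective hf).toEquiv).symm
  have h2 := f.range.index_mul_card
  rw [h1, Nat.card_perm, Nat.card_eq_fintype_card (α := Fin n), Fintype.card_fin, ← h] at h2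
  have h3 : f.range.index = 2 := Nat.eq_of_mul_eq_mul_right Nat.card_pos h2
  have h4 := Equiv.Perm.eq_alternatingGroup_of_index_eq_two h3
  exact ⟨(MonoidHom.ofInjective hf).trans (MulEquiv.subgroupCongr h4)⟩

theorem equiv_perm_of_injective [Finite G] {n : ℕ} (f : G →* Equiv.Perm (Fin n))
    (hf : Function.Injective f) (h : Nat.card G = n.factorial) :
    Nonempty (G ≃* Equiv.Perm (Fin n)) := by
  refine ⟨MulEquiv.ofBijective f (hf.bijective_of_nat_card_le ?_)⟩
  rw [Nat.card_perm, Nat.card_eq_fintype_card (α := Fin n), Fintype.card_fin, h]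

/-- Class size times centraliser order. -/
theorem ncard_conj_mul_card_centralizer (a : G) :
    {b : G | IsConj a b}.ncard * Nat.card (Subgroup.centralizer ({a} : Set G)) = Nat.card G := by
  have h := card_orbit_mul_card_stabilizer (G := ConjAct G) a
  rw [← Subgroup.nat_card_centralizer_nat_card_stabilizer] at h
  have h2 : orbit (ConjAct G) a = {b : G | IsConj a b} := by
    ext b
    rw [ConjAct.mem_orbit_conjAct]
    exact isConj_comm
  rw [h2] at h
  exact h

/-- If `s` is a prime dividing the order of the centraliser of `a`, coprime to the order of `a`,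
there is an element of order `orderOf a * s`. -/
theorem exists_orderOf_mul_of_dvd_centralizer [Finite G] (a : G) (s : ℕ) (hs : s.Prime)
    (hco : (orderOf a).Coprime s) (hd : s ∣ Nat.card (Subgroup.centralizer ({a} : Set G))) :
    ∃ g : G, orderOf g = orderOf a * s := by
  have := Fact.mk hs
  obtain ⟨b, hb⟩ := exists_prime_orderOf_dvd_card' s hd
  have hb' : orderOf (b : G) = s := by rw [Subgroup.orderOf_coe, hb]
  have hc : Commute a (b : G) := by
    have := b.2
    rw [Subgroup.mem_centralizer_iff] at this
    exact this a rfl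
  exact ⟨a * b, by rw [hc.orderOf_mul_eq_mul_orderOf_of_coprime (hb' ▸ hco), hb']⟩

theorem conj_ncard_le_of_mem_normal [Finite G] (M : Subgroup G) [hM : M.Normal] {a : G}
    (ha : a ∈ M) : {b : G | IsConj a b} ⊆ (M : Set G) := by
  intro b hb
  obtain ⟨g, rfl⟩ := isConj_iff.1 hb
  exact hM.conj_mem a ha g

theorem card_centralizer_dvd (a : G) :
    Nat.card (Subgroup.centralizer ({a} : Set G)) ∣ Nat.card G := Subgroup.card_subgroup_dvd_card _

theorem orderOf_dvd_card_centralizer (a : G) :
    orderOf a ∣ Nat.card (Subgroup.centralizer ({a} : Set G)) :=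
  Subgroup.orderOf_dvd_natCard _ (by rw [Subgroup.mem_centralizer_iff]; rintro _ rfl; rfl)

/-- A group of order 12 without elements of order 6 is `A₄`. -/
theorem equiv_A4 [Finite G] (h : Nat.card G = 12) (h6 : ∀ g : G, orderOf g ≠ 6) :
    Nonempty (G ≃* alternatingGroup (Fin 4)) := by
  have : Fact (Nat.Prime 3) := ⟨by norm_num⟩
  obtain ⟨a, ha⟩ := exists_prime_orderOf_dvd_card' (G := G) 3 (by rw [h]; norm_num)
  have hc : Nat.card (Subgroup.centralizer ({a} : Set G)) = 3 := by
    have h1 := card_centralizer_dvd a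
    have h2 := orderOf_dvd_card_centralizer a
    have h3 : ¬ 2 ∣ Nat.card (Subgroup.centralizer ({a} : Set G)) := fun hd => by
      obtain ⟨g, hg⟩ := exists_orderOf_mul_of_dvd_centralizer a 2 (by norm_num)
        (by rw [ha]; norm_num) hd
      exact h6 g (by rw [hg, ha])
    rw [h] at h1; rw [ha] at h2
    have := Nat.le_of_dvd (by norm_num) h1
    interval_cases (Nat.card (Subgroup.centralizer ({a} : Set G))) <;> omega
  have hcl := ncard_conj_mul_card_centralizer a
  rw [hc, h] at hcl
  have hP : Nat.card (Subgroup.zpowers a) = 3 := by rw [Nat.card_zpowers, ha]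
  have hidx : (Subgroup.zpowers a).index = 4 := by
    have := (Subgroup.zpowers a).index_mul_card
    rw [hP, h] at this; omega
  obtain ⟨f, hf⟩ := exists_perm_hom_of_index _ 4 hidx
  refine equiv_alternating_of_injective f ?_ (by rw [h]; rfl)
  rw [← MonoidHom.ker_eq_bot_iff, hf]
  have hle := (Subgroup.zpowers a).normalCore_le
  have hd := Subgroup.card_dvd_of_le hle
  rw [hP] at hd
  rcases (Nat.dvd_prime Nat.prime_three).1 hd with h1 | h1
  · exact Subgroup.card_eq_one.1 h1
  · exfalso
    have heq : (Subgroup.zpowers a).normalCore = Subgroup.zpowers a :=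
      Subgroup.eq_of_le_of_card_ge hle (by rw [h1, hP])
    have hsub := conj_ncard_le_of_mem_normal (Subgroup.zpowers a).normalCore
      (a := a) (by rw [heq]; exact Subgroup.mem_zpowers a)
    have := Set.ncard_le_ncard hsub (Set.toFinite _)
    rw [← Nat.card_coe_set_eq (((Subgroup.zpowers a).normalCore : Subgroup G) : Set G)] at this
    erw [h1] at this
    omega

/-- A group of order 24 without elements of order 6 is `S₄`. -/
theorem equiv_S4 [Finite G] (h : Nat.card G = 24) (h6 : ∀ g : G, orderOf g ≠ 6) :
    Nonempty (G ≃* Equiv.Perm (Fin 4)) := by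
  have : Fact (Nat.Prime 3) := ⟨by norm_num⟩
  have hc : ∀ a : G, orderOf a = 3 → Nat.card (Subgroup.centralizer ({a} : Set G)) = 3 := by
    intro a ha
    have h1 := card_centralizer_dvd a
    have h2 := orderOf_dvd_card_centralizer a
    have h3 : ¬ 2 ∣ Nat.card (Subgroup.centralizer ({a} : Set G)) := fun hd => by
      obtain ⟨g, hg⟩ := exists_orderOf_mul_of_dvd_centralizer a 2 (by norm_num)
        (by rw [ha]; norm_num) hd
      exact h6 g (by rw [hg, ha])
    rw [h] at h1; rw [ha] at h2
    have := Nat.le_of_dvd (by norm_num) h1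
    interval_cases (Nat.card (Subgroup.centralizer ({a} : Set G))) <;> omega
  -- a normal subgroup of order divisible by 3 has more than 8 elements
  have hnorm : ∀ (M : Subgroup G) [M.Normal], 3 ∣ Nat.card M → 8 ≤ Nat.card M := by
    intro M _ hM
    obtain ⟨a, ha⟩ := exists_prime_orderOf_dvd_card' (G := M) 3 hM
    have ha' : orderOf (a : G) = 3 := by rw [Subgroup.orderOf_coe, ha]
    have hcl := ncard_conj_mul_card_centralizer (a : G)
    rw [hc _ ha', h] at hcl
    have := Set.ncard_le_ncard (conj_ncard_le_of_mem_normal M a.2) (Set.toFinite _)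
    rw [← Nat.card_coe_set_eq (M : Set G)] at this
    have h8 : {b : G | IsConj (a : G) b}.ncard = 8 := by omega
    rw [h8] at this
    exact this
  obtain ⟨P⟩ : Nonempty (Sylow 3 G) := inferInstance
  have hP : Nat.card P = 3 := by
    rw [P.card_eq_multiplicity, h]
    have : Nat.factorization 24 3 = 1 := by
      rw [show 24 = 3 * 8 by norm_num, Nat.factorization_mul (by norm_num) (by norm_num)]
      simp [Nat.Prime.factorization_self Nat.prime_three,
        Nat.factorization_eq_zero_of_not_dvd (show ¬ 3 ∣ 8 by norm_num)]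
    rw [this]; rfl
  have hn : Nat.card (Sylow 3 G) = 4 := by
    have h1 := P.card_dvd_index
    have h2 := card_sylow_modEq_one 3 G
    have h3 : (P : Subgroup G).index = 8 := by
      have := (P : Subgroup G).index_mul_card
      rw [hP, h] at this; omega
    rw [h3] at h1
    have h4 : Nat.card (Sylow 3 G) ≠ 1 := by
      intro h5
      have : Subsingleton (Sylow 3 G) := (Nat.card_eq_one_iff_unique.1 h5).1
      have := P.normal_of_subsingleton
      have := hnorm (P : Subgroup G) (by rw [hP])
      rw [hP] at this; omega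
    have := Nat.le_of_dvd (by norm_num) h1
    unfold Nat.ModEq at h2
    interval_cases (Nat.card (Sylow 3 G)) <;> omega
  have hidx : (Subgroup.normalizer ((P : Subgroup G) : Set G)).index = 4 := by
    rw [← hn]; exact P.card_eq_index_normalizer.symm
  obtain ⟨f, hf⟩ := exists_perm_hom_of_index _ 4 hidx
  refine equiv_perm_of_injective f ?_ (by rw [h]; rfl)
  rw [← MonoidHom.ker_eq_bot_iff, hf]
  set N := Subgroup.normalizer ((P : Subgroup G) : Set G)
  have hN : Nat.card N = 6 := by
    have := N.index_mul_card
    rw [hidx, h] at this; omega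
  have hd := Subgroup.card_dvd_of_le N.normalCore_le
  rw [hN] at hd
  have h3 : ¬ 3 ∣ Nat.card N.normalCore := fun h3 => by
    have := hnorm _ h3
    have := Nat.le_of_dvd (by norm_num) hd
    omega
  have h2 : Nat.card N.normalCore ≠ 2 := by
    intro h2
    have : Fact (Nat.Prime 2) := ⟨by norm_num⟩
    obtain ⟨t, ht⟩ := exists_prime_orderOf_dvd_card' (G := N.normalCore) 2 (by rw [h2])
    have ht' : orderOf (t : G) = 2 := by rw [Subgroup.orderOf_coe, ht]
    have hsub : {b : G | IsConj (t : G) b} ⊆ (N.normalCore : Set G) \ {1} := by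
      intro b hb
      refine ⟨conj_ncard_le_of_mem_normal _ t.2 hb, ?_⟩
      rintro rfl
      have : (t : G) = 1 := isConj_one_left.1 hb
      rw [this, orderOf_one] at ht'; omega
    have h4 := Set.ncard_le_ncard hsub (Set.toFinite _)
    rw [Set.ncard_sdiff_singleton_of_mem (one_mem _), ← Nat.card_coe_set_eq (N.normalCore : Set G)]
      at h4
    erw [h2] at h4
    have hcl := ncard_conj_mul_card_centralizer (t : G)
    have h5 : {b : G | IsConj (t : G) b}.ncard = 1 := by
      rcases Nat.eq_zero_or_pos {b : G | IsConj (t : G) b}.ncard with h0 | h0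
      · rw [h0, h] at hcl; omega
      · omega
    rw [h5, one_mul] at hcl
    obtain ⟨g, hg⟩ := exists_orderOf_mul_of_dvd_centralizer (t : G) 3 (by norm_num)
      (by rw [ht']; norm_num) (by rw [hcl, h]; norm_num)
    exact h6 g (by rw [hg, ht'])
  have := Nat.le_of_dvd (by norm_num) hd
  apply Subgroup.card_eq_one.1
  interval_cases (Nat.card N.normalCore) <;> omega

/-- A simple group of order 60 is `A₅`. -/
theorem equiv_A5_of_simple [Finite G] [IsSimpleGroup G] (h : Nat.card G = 60) :
    Nonempty (G ≃* alternatingGroup (Fin 5)) := by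
  have : Fact (Nat.Prime 2) := ⟨by norm_num⟩
  obtain ⟨P⟩ : Nonempty (Sylow 2 G) := inferInstance
  have hP : Nat.card P = 2 ^ 2 := by
    rw [P.card_eq_multiplicity, h]
    have : Nat.factorization 60 2 = 2 := by
      rw [show 60 = 2 ^ 2 * 15 by norm_num, Nat.factorization_mul (by norm_num) (by norm_num),
        Nat.factorization_pow]
      simp [Nat.Prime.factorization_self Nat.prime_two,
        Nat.factorization_eq_zero_of_not_dvd (show ¬ 2 ∣ 15 by norm_num)]
    rw [this]
  have h3 : (P : Subgroup G).index = 15 := by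
    have := (P : Subgroup G).index_mul_card
    rw [hP, h] at this; omega
  set N := Subgroup.normalizer ((P : Subgroup G) : Set G) with hN
  have hd : N.index ∣ 15 := h3 ▸ Subgroup.index_dvd_of_le Subgroup.le_normalizer
  have hne15 : N.index ≠ 15 := by
    intro h15
    have hNP : (P : Subgroup G) = N := by
      apply Subgroup.eq_of_le_of_card_ge Subgroup.le_normalizer
      have := N.index_mul_card
      rw [h15, h] at this
      rw [hP]; change Nat.card N ≤ _; omega
    have hcomm : IsMulCommutative P := IsPGroup.isMulCommutative_of_card_eq_prime_sq hP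
    have hle : N ≤ Subgroup.centralizer ((P : Subgroup G) : Set G) := by
      rw [← hNP]
      exact Subgroup.le_centralizer _
    have hc := MonoidHom.ker_transferSylow_isComplement' P hle
    have hcard := hc.card_mul_card
    rw [hP, h] at hcard
    rcases (MonoidHom.normal_ker (MonoidHom.transferSylow P hle)).eq_bot_or_eq_top with h0 | h0
    · rw [h0, Subgroup.card_bot] at hcard; omega
    · rw [h0, Subgroup.card_top, h] at hcard; omega
  have hne1 : N.index ≠ 1 := by
    intro h1
    rw [Subgroup.index_eq_one] at h1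
    have hn : (P : Subgroup G).Normal := Subgroup.normalizer_eq_top_iff.1 h1
    rcases hn.eq_bot_or_eq_top with h0 | h0
    · rw [h0, Subgroup.card_bot] at hP; omega
    · rw [h0, Subgroup.card_top, h] at hP; omega
  obtain ⟨f, hf⟩ := exists_perm_hom_of_index N _ rfl
  have hinj : Function.Injective f := by
    rw [← MonoidHom.ker_eq_bot_iff, hf]
    rcases N.normalCore_normal.eq_bot_or_eq_top with h0 | h0
    · exact h0
    · exfalso
      apply hne1
      rw [Subgroup.index_eq_one, eq_top_iff, ← h0]
      exact N.normalCore_le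
  have hdiv := Subgroup.card_dvd_of_injective f hinj
  rw [h, Nat.card_perm, Nat.card_eq_fintype_card (α := Fin _), Fintype.card_fin] at hdiv
  have h5 : N.index = 5 := by
    have := Nat.le_of_dvd (by norm_num) hd
    interval_cases N.index <;> simp_all [Nat.factorial]
  obtain ⟨f', hf'⟩ := exists_perm_hom_of_index N 5 h5
  refine equiv_alternating_of_injective f' ?_ (by rw [h]; rfl)
  rw [← MonoidHom.ker_eq_bot_iff, hf', ← hf, MonoidHom.ker_eq_bot_iff]
  exact hinj

/-- A group of order 60 all of whose elements have order 1, 2, 3 or 5 is simple. -/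
theorem simple_of_card_sixty [Finite G] (h : Nat.card G = 60)
    (ho : ∀ g : G, g ^ 2 = 1 ∨ g ^ 3 = 1 ∨ g ^ 5 = 1) : IsSimpleGroup G := by
  have ho' : ∀ g : G, orderOf g ≤ 5 ∧ orderOf g ≠ 4 := by
    intro g
    rcases ho g with h1 | h1 | h1 <;>
    · have h2 := orderOf_dvd_of_pow_eq_one h1
      have h3 := Nat.le_of_dvd (by norm_num) h2
      constructor
      · omega
      · intro h4; rw [h4] at h2; omega
  have hcent : ∀ (a : G) (s : ℕ), s.Prime → 2 ≤ orderOf a → (orderOf a).Coprime s →
      6 ≤ orderOf a * s → ¬ s ∣ Nat.card (Subgroup.centralizer ({a} : Set G)) := by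
    intro a s hs _ hco h6 hd
    obtain ⟨g, hg⟩ := exists_orderOf_mul_of_dvd_centralizer a s hs hco hd
    have := (ho' g).1
    omega
  have key : ∀ (M : Subgroup G) [M.Normal] (r : ℕ), r.Prime → r ∣ Nat.card M →
      ∃ S : Set G, S ⊆ M ∧ (∀ x ∈ S, orderOf x = r) ∧
        (r = 2 → 15 ≤ S.ncard) ∧ (r = 3 → 20 ≤ S.ncard) ∧ (r = 5 → 12 ≤ S.ncard) := by
    intro M _ r hr hd
    have := Fact.mk hr
    obtain ⟨a, ha⟩ := exists_prime_orderOf_dvd_card' (G := M) r hd
    have ha' : orderOf (a : G) = r := by rw [Subgroup.orderOf_coe, ha]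
    have hcl := ncard_conj_mul_card_centralizer (a : G)
    have h1 := card_centralizer_dvd (a : G)
    rw [h] at h1 hcl
    have hle := Nat.le_of_dvd (by norm_num) h1
    refine ⟨{b : G | IsConj (a : G) b}, conj_ncard_le_of_mem_normal M a.2, ?_, ?_, ?_, ?_⟩
    · intro x hx
      rw [← ha']
      obtain ⟨c, hc⟩ := hx
      exact (SemiconjBy.orderOf_eq (c : G) hc).symm
    · rintro rfl
      have h3 := hcent a 3 (by norm_num) (by omega) (by rw [ha']; norm_num) (by omega)
      have h5 := hcent a 5 (by norm_num) (by omega) (by rw [ha']; norm_num) (by omega)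
      interval_cases (Nat.card (Subgroup.centralizer ({(a : G)} : Set G))) <;> omega
    · rintro rfl
      have h3 := hcent a 2 (by norm_num) (by omega) (by rw [ha']; norm_num) (by omega)
      have h5 := hcent a 5 (by norm_num) (by omega) (by rw [ha']; norm_num) (by omega)
      interval_cases (Nat.card (Subgroup.centralizer ({(a : G)} : Set G))) <;> omega
    · rintro rfl
      have h3 := hcent a 2 (by norm_num) (by omega) (by rw [ha']; norm_num) (by omega)
      have h5 := hcent a 3 (by norm_num) (by omega) (by rw [ha']; norm_num) (by omega)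
      interval_cases (Nat.card (Subgroup.centralizer ({(a : G)} : Set G))) <;> omega
  have : Nontrivial G := Finite.one_lt_card_iff_nontrivial.1 (by omega)
  refine ⟨fun M hM => ?_⟩
  by_contra hcon
  push Not at hcon
  have hd : Nat.card M ∣ 60 := h ▸ Subgroup.card_subgroup_dvd_card M
  have hne1 : Nat.card M ≠ 1 := fun h1 => hcon.1 (Subgroup.card_eq_one.1 h1)
  have hne60 : Nat.card M ≠ 60 := fun h1 => hcon.2 (Subgroup.eq_top_of_card_eq _ (h1.trans h.symm))
  have one : ∀ r : ℕ, r.Prime → r ∣ Nat.card M →
      (r = 2 → 15 ≤ Nat.card M) ∧ (r = 3 → 20 ≤ Nat.card M) ∧ (r = 5 → 12 ≤ Nat.card M) := by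
    intro r hr hd
    obtain ⟨S, hS, -, h2, h3, h5⟩ := key M r hr hd
    have := Set.ncard_le_ncard hS (Set.toFinite _)
    rw [← Nat.card_coe_set_eq (M : Set G)] at this
    exact ⟨fun h => (h2 h).trans this, fun h => (h3 h).trans this, fun h => (h5 h).trans this⟩
  have two : ∀ r s : ℕ, r.Prime → s.Prime → r ≠ s → r ∣ Nat.card M → s ∣ Nat.card M →
      (r = 2 → s = 5 → 27 ≤ Nat.card M) ∧ (r = 2 → s = 3 → 35 ≤ Nat.card M) := by
    intro r s hr hs hrs hd1 hd2
    obtain ⟨S, hS, hSo, h2, h3, h5⟩ := key M r hr hd1
    obtain ⟨T, hT, hTo, h2', h3', h5'⟩ := key M s hs hd2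
    have hdisj : Disjoint S T := Set.disjoint_left.2 fun x hx hx' =>
      hrs ((hSo x hx).symm.trans (hTo x hx'))
    have := Set.ncard_le_ncard (Set.union_subset hS hT) (Set.toFinite _)
    rw [Set.ncard_union_eq hdisj (Set.toFinite _) (Set.toFinite _),
      ← Nat.card_coe_set_eq (M : Set G)] at this
    constructor
    · intro h1 h2''
      have := h2 h1; have := h5' h2''
      change _ ≤ Nat.card (M : Set G); omega
    · intro h1 h2''
      have := h2 h1; have := h3' h2''
      change _ ≤ Nat.card (M : Set G); omega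
  have o2 := fun h => (one 2 (by norm_num) h).1 rfl
  have o3 := fun h => (one 3 (by norm_num) h).2.1 rfl
  have o5 := fun h => (one 5 (by norm_num) h).2.2 rfl
  have t25 := fun h h' => (two 2 5 (by norm_num) (by norm_num) (by norm_num) h h').1 rfl rfl
  have t23 := fun h h' => (two 2 3 (by norm_num) (by norm_num) (by norm_num) h h').2 rfl rfl
  have hle := Nat.le_of_dvd (by norm_num) hd
  interval_cases (Nat.card M) <;> omega

/-- A group of order 60 all of whose elements have order 1, 2, 3 or 5 is `A₅`. -/
theorem equiv_A5 [Finite G] (h : Nat.card G = 60)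
    (ho : ∀ g : G, g ^ 2 = 1 ∨ g ^ 3 = 1 ∨ g ^ 5 = 1) : Nonempty (G ≃* alternatingGroup (Fin 5)) :=
  haveI := simple_of_card_sixty h ho
  equiv_A5_of_simple h

end H16
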