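import Mathlib

set_option autoImplicit false

namespace H16

open Matrix

/-- A matrix of rank one over a field is an outer product of two nonzero vectors. -/
theorem exists_vecMulVec_of_rank_eq_one {F : Type*} [Field F] {m n : Type*} [Fintype m] [Fintype n]
    [DecidableEq n] (M : Matrix m n F) (h : M.rank = 1) :
    ∃ (a : m → F) (b : n → F), a ≠ 0 ∧ b ≠ 0 ∧ M = vecMulVec a b := by
  rw [Matrix.rank, finrank_eq_one_iff'] at h
  obtain ⟨⟨a, ha⟩, ha0, hall⟩ := h
  have ha0' : a ≠ 0 := fun h => ha0 (Subtype.ext h)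
  have : ∀ j : n, ∃ c : F, c • a = M *ᵥ Pi.single j 1 := by
    intro j
    obtain ⟨c, hc⟩ := hall ⟨M *ᵥ Pi.single j 1, ⟨Pi.single j 1, rfl⟩⟩
    exact ⟨c, congrArg Subtype.val hc⟩
  choose b hb using this
  have hM : M = vecMulVec a b := by
    ext i j
    have := congrFun (hb j) i
    simp only [Pi.smul_apply, smul_eq_mul, mulVec_single, MulOpposite.op_one, col_apply,
      one_smul] at this
    rw [vecMulVec_apply, ← this, mul_comm]
  refine ⟨a, b, ha0', ?_, hM⟩
  rintro rfl
  obtain ⟨x, hx⟩ := ha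
  apply ha0'
  rw [← hx, hM]
  ext i
  simp [Matrix.mulVec, vecMulVec_apply]

/-- `SL_n` (n ≥ 2) carries any nonzero vector to a multiple of any other. -/
theorem exists_SL_mulVec_eq_smul {F : Type*} [Field F] {n : Type*} [Fintype n] [DecidableEq n]
    (u v : n → F) (hu : u ≠ 0) (hv : v ≠ 0) :
    ∃ (g : SpecialLinearGroup n F) (c : F), c ≠ 0 ∧ (g : Matrix n n F) *ᵥ u = c • v := by
  obtain ⟨g, hg⟩ := MulAction.exists_smul_eq (SpecialLinearGroup n F)
    (Projectivization.mk F u hu) (Projectivization.mk F v hv)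
  rw [Projectivization.smul_mk, Projectivization.mk_eq_mk_iff] at hg
  obtain ⟨c, hc⟩ := hg
  exact ⟨g, c, c.ne_zero, hc.symm⟩

end H16
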