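import Mathlib

/-! Linear algebra of nondegenerate symmetric forms over `F₃` in dimension at least five. -/

set_option autoImplicit false
set_option linter.unusedSectionVars false

namespace H16

open Module

theorem z3_cases {c : ZMod 3} (h : c ≠ 0) : c = 1 ∨ c = -1 := by revert c; decide

theorem z3_sq {c : ZMod 3} (h : c ≠ 0) : c * c = 1 := by revert c; decide

theorem z3_all (c : ZMod 3) : c = 0 ∨ c = 1 ∨ c = -1 := by revert c; decide

variable {V : Type} [AddCommGroup V] [Module (ZMod 3) V]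

/-- nondegenerate symmetric form in dimension at least five -/
structure QF (B : V →ₗ[ZMod 3] V →ₗ[ZMod 3] ZMod 3) : Prop where
  dim : 5 ≤ finrank (ZMod 3) V
  symm : ∀ v w, B v w = B w v
  nd : ∀ v, (∀ w, B v w = 0) → v = 0

/-- equality up to sign -/
def Pm (v w : V) : Prop := v = w ∨ v = -w

theorem Pm.refl (v : V) : Pm v v := Or.inl rfl

theorem Pm.symm {v w : V} (h : Pm v w) : Pm w v :=
  h.imp Eq.symm fun e => by rw [e, neg_neg]

theorem Pm.trans {u v w : V} (h : Pm u v) (h' : Pm v w) : Pm u w := by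
  rcases h with rfl | rfl <;> rcases h' with rfl | rfl <;> simp [Pm]

theorem pm_neg (v : V) : Pm (-v) v := Or.inr rfl

theorem pm_smul {c : ZMod 3} (hc : c ≠ 0) (v : V) : Pm (c • v) v := by
  rcases z3_cases hc with rfl | rfl <;> simp [Pm]

theorem Pm.map {v w : V} (h : Pm v w) (f : V →ₗ[ZMod 3] V) : Pm (f v) (f w) :=
  h.imp (congrArg f) fun e => by rw [e, map_neg]

/-- expansion of bilinear expressions -/
theorem bx (B : V →ₗ[ZMod 3] V →ₗ[ZMod 3] ZMod 3) (x y z : V) :
    B (x + y) z = B x z + B y z ∧ B z (x + y) = B z x + B z y ∧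
    B (x - y) z = B x z - B y z ∧ B z (x - y) = B z x - B z y := by simp

theorem bx' (B : V →ₗ[ZMod 3] V →ₗ[ZMod 3] ZMod 3) (x y : V) (c : ZMod 3) :
    B (c • x) y = c * B x y ∧ B y (c • x) = c * B y x := by simp

theorem bx'' (B : V →ₗ[ZMod 3] V →ₗ[ZMod 3] ZMod 3) (x y : V) :
    B (-x) y = -B x y ∧ B y (-x) = -B y x := by simp

variable {B : V →ₗ[ZMod 3] V →ₗ[ZMod 3] ZMod 3}

theorem Pm.zero_left {v w : V} (h : Pm v w) (x : V) : B v x = 0 ↔ B w x = 0 := by
  rcases h with rfl | rfl <;> simp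

theorem Pm.zero_right {v w : V} (h : Pm v w) (x : V) : B x v = 0 ↔ B x w = 0 := by
  rcases h with rfl | rfl <;> simp

theorem Pm.norm {v w : V} (h : Pm v w) : B v v = B w w := by
  rcases h with rfl | rfl <;> simp

theorem Pm.ne_zero {v w : V} (h : Pm v w) (hw : B w w = 1) : B v w ≠ 0 := by
  rw [Ne, h.zero_left, hw]; decide

/-- the reflection in a vector of norm one -/
def rf (B : V →ₗ[ZMod 3] V →ₗ[ZMod 3] ZMod 3) (v : V) : V →ₗ[ZMod 3] V :=
  LinearMap.id + (B.flip v).smulRight v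

theorem rf_apply (v w : V) : rf B v w = w + B w v • v := rfl

namespace QF

variable (h : QF B)
include h

theorem fin : FiniteDimensional (ZMod 3) V := Module.finite_of_finrank_pos (by have := h.dim; omega)

theorem rf_B {v : V} (hv : B v v = 1) (x y : V) : B (rf B v x) (rf B v y) = B x y := by
  simp only [rf_apply]; simp only [bx, bx', bx'']
  have := h.symm v y
  grind

theorem rf_rf {v : V} (hv : B v v = 1) (x : V) : rf B v (rf B v x) = x := by
  simp only [rf_apply]; simp only [bx, bx', bx'']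
  match_scalars <;> grind

theorem span3 {a b c z : V} (hz : ∀ v, B v a = 0 → B v b = 0 → B v c = 0 → B v z = 0) :
    ∃ i j k : ZMod 3, z = i • a + j • b + k • c := by
  have h1 := mem_span_of_iInf_ker_le_ker (L := ![B a, B b, B c]) (K := B z) fun v hv => by
    simp only [Submodule.mem_iInf, LinearMap.mem_ker] at hv ⊢
    rw [h.symm]
    exact hz v (by rw [h.symm]; exact hv 0) (by rw [h.symm]; exact hv 1)
      (by rw [h.symm]; exact hv 2)
  obtain ⟨f, hf⟩ := (Submodule.mem_span_range_iff_exists_fun _).1 h1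
  refine ⟨f 0, f 1, f 2, sub_eq_zero.1 (h.nd _ fun w => ?_)⟩
  have := DFunLike.congr_fun hf w
  simp [Fin.sum_univ_three] at this
  simp only [bx, bx', bx'']
  grind

theorem span2 {a b z : V} (hz : ∀ v, B v a = 0 → B v b = 0 → B v z = 0) :
    ∃ i j : ZMod 3, z = i • a + j • b := by
  obtain ⟨i, j, k, e⟩ := h.span3 (c := 0) fun v h1 h2 _ => hz v h1 h2
  exact ⟨i, j, by simpa using e⟩

theorem exists_one {a : V} (ha : a ≠ 0) : ∃ v, B v a = 1 := by
  by_contra hn
  push Not at hn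
  refine ha (h.nd _ fun w => ?_)
  by_contra h0
  refine hn (B a w • w) ?_
  simp only [bx, bx', bx'']
  rw [h.symm w a, z3_sq h0]

theorem exists_ns {k l : ℕ} (a : Fin k → V) (t : Fin l → V) (hk : k + l < 5)
    (ht : ∀ v ∈ Submodule.span (ZMod 3) (Set.range a), (∀ i, B v (a i) = 0) →
      v ∈ Submodule.span (ZMod 3) (Set.range t)) : ∃ e, (∀ i, B e (a i) = 0) ∧ B e e ≠ 0 := by
  by_contra hn
  push Not at hn
  have := h.fin
  let f : V →ₗ[ZMod 3] (Fin k → ZMod 3) := LinearMap.pi fun i => B.flip (a i)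
  have hf : ∀ v, v ∈ LinearMap.ker f ↔ ∀ i, B v (a i) = 0 := fun v => by
    simp [f, funext_iff]
  have h1 : LinearMap.ker f ≤ Submodule.span (ZMod 3) (Set.range t) := fun v hv => by
    refine ht v ?_ ((hf v).1 hv)
    have h2 := mem_span_of_iInf_ker_le_ker (L := fun i => B (a i)) (K := B v) fun w hw => by
      simp only [Submodule.mem_iInf, LinearMap.mem_ker] at hw ⊢
      have hw' : w ∈ LinearMap.ker f := (hf w).2 fun i => by rw [h.symm]; exact hw i
      have e1 := hn _ ((hf _).1 (add_mem hv hw'))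
      have e2 := hn _ ((hf _).1 hv)
      have e3 := hn _ ((hf _).1 hw')
      have := h.symm v w
      simp only [bx, bx', bx''] at e1
      grind
    obtain ⟨c, hc⟩ := (Submodule.mem_span_range_iff_exists_fun _).1 h2
    refine (Submodule.mem_span_range_iff_exists_fun _).2 ⟨c, sub_eq_zero.1 (h.nd _ fun w => ?_)⟩
    have := DFunLike.congr_fun hc w
    simp only [map_sub, map_sum, map_smul, LinearMap.sub_apply, sub_eq_zero]
    exact this
  have h2 := LinearMap.finrank_range_add_finrank_ker f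
  have h3 := Submodule.finrank_le (LinearMap.range f)
  have h4 := (Submodule.finrank_mono h1).trans (finrank_range_le_card t)
  have := h.dim
  simp at h3 h4
  omega

/-- a nonsingular vector orthogonal to `x, y, u` -/
theorem ns3 {x y u : V} (hx : B x x ≠ 0) (hy : y = 0 ∨ B y y ≠ 0) (hxy : B x y = 0)
    (hxu : B x u = 0) (hyu : B y u = 0) :
    ∃ e, B e x = 0 ∧ B e y = 0 ∧ B e u = 0 ∧ B e e ≠ 0 := by
  obtain ⟨e, he, h1⟩ := h.exists_ns ![x, y, u] ![u] (by norm_num) fun v hv hv' => by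
    obtain ⟨c, rfl⟩ := (Submodule.mem_span_range_iff_exists_fun _).1 hv
    have e0 := hv' 0
    have e1 := hv' 1
    simp [Fin.sum_univ_three, h.symm y x, h.symm u x, h.symm u y, hxy, hxu, hyu, hx] at e0 e1
    refine (Submodule.mem_span_range_iff_exists_fun _).2 ⟨![c 2], ?_⟩
    rcases hy with hy | hy
    · simp [Fin.sum_univ_three, e0, hy]
    · simp [Fin.sum_univ_three, e0, e1.resolve_right hy]
  exact ⟨e, he 0, he 1, he 2, h1⟩

theorem ns2 (x y : V) : ∃ e, B e x = 0 ∧ B e y = 0 ∧ B e e ≠ 0 := by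
  obtain ⟨e, he, h1⟩ := h.exists_ns ![x, y] ![x, y] (by norm_num) fun v hv _ => hv
  exact ⟨e, he 0, he 1, h1⟩

/-- a vector of norm one orthogonal to `x, u` -/
theorem ex1 {x u : V} (hx : B x x ≠ 0) (hxu : B x u = 0) :
    ∃ s, B s s = 1 ∧ B s x = 0 ∧ B s u = 0 := by
  obtain ⟨e, e1, -, e2, e3⟩ := h.ns3 (y := 0) hx (Or.inl rfl) (by simp) hxu (by simp)
  rcases z3_cases e3 with e4 | e4
  · exact ⟨e, e4, e1, e2⟩
  obtain ⟨f, f1, f2, f3, f4⟩ := h.ns3 hx (Or.inr e3) (by rw [h.symm, e1]) hxu e2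
  rcases z3_cases f4 with f5 | f5
  · exact ⟨f, f5, f1, f3⟩
  refine ⟨e + f, ?_, ?_, ?_⟩ <;> simp only [bx, bx', bx'']
  · have := h.symm e f
    grind
  · grind
  · grind

/-- a singular vector is determined by the vectors of norm one orthogonal to it -/
theorem sing_eq {x y u u' : V} (hx : B x x ≠ 0) (hy : y = 0 ∨ B y y ≠ 0) (hxy : B x y = 0)
    (hxu : B x u = 0) (hyu : B y u = 0) (hxu' : B x u' = 0) (hyu' : B y u' = 0)
    (hu' : B u' u' = 0) (huu : B u u' = 0)
    (hw : ∀ w, B w w = 1 → B w x = 0 → B w y = 0 → B w u = 0 → B w u' = 0) :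
    ∃ c : ZMod 3, u' = c • u := by
  obtain ⟨i, j, k, e⟩ := h.span3 (a := x) (b := y) (c := u) (z := u') fun v v1 v2 v3 => by
    by_contra v4
    have := h.symm v u'
    have := h.symm x u'
    have := h.symm y u'
    have := h.symm u u'
    have := z3_sq v4
    refine v4 (Eq.trans ?_ (hw (v + (B v u' * (B v v - 1)) • u') ?_ ?_ ?_ ?_)) <;> simp only [bx, bx', bx''] <;> grind
  have e1 : B x u' = i * B x x := by rw [e]; simp only [bx, bx', bx'']; grind
  have e2 : B y u' = j * B y y := by rw [e]; simp only [bx, bx', bx'']; have := h.symm x y; grind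
  have hi : i = 0 := by grind
  refine ⟨k, ?_⟩
  rcases hy with hy | hy
  · simp [e, hi, hy]
  · have hj : j = 0 := by grind
    simp [e, hi, hj]

/-- hyperbolic lines -/
theorem hl {x u z : V} (hx : B x x = 1) (hu : B u u = 0) (hu0 : u ≠ 0) (hxu : B x u = 0)
    (hz : B z z = 1) (hw : ∀ w, B w w = 1 → B w x = 0 → B w u = 0 → B w z = 0 ∨ Pm w z) :
    Pm z x ∨ Pm z (x + u) ∨ Pm z (x - u) := by
  have h1 : ∀ w, B w w = 1 → B w x = 0 → B w u = 0 → B w z = 0 := fun w w1 w2 w3 => by
    refine (hw w w1 w2 w3).elim id fun e => ?_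
    have := h.symm u w
    have := h.symm u x
    have w4 : B (w + u) (w + u) = 1 := by simp only [bx, bx', bx'']; grind
    rcases hw (w + u) w4 (by simp only [bx, bx', bx'']; grind) (by simp only [bx, bx', bx'']; grind) with e' | e'
    · rw [← e.zero_right] at e'
      simp only [bx, bx', bx''] at e'
      grind
    · rcases e'.trans e.symm with e1 | e1
      · exact absurd (by simpa using e1) hu0
      · have := congrArg (B w) e1
        simp only [bx, bx', bx''] at this
        grind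
  obtain ⟨s, s1, s2, s3⟩ := h.ex1 (x := x) (by rw [hx]; decide) hxu
  have := h.symm u s
  have := h.symm u x
  have := h.symm z x
  have h2 : B u z = 0 := by
    have := h1 (s + u) (by simp only [bx, bx', bx'']; grind) (by simp only [bx, bx', bx'']; grind) (by simp only [bx, bx', bx'']; grind)
    have := h1 s s1 s2 s3
    simp only [bx, bx', bx''] at *
    grind
  have := h.symm u z
  have h3 : B z x ≠ 0 := fun e => by
    have := h1 z hz e (by grind)
    grind
  have := z3_sq h3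
  obtain ⟨c, hc⟩ := h.sing_eq (x := x) (y := 0) (u := u) (u' := z - B z x • x) (by grind)
    (Or.inl rfl) (by simp) hxu (by simp) (by simp only [bx, bx', bx'']; grind) (by simp) (by simp only [bx, bx', bx'']; grind)
    (by simp only [bx, bx', bx'']; grind) fun w w1 w2 _ w3 => by
      have := h1 w w1 w2 w3
      simp only [bx, bx', bx'']; grind
  rw [sub_eq_iff_eq_add] at hc
  rcases z3_cases h3 with e | e <;> rw [e] at hc <;> rcases z3_all c with rfl | rfl | rfl <;>
    simp only [Pm, hc]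
  · simp
  · right; left; left; module
  · right; right; left; module
  · simp
  · right; right; right; module
  · right; left; right; module

/-- a singular vector not orthogonal to two given orthogonal singular vectors -/
theorem ex_mid {s t : V} (hs : B s s = 0) (hs0 : s ≠ 0) (ht0 : t ≠ 0) (hst : B s t = 0) :
    ∃ v, B v v = 0 ∧ B v s ≠ 0 ∧ B v t ≠ 0 := by
  obtain ⟨v, v1, v2⟩ : ∃ v, B v s = 1 ∧ B v t ≠ 0 := by
    obtain ⟨a, ha⟩ := h.exists_one hs0
    obtain ⟨b, hb⟩ := h.exists_one ht0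
    by_cases h1 : B a t = 0
    · rcases z3_all (B b s) with e | e | e
      · exact ⟨a + b, by simp only [bx, bx', bx'']; grind, by simp only [bx, bx', bx'']; grind⟩
      · exact ⟨b, e, by grind⟩
      · exact ⟨-b, by simp only [bx, bx', bx'']; grind, by simp only [bx, bx', bx'']; grind⟩
    · exact ⟨a, ha, h1⟩
  have := h.symm v s
  exact ⟨v + B v v • s, by simp only [bx, bx', bx'']; grind, by simp only [bx, bx', bx'']; grind, by simp only [bx, bx', bx'']; grind⟩

theorem ex_mid2 {s₀ s t t' : V} (h0 : B s₀ s₀ = 0) (hs : B s₀ s = 0) (ht : B t t = 0)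
    (h1 : B t s₀ ≠ 0) (h2 : B t' s₀ ≠ 0) (h3 : B t s ≠ 0) (h4 : B t t' = 0) :
    ∃ v, B v v = 0 ∧ B v s₀ ≠ 0 ∧ B v s ≠ 0 ∧ B v t ≠ 0 ∧ B v t' ≠ 0 := by
  obtain ⟨e, e1, e2, e3, e4⟩ : ∃ e, B e s₀ = 0 ∧ B e s = 0 ∧ B e e ≠ 0 ∧
      B t' s₀ * B e t' - B t s₀ * B e t + B e e ≠ 0 := by
    obtain ⟨e, e1, e2, e3⟩ := h.ns2 s₀ s
    by_cases e4 : B t' s₀ * B e t' - B t s₀ * B e t + B e e = 0
    · exact ⟨-e, by simp only [bx, bx', bx'']; grind, by simp only [bx, bx', bx'']; grind, by simp only [bx, bx', bx'']; grind, by simp only [bx, bx', bx'']; grind⟩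
    · exact ⟨e, e1, e2, e3, e4⟩
  have := h.symm t s₀
  have := h.symm t' s₀
  have := h.symm e s₀
  have := h.symm e t
  have := z3_sq h1
  have := z3_sq h2
  refine ⟨B t s₀ • t + e - (B t s₀ * B e t - B e e) • s₀, ?_, ?_, ?_, ?_, ?_⟩ <;> simp only [bx, bx', bx''] <;> grind

theorem ex_mid3 {s₀ s s' : V} (h0 : B s₀ s₀ = 0) (h00 : s₀ ≠ 0) (hs : B s₀ s = 0)
    (hs' : B s₀ s' = 0) (h1 : B s s = 0) (h2 : B s' s' = 0) (h3 : B s s' ≠ 0) :
    ∃ v, B v v = 0 ∧ B v s₀ ≠ 0 ∧ B v s ≠ 0 ∧ B v s' ≠ 0 := by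
  obtain ⟨v, hv⟩ := h.exists_one h00
  have := z3_sq h3
  have := h.symm s s₀
  have := h.symm s' s₀
  have := h.symm s s'
  obtain ⟨w, w1, w2, w3⟩ : ∃ w, B w s₀ = 1 ∧ B w s = 0 ∧ B w s' = 0 :=
    ⟨v - (B s s' * B v s') • s - (B s s' * B v s) • s', by simp only [bx, bx', bx'']; grind, by simp only [bx, bx', bx'']; grind,
      by simp only [bx, bx', bx'']; grind⟩
  have := h.symm w s₀
  have := h.symm w s
  have := h.symm w s'
  refine ⟨w + s + B s s' • s' + (B w w - 1) • s₀, ?_, ?_, ?_, ?_⟩ <;> simp only [bx, bx', bx''] <;> grind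

theorem ex_sing : ∃ u, u ≠ 0 ∧ B u u = 0 := by
  obtain ⟨x, -, -, hx⟩ := h.ns2 0 0
  obtain ⟨y, y1, -, -, hy⟩ := h.ns3 (y := 0) (u := 0) hx (Or.inl rfl) (by simp) (by simp) (by simp)
  have := h.symm x y
  obtain ⟨z, z1, z2, -, hz⟩ := h.ns3 (u := 0) hx (Or.inr hy) (by grind) (by simp) (by simp)
  have := h.symm x z
  have := h.symm y z
  have key : ∀ v, B v x ≠ 0 ∨ B v y ≠ 0 → v ≠ 0 := by rintro v hv rfl; simp at hv
  by_cases h1 : B x x + B y y = 0
  · exact ⟨x + y, key _ (Or.inl (by simp only [bx, bx', bx'']; grind)), by simp only [bx, bx', bx'']; grind⟩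
  by_cases h2 : B x x + B z z = 0
  · exact ⟨x + z, key _ (Or.inl (by simp only [bx, bx', bx'']; grind)), by simp only [bx, bx', bx'']; grind⟩
  refine ⟨x + y + z, key _ (Or.inl (by simp only [bx, bx', bx'']; grind)), ?_⟩
  have := z3_cases hx
  have := z3_cases hy
  have := z3_cases hz
  simp only [bx, bx', bx'']; grind

end QF

end H16
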