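import Mathlib
import Cfsg.Agent.H0.LP2
import Cfsg.Agent.H16.O3Lin

/-! Orthogonal models over `F₃` of Fischer spaces: parametrisation by vectors. -/

set_option autoImplicit false
set_option linter.unusedSectionVars false

namespace H16

open H0 Module

variable {G : Type*} [Group G] [Finite G] {D E : Set G}
variable {V : Type} [AddCommGroup V] [Module (ZMod 3) V] {B : V →ₗ[ZMod 3] V →ₗ[ZMod 3] ZMod 3}

/-- the points of `E` are parametrised by the vectors of norm one -/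
structure OP (D E : Set G) (B : V →ₗ[ZMod 3] V →ₗ[ZMod 3] ZMod 3) (p : V → G) : Prop where
  lp : LP D E
  qf : QF B
  mem : ∀ v, B v v = 1 → p v ∈ E
  surj : ∀ x ∈ E, ∃ v, B v v = 1 ∧ p v = x
  eq : ∀ {v w}, B v v = 1 → B w w = 1 → (p v = p w ↔ Pm v w)
  comm : ∀ {v w}, B v v = 1 → B w w = 1 → (Commute (p v) (p w) ↔ B v w = 0 ∨ Pm v w)

theorem exists_OP (h : LP D E) {φ : G → V} (ho : O3 E B φ) : ∃ p, OP D E B p := by
  classical
  have inj : ∀ x ∈ E, ∀ y ∈ E, Pm (φ x) (φ y) → x = y := fun x hx y hy e =>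
    h.eq_of_comm hx hy fun f hf h1 h2 => by
      by_cases h3 : f = y
      · rw [h3]
      · rw [ho.comm f hf y hy h3, ← e.zero_right, ← ho.comm f hf x hx h1]; exact h2
  choose! p hp hp' using ho.surj
  have hq : ∀ v w, B v v = 1 → B w w = 1 → (p v = p w ↔ Pm v w) := fun v w hv hw =>
    ⟨fun e => (Pm.symm (hp' v hv)).trans (e ▸ hp' w hw), fun e =>
      inj _ (hp v hv) _ (hp w hw) (Pm.trans (hp' v hv) (e.trans (Pm.symm (hp' w hw))))⟩
  refine ⟨p, h, ⟨ho.dim, ho.symm, ho.nd⟩, hp, fun x hx => ⟨φ x, ho.one x hx,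
    inj _ (hp _ (ho.one x hx)) _ hx (hp' _ (ho.one x hx))⟩, hq _ _, fun {v w} hv hw => ?_⟩
  by_cases e : Pm v w
  · simp [(hq v w hv hw).2 e, e]
  · rw [ho.comm _ (hp v hv) _ (hp w hw) (mt (hq v w hv hw).1 e), Pm.zero_left (hp' v hv),
      Pm.zero_right (hp' w hw)]
    simp [e]

theorem MO_of_p (hB : QF B) {p : V → G} (mem : ∀ v, B v v = 1 → p v ∈ E)
    (surj : ∀ x ∈ E, ∃ v, B v v = 1 ∧ p v = x)
    (eq : ∀ v w, B v v = 1 → B w w = 1 → p v = p w → Pm v w)
    (comm : ∀ v w, B v v = 1 → B w w = 1 → p v ≠ p w → (Commute (p v) (p w) ↔ B v w = 0)) :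
    MO E := by
  choose! φ h1 h2 using surj
  refine ⟨V, _, _, B, φ, hB.dim, hB.symm, hB.nd, h1, fun x hx y hy hne => ?_, fun v hv =>
    ⟨p v, mem v hv, eq _ _ (h1 _ (mem v hv)) hv (h2 _ (mem v hv))⟩⟩
  rw [← comm _ _ (h1 x hx) (h1 y hy) (by rwa [h2 x hx, h2 y hy]), h2 x hx, h2 y hy]

/-- `w` lies on the line `s t` or commutes with all or none of its points -/
def Par (w s t : G) : Prop := w = s ∨ w = t ∨ w = cj s t ∨ (Commute w s ∧ Commute w t) ∨
  (¬ Commute w s ∧ ¬ Commute w t ∧ ¬ Commute w (cj s t))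

/-- `s` has norm one, `u` is a singular vector orthogonal to it -/
structure Dir (B : V →ₗ[ZMod 3] V →ₗ[ZMod 3] ZMod 3) (s u : V) : Prop where
  one : B s s = 1
  sing : B u u = 0
  ne : u ≠ 0
  orth : B s u = 0

theorem Dir.add (hB : QF B) {s u : V} (h : Dir B s u) (c : ZMod 3) : Dir B (s + c • u) u := by
  have := hB.symm u s
  obtain ⟨h1, h2, h3, h4⟩ := h
  refine ⟨?_, h2, h3, ?_⟩ <;> simp only [bx, bx'] <;> grind

theorem Dir.add1 (hB : QF B) {s u : V} (h : Dir B s u) : Dir B (s + u) u := by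
  simpa using h.add hB 1

theorem Dir.sub1 (hB : QF B) {s u : V} (h : Dir B s u) : Dir B (s - u) u := by
  simpa [sub_eq_add_neg] using h.add hB (-1)

theorem Dir.not_pm {s u : V} (h : Dir B s u) : ¬ Pm s (s + u) := by
  rintro (e | e)
  · exact h.ne (by simpa using e)
  · have := congrArg (B s) e
    obtain ⟨h1, h2, h3, h4⟩ := h
    simp only [bx, bx''] at this
    grind

namespace OP

variable {p : V → G} (M : OP D E B p)
include M

theorem memD {v : V} (hv : B v v = 1) : p v ∈ D := M.lp.le (M.mem v hv)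

theorem eq_of_pm {v w : V} (hw : B w w = 1) (h : Pm v w) : p v = p w :=
  (M.eq (h.norm.trans hw) hw).2 h

theorem comm_of {v w : V} (hv : B v v = 1) (hw : B w w = 1) (h : B v w = 0) :
    Commute (p v) (p w) := (M.comm hv hw).2 (Or.inl h)

theorem ne_of {v w : V} (hv : B v v = 1) (hw : B w w = 1) (h : B v w = 0) : p v ≠ p w :=
  fun e => ((M.eq hv hw).1 e).ne_zero hw h

theorem mem_Dx {v w : V} (hv : B v v = 1) (hw : B w w = 1) : p w ∈ Dx E (p v) ↔ B v w = 0 :=
  ⟨fun h => ((M.comm hv hw).1 h.2.2).resolve_right fun e => h.2.1 ((M.eq hv hw).2 e).symm,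
    fun h => ⟨M.mem w hw, (M.ne_of hv hw h).symm, M.comm_of hv hw h⟩⟩

theorem adj {s u : V} (h : Dir B s u) : ¬ Commute (p s) (p (s + u)) := by
  rw [M.comm h.one (h.add1 M.qf).one, not_or]
  refine ⟨?_, h.not_pm⟩
  obtain ⟨h1, h2, h3, h4⟩ := h
  simp only [bx]; grind

theorem line {x y : G} (hx : x ∈ E) (hy : y ∈ E) (h : ¬ Commute x y) :
    ∃ s u, Dir B s u ∧ p s = x ∧ p (s + u) = y := by
  obtain ⟨s, hs, rfl⟩ := M.surj x hx
  obtain ⟨t, ht, rfl⟩ := M.surj y hy
  rw [M.comm hs ht, not_or] at h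
  have := z3_sq h.1
  have := M.qf.symm t s
  refine ⟨s, B s t • t - s, ⟨hs, ?_, fun e => h.2 ?_, ?_⟩, rfl, M.eq_of_pm ht ?_⟩
  · simp only [bx, bx']; grind
  · rw [sub_eq_zero] at e; exact e ▸ pm_smul h.1 t
  · simp only [bx, bx']; grind
  · rw [add_sub_cancel]; exact pm_smul h.1 t

theorem hl0 {s u : V} (h : Dir B s u) {z : G} (hz : z ∈ E)
    (hw : ∀ f ∈ E, Commute f (p s) → Commute f (p (s + u)) → Commute f z) :
    z = p s ∨ z = p (s + u) ∨ z = p (s - u) := by
  obtain ⟨z, hz1, rfl⟩ := M.surj z hz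
  rw [M.eq hz1 h.one, M.eq hz1 (h.add1 M.qf).one, M.eq hz1 (h.sub1 M.qf).one]
  refine M.qf.hl h.one h.sing h.ne h.orth hz1 fun w w1 w2 w3 => (M.comm w1 hz1).1 ?_
  exact hw _ (M.mem w w1) (M.comm_of w1 h.one w2)
    (M.comm_of w1 (h.add1 M.qf).one (by simp only [bx]; grind))

theorem cj_line {s u : V} (h : Dir B s u) : cj (p s) (p (s + u)) = p (s - u) := by
  have h1 := (h.add1 M.qf).one
  have T := M.lp.tt
  rcases M.hl0 h (M.lp.cj_mem (M.mem _ h.one) (M.mem _ h1)) fun f _ => TT.commute_cj_of with e | e | e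
  · exact absurd (by rw [e]) (T.adj_cj_self (M.adj h))
  · exact absurd (by rw [e]) (T.adj_cj_self' (M.memD h.one) (M.memD h1) (M.adj h))
  · exact e

theorem hl {x y z : G} (hx : x ∈ E) (hy : y ∈ E) (h : ¬ Commute x y) (hz : z ∈ E)
    (hw : ∀ f ∈ E, Commute f x → Commute f y → Commute f z) : z = x ∨ z = y ∨ z = cj x y := by
  obtain ⟨s, u, h1, rfl, rfl⟩ := M.line hx hy h
  rw [M.cj_line h1]
  exact M.hl0 h1 hz hw

theorem cj_eq {v w : V} (hv : B v v = 1) (hw : B w w = 1) : cj (p v) (p w) = p (rf B v w) := by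
  have hr : B (rf B v w) (rf B v w) = 1 := by rw [M.qf.rf_B hv, hw]
  by_cases h : Commute (p v) (p w)
  · rw [cj_of_commute h]
    refine (M.eq hw hr).2 ?_
    rcases (M.comm hv hw).1 h with e | e | e
    · rw [rf_apply, M.qf.symm, e]; simp [Pm]
    · right; rw [rf_apply, e, hw]; match_scalars; grind
    · right; rw [rf_apply, e]; simp only [bx'', hw]; match_scalars; grind
  obtain ⟨s, u, h1, e1, e2⟩ := M.line (M.mem v hv) (M.mem w hw) h
  rw [← e1, ← e2, M.cj_line h1]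
  refine M.eq_of_pm hr ?_
  have := M.qf.symm u s
  have h2 := h1.one
  have h3 := h1.orth
  have key : rf B s (s + u) = -(s - u) := by
    rw [rf_apply]; simp only [bx]; match_scalars <;> grind
  have e3 : rf B v = rf B s := by
    rcases (M.eq h2 hv).1 e1 with e | e <;> rw [e]
    ext x; simp [rf_apply]
  rw [e3]
  exact ((pm_neg _).symm.trans (key ▸ Pm.refl _)).trans
    (((M.eq (h1.add1 M.qf).one hw).1 e2).map _)

theorem par_iff {s u w : V} (h : Dir B s u) (hw : B w w = 1) :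
    Par (p w) (p s) (p (s + u)) ↔ B w u = 0 := by
  have h1 := h.add1 M.qf
  have h2 := h.sub1 M.qf
  have k0 : Pm w s → B w u = 0 := fun e => (e.zero_left u).2 h.orth
  have k1 : Pm w (s + u) → B w u = 0 := fun e => (e.zero_left u).2 h1.orth
  have k2 : Pm w (s - u) → B w u = 0 := fun e => (e.zero_left u).2 h2.orth
  unfold Par
  rw [M.cj_line h, M.eq hw h.one, M.eq hw h1.one, M.eq hw h2.one, M.comm hw h.one, M.comm hw h1.one,
    M.comm hw h2.one]
  simp only [bx]
  have := z3_all (B w s)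
  have := z3_all (B w u)
  grind

end OP

end H16
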