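import Mathlib
import Cfsg.Agent.H16.O3Api

/-! A Fischer space whose residues have orthogonal models over `F₃` has such a model. -/

set_option autoImplicit false
set_option linter.unusedSectionVars false

namespace H16

open H0 Module

variable {G : Type*} [Group G] [Finite G] {D E : Set G}
variable {V : Type} [AddCommGroup V] [Module (ZMod 3) V] {B : V →ₗ[ZMod 3] V →ₗ[ZMod 3] ZMod 3}

/-- the standing hypotheses -/
structure OS (D E : Set G) (d : G) (B : V →ₗ[ZMod 3] V →ₗ[ZMod 3] ZMod 3) (p : V → G) : Prop where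
  lp : LP D E
  res : ∀ x ∈ E, LP D (Dx E x) ∧ MO (Dx E x)
  hd : d ∈ E
  M : OP D (Dx E d) B p

def Loc (B : V →ₗ[ZMod 3] V →ₗ[ZMod 3] ZMod 3) (p : V → G) (a : G) (x u : V) : Prop :=
  ∀ w, B w w = 1 → B w x = 0 → (Commute (p w) a ↔ B w u = 0)

def Glob (B : V →ₗ[ZMod 3] V →ₗ[ZMod 3] ZMod 3) (p : V → G) (a : G) (u : V) : Prop :=
  ∀ w, B w w = 1 → (Commute (p w) a ↔ B w u = 0)

/-- `g` acts as the isometry `f` -/
structure Act (E : Set G) (d : G) (B : V →ₗ[ZMod 3] V →ₗ[ZMod 3] ZMod 3) (p : V → G) (g : G)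
    (f : V →ₗ[ZMod 3] V) : Prop where
  mem : g ∈ Subgroup.closure E
  comm : Commute g d
  iso : ∀ x y, B (f x) (f y) = B x y
  cj : ∀ w, B w w = 1 → cj g (p w) = p (f w)

theorem Act.mul {d : G} {p : V → G} {g g' : G} {f f' : V →ₗ[ZMod 3] V} (h : Act E d B p g f)
    (h' : Act E d B p g' f') : Act E d B p (g * g') (f ∘ₗ f') :=
  ⟨mul_mem h.mem h'.mem, h.comm.mul_left h'.comm, fun x y => (h.iso _ _).trans (h'.iso x y),
    fun w hw => by rw [← cj_cj, h'.cj w hw, h.cj _ (by rw [h'.iso, hw])]; rfl⟩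

theorem Loc.pm {p : V → G} {a : G} {x u u' : V} (h : Loc B p a x u) (e : Pm u u') :
    Loc B p a x u' := fun w h1 h2 => (h w h1 h2).trans (e.zero_right w)

theorem Glob.pm {p : V → G} {a : G} {u u' : V} (h : Glob B p a u) (e : Pm u u') :
    Glob B p a u' := fun w h1 => (h w h1).trans (e.zero_right w)

/-- the Siegel transformation -/
def sg (B : V →ₗ[ZMod 3] V →ₗ[ZMod 3] ZMod 3) (u z : V) : V →ₗ[ZMod 3] V := rf B z ∘ₗ rf B (z + u)

theorem sg_apply (hB : QF B) {u z : V} (h : Dir B z u) (w : V) :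
    sg B u z w = w + (B w z + B w u) • u - B w u • z := by
  have := hB.symm u z
  obtain ⟨h1, h2, h3, h4⟩ := h
  simp only [sg, LinearMap.comp_apply, rf_apply, bx, bx']
  match_scalars <;> grind

namespace OS

variable {d : G} {p : V → G} (S : OS D E d B p)
include S

theorem pE {v : V} (hv : B v v = 1) : p v ∈ E := (S.M.mem v hv).1

theorem pd {v : V} (hv : B v v = 1) : Commute (p v) d := (S.M.mem v hv).2.2.symm

theorem exists_res {x : G} (hx : x ∈ E) : ∃ (V' : Type) (_ : AddCommGroup V')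
    (_ : Module (ZMod 3) V') (B' : V' →ₗ[ZMod 3] V' →ₗ[ZMod 3] ZMod 3) (p' : V' → G),
    OP D (Dx E x) B' p' := by
  obtain ⟨h1, V', _, _, B', φ, h2⟩ := S.res x hx
  obtain ⟨p', h3⟩ := exists_OP h1 h2
  exact ⟨V', _, _, B', p', h3⟩

theorem d_mem {x : V} (hx : B x x = 1) : d ∈ Dx E (p x) :=
  ⟨S.hd, (S.M.mem x hx).2.1.symm, S.pd hx⟩

theorem p_mem {x w : V} (hx : B x x = 1) (hw : B w w = 1) : p w ∈ Dx E (p x) ↔ B x w = 0 := by
  rw [← S.M.mem_Dx hx hw]
  exact ⟨fun h => ⟨S.M.mem w hw, h.2⟩, fun h => ⟨h.1.1, h.2⟩⟩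

theorem transfer {V' : Type} [AddCommGroup V'] [Module (ZMod 3) V']
    {B' : V' →ₗ[ZMod 3] V' →ₗ[ZMod 3] ZMod 3} {p' : V' → G} {x s u : V} (hx : B x x = 1)
    (M' : OP D (Dx E (p x)) B' p') {d' s' u' : V'} (h1 : Dir B' d' u') (h2 : Dir B' s' u')
    (h3 : Dir B s u) (e1 : p' d' = d) (e2 : p s = p' s') (e3 : p (s + u) = p' (s' + u')) :
    Loc B p (p' (d' + u')) x u := fun w hw hwx => by
  obtain ⟨w', hw', e⟩ := M'.surj _ ((S.p_mem hx hw).2 (by rw [S.M.qf.symm, hwx]))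
  have h4 : B' d' w' = 0 := (M'.mem_Dx h1.one hw').1
    ⟨M'.mem _ hw', by rw [e, e1]; exact (S.M.mem w hw).2.1, by rw [e, e1]; exact (S.pd hw).symm⟩
  rw [← S.M.par_iff h3 hw, e2, e3, ← e, M'.par_iff h2 hw', M'.comm hw' (h1.add1 M'.qf).one]
  have := M'.qf.symm w' d'
  have h5 : ¬ Pm w' (d' + u') := fun e => by
    have := (e.zero_right d').1 h4
    have := h1.one
    have := h1.orth
    simp only [bx] at *
    grind
  simp only [bx, h5]
  grind

theorem loc_of {a : G} (ha : a ∈ E) (had : ¬ Commute d a) {x : V} (hx : B x x = 1)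
    (hxa : Commute (p x) a) : ∃ u, Dir B x u ∧ Loc B p a x u := by
  obtain ⟨V', _, _, B', p', M'⟩ := S.exists_res (S.pE hx)
  obtain ⟨d', u', h1, e1, rfl⟩ := M'.line (S.d_mem hx)
    ⟨ha, fun e => had (e ▸ (S.pd hx).symm), hxa⟩ had
  obtain ⟨s', s1, s2, s3⟩ := M'.qf.ex1 (x := d') (by rw [h1.one]; decide) h1.orth
  have h2 : Dir B' s' u' := ⟨s1, h1.sing, h1.ne, s3⟩
  have h3 := h2.add1 M'.qf
  have key : ∀ v, B' v v = 1 → B' v d' = 0 → p' v ∈ Dx E d := fun v v1 v2 =>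
    ⟨(M'.mem v v1).1, e1 ▸ M'.ne_of v1 h1.one v2, e1 ▸ (M'.comm_of v1 h1.one v2).symm⟩
  obtain ⟨s, u, h4, e2, e3⟩ := S.M.line (key _ s1 s2) (key _ h3.one (by
    have := M'.qf.symm u' d'
    have := h1.orth
    simp only [bx]; grind)) (M'.adj h2)
  have h5 := (S.p_mem hx h4.one).1 (e2 ▸ M'.mem _ s1)
  have h6 := (S.p_mem hx (h4.add1 S.M.qf).one).1 (e3 ▸ M'.mem _ h3.one)
  exact ⟨u, ⟨hx, h4.sing, h4.ne, by simp only [bx] at h6; grind⟩, S.transfer hx M' h1 h2 h4 e1 e2 e3⟩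

theorem exists_loc {x u : V} (h : Dir B x u) :
    ∃ a ∈ E, ¬ Commute d a ∧ Commute (p x) a ∧ Loc B p a x u := by
  obtain ⟨V', _, _, B', p', M'⟩ := S.exists_res (S.pE h.one)
  obtain ⟨s, s1, s2, s3⟩ := S.M.qf.ex1 (x := x) (by rw [h.one]; decide) h.orth
  have h2 : Dir B s u := ⟨s1, h.sing, h.ne, s3⟩
  have h3 := h2.add1 S.M.qf
  have := S.M.qf.symm x s
  have := h.orth
  obtain ⟨s', u', h4, e2, e3⟩ := M'.line ((S.p_mem h.one s1).2 (by grind))
    ((S.p_mem h.one h3.one).2 (by simp only [bx]; grind)) (S.M.adj h2)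
  obtain ⟨d', d1, e1⟩ := M'.surj _ (S.d_mem h.one)
  have key : ∀ v v', B v v = 1 → B' v' v' = 1 → p' v' = p v → B' d' v' = 0 := fun v v' v1 v2 e =>
    (M'.mem_Dx d1 v2).1 ⟨M'.mem _ v2, by rw [e, e1]; exact (S.M.mem v v1).2.1,
      by rw [e, e1]; exact (S.pd v1).symm⟩
  have h5 := key _ _ s1 h4.one e2
  have h6 := key _ _ h3.one (h4.add1 M'.qf).one e3
  have h1 : Dir B' d' u' := ⟨d1, h4.sing, h4.ne, by simp only [bx] at h6; grind⟩
  have h7 := M'.mem _ (h1.add1 M'.qf).one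
  exact ⟨_, h7.1, e1 ▸ M'.adj h1, h7.2.2, S.transfer h.one M' h1 h4 h2 e1 e2.symm e3.symm⟩

theorem hl_res {a a' : G} (ha : a ∈ E) (had : ¬ Commute d a) (ha' : a' ∈ E)
    (had' : ¬ Commute d a') {x : V} (hx : B x x = 1) (hxa : Commute (p x) a)
    (hxa' : Commute (p x) a')
    (h : ∀ w, B w w = 1 → B w x = 0 → Commute (p w) a → Commute (p w) a') :
    a' = a ∨ a' = cj d a := by
  obtain ⟨V', _, _, B', p', M'⟩ := S.exists_res (S.pE hx)
  refine (M'.hl (S.d_mem hx) ⟨ha, fun e => had (e ▸ (S.pd hx).symm), hxa⟩ had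
    ⟨ha', fun e => had' (e ▸ (S.pd hx).symm), hxa'⟩ fun f hf h1 h2 => ?_).resolve_left
    fun e => had' (by rw [e])
  obtain ⟨w, hw, rfl⟩ := S.M.surj f ⟨hf.1, fun e => had (e ▸ h2), h1.symm⟩
  exact h w hw (by rw [S.M.qf.symm]; exact (S.p_mem hx hw).1 hf) h2

theorem act_rf {v : V} (hv : B v v = 1) : Act E d B p (p v) (rf B v) :=
  ⟨Subgroup.subset_closure (S.pE hv), S.pd hv, S.M.qf.rf_B hv, fun _ hw => S.M.cj_eq hv hw⟩

theorem act_sg {u z : V} (h : Dir B z u) : Act E d B p (p z * p (z + u)) (sg B u z) :=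
  (S.act_rf h.one).mul (S.act_rf (h.add1 S.M.qf).one)

theorem stab {a g : G} {f : V →ₗ[ZMod 3] V} (ha : a ∈ E) (had : ¬ Commute d a) {x u : V}
    (hx : B x x = 1) (hxa : Commute (p x) a) (hL : Loc B p a x u) (hg : Act E d B p g f)
    (h1 : Pm (f x) x) (h2 : Pm (f u) u) : cj g⁻¹ a = a ∨ cj g⁻¹ a = cj d a := by
  have key : ∀ y, Commute y (cj g⁻¹ a) ↔ Commute (cj g y) a := fun y => by
    rw [← commute_cj (g := g), cj_cj_inv]
  refine S.hl_res ha had (S.lp.conj ha (inv_mem hg.mem)) (by rwa [key, cj_of_commute hg.comm]) hx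
    hxa (by rwa [key, hg.cj x hx, S.M.eq_of_pm hx h1]) fun w hw hwx hwa => ?_
  rw [key, hg.cj w hw, hL _ (by rw [hg.iso, hw]) (by rw [← h1.zero_right, hg.iso, hwx]),
    ← h2.zero_right, hg.iso]
  exact (hL w hw hwx).1 hwa

theorem loc_comm {a : G} (ha : a ∈ E) (had : ¬ Commute d a) {x y u u' : V} (hx : Dir B x u)
    (hy : Dir B y u') (hxy : B x y = 0) (hxa : Commute (p x) a) (hya : Commute (p y) a)
    (hL : Loc B p a x u) (hL' : Loc B p a y u') : Pm u' u := by
  have Q := S.M.qf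
  have := Q.symm x y
  have h1 : B y u = 0 := (hL y hy.one (by grind)).1 hya
  have h2 : B x u' = 0 := (hL' x hx.one hxy).1 hxa
  have x1 := hx.one
  have x2 := hx.sing
  have x3 := hx.orth
  have y1 := hy.one
  have y2 := hy.sing
  have y3 := hy.orth
  have := Q.symm u x
  have := Q.symm u y
  have := Q.symm u' x
  have := Q.symm u' y
  have := Q.symm u u'
  have h3 : B u u' = 0 := by
    obtain ⟨e, e1, e2, e3, e4⟩ := Q.ns3 (x := x) (y := y) (u := u) (by grind) (by grind) hxy x3 h1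
    have := Q.symm u e
    have := Q.symm x e
    have := Q.symm y e
    have := Q.symm u' e
    rcases z3_cases e4 with e5 | e5
    · have k1 := (hL' e e5 e2).1 ((hL e e5 e1).2 e3)
      have k2 : B (e + u) (e + u) = 1 := by simp only [bx]; grind
      have k3 := (hL' _ k2 (by simp only [bx]; grind)).1
        ((hL _ k2 (by simp only [bx]; grind)).2 (by simp only [bx]; grind))
      simp only [bx] at k3
      grind
    have d1 : Dir B (x + y + e) u :=
      ⟨by simp only [bx]; grind, x2, hx.ne, by simp only [bx]; grind⟩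
    have d2 : Dir B (-x) u := ⟨by simp only [bx'']; grind, x2, hx.ne, by simp only [bx'']; grind⟩
    have d3 : Dir B (-y) u := ⟨by simp only [bx'']; grind, x2, hx.ne, by simp only [bx'']; grind⟩
    have hg := (S.act_sg d1).mul ((S.act_sg d2).mul (S.act_sg d3))
    generalize p (x + y + e) * p (x + y + e + u) * (p (-x) * p (-x + u) * (p (-y) * p (-y + u))) = g
      at hg
    obtain ⟨f, hf'⟩ : ∃ f, f = sg B u (x + y + e) ∘ₗ sg B u (-x) ∘ₗ sg B u (-y) := ⟨_, rfl⟩
    rw [← hf'] at hg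
    have hf : ∀ w, f w = w + (B w e - B w u) • u - B w u • e := fun w => by
      simp only [hf', LinearMap.comp_apply, sg_apply Q d1, sg_apply Q d2, sg_apply Q d3, bx, bx',
        bx'']
      match_scalars <;> grind
    have fx : f x = x := by rw [hf]; match_scalars <;> grind
    have fy : f y = y := by rw [hf]; match_scalars <;> grind
    have fu : f u = u := by rw [hf]; match_scalars <;> grind
    have k2 : B (x + u') (x + u') = 1 := by simp only [bx]; grind
    have k3 : B (x + u') y = 0 := by simp only [bx]; grind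
    have k4 := (hL' _ k2 k3).2 (by simp only [bx]; grind)
    have k5 : Commute (p (x + u')) (cj g⁻¹ a) := by
      rcases S.stab ha had x1 hxa hL hg (Or.inl fx) (Or.inl fu) with e | e <;> rw [e]
      · exact k4
      · exact TT.commute_cj_of (S.pd k2) k4
    rw [← commute_cj (g := g), cj_cj_inv, hg.cj _ k2,
      hL' _ (by rw [hg.iso, k2]) (by rw [← fy, hg.iso, k3]), hf] at k5
    simp only [bx, bx'] at k5
    by_contra k6
    have := z3_sq k6
    grind
  obtain ⟨c, hc⟩ := Q.sing_eq (x := x) (y := y) (by grind) (by grind) hxy x3 h1 h2 y3 y2 h3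
    fun w w1 w2 w3 w4 => (hL' w w1 w3).1 ((hL w w1 w2).2 w4)
  rw [hc]
  exact pm_smul (fun e => hy.ne (by simp [hc, e])) u

theorem glob_of_loc {a : G} (ha : a ∈ E) (had : ¬ Commute d a) {x u : V} (hx : Dir B x u)
    (hxa : Commute (p x) a) (hL : Loc B p a x u) : Glob B p a u := by
  have Q := S.M.qf
  have T := S.lp.tt
  obtain ⟨y, y1, y2, y3⟩ := Q.ex1 (x := x) (by rw [hx.one]; decide) hx.orth
  have hya := (hL y y1 y2).2 y3
  have := Q.symm x y
  have := Q.symm u y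
  have := Q.symm u x
  have x1 := hx.one
  have x2 := hx.sing
  have x3 := hx.orth
  obtain ⟨u', hy, hL'⟩ := S.loc_of ha had y1 hya
  replace hL' := hL'.pm (S.loc_comm ha had hx hy (by grind) hxa hya hL hL')
  have h1 : ∀ c : ZMod 3, Commute (p (x + c • u)) a := fun c =>
    (hL' _ (hx.add Q c).one (by simp only [bx, bx']; grind)).2 (hx.add Q c).orth
  intro w hw
  constructor
  · intro hwa
    by_contra h0
    have := z3_sq h0
    obtain ⟨u'', hx', hL''⟩ := S.loc_of ha had (hx.add Q (-(B w x * B w u))).one (h1 _)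
    exact h0 (((hL''.pm (S.loc_comm ha had ⟨y1, x2, hx.ne, y3⟩ hx'
      (by simp only [bx, bx']; grind) hya (h1 _) hL' hL'')) w hw
        (by simp only [bx, bx']; grind)).1 hwa)
  intro hwu
  by_cases h0 : B w x = 0
  · exact (hL w hw h0).2 hwu
  have := z3_sq h0
  have := Q.symm w x
  have := Q.symm w u
  have d1 : Dir B w u := ⟨hw, x2, hx.ne, hwu⟩
  have d2 := hx.add Q (-B w x)
  have d3 := d1.add1 Q
  have hst := S.stab ha had x1 hxa hL ((S.act_rf d2.one).mul (S.act_sg d1))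
    (Or.inr (by
      simp only [LinearMap.comp_apply, sg_apply Q d1, rf_apply, bx, bx']
      match_scalars <;> grind))
    (Or.inl (by
      simp only [LinearMap.comp_apply, sg_apply Q d1, rf_apply, bx, bx']
      match_scalars <;> grind))
  rw [mul_inv_rev, ← cj_cj, T.inv (S.M.memD d2.one), cj_of_commute (h1 _)] at hst
  have hc := (S.act_sg d1).comm.inv_left
  have h3 : (p w * p (w + u))⁻¹ ^ 3 = 1 := by
    rw [inv_pow, T.pow_three (S.M.memD hw) (S.M.memD d3.one)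
      (T.braid (S.M.memD hw) (S.M.memD d3.one) (S.M.adj d1)), inv_one]
  rcases hst with e | e
  · rw [mul_inv_rev, ← cj_cj, T.inv (S.M.memD hw), T.inv (S.M.memD d3.one)] at e
    refine (T.fix_of_cj_eq (S.lp.le ha) (S.M.memD hw) (S.M.memD d3.one)
      (fun e => S.M.adj d1 (by rw [← e])) ?_).1.symm
    rw [← T.cj_cj_same (S.M.memD d3.one) (cj (p w) a), e]
  · exfalso
    apply had
    generalize (p w * p (w + u))⁻¹ = g at e hc h3
    have e2 : cj (g * g) a = a := by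
      rw [← cj_cj, e, cj_cj_conj, cj_of_commute hc, e, T.cj_cj_same (S.lp.le S.hd)]
    rw [← cj_eq_self, ← e]
    conv_rhs => rw [← cj_one a, ← h3, pow_three, ← cj_cj, e2]

end OS

end H16
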