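import Mathlib
import Cfsg.Agent.H16.O3Step

/-! A Fischer space whose residues have orthogonal models over `F₃` has such a model, II. -/

set_option autoImplicit false
set_option linter.unusedSectionVars false

namespace H16

open H0 Module

variable {G : Type*} [Group G] [Finite G] {D E : Set G}
variable {V : Type} [AddCommGroup V] [Module (ZMod 3) V] {B : V →ₗ[ZMod 3] V →ₗ[ZMod 3] ZMod 3}

/-- the point `a` adjacent to `d` belongs to the singular vector `s` -/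
structure Sp (E : Set G) (d : G) (B : V →ₗ[ZMod 3] V →ₗ[ZMod 3] ZMod 3) (p : V → G) (s : V)
    (a : G) : Prop where
  ne : s ≠ 0
  sing : B s s = 0
  mem : a ∈ E
  adj : ¬ Commute d a
  glob : Glob B p a s

/-- sign compatibility -/
def Rl (B : V →ₗ[ZMod 3] V →ₗ[ZMod 3] ZMod 3) (s : V) (a : G) (t : V) (b : G) : Prop :=
  Commute a b ↔ B s t = -1

theorem Rl.symm (Q : QF B) {s t : V} {a b : G} (h : Rl B s a t b) : Rl B t b s a := by
  unfold Rl at *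
  rw [Q.symm t s, ← h, Commute.symm_iff]

theorem Sp.pm {d : G} {p : V → G} {s t : V} {a : G} (h : Sp E d B p s a) (e : Pm s t) :
    Sp E d B p t a :=
  ⟨fun e' => h.ne (by rcases e with e | e <;> simp [e, e']), e.norm.symm.trans h.sing, h.mem, h.adj,
    h.glob.pm e⟩

namespace OS

variable {d : G} {p : V → G} (S : OS D E d B p)
include S

theorem ex_dir {u : V} (hu : B u u = 0) (hu0 : u ≠ 0) : ∃ x, Dir B x u := by
  have Q := S.M.qf
  obtain ⟨e, e1, -, e2⟩ := Q.ns2 u u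
  obtain ⟨x, x1, -, x2⟩ := Q.ex1 e2 e1
  exact ⟨x, x1, hu, hu0, x2⟩

theorem sp_of {a : G} (ha : a ∈ E) (had : ¬ Commute d a) : ∃ s, Sp E d B p s a := by
  obtain ⟨x, hx, hx'⟩ := S.lp.mu_pos S.hd ha had
  obtain ⟨x, x1, rfl⟩ := S.M.surj x hx
  obtain ⟨u, h1, h2⟩ := S.loc_of ha had x1 hx'.2.2.symm
  exact ⟨u, h1.ne, h1.sing, ha, had, S.glob_of_loc ha had h1 hx'.2.2.symm h2⟩

theorem ex_sp {s : V} (hs : B s s = 0) (hs0 : s ≠ 0) : ∃ a, Sp E d B p s a := by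
  obtain ⟨x, hx⟩ := S.ex_dir hs hs0
  obtain ⟨a, ha, h1, h2, h3⟩ := S.exists_loc hx
  exact ⟨a, hs0, hs, ha, h1, S.glob_of_loc ha h1 hx h2 h3⟩

variable {s t u : V} {a b c : G}

theorem sp_uniq (h : Sp E d B p s a) (h' : Sp E d B p s b) : b = a ∨ b = cj d a := by
  obtain ⟨x, hx⟩ := S.ex_dir h.sing h.ne
  exact S.hl_res h.mem h.adj h'.mem h'.adj hx.one ((h.glob x hx.one).2 hx.orth)
    ((h'.glob x hx.one).2 hx.orth) fun w hw _ e => (h'.glob w hw).2 ((h.glob w hw).1 e)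

theorem sp_pm (h : Sp E d B p s a) (h' : Sp E d B p t a) : Pm t s := by
  have Q := S.M.qf
  obtain ⟨x, hx⟩ := S.ex_dir h.sing h.ne
  have key : ∀ w, B w w = 1 → B w s = 0 → B w t = 0 := fun w h1 h2 =>
    (h'.glob w h1).1 ((h.glob w h1).2 h2)
  have h1 := key x hx.one hx.orth
  have h2 := key _ (hx.add1 Q).one (hx.add1 Q).orth
  obtain ⟨k, hk⟩ := Q.sing_eq (x := x) (y := 0) (by rw [hx.one]; decide) (Or.inl rfl) (by simp)
    hx.orth (by simp) h1 (by simp) h'.sing (by simp only [bx] at h2; grind)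
    fun w w1 _ _ w2 => key w w1 w2
  rw [hk]
  exact pm_smul (fun e => h'.ne (by simp [hk, e])) s

theorem sp_d (h : Sp E d B p s a) : Sp E d B p s (cj d a) :=
  ⟨h.ne, h.sing, S.lp.cj_mem S.hd h.mem, S.lp.tt.adj_cj_self h.adj, fun w hw => by
    rw [commute_cj_right (S.pd hw).symm]; exact h.glob w hw⟩

theorem sp_flip (h : Sp E d B p s a) : Sp E d B p (-s) (cj d a) := (S.sp_d h).pm (pm_neg s).symm

theorem sp_cj (h : Sp E d B p s a) {x : V} (hx : B x x = 1) :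
    Sp E d B p (rf B x s) (cj (p x) a) := by
  have Q := S.M.qf
  refine ⟨fun e => h.ne (by rw [← Q.rf_rf hx s, e, map_zero]), by rw [Q.rf_B hx, h.sing],
    S.lp.cj_mem (S.pE hx) h.mem, by rw [commute_cj_right (S.pd hx)]; exact h.adj, fun w hw => ?_⟩
  rw [← commute_cj (g := p x), S.lp.tt.cj_cj_same (S.M.memD hx), S.M.cj_eq hx hw,
    h.glob _ (by rw [Q.rf_B hx, hw]), ← Q.rf_B hx, Q.rf_rf hx]

theorem ne_zero_of_comm (h : Sp E d B p s a) (h' : Sp E d B p t b) (hc : Commute a b)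
    (hne : a ≠ b) : B s t ≠ 0 := by
  have T := S.lp.tt
  have ha := S.lp.le h.mem
  have hb := S.lp.le h'.mem
  have hd := S.lp.le S.hd
  obtain ⟨x, x1, hx⟩ := S.M.surj (cj (a * b) d)
    ⟨S.lp.conj S.hd (mul_mem (Subgroup.subset_closure h.mem) (Subgroup.subset_closure h'.mem)),
      (T.partner_ne ha hb hd hc hne h.adj).symm, T.partner_commute ha hb hd hc h.adj h'.adj⟩
  have h1 := T.swap_left ha hb hd hc h.adj h'.adj
  rw [← hx, ← cj_cj] at h1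
  have h2 := S.sp_pm (h1 ▸ S.sp_d (S.sp_cj h x1)) h'
  have h3 : B x s ≠ 0 := fun e => by
    rw [cj_of_commute ((h.glob x x1).2 e)] at h1
    exact T.adj_cj_self' hd ha h.adj (h1 ▸ hc)
  rw [Ne, h2.zero_right, rf_apply]
  have := h.sing
  have := S.M.qf.symm s x
  simp only [bx, bx']
  grind

theorem two_cases (h : Sp E d B p s a) (h' : Sp E d B p t b) (hc : B s t ≠ 0) :
    B (s - B s t • t) (s - B s t • t) = 1 ∧ ¬ Commute (p (s - B s t • t)) a ∧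
      (Commute a b ∧ ¬ Commute a (cj d b) ∧ b = cj d (cj (p (s - B s t • t)) a) ∨
        ¬ Commute a b ∧ Commute a (cj d b)) := by
  have T := S.lp.tt
  have := z3_sq hc
  have := h.sing
  have := h'.sing
  have := S.M.qf.symm s t
  have h1 : B (s - B s t • t) (s - B s t • t) = 1 := by simp only [bx, bx']; grind
  have h2 : ¬ Commute (p (s - B s t • t)) a := by
    rw [h.glob _ h1]; simp only [bx, bx']; grind
  have h3 := (S.sp_cj h h1).pm (t := t) (Pm.trans (Or.inl (by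
    simp only [rf_apply, bx, bx']; match_scalars <;> grind)) (pm_smul hc t))
  refine ⟨h1, h2, ?_⟩
  have h4 := T.adj_cj_self' (S.M.memD h1) (S.lp.le h.mem) h2
  have h5 := T.partner_commute (S.lp.le S.hd) (S.M.memD h1) (S.lp.le h.mem) (S.pd h1).symm
    (fun e => h.adj e.symm) fun e => h2 e.symm
  rw [← cj_cj] at h5
  rcases S.sp_uniq h3 h' with e | e
  · rw [e]; exact Or.inr ⟨h4, h5⟩
  · rw [e, T.cj_cj_same (S.lp.le S.hd)]; exact Or.inl ⟨h5, h4, rfl⟩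

theorem rl_d (h : Sp E d B p s a) (h' : Sp E d B p t b) (hc : B s t ≠ 0) :
    Rl B s a t (cj d b) ↔ ¬ Rl B s a t b := by
  have := (S.two_cases h h' hc).2.2
  unfold Rl
  grind

theorem rl_flip (h : Sp E d B p s a) (h' : Sp E d B p t b) (hc : B s t ≠ 0) :
    Rl B s a (-t) (cj d b) ↔ Rl B s a t b := by
  have := (S.two_cases h h' hc).2.2
  have := z3_cases hc
  unfold Rl
  simp only [bx'']
  grind

theorem tri0 (h1 : Sp E d B p s a) (h2 : Sp E d B p t b) (h3 : Sp E d B p u c) (e1 : B s t = -1)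
    (e2 : B s u = -1) (e3 : B t u ≠ 0) (r1 : Rl B s a t b) (r2 : Rl B s a u c) : Rl B t b u c := by
  have T := S.lp.tt
  have Q := S.M.qf
  obtain ⟨k1, k2, k3⟩ := S.two_cases h1 h2 (by grind)
  obtain ⟨l1, l2, l3⟩ := S.two_cases h1 h3 (by grind)
  replace k3 := (k3.resolve_right fun e => e.1 (r1.2 e1)).2.2
  replace l3 := (l3.resolve_right fun e => e.1 (r2.2 e2)).2.2
  unfold Rl
  rw [k3, l3, commute_cj, T.braid (S.M.memD k1) (S.lp.le h1.mem) k2,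
    T.braid (S.M.memD l1) (S.lp.le h1.mem) l2, commute_cj, S.M.comm k1 l1, e1, e2]
  have := h1.sing
  have := h2.sing
  have := Q.symm s t
  have h4 : ¬ Pm (s - (-1 : ZMod 3) • t) (s - (-1 : ZMod 3) • u) := by
    rintro (e | e)
    · have := congrArg (B t) e
      simp only [bx, bx'] at this
      grind
    · have := congrArg (B s) e
      simp only [bx, bx', bx''] at this
      grind
  simp only [h4, bx, bx']
  grind

theorem tri (h1 : Sp E d B p s a) (h2 : Sp E d B p t b) (h3 : Sp E d B p u c) (e1 : B s t ≠ 0)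
    (e2 : B s u ≠ 0) (e3 : B t u ≠ 0) (r1 : Rl B s a t b) (r2 : Rl B s a u c) : Rl B t b u c := by
  have Q := S.M.qf
  have key : ∀ {t : V} {b : G}, Sp E d B p t b → B s t = -1 → B t u ≠ 0 → Rl B s a t b →
      Rl B t b u c := fun h2 e1 e3 r1 => by
    rcases z3_cases e2 with e | e
    · rw [← S.rl_flip h2 h3 e3]
      exact S.tri0 h1 h2 (S.sp_flip h3) e1 (by simp [e]) (by simpa using e3) r1
        ((S.rl_flip h1 h3 e2).2 r2)
    · exact S.tri0 h1 h2 h3 e1 e e3 r1 r2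
  rcases z3_cases e1 with e | e
  · refine Rl.symm Q ((S.rl_flip h3 h2 (by rwa [Q.symm])).1 (Rl.symm Q ?_))
    exact key (S.sp_flip h2) (by simp [e]) (by simpa using e3) ((S.rl_flip h1 h2 e1).2 r1)
  · exact key h2 e e3 r1

theorem ex_rl (h : Sp E d B p s a) (ht : B t t = 0) (hc : B s t ≠ 0) :
    ∃ b, Sp E d B p t b ∧ Rl B s a t b := by
  obtain ⟨b, hb⟩ := S.ex_sp ht fun e => hc (by simp [e])
  by_cases h1 : Rl B s a t b
  · exact ⟨b, hb, h1⟩
  · exact ⟨_, S.sp_d hb, (S.rl_d h hb hc).2 h1⟩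

theorem exists_alpha : ∃ α : V → G, (∀ s, s ≠ 0 → B s s = 0 → Sp E d B p s (α s)) ∧
    ∀ s t, B s s = 0 → B t t = 0 → B s t ≠ 0 → Rl B s (α s) t (α t) := by
  have Q := S.M.qf
  obtain ⟨s₀, h00, h0⟩ := Q.ex_sing
  obtain ⟨a₀, ha₀⟩ := S.ex_sp h0 h00
  have sy : ∀ {x y}, B x y ≠ 0 → B y x ≠ 0 := fun h => by rwa [Q.symm]
  have : ∀ s, s ≠ 0 → B s s = 0 → ∃ a, Sp E d B p s a ∧ (B s₀ s ≠ 0 → Rl B s₀ a₀ s a) ∧
      ∀ t b, Sp E d B p t b → B s₀ t ≠ 0 → Rl B s₀ a₀ t b → B t s ≠ 0 → Rl B t b s a := by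
    intro s hs0 hs
    by_cases h1 : B s₀ s = 0
    swap
    · obtain ⟨a, ha, r⟩ := S.ex_rl ha₀ hs h1
      exact ⟨a, ha, fun _ => r, fun t b hb e1 r' e2 => S.tri ha₀ hb ha e1 h1 e2 r' r⟩
    obtain ⟨t₀, k1, k2, k3⟩ := Q.ex_mid h0 h00 hs0 h1
    obtain ⟨b₀, hb₀, r₀⟩ := S.ex_rl ha₀ k1 (sy k2)
    obtain ⟨a, ha, r⟩ := S.ex_rl hb₀ hs k3
    have key : ∀ {t t' : V} {b b' : G}, Sp E d B p t b → Sp E d B p t' b' → B s₀ t ≠ 0 →
        B s₀ t' ≠ 0 → Rl B s₀ a₀ t b → Rl B s₀ a₀ t' b' → B t s ≠ 0 → B t' s ≠ 0 → B t t' ≠ 0 →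
        Rl B t b s a → Rl B t' b' s a := fun hb hb' e1 e2 r1 r2 e3 e4 e5 r3 =>
      S.tri hb hb' ha e5 e3 e4 (S.tri ha₀ hb hb' e1 e2 e5 r1 r2) r3
    refine ⟨a, ha, fun e => absurd h1 e, fun t b hb e1 r' e2 => ?_⟩
    by_cases h2 : B t₀ t = 0
    swap
    · exact key hb₀ hb (sy k2) e1 r₀ r' k3 e2 h2 r
    obtain ⟨v, v1, v2, v3, v4, v5⟩ := Q.ex_mid2 h0 h1 k1 k2 (sy e1) k3 h2
    obtain ⟨c, hc, r''⟩ := S.ex_rl ha₀ v1 (sy v2)
    exact key hc hb (sy v2) e1 r'' r' v3 e2 v5 (key hb₀ hc (sy k2) (sy v2) r₀ r'' k3 v3 (sy v4) r)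
  choose! α h1 h2 h3 using this
  refine ⟨α, h1, fun s t hs ht hst => ?_⟩
  have hs0 : s ≠ 0 := fun e => hst (by simp [e])
  have ht0 : t ≠ 0 := fun e => hst (by simp [e])
  by_cases e1 : B s₀ s = 0
  swap
  · exact h3 t ht0 ht s _ (h1 s hs0 hs) e1 (h2 s hs0 hs e1) hst
  by_cases e2 : B s₀ t = 0
  swap
  · exact Rl.symm Q (h3 s hs0 hs t _ (h1 t ht0 ht) e2 (h2 t ht0 ht e2) (sy hst))
  obtain ⟨v, v1, v2, v3, v4⟩ := Q.ex_mid3 h0 h00 e1 e2 hs ht hst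
  obtain ⟨c, hc, r⟩ := S.ex_rl ha₀ v1 (sy v2)
  exact S.tri hc (h1 s hs0 hs) (h1 t ht0 ht) v3 v4 hst (h3 s hs0 hs v c hc (sy v2) r v3)
    (h3 t ht0 ht v c hc (sy v2) r v4)

theorem mo : MO E := by
  classical
  have Q := S.M.qf
  obtain ⟨α, h1, h2⟩ := S.exists_alpha
  have inj : ∀ s t, s ≠ 0 → B s s = 0 → t ≠ 0 → B t t = 0 → α s = α t → s = t := by
    intro s t s0 hs t0 ht e
    refine (S.sp_pm (h1 t t0 ht) (e ▸ h1 s s0 hs)).resolve_right fun e' => ?_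
    obtain ⟨v, v1, v2, -⟩ := Q.ex_mid ht t0 t0 ht
    have r1 := h2 v t v1 ht v2
    have r2 := h2 v s v1 hs (by simpa [e'] using v2)
    unfold Rl at r1 r2
    rw [e, r1, e'] at r2
    simp only [bx''] at r2
    have := z3_cases v2
    grind
  have com : ∀ s t, s ≠ 0 → B s s = 0 → t ≠ 0 → B t t = 0 → α s ≠ α t →
      (Commute (α s) (α t) ↔ B s t = -1) := fun s t s0 hs t0 ht e => by
    by_cases h : B s t = 0
    · exact iff_of_false (fun h' => S.ne_zero_of_comm (h1 s s0 hs) (h1 t t0 ht) h' e h) (by grind)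
    · exact h2 s t hs ht h
  have sur : ∀ a ∈ E, ¬ Commute d a → ∃ s, s ≠ 0 ∧ B s s = 0 ∧ α s = a := fun a ha had => by
    obtain ⟨s, hs⟩ := S.sp_of ha had
    have hs' := hs.pm (pm_neg s).symm
    rcases S.sp_uniq hs (h1 s hs.ne hs.sing) with e | e
    · exact ⟨s, hs.ne, hs.sing, e⟩
    rcases S.sp_uniq hs' (h1 _ hs'.ne hs'.sing) with e' | e'
    · exact ⟨_, hs'.ne, hs'.sing, e'⟩
    have := inj _ _ hs.ne hs.sing hs'.ne hs'.sing (e.trans e'.symm)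
    obtain ⟨v, hv⟩ := Q.exists_one hs.ne
    have h3 := congrArg (B v) this
    rw [map_neg, hv] at h3
    exact absurd h3 (by decide)
  let B' : (V × ZMod 3) →ₗ[ZMod 3] (V × ZMod 3) →ₗ[ZMod 3] ZMod 3 :=
    B.compl₁₂ (LinearMap.fst _ _ _) (LinearMap.fst _ _ _) +
      (LinearMap.mul (ZMod 3) (ZMod 3)).compl₁₂ (LinearMap.snd _ _ _) (LinearMap.snd _ _ _)
  have hB' : ∀ v w, B' v w = B v.1 w.1 + v.2 * w.2 := fun _ _ => rfl
  let p' : V × ZMod 3 → G := fun v => if v.2 = 0 then p v.1 else if v.1 = 0 then d else α (v.2 • v.1)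
  have cases : ∀ v, B' v v = 1 → (v.2 = 0 ∧ B v.1 v.1 = 1 ∧ p' v = p v.1) ∨
      (v.2 * v.2 = 1 ∧ v.1 = 0 ∧ p' v = d) ∨ (v.2 * v.2 = 1 ∧ v.2 • v.1 ≠ 0 ∧
        B (v.2 • v.1) (v.2 • v.1) = 0 ∧ p' v = α (v.2 • v.1)) := fun v hv => by
    rw [hB'] at hv
    by_cases e : v.2 = 0
    · exact Or.inl ⟨e, by grind, by simp [p', e]⟩
    have := z3_sq e
    by_cases e' : v.1 = 0
    · exact Or.inr (Or.inl ⟨this, e', by simp [p', e, e']⟩)
    · exact Or.inr (Or.inr ⟨this, by simp [e, e'], by simp only [bx']; grind, by simp [p', e, e']⟩)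
  have := Q.fin
  refine MO_of_p (B := B') (p := p') ⟨?_, fun v w => ?_, fun v hv => ?_⟩ (fun v hv => ?_)
    (fun x hx => ?_) (fun v w hv hw => ?_) fun v w hv hw => ?_
  · have := Q.dim
    rw [finrank_prod]; omega
  · rw [hB', hB', Q.symm, mul_comm]
  · refine Prod.ext (Q.nd _ fun w => ?_) ?_
    · simpa [hB'] using hv (w, 0)
    · simpa [hB'] using hv (0, 1)
  · rcases cases v hv with ⟨-, k, e⟩ | ⟨-, -, e⟩ | ⟨-, k, k', e⟩ <;> rw [e]
    exacts [S.pE k, S.hd, (h1 _ k k').mem]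
  · by_cases e : x = d
    · exact ⟨(0, 1), by simp [hB'], by simp [p', e]⟩
    by_cases e' : Commute d x
    · obtain ⟨v, hv, rfl⟩ := S.M.surj x ⟨hx, e, e'⟩
      exact ⟨(v, 0), by simp [hB', hv], by simp [p']⟩
    · obtain ⟨s, s0, s1, rfl⟩ := sur x hx e'
      exact ⟨(s, 1), by simp [hB', s1], by simp [p', s0]⟩
  · have key : v.2 * v.2 = 1 → w.2 * w.2 = 1 → v.2 • v.1 = w.2 • w.1 → Pm v w := fun k l e => by
      refine Pm.trans (Or.inl ?_) (pm_smul (c := v.2 * w.2) (by grind) w)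
      refine Prod.ext ?_ (by simp only [Prod.smul_snd, smul_eq_mul]; grind)
      rw [Prod.smul_fst, mul_smul, ← e, ← mul_smul, k, one_smul]
    rcases cases v hv with ⟨k1, k2, e⟩ | ⟨k1, k2, e⟩ | ⟨k1, k2, k3, e⟩ <;>
    rcases cases w hw with ⟨l1, l2, e'⟩ | ⟨l1, l2, e'⟩ | ⟨l1, l2, l3, e'⟩ <;> rw [e, e'] <;> intro e''
    · exact ((S.M.eq k2 l2).1 e'').imp (fun e => Prod.ext e (by rw [k1, l1]))
        fun e => Prod.ext e (by simp [k1, l1])
    · exact absurd e'' (S.M.mem _ k2).2.1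
    · exact absurd (e'' ▸ (S.pd k2).symm) (h1 _ l2 l3).adj
    · exact absurd e''.symm (S.M.mem _ l2).2.1
    · exact key k1 l1 (by simp [k2, l2])
    · exact absurd (by rw [← e'']) (h1 _ l2 l3).adj
    · exact absurd (e''.symm ▸ (S.pd l2).symm) (h1 _ k2 k3).adj
    · exact absurd (by rw [e'']) (h1 _ k2 k3).adj
    · exact key k1 l1 (inj _ _ k2 k3 l2 l3 e'')
  · rcases cases v hv with ⟨k1, k2, e⟩ | ⟨k1, k2, e⟩ | ⟨k1, k2, k3, e⟩ <;>
    rcases cases w hw with ⟨l1, l2, e'⟩ | ⟨l1, l2, e'⟩ | ⟨l1, l2, l3, e'⟩ <;> rw [e, e', hB'] <;>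
    intro e''
    · rw [S.M.comm k2 l2, ← S.M.eq k2 l2]; simp [k1, e'']
    · simp [S.pd k2, k1, l2]
    · rw [(h1 _ l2 l3).glob _ k2]; simp only [bx']; grind
    · simp [(S.pd l2).symm, l1, k2]
    · exact absurd rfl e''
    · simp only [(h1 _ l2 l3).adj, k2, map_zero, LinearMap.zero_apply]; grind
    · rw [Commute.symm_iff, (h1 _ k2 k3).glob _ l2, Q.symm]; simp only [bx']; grind
    · rw [Commute.symm_iff]
      simp only [(h1 _ k2 k3).adj, l2, map_zero]; grind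
    · rw [com _ _ k2 k3 l2 l3 e'']; simp only [bx']; grind

end OS

theorem o3_step (h : LP D E) (hr : ∀ d ∈ E, LP D (Dx E d) ∧ MO (Dx E d)) : MO E := by
  obtain ⟨d, hd⟩ := h.nonempty
  obtain ⟨h1, V, _, _, B, φ, h2⟩ := hr d hd
  obtain ⟨p, h3⟩ := exists_OP h1 h2
  exact OS.mo ⟨h, hr, hd, h3⟩

end H16
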