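import Mathlib
import Cfsg.Agent.H16.O3Api
import Cfsg.Agent.H7.OmegaSimple
import Cfsg.Agent.H15.ReflClass
import Cfsg.Agent.H15.Disc

/-! A simple group generated by 3-transpositions with an orthogonal model over `F₃`. -/

set_option autoImplicit false
set_option linter.unusedSectionVars false

namespace H16

open H0 H15 Module

theorem quot_center_of_index {R : Type*} [Group R] {N S : Subgroup R} (hN : N ≤ S) {z : S}
    (hz : z ∈ Subgroup.center S) (h : ∀ r : S, (r : R) ∈ N ∨ ((z * r : S) : R) ∈ N) :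
    Nonempty (S ⧸ Subgroup.center S ≃* N ⧸ Subgroup.center N) := by
  let f : N →* S ⧸ Subgroup.center S := (QuotientGroup.mk' _).comp (Subgroup.inclusion hN)
  have hf : Function.Surjective f := fun q => by
    obtain ⟨r, rfl⟩ := QuotientGroup.mk'_surjective _ q
    rcases h r with h1 | h1
    · exact ⟨⟨r, h1⟩, rfl⟩
    · refine ⟨⟨_, h1⟩, ?_⟩
      change QuotientGroup.mk' _ (z * r) = _
      rw [map_mul, QuotientGroup.mk'_apply, (QuotientGroup.eq_one_iff z).2 hz, one_mul]
  have hk : f.ker = Subgroup.center N := by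
    ext n
    change QuotientGroup.mk' _ (Subgroup.inclusion hN n) = 1 ↔ _
    rw [QuotientGroup.mk'_apply, QuotientGroup.eq_one_iff, Subgroup.mem_center_iff,
      Subgroup.mem_center_iff]
    refine ⟨fun h1 g => Subgroup.inclusion_injective hN (by rw [map_mul, map_mul, h1]),
      fun h1 r => ?_⟩
    rcases h r with h2 | h2
    · exact congrArg (Subgroup.inclusion hN) (h1 ⟨r, h2⟩)
    · have h3 : z * r * Subgroup.inclusion hN n = Subgroup.inclusion hN n * (z * r) :=
        congrArg (Subgroup.inclusion hN) (h1 ⟨_, h2⟩)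
      rw [← mul_assoc, Subgroup.mem_center_iff.1 hz, mul_assoc, mul_assoc] at h3
      exact mul_left_cancel h3
  exact ⟨(QuotientGroup.quotientKerEquivOfSurjective f hf).symm.trans
    (QuotientGroup.quotientMulEquivOfEq hk)⟩

section Odd

variable {V W : Type*} [AddCommGroup V] [Module (ZMod 3) V] [FiniteDimensional (ZMod 3) V]
  [AddCommGroup W] [Module (ZMod 3) W] [FiniteDimensional (ZMod 3) W]

theorem exists_basis3 {Q : QuadraticForm (ZMod 3) V} (h : (ofQuad Q).Nondeg) {n : ℕ}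
    (hn : finrank (ZMod 3) V = n + 1) : ∃ (b : Basis (Fin (n + 1)) (ZMod 3) V) (c : ZMod 3),
      c ≠ 0 ∧ ∀ i j, pol Q (b i) (b j) = if i = j then if i = Fin.last n then c else 1 else 0 := by
  obtain ⟨b, h1, h2, h3⟩ := (ofQuad_nonAlt (by decide) Q).exists_basis_one_or h hn (-1) (by decide)
  refine ⟨b, pol Q (b (Fin.last n)) (b (Fin.last n)), by rcases h3 with e | e <;> rw [e] <;> decide,
    fun i j => ?_⟩
  split_ifs with e e'
  · rw [← e, e']
  · rw [← e, h2 i e']
  · exact h1 i j e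

theorem isom_of_gram {Q : QuadraticForm (ZMod 3) V} {R : QuadraticForm (ZMod 3) W} {ι : Type*}
    (b : Basis ι (ZMod 3) V) (b' : Basis ι (ZMod 3) W)
    (h : ∀ i j, pol R (b' i) (b' j) = pol Q (b i) (b j)) :
    Nonempty ((ofQuad Q).Isom ≃* (ofQuad R).Isom) := by
  have h1 := (ofQuad Q).B_basis_equiv (ofQuad R) b b' h
  refine ⟨Form.isomCongr _ _ _ h1 fun x => ?_⟩
  have := h1 x x
  rw [pol_self, pol_self] at this
  exact mul_left_cancel₀ (by decide) this

theorem isom_odd {Q : QuadraticForm (ZMod 3) V} {R : QuadraticForm (ZMod 3) W}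
    (hQ : (ofQuad Q).Nondeg) (hR : (ofQuad R).Nondeg) {m : ℕ} (hV : finrank (ZMod 3) V = 2 * m + 1)
    (hW : finrank (ZMod 3) W = 2 * m + 1) : Nonempty ((ofQuad Q).Isom ≃* (ofQuad R).Isom) := by
  have hp : ∀ x y, pol (-Q) x y = -pol Q x y := fun x y => by
    simp only [pol_eq, QuadraticMap.polar, neg_apply]; ring
  obtain ⟨b, c, hc, hb⟩ := exists_basis3 hQ hV
  obtain ⟨b', c', hc', hb'⟩ := exists_basis3 hR hW
  obtain ⟨b'', c'', hc'', hb''⟩ := exists_basis3 (Q := -Q)
    (fun x hx => hQ x fun y => neg_eq_zero.1 ((hp x y).symm.trans (hx y))) hV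
  by_cases e : c = c'
  · exact isom_of_gram b b' fun i j => by rw [hb, hb', e]
  obtain ⟨d, hd⟩ := (ofQuad Q).exists_prod_orth_eq b b'' rfl fun i j hij => by
    have := hb'' i j
    rwa [if_neg hij, hp, neg_eq_zero] at this
  rw [Form.det_gram_orth _ _ fun i j hij => by rw [hb, if_neg hij]] at hd
  have h1 : ∀ i, pol Q (b'' i) (b'' i) = -1 * if i = Fin.last (2 * m) then c'' else 1 := fun i => by
    have := hb'' i i
    rw [if_pos rfl, hp] at this
    rw [← this]; ring
  simp only [hb, h1, if_true, Finset.prod_mul_distrib, Finset.prod_ite_eq', Finset.mem_univ,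
    Finset.prod_const, Finset.card_univ, Fintype.card_fin, pow_succ, pow_mul, RingHom.id_apply] at hd
  have e' : c'' = c' := by
    have := z3_cases hc
    have := z3_cases hc'
    have := z3_cases hc''
    have := z3_all d
    simp at hd
    grind
  obtain ⟨f⟩ := isom_of_gram (Q := -Q) b'' b' fun i j => by rw [hb'', hb', e']
  exact ⟨(MulEquiv.subgroupCongr (by ext g; simp [mem_Isom_ofQuad])).trans f⟩

end Odd

variable {G : Type*} [Group G] [Finite G] {D : Set G}
variable {V : Type} [AddCommGroup V] [Module (ZMod 3) V] {B : V →ₗ[ZMod 3] V →ₗ[ZMod 3] ZMod 3}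

theorem QF.eq_zero (h : QF B) {w : V} (hw : ∀ v, B v v = 1 → B v w = 0) : w = 0 := by
  by_contra h0
  rcases z3_all (B w w) with e | e | e
  · obtain ⟨v, hv⟩ := h.exists_one h0
    have := h.symm v w
    have := hw (v + (B v v - 1) • w) (by simp only [bx, bx']; grind)
    simp only [bx, bx'] at this
    grind
  · have := hw w e
    grind
  · obtain ⟨x, x1, -, -⟩ := h.ex1 (x := w) (u := 0) (by grind) (by simp)
    obtain ⟨y, y1, y2, -⟩ := h.ex1 (x := x) (u := 0) (by grind) (by simp)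
    have := hw x x1
    have := hw y y1
    have := h.symm x w
    have := h.symm y w
    have := h.symm x y
    have := hw (x + y + w) (by simp only [bx]; grind)
    simp only [bx] at this
    grind

theorem o3_final [IsSimpleGroup G] (hna : ∃ x y : G, x * y ≠ y * x) (h : LP D D) (ho : MO D) :
    ∃ m : ℕ, Nonempty (G ≃* Cfsg.POmega (ZMod 3) (Cfsg.quadFormOdd m (ZMod 3))) := by
  obtain ⟨V, _, _, B, φ, ho⟩ := ho
  obtain ⟨p, M⟩ := exists_OP h ho
  have hB := M.qf
  have := hB.fin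
  have hd := hB.dim
  let Q : QuadraticForm (ZMod 3) V := LinearMap.BilinMap.toQuadraticMap B
  have hQ : ∀ v, Q v = B v v := fun _ => rfl
  have hp : ∀ v w, pol Q v w = -B v w := fun v w => by
    have := hB.symm v w
    simp only [pol_eq, QuadraticMap.polar, hQ, bx]; grind
  have hN : (ofQuad Q).Nondeg := fun x hx => hB.nd x fun y => neg_eq_zero.1 ((hp x y).symm.trans (hx y))
  have hr : ∀ v, B v v = 1 → ∀ x, (refl Q v).1 x = rf B v x := fun v hv x => by
    rw [refl_apply, rf_apply, hp, hQ, hv, hB.symm]; simp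
  obtain ⟨ψ, ψ1, ψ2, ψ3, ψ4⟩ := exists_hom_ker_eq_commutator_odd (by decide) hN (by omega)
  let R := Subgroup.closure (reflClass Q 1)
  have hcl : ∀ g, g ∈ reflClass Q 1 ↔ ∃ v, B v v = 1 ∧ g = refl Q v := fun g =>
    ⟨fun ⟨v, t, ht, h1, h2⟩ => ⟨v, by rw [← hQ, h1, one_mul, sq, z3_sq ht], h2⟩,
      fun ⟨v, h1, h2⟩ => ⟨v, 1, one_ne_zero, by rw [hQ, h1]; simp, h2⟩⟩
  have hψ : ∀ v, B v v = 1 → ψ (refl Q v) = (-1, 1) := fun v hv => by
    rw [ψ3 v (by rw [hQ, hv]; decide), hQ, hv, sqSign_eq_one_iff.2 IsSquare.one]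
  have hR : R = ((MonoidHom.snd _ _).comp ψ).ker := by
    have h1 : R ≤ ((MonoidHom.snd _ _).comp ψ).ker := (Subgroup.closure_le _).2 fun g hg => by
      obtain ⟨v, hv, rfl⟩ := (hcl g).1 hg
      simp [hψ v hv]
    have h2 : R.index = 2 := index_closure_reflClass (by decide) hN (by omega) (by omega)
      (fun e => by omega) one_ne_zero
    have h3 : ((MonoidHom.snd _ _).comp ψ).ker.index = 2 := by
      rw [Subgroup.index_ker, MonoidHom.range_eq_top.2 (Prod.snd_surjective.comp ψ1)]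
      simp
    have h4 := Subgroup.relIndex_mul_index h1
    rw [h2, h3] at h4
    exact le_antisymm h1 (Subgroup.relIndex_eq_one.1 (by omega))
  let I := {v : V // B v v = 1}
  letI : MulAction R I :=
    { smul := fun g v => ⟨g.1.1 v.1, (Form.Isom.map_quad g.1 v.1).trans v.2⟩
      one_smul := fun _ => rfl
      mul_smul := fun _ _ _ => rfl }
  have hs : ∀ (g : R) (v : I), (g • v).1 = g.1.1 v.1 := fun _ _ => rfl
  let T : I → R := fun v => ⟨refl Q v.1, Subgroup.subset_closure ((hcl _).2 ⟨v.1, v.2, rfl⟩)⟩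
  have hT : ∀ g v, g * T v * g⁻¹ = T (g • v) := fun g v => Subtype.ext (refl_conj Q g.1 v.1)
  have hT' : ∀ v w, T v = T w ↔ Pm v.1 w.1 := fun v w => by
    constructor
    · intro e
      have h1 := congrArg (fun g : R => g.1.1 v.1) e
      simp only [T, hr _ v.2, hr _ w.2, rf_apply, v.2, one_smul, add_right_inj] at h1
      refine h1 ▸ pm_smul (fun e => ?_) _
      have := v.2
      rw [h1, e] at this
      simp at this
    · rintro (e | e) <;> refine Subtype.ext ?_
      · simp only [T, e]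
      · simp only [T, e]
        rw [← neg_one_smul (ZMod 3), refl_smul Q (by decide)]
  have hZ : Subgroup.center G = ⊥ := (IsSimpleGroup.eq_bot_or_eq_top_of_normal _ inferInstance).resolve_right
    fun e => by
      obtain ⟨x, y, hxy⟩ := hna
      exact hxy (Subgroup.mem_center_iff.1 (e ▸ Subgroup.mem_top y) x)
  obtain ⟨e⟩ := h.tt.recognize hZ (fun v : I => p v.1) (fun v => M.mem _ v.2)
    (fun x hx => let ⟨v, h1, h2⟩ := M.surj x hx; ⟨⟨v, h1⟩, h2⟩) T
    (by
      rw [← Subgroup.closure_closure_coe_preimage]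
      congr 1
      ext g
      exact ⟨by rintro ⟨v, rfl⟩; exact (hcl _).2 ⟨v.1, v.2, rfl⟩, fun hg =>
        let ⟨v, h1, h2⟩ := (hcl _).1 hg; ⟨⟨v, h1⟩, Subtype.ext h2.symm⟩⟩)
    hT (fun v w => (hT' v w).trans (M.eq v.2 w.2).symm)
    fun v w => by rw [M.cj_eq v.2 w.2, hs, hr _ v.2]
  obtain ⟨x, hx⟩ := h.nonempty
  obtain ⟨x, hx, -⟩ := M.surj x hx
  obtain ⟨z, hz, hz'⟩ : ∃ z ∈ Subgroup.center R, (ψ z).1 ≠ 1 := by
    by_contra hc
    push Not at hc
    let χ : G →* ℤˣ := (QuotientGroup.lift (Subgroup.center R)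
      (((MonoidHom.fst _ _).comp ψ).comp R.subtype) hc).comp e.toMonoidHom
    rcases IsSimpleGroup.eq_bot_or_eq_top_of_normal χ.ker inferInstance with h1 | h1
    · obtain ⟨x, y, hxy⟩ := hna
      exact hxy ((MonoidHom.ker_eq_bot_iff χ).1 h1 (by rw [map_mul, map_mul, mul_comm]))
    · have : e.symm (QuotientGroup.mk (T ⟨x, hx⟩)) ∈ χ.ker := h1 ▸ Subgroup.mem_top _
      simp only [χ, MonoidHom.mem_ker, MonoidHom.comp_apply, MulEquiv.coe_toMonoidHom,
        MulEquiv.apply_symm_apply] at this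
      replace this : (ψ (refl Q x)).1 = 1 := this
      rw [hψ x hx] at this
      exact absurd this (by decide)
  have h1 : ∀ v, B v v = 1 → Pm (z.1.1 v) v := fun v hv =>
    (hT' (z • (⟨v, hv⟩ : I)) ⟨v, hv⟩).1 (by
      rw [← hT, ← Subgroup.mem_center_iff.1 hz, mul_inv_cancel_right])
  have h2 : ∀ v w, B (z.1.1 v) (z.1.1 w) = B v w := fun v w =>
    neg_injective (by rw [← hp, ← hp, Form.Isom.map_pol])
  obtain ⟨c, hc, hcx⟩ : ∃ c : ZMod 3, c * c = 1 ∧ z.1.1 x = c • x := by
    rcases h1 x hx with e | e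
    exacts [⟨1, by decide, by simp [e]⟩, ⟨-1, by decide, by simp [e]⟩]
  have h3 : ∀ v, B v v = 1 → z.1.1 v = c • v := fun v hv => by
    obtain ⟨w, hw, e1, e2⟩ := h.adj_closed (U := {y | ∃ w, B w w = 1 ∧ p w = y ∧ z.1.1 w = c • w})
      (by
        rintro _ ⟨w, hw, rfl, e⟩ - y hy hc'
        obtain ⟨u, hu, rfl⟩ := M.surj y hy
        rw [M.comm hw hu, not_or] at hc'
        have h4 := h2 w u
        have := hc'.1
        refine ⟨u, hu, rfl, ?_⟩
        rcases h1 u hu with e' | e' <;> rw [e, e'] at h4 <;> rw [e'] <;>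
          simp only [bx', bx''] at h4 <;> match_scalars <;> grind)
      ⟨x, hx, rfl, hcx⟩ (M.mem x hx) (M.mem v hv)
    rcases (M.eq hv hw).1 e1.symm with e | e <;> simp [e, e2]
  have h4 : ∀ y, z.1.1 y = c • y := fun y => sub_eq_zero.1 (hB.eq_zero fun v hv => by
    have := h2 v y
    rw [h3 v hv] at this
    simp only [bx, bx'] at this ⊢
    grind)
  obtain ⟨m, hm⟩ : Odd (finrank (ZMod 3) V) := by
    by_contra h5
    obtain ⟨m, hm⟩ := Nat.not_odd_iff_even.1 h5
    refine hz' ((ψ4 _).2 (Units.ext ?_))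
    rw [Form.coe_det, show (z.1.1 : V →ₗ[ZMod 3] V) = c • LinearMap.id from LinearMap.ext h4,
      LinearMap.det_smul, hm, ← two_mul, pow_mul, sq, hc]
    simp
  obtain ⟨e1⟩ := quot_center_of_index (N := commutator (ofQuad Q).Isom) (S := R)
    (by rw [hR, ← ψ2]; intro g hg; simp [MonoidHom.mem_ker.1 hg]) hz fun r => by
      have k1 : (ψ r).2 = 1 := (hR ▸ r.2 : r.1 ∈ ((MonoidHom.snd _ _).comp ψ).ker)
      have k2 : (ψ z).2 = 1 := (hR ▸ z.2 : z.1 ∈ ((MonoidHom.snd _ _).comp ψ).ker)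
      simp only [← ψ2, MonoidHom.mem_ker, Subgroup.coe_mul, map_mul, Prod.ext_iff, Prod.fst_mul,
        Prod.snd_mul, k1, k2, (Int.units_eq_one_or _).resolve_left hz']
      rcases Int.units_eq_one_or (ψ r).1 with e | e <;> simp [e]
  obtain ⟨e2⟩ := isom_odd hN (H7.qOdd_nondeg m (F := ZMod 3) (by decide)) hm H7.finrank_odd
  exact ⟨m, ⟨e.trans (e1.trans ((H7.quotCenterCongr (H7.commutatorCongr e2)).trans
    (H7.pOmegaEquiv (H7.qOdd m (ZMod 3))).symm))⟩⟩

end H16
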