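import Mathlib
import Cfsg.Agent.H16.Orbits
import Cfsg.Agent.H16.SmallRec
import Cfsg.Agent.H7.DihQuat

/-! Abstract part of Dickson's classification: a finite group acting on a set the way a subgroup
of `PGL₂(K)` acts on the projective line over an algebraically closed field of characteristic `p`. -/

set_option autoImplicit false

namespace H16

open MulAction

/-- The properties of the action of `PGL₂(K)` on the projective line that the count uses. -/
structure LineAct (p : ℕ) (K : Type*) [Field K] (H X : Type*) [Group H] [MulAction H X] : Prop where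
  exists_fixed : ∀ g : H, ∃ x : X, g • x = x
  unip : ∀ (g : H) (x y : X), g ^ p = 1 → g ≠ 1 → g • x = x → g • y = y → y = x
  semi : ∀ (g : H) (x : X), g ^ p ≠ 1 → g • x = x →
    ∃ y, y ≠ x ∧ g • y = y ∧ ∀ z, g • z = z → z = x ∨ z = y
  chi : ∀ x : X, ∃ χ : stabilizer H x →* Kˣ, ∀ g, χ g = 1 ↔ (g : H) ^ p = 1

namespace LineAct

variable {p : ℕ} {K : Type*} [Field K] {H X : Type*} [Group H] [MulAction H X]

theorem comap {H' : Type*} [Group H'] [MulAction H' X] (L : LineAct p K H X) (φ : H' →* H)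
    (hφ : Function.Injective φ) (hs : ∀ (g : H') (x : X), g • x = φ g • x) :
    LineAct p K H' X where
  exists_fixed g := by simpa only [hs] using L.exists_fixed (φ g)
  unip g x y h1 h2 h3 h4 := L.unip (φ g) x y (by rw [← map_pow, h1, map_one])
    (fun h => h2 (hφ (by rw [h, map_one]))) (hs g x ▸ h3) (hs g y ▸ h4)
  semi g x h1 h2 := by
    simpa only [hs] using L.semi (φ g) x (fun h => h1 (hφ (by rw [map_pow, h, map_one])))
      (hs g x ▸ h2)
  chi x := by
    obtain ⟨χ, hχ⟩ := L.chi x
    let ψ : stabilizer H' x →* stabilizer H x :=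
      (φ.comp (stabilizer H' x).subtype).codRestrict _ (fun g => by
        rw [mem_stabilizer_iff]; exact (hs g x).symm.trans g.2)
    refine ⟨χ.comp ψ, fun g => ?_⟩
    rw [MonoidHom.comp_apply, hχ]
    change φ g ^ p = 1 ↔ _
    rw [← map_pow, map_eq_one_iff _ hφ]

theorem subgroup (L : LineAct p K H X) (S : Subgroup H) : LineAct p K S X :=
  L.comap S.subtype Subtype.val_injective (fun _ _ => rfl)

/-- An element fixing three distinct points is trivial. -/
theorem eq_one_of_three (L : LineAct p K H X) (g : H) {x y z : X} (hxy : x ≠ y) (hxz : x ≠ z)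
    (hyz : y ≠ z) (hx : g • x = x) (hy : g • y = y) (hz : g • z = z) : g = 1 := by
  by_contra hg
  by_cases h : g ^ p = 1
  · exact hxy (L.unip g x y h hg hx hy).symm
  · obtain ⟨w, -, -, hw⟩ := L.semi g x h hx
    rcases hw y hy with h1 | h1
    · exact hxy h1.symm
    · rcases hw z hz with h2 | h2
      · exact hxz h2.symm
      · exact hyz (h1.trans h2.symm)

/-- The unipotent elements fixing `x`. -/
def U (L : LineAct p K H X) (x : X) : Subgroup H where
  carrier := {g | g • x = x ∧ g ^ p = 1}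
  one_mem' := ⟨one_smul _ _, one_pow _⟩
  mul_mem' {a b} ha hb := by
    obtain ⟨χ, hχ⟩ := L.chi x
    refine ⟨by rw [mul_smul, hb.1, ha.1], ?_⟩
    have h1 := (hχ ⟨a, ha.1⟩).2 ha.2
    have h2 := (hχ ⟨b, hb.1⟩).2 hb.2
    exact (hχ (⟨a, ha.1⟩ * ⟨b, hb.1⟩)).1 (by rw [map_mul, h1, h2, one_mul])
  inv_mem' {a} ha := ⟨by rw [inv_smul_eq_iff, ha.1], by rw [inv_pow, ha.2, inv_one]⟩

theorem mem_U (L : LineAct p K H X) {x : X} {g : H} : g ∈ L.U x ↔ g • x = x ∧ g ^ p = 1 := Iff.rfl

theorem U_le (L : LineAct p K H X) (x : X) : L.U x ≤ stabilizer H x := fun _ h => h.1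

theorem conj_mem_U (L : LineAct p K H X) {x : X} {a : H} (g : H) (ha : a ∈ L.U x) :
    g * a * g⁻¹ ∈ L.U (g • x) :=
  ⟨by rw [mul_smul, mul_smul, inv_smul_smul, ha.1], by rw [conj_pow, ha.2]; group⟩

theorem card_U_smul (L : LineAct p K H X) (g : H) (x : X) :
    Nat.card (L.U (g • x)) = Nat.card (L.U x) := by
  have : L.U (g • x) = (L.U x).map (MulAut.conj g).toMonoidHom := by
    ext a
    constructor
    · intro ha
      refine ⟨g⁻¹ * a * g⁻¹⁻¹, ?_, by simp [mul_assoc]⟩
      have := L.conj_mem_U g⁻¹ ha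
      rwa [inv_smul_smul] at this
    · rintro ⟨b, hb, rfl⟩
      exact L.conj_mem_U g hb
  rw [this, Subgroup.card_map_of_injective (MulAut.conj g).injective]

omit [Field K] in
theorem card_stabilizer_smul (g : H) (x : X) :
    Nat.card (stabilizer H (g • x)) = Nat.card (stabilizer H x) := by
  rw [stabilizer_smul_eq_stabilizer_map_conj,
    Subgroup.card_map_of_injective (MulAut.conj g).injective]

variable [hp : Fact p.Prime] [CharP K p] [Finite H]

/-- The structure of a point stabiliser. -/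
theorem exists_k (L : LineAct p K H X) (x : X) :
    ∃ k : ℕ, Nat.card (stabilizer H x) = Nat.card (L.U x) * k ∧ ¬ p ∣ k ∧
      (∀ g : H, g • x = x → g ^ p ≠ 1 → g ^ k = 1) ∧ k ∣ Nat.card (L.U x) - 1 ∧
      (Nat.card (L.U x) = 1 → IsCyclic (stabilizer H x)) := by
  obtain ⟨χ, hχ⟩ := L.chi x
  have hker : χ.ker = (L.U x).subgroupOf (stabilizer H x) := by
    ext g
    rw [MonoidHom.mem_ker, hχ, Subgroup.mem_subgroupOf, mem_U]
    exact ⟨fun h => ⟨g.2, h⟩, fun h => h.2⟩
  have hcard : Nat.card χ.ker = Nat.card (L.U x) := by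
    rw [hker]
    exact Nat.card_congr (Subgroup.subgroupOfEquivOfLe (L.U_le x)).toEquiv
  have : Finite χ.range := Finite.of_surjective _ χ.rangeRestrict_surjective
  have hpow : ∀ g : H, g • x = x → g ^ p ≠ 1 → ∀ n : ℕ, ∀ hg : g ∈ stabilizer H x,
      χ ⟨g, hg⟩ ^ n = 1 → g ^ n = 1 := by
    intro g hg hgp n hg' hn
    obtain ⟨y, hy, hgy, -⟩ := L.semi g x hgp hg
    by_contra hne
    have h1 : (g ^ n) ^ p = 1 := (hχ (⟨g, hg'⟩ ^ n)).1 (by rw [map_pow, hn])
    exact hy (L.unip (g ^ n) x y h1 hne (pow_mem (show g ∈ stabilizer H x from hg) n)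
      (pow_mem (show g ∈ stabilizer H y from hgy) n))
  refine ⟨Nat.card χ.range, ?_, ?_, ?_, ?_, ?_⟩
  · rw [← hcard, ← Subgroup.index_ker, Subgroup.card_mul_index]
  · intro hd
    obtain ⟨c, hc⟩ := exists_prime_orderOf_dvd_card' p hd
    have h1 : ((c : Kˣ) : K) ^ p = 1 := by
      rw [← Units.val_pow_eq_pow_val, ← Subgroup.coe_pow, ← hc, pow_orderOf_eq_one]; rfl
    have h2 : ((c : Kˣ) : K) = 1 := by
      apply frobenius_inj K p
      rw [frobenius_def, h1, map_one]
    have h3 : c = 1 := Subtype.ext (Units.ext h2)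
    rw [h3, orderOf_one] at hc
    exact hp.out.one_lt.ne hc
  · intro g hg hgp
    refine hpow g hg hgp _ hg ?_
    have := pow_card_eq_one' (x := (⟨χ ⟨g, hg⟩, ⟨_, rfl⟩⟩ : χ.range))
    exact congrArg Subtype.val this
  · have hcyc : IsCyclic χ.range := isCyclic_subgroup_units _
    obtain ⟨⟨_, ⟨g, rfl⟩⟩, hc⟩ := hcyc.exists_generator
    have ho : orderOf (χ g) = Nat.card χ.range := by
      rw [← orderOf_eq_card_of_forall_mem_zpowers hc]
      exact Subgroup.orderOf_coe (⟨χ g, ⟨g, rfl⟩⟩ : χ.range)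
    by_cases hgp : (g : H) ^ p = 1
    · rw [← ho, (hχ g).2 hgp, orderOf_one]; exact one_dvd _
    have hog : orderOf (g : H) = Nat.card χ.range := by
      rw [← ho]
      apply Nat.dvd_antisymm
      · exact orderOf_dvd_of_pow_eq_one (hpow g g.2 hgp _ g.2 (pow_orderOf_eq_one _))
      · rw [Subgroup.orderOf_coe]; exact orderOf_map_dvd χ g
    -- `zpowers g` acts semiregularly on the nontrivial unipotent elements by conjugation
    have hdvd := card_dvd_ncard_of_semiregular (G := ConjAct H) (X := H)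
      (Subgroup.zpowers (ConjAct.toConjAct (g : H))) ((L.U x : Set H) \ {1}) (Set.toFinite _) ?_ ?_
    · rw [Set.ncard_sdiff_singleton_of_mem (one_mem _), Nat.card_zpowers] at hdvd
      rw [← hog]
      exact hdvd
    · rintro c ⟨n, rfl⟩ v ⟨hv, hv1⟩
      have hfix : (g : H) ^ n • x = x := zpow_mem g.2 n
      refine ⟨?_, ?_⟩
      · have := L.conj_mem_U ((g : H) ^ n) hv
        rw [hfix] at this
        exact this
      · intro h
        apply hv1
        have h' : (g : H) ^ n * v * ((g : H) ^ n)⁻¹ = 1 := h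
        simpa using h'
    · rintro c ⟨n, rfl⟩ v ⟨hv, hv1⟩ h
      have h' : (g : H) ^ n * v * ((g : H) ^ n)⁻¹ = v := h
      have hfix : (g : H) ^ n • x = x := zpow_mem g.2 n
      obtain ⟨y, hy, hgy, hall⟩ := L.semi g x hgp g.2
      have hfixy : (g : H) ^ n • y = y := zpow_mem (show (g : H) ∈ stabilizer H y from hgy) n
      change (g : H) ^ n = 1
      have hvy : v • y ≠ y := fun h1 => hy (L.unip v x y hv.2 hv1 hv.1 h1)
      have hvx : v • y ≠ x := fun h1 => hy (by rw [← hv.1] at h1; exact smul_left_cancel v h1)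
      refine L.eq_one_of_three _ hy.symm hvx.symm hvy.symm hfix hfixy ?_
      rw [← mul_smul, mul_inv_eq_iff_eq_mul.1 h', mul_smul, hfixy]
  · intro h1
    have hinj : Function.Injective χ := by
      rw [← MonoidHom.ker_eq_bot_iff, ← Subgroup.card_eq_one, hcard, h1]
    exact isCyclic_of_injective_ringHom ((Units.coeHom K).comp χ) (Units.val_injective.comp hinj)

omit [CharP K p] in
theorem p_dvd_card_U (L : LineAct p K H X) (x : X) (h : 2 ≤ Nat.card (L.U x)) :
    p ∣ Nat.card (L.U x) := by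
  have : Nontrivial (L.U x) := Finite.one_lt_card_iff_nontrivial.1 h
  obtain ⟨g, hg⟩ := exists_ne (1 : L.U x)
  have h1 : orderOf g = p := orderOf_eq_prime (Subtype.ext g.2.2) hg
  have h2 := orderOf_dvd_natCard g
  rwa [h1] at h2

omit hp [CharP K p] in
theorem card_U_dvd (L : LineAct p K H X) (x : X) :
    Nat.card (L.U x) ∣ Nat.card (orbit H x) - 1 := by
  have hdvd := card_dvd_ncard_of_semiregular (L.U x) (orbit H x \ {x})
    ((Set.finite_range _).subset Set.sdiff_subset) ?_ ?_
  · rwa [Set.ncard_sdiff_singleton_of_mem (mem_orbit_self x)] at hdvd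
  · rintro g hg y ⟨hy, hyx⟩
    refine ⟨mem_orbit_of_mem_orbit g hy, fun h => hyx ?_⟩
    have h' : g • y = x := h
    rw [← hg.1] at h'
    exact smul_left_cancel g h'
  · rintro g hg y ⟨-, hyx⟩ h
    by_contra hne
    exact hyx (L.unip g x y hg.2 hne hg.1 h)

omit hp [CharP K p] in
theorem finite_moved (L : LineAct p K H X) : {x : X | ∃ g : H, g ≠ 1 ∧ g • x = x}.Finite := by
  have : {x : X | ∃ g : H, g ≠ 1 ∧ g • x = x} = ⋃ g ∈ {g : H | g ≠ 1}, {x | g • x = x} := by
    ext x; simp
  rw [this]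
  refine (Set.toFinite _).biUnion fun g hg => ?_
  obtain ⟨x, hx⟩ := L.exists_fixed g
  by_cases h : g ^ p = 1
  · exact (Set.finite_singleton x).subset fun y hy => L.unip g x y h hg hx hy
  · obtain ⟨y, -, -, hall⟩ := L.semi g x h hx
    exact (Set.toFinite {x, y}).subset fun z hz => hall z hz

omit hp [CharP K p] in
/-- The basic count. -/
theorem count (L : LineAct p K H X) :
    ∑ x ∈ L.finite_moved.toFinset, (Nat.card (stabilizer H x) + Nat.card (L.U x) - 2) + 2 =
      2 * Nat.card H := by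
  classical
  have := Fintype.ofFinite H
  set S := L.finite_moved.toFinset with hS
  let w : H → X → ℕ := fun g x =>
    (if g ≠ 1 ∧ g • x = x then 1 else 0) + (if g ≠ 1 ∧ g • x = x ∧ g ^ p = 1 then 1 else 0)
  have h1 : ∀ x, ∑ g, w g x = Nat.card (stabilizer H x) + Nat.card (L.U x) - 2 := by
    intro x
    have key : ∀ A : Subgroup H, (Finset.univ.filter fun g => g ≠ 1 ∧ g ∈ A).card + 1 =
        Nat.card A := by
      intro A
      have : (Finset.univ.filter fun g => g ≠ 1 ∧ g ∈ A) =
          (Finset.univ.filter fun g => g ∈ A).erase 1 := by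
        ext g; simp
      rw [this, Finset.card_erase_add_one (by simp), Nat.card_eq_fintype_card,
        Fintype.card_subtype]
    have k1 := key (stabilizer H x)
    have k2 := key (L.U x)
    simp only [w, Finset.sum_add_distrib, Finset.sum_boole, Nat.cast_id]
    generalize Nat.card (stabilizer H x) = a at k1 ⊢
    generalize Nat.card (L.U x) = b at k2 ⊢
    simp only [mem_stabilizer_iff, mem_U] at k1 k2
    omega
  have h2 : ∀ g : H, ∑ x ∈ S, w g x = if g = 1 then 0 else 2 := by
    intro g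
    by_cases hg : g = 1
    · simp [w, hg]
    rw [if_neg hg]
    obtain ⟨x, hx⟩ := L.exists_fixed g
    have hmem : ∀ y, g • y = y → y ∈ S := fun y hy => by
      rw [hS, Set.Finite.mem_toFinset]; exact ⟨g, hg, hy⟩
    by_cases h : g ^ p = 1
    · rw [Finset.sum_eq_single_of_mem x (hmem x hx)]
      · simp [w, hg, hx, h]
      · intro y _ hyx
        have : ¬ g • y = y := fun hy => hyx (L.unip g x y h hg hx hy)
        simp [w, this]
    · obtain ⟨y, hyx, hy, hall⟩ := L.semi g x h hx
      rw [Finset.sum_eq_add_of_mem x y (hmem x hx) (hmem y hy) hyx.symm]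
      · simp [w, hg, hx, hy, h]
      · intro z _ hz
        have : ¬ g • z = z := fun h1 => by rcases hall z h1 with h2 | h2 <;> simp [h2] at hz
        simp [w, this]
  rw [← Finset.sum_congr rfl fun x _ => h1 x, Finset.sum_comm, Finset.sum_congr rfl fun g _ => h2 g,
    Finset.sum_ite, Finset.sum_const_zero, zero_add, Finset.sum_const, smul_eq_mul,
    Finset.filter_ne', Finset.card_erase_of_mem (Finset.mem_univ _), Finset.card_univ,
    Nat.card_eq_fintype_card]
  have : 0 < Fintype.card H := Fintype.card_pos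
  omega

omit hp [CharP K p] in
theorem two_le_card_stabilizer_iff (x : X) :
    2 ≤ Nat.card (stabilizer H x) ↔ ∃ g : H, g ≠ 1 ∧ g • x = x := by
  rw [show 2 ≤ Nat.card (stabilizer H x) ↔ 1 < Nat.card (stabilizer H x) from Iff.rfl,
    Finite.one_lt_card_iff_nontrivial, Subgroup.nontrivial_iff_exists_ne_one]
  constructor
  · rintro ⟨g, h1, h2⟩; exact ⟨g, h2, h1⟩
  · rintro ⟨g, h1, h2⟩; exact ⟨g, h2, h1⟩

omit hp [CharP K p] in
/-- The count, over orbit representatives. -/
theorem reps (L : LineAct p K H X) :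
    ∃ R : Finset X, (∀ r ∈ R, 2 ≤ Nat.card (stabilizer H r)) ∧
      (∀ x, 2 ≤ Nat.card (stabilizer H x) → ∃ r ∈ R, x ∈ orbit H r) ∧
      (∀ r ∈ R, ∀ r' ∈ R, r ∈ orbit H r' → r = r') ∧
      ∑ r ∈ R, Nat.card (orbit H r) * (Nat.card (stabilizer H r) + Nat.card (L.U r) - 2) + 2 =
        2 * Nat.card H := by
  obtain ⟨R, h1, h2, h3, h4⟩ := exists_orbit_reps (G := H) L.finite_moved.toFinset (by
    intro g x hx
    rw [Set.Finite.mem_toFinset] at hx ⊢
    have := (two_le_card_stabilizer_iff x).2 hx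
    rw [← card_stabilizer_smul g] at this
    exact (two_le_card_stabilizer_iff _).1 this)
  refine ⟨R, fun r hr => (two_le_card_stabilizer_iff r).2 (by simpa using h1 hr),
    fun x hx => h2 x (by simpa using (two_le_card_stabilizer_iff x).1 hx), h3, ?_⟩
  rw [← h4 _ (fun g x => by rw [card_stabilizer_smul, card_U_smul]), L.count]

end LineAct

end H16
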