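import Mathlib
import Cfsg.Agent.H16.DicksonAbs

/-! The action of `PGL₂(F)` on the projective line over `F` and over its algebraic closure. -/

set_option autoImplicit false

namespace H16

open MulAction Matrix OnePoint
open scoped MatrixGroups

section General

variable {n : Type*} [Fintype n] [DecidableEq n] {F : Type*} [Field F]

theorem pgl_mk_eq_one_iff (g : GL n F) :
    ProjGenLinGroup.mk g = 1 ↔ ∃ a : F, Matrix.scalar n a = (g : Matrix n n F) := by
  rw [ProjGenLinGroup.mk_eq_one, GeneralLinearGroup.mem_center_iff_val_mem_range_scalar]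
  rfl

theorem pgl_mk_eq_of_smul (g h : GL n F) (c : F) (hc : c ≠ 0)
    (hgh : (h : Matrix n n F) = c • (g : Matrix n n F)) :
    ProjGenLinGroup.mk g = ProjGenLinGroup.mk h := by
  rw [ProjGenLinGroup.mk_eq_mk_iff]
  refine ⟨Units.mk0 c hc, Units.ext ?_⟩
  rw [hgh]
  simp [Matrix.scalar_apply, ← Matrix.smul_eq_mul_diagonal]

theorem exists_smul_of_pgl_mk_eq {g h : GL n F}
    (hgh : ProjGenLinGroup.mk g = ProjGenLinGroup.mk h) :
    ∃ c : F, c ≠ 0 ∧ (h : Matrix n n F) = c • (g : Matrix n n F) := by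
  obtain ⟨u, hu⟩ := ProjGenLinGroup.mk_eq_mk_iff.1 hgh
  refine ⟨u, u.ne_zero, ?_⟩
  rw [← hu]
  simp [Matrix.scalar_apply, ← Matrix.smul_eq_mul_diagonal]

theorem pgl_map_injective {K : Type*} [Field K] (f : F →+* K) :
    Function.Injective (ProjGenLinGroup.map (n := n) f) := by
  rw [injective_iff_map_eq_one]
  intro g hg
  induction g using ProjGenLinGroup.induction_on with | mk g =>
  rw [ProjGenLinGroup.map_mk, pgl_mk_eq_one_iff] at hg
  rw [pgl_mk_eq_one_iff]
  obtain ⟨a, ha⟩ := hg
  rcases isEmpty_or_nonempty n with h | ⟨⟨i⟩⟩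
  · exact ⟨1, Subsingleton.elim _ _⟩
  refine ⟨g i i, ?_⟩
  ext j k
  apply f.injective
  have h1 := congrFun (congrFun ha j) k
  have h2 := congrFun (congrFun ha i) i
  rw [GeneralLinearGroup.map_apply] at h1 h2
  rw [← h1]
  simp only [scalar_apply, diagonal_apply_eq] at h2
  by_cases hjk : j = k <;> simp [hjk, diagonal_apply, h2]

instance instFinitePGL [Finite F] : Finite (ProjGenLinGroup n F) :=
  Finite.of_surjective _ ProjGenLinGroup.mk_surjective

end General

section Two

variable {K : Type*} [Field K]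

/-- An invertible `2 × 2` matrix from its entries. -/
noncomputable def gl2 (a b c d : K) (h : a * d - b * c ≠ 0) : GL (Fin 2) K :=
  GeneralLinearGroup.mkOfDetNeZero !![a, b; c, d] (by rwa [det_fin_two_of])

@[simp] theorem gl2_val (a b c d : K) (h : a * d - b * c ≠ 0) :
    (gl2 a b c d h : Matrix (Fin 2) (Fin 2) K) = !![a, b; c, d] := rfl

theorem gl2_det_ne (g : GL (Fin 2) K) : g 0 0 * g 1 1 - g 0 1 * g 1 0 ≠ 0 := by
  have := g.det_ne_zero
  rwa [det_fin_two] at this

theorem pgl2_mk_eq_one_iff (g : GL (Fin 2) K) :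
    ProjGenLinGroup.mk g = 1 ↔ g 0 1 = 0 ∧ g 1 0 = 0 ∧ g 0 0 = g 1 1 := by
  rw [pgl_mk_eq_one_iff]
  constructor
  · rintro ⟨a, ha⟩
    simp [← ha]
  · rintro ⟨h1, h2, h3⟩
    refine ⟨g 0 0, ?_⟩
    ext i j
    fin_cases i <;> fin_cases j <;> simp [h1, h2, h3]

theorem upper_pow (g : GL (Fin 2) K) (h : g 1 0 = 0) (n : ℕ) :
    (g ^ n) 1 0 = 0 ∧ (g ^ n) 0 0 = g 0 0 ^ n ∧ (g ^ n) 1 1 = g 1 1 ^ n ∧
      (g 0 0 = g 1 1 → g 0 0 * (g ^ n) 0 1 = n * g 0 0 ^ n * g 0 1) := by
  induction n with
  | zero => simp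
  | succ n ih =>
    obtain ⟨h1, h2, h3, h4⟩ := ih
    simp only [pow_succ, Units.val_mul, mul_apply, Fin.sum_univ_two, h, h1, h2, h3]
    refine ⟨by ring, by ring, by ring, fun h5 => ?_⟩
    have := h4 h5
    push_cast
    linear_combination (g 1 1) * this + (n * g 0 0 ^ n * g 0 1) * h5.symm

theorem upper_ne_zero (g : GL (Fin 2) K) (h : g 1 0 = 0) : g 0 0 ≠ 0 ∧ g 1 1 ≠ 0 := by
  have := gl2_det_ne g
  rw [h, mul_zero, sub_zero] at this
  exact ⟨left_ne_zero_of_mul this, right_ne_zero_of_mul this⟩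

theorem upper_pow_char_iff (p : ℕ) [Fact p.Prime] [CharP K p] (g : GL (Fin 2) K) (h : g 1 0 = 0) :
    ProjGenLinGroup.mk g ^ p = 1 ↔ g 0 0 = g 1 1 := by
  rw [← map_pow, pgl2_mk_eq_one_iff]
  obtain ⟨h1, h2, h3, h4⟩ := upper_pow g h p
  rw [h1, h2, h3]
  constructor
  · rintro ⟨-, -, h5⟩
    exact frobenius_inj K p h5
  · intro h5
    have h6 := h4 h5
    rw [CharP.cast_eq_zero K p, zero_mul, zero_mul] at h6
    exact ⟨(mul_eq_zero.1 h6).resolve_left (upper_ne_zero g h).1, rfl, by rw [h5]⟩

variable [DecidableEq K]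

noncomputable instance instPGLOnePoint : MulAction PGL(2, K) (OnePoint K) :=
  ProjGenLinGroup.mulActionOfGL fun u a => by
    cases a with
    | infty => simp [smul_infty_eq_ite]
    | coe t => simp [smul_some_eq_ite]

theorem pgl_mk_smul (g : GL (Fin 2) K) (x : OnePoint K) : ProjGenLinGroup.mk g • x = g • x := rfl

theorem upper_smul_coe (g : GL (Fin 2) K) (h : g 1 0 = 0) (t : K) :
    g • (t : OnePoint K) = (((g 0 0 * t + g 0 1) / g 1 1 : K) : OnePoint K) := by
  simp [smul_some_eq_ite, h, (upper_ne_zero g h).2]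

/-- `GL₂(K)` is 3-transitive on the projective line. -/
theorem exists_gl2_three (x y z : OnePoint K) (hxy : x ≠ y) (hxz : x ≠ z) (hyz : y ≠ z) :
    ∃ g : GL (Fin 2) K, g • (∞ : OnePoint K) = x ∧ g • ((0 : K) : OnePoint K) = y ∧
      g • ((1 : K) : OnePoint K) = z := by
  cases x with
  | infty =>
    cases y with
    | infty => exact absurd rfl hxy
    | coe b =>
      cases z with
      | infty => exact absurd rfl hxz
      | coe c =>
        have h : c - b ≠ 0 := sub_ne_zero.2 fun h => hyz (by rw [h])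
        refine ⟨gl2 (c - b) b 0 1 (by simpa using h), ?_, ?_, ?_⟩ <;>
          simp [smul_infty_eq_ite, smul_some_eq_ite]
  | coe a =>
    cases y with
    | infty =>
      cases z with
      | infty => exact absurd rfl hyz
      | coe c =>
        have h : c - a ≠ 0 := sub_ne_zero.2 fun h => hxz (by rw [h])
        refine ⟨gl2 a (c - a) 1 0 (by intro h'; apply h; linear_combination -h'), ?_, ?_, ?_⟩ <;>
          simp [smul_infty_eq_ite, smul_some_eq_ite]
    | coe b =>
      have hab : a - b ≠ 0 := sub_ne_zero.2 fun h => hxy (by rw [h])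
      cases z with
      | infty =>
        refine ⟨gl2 a (-b) 1 (-1) (by intro h; apply hab; linear_combination -h), ?_, ?_, ?_⟩ <;>
          simp [smul_infty_eq_ite, smul_some_eq_ite]
      | coe c =>
        have hac : a - c ≠ 0 := sub_ne_zero.2 fun h => hxz (by rw [h])
        have hcb : c - b ≠ 0 := sub_ne_zero.2 fun h => hyz (by rw [h])
        refine ⟨gl2 ((c - b) * a) ((a - c) * b) (c - b) (a - c) (by
          intro h
          apply mul_ne_zero (mul_ne_zero hab hac) hcb
          linear_combination h), ?_, ?_, ?_⟩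
        · simp [smul_infty_eq_ite, hcb]
        · simp [smul_some_eq_ite, hac]
        · simp [smul_some_eq_ite, hab]
          field_simp
          ring

theorem exists_gl2_one (x : OnePoint K) : ∃ g : GL (Fin 2) K, g • (∞ : OnePoint K) = x := by
  cases x with
  | infty => exact ⟨1, one_smul _ _⟩
  | coe a => exact ⟨gl2 a 1 1 0 (by simp), by simp [smul_infty_eq_ite]⟩

omit [DecidableEq K] in
/-- The ratio of the diagonal entries. -/
noncomputable def diagRatio (g : PGL(2, K)) : K :=
  (ProjGenLinGroup.mk_surjective g).choose 0 0 / (ProjGenLinGroup.mk_surjective g).choose 1 1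

omit [DecidableEq K] in
theorem diagRatio_mk (g : GL (Fin 2) K) : diagRatio (ProjGenLinGroup.mk g) = g 0 0 / g 1 1 := by
  obtain ⟨c, hc, h⟩ := exists_smul_of_pgl_mk_eq
    (ProjGenLinGroup.mk_surjective (ProjGenLinGroup.mk g)).choose_spec
  unfold diagRatio
  rw [h]
  simp [mul_div_mul_left _ _ hc]

theorem lineAct_algClosed (p : ℕ) [Fact p.Prime] [CharP K p] [IsAlgClosed K] :
    LineAct p K PGL(2, K) (OnePoint K) := by
  have hunip : ∀ (g : PGL(2, K)) (y : OnePoint K), g ^ p = 1 → g ≠ 1 → g • (∞ : OnePoint K) = ∞ →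
      g • y = y → y = ∞ := by
    intro g y h1 h2 h3 h4
    induction g using ProjGenLinGroup.induction_on with | mk g =>
    rw [pgl_mk_smul, smul_infty_eq_self_iff] at h3
    rw [upper_pow_char_iff p g h3] at h1
    cases y with
    | infty => rfl
    | coe t =>
      exfalso
      rw [pgl_mk_smul, upper_smul_coe g h3, coe_eq_coe, div_eq_iff (upper_ne_zero g h3).2] at h4
      apply h2
      rw [pgl2_mk_eq_one_iff]
      exact ⟨by linear_combination h4 - t * h1, h3, h1⟩
  have hsemi : ∀ (g : PGL(2, K)), g ^ p ≠ 1 → g • (∞ : OnePoint K) = ∞ →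
      ∃ y : OnePoint K, y ≠ ∞ ∧ g • y = y ∧ ∀ z : OnePoint K, g • z = z → z = ∞ ∨ z = y := by
    intro g h1 h3
    induction g using ProjGenLinGroup.induction_on with | mk g =>
    rw [pgl_mk_smul, smul_infty_eq_self_iff] at h3
    rw [Ne, upper_pow_char_iff p g h3] at h1
    have h4 : g 1 1 - g 0 0 ≠ 0 := sub_ne_zero.2 (Ne.symm h1)
    refine ⟨(g 0 1 / (g 1 1 - g 0 0) : K), coe_ne_infty _, ?_, ?_⟩
    · rw [pgl_mk_smul, upper_smul_coe g h3, coe_eq_coe, div_eq_iff (upper_ne_zero g h3).2]
      field_simp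
      ring
    · intro z hz
      cases z with
      | infty => left; rfl
      | coe t =>
        right
        rw [pgl_mk_smul, upper_smul_coe g h3, coe_eq_coe, div_eq_iff (upper_ne_zero g h3).2] at hz
        rw [coe_eq_coe, eq_div_iff h4]
        linear_combination -hz
  have hchi : ∃ χ : stabilizer PGL(2, K) (∞ : OnePoint K) →* Kˣ,
      ∀ g, χ g = 1 ↔ (g : PGL(2, K)) ^ p = 1 := by
    have hne : ∀ g : stabilizer PGL(2, K) (∞ : OnePoint K), diagRatio (g : PGL(2, K)) ≠ 0 := by
      rintro ⟨g, hg⟩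
      induction g using ProjGenLinGroup.induction_on with | mk g =>
      rw [mem_stabilizer_iff, pgl_mk_smul, smul_infty_eq_self_iff] at hg
      rw [diagRatio_mk]
      exact div_ne_zero (upper_ne_zero g hg).1 (upper_ne_zero g hg).2
    refine ⟨MonoidHom.mk' (fun g => Units.mk0 _ (hne g)) ?_, ?_⟩
    · rintro ⟨g, hg⟩ ⟨h, hh⟩
      induction g using ProjGenLinGroup.induction_on with | mk g =>
      induction h using ProjGenLinGroup.induction_on with | mk h =>
      rw [mem_stabilizer_iff, pgl_mk_smul, smul_infty_eq_self_iff] at hg hh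
      apply Units.ext
      change diagRatio (ProjGenLinGroup.mk g * ProjGenLinGroup.mk h) =
        diagRatio (ProjGenLinGroup.mk g) * diagRatio (ProjGenLinGroup.mk h)
      rw [← map_mul, diagRatio_mk, diagRatio_mk, diagRatio_mk]
      simp [mul_apply, Fin.sum_univ_two, hg, hh, div_mul_div_comm]
    · rintro ⟨g, hg⟩
      induction g using ProjGenLinGroup.induction_on with | mk g =>
      rw [mem_stabilizer_iff, pgl_mk_smul, smul_infty_eq_self_iff] at hg
      rw [upper_pow_char_iff p g hg, Units.ext_iff]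
      change diagRatio (ProjGenLinGroup.mk g) = 1 ↔ _
      rw [diagRatio_mk, div_eq_one_iff_eq (upper_ne_zero g hg).2]
  have htrans : ∀ x : OnePoint K, ∃ γ : PGL(2, K), γ • (∞ : OnePoint K) = x := fun x => by
    obtain ⟨g, hg⟩ := exists_gl2_one x
    exact ⟨ProjGenLinGroup.mk g, hg⟩
  have hfix : ∀ (γ g : PGL(2, K)) (y : OnePoint K), (γ⁻¹ * g * γ) • y = y ↔ g • γ • y = γ • y := by
    intro γ g y
    rw [mul_smul, mul_smul, inv_smul_eq_iff]
  have hpow : ∀ (γ g : PGL(2, K)), (γ⁻¹ * g * γ) ^ p = 1 ↔ g ^ p = 1 := by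
    intro γ g
    have : γ⁻¹ * g * γ = γ⁻¹ * g * γ⁻¹⁻¹ := by rw [inv_inv]
    rw [this, conj_pow, conj_eq_one_iff]
  refine ⟨?_, ?_, ?_, ?_⟩
  · intro g
    induction g using ProjGenLinGroup.induction_on with | mk g =>
    by_cases h : g 1 0 = 0
    · exact ⟨∞, smul_infty_eq_self_iff.2 h⟩
    · obtain ⟨t, ht⟩ := IsAlgClosed.exists_root g.fixpointPolynomial (by
        have : g.fixpointPolynomial.degree = 2 := by
          unfold GeneralLinearGroup.fixpointPolynomial
          compute_degree!
        rw [this]; decide)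
      exact ⟨t, GeneralLinearGroup.fixpointPolynomial_aeval_eq_zero_iff.1 (by simpa using ht)⟩
  · intro g x y h1 h2 h3 h4
    obtain ⟨γ, rfl⟩ := htrans x
    have := hunip (γ⁻¹ * g * γ) (γ⁻¹ • y) ((hpow γ g).2 h1)
      (fun h => h2 (by simpa using (conj_eq_one_iff (a := γ⁻¹) (b := g)).1 (by rwa [inv_inv])))
      ((hfix γ g _).2 h3) ((hfix γ g _).2 (by rw [smul_inv_smul, h4]))
    rw [← this, smul_inv_smul]
  · intro g x h1 h3
    obtain ⟨γ, rfl⟩ := htrans x
    obtain ⟨y, hy1, hy2, hy3⟩ := hsemi (γ⁻¹ * g * γ) (fun h => h1 ((hpow γ g).1 h))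
      ((hfix γ g _).2 h3)
    refine ⟨γ • y, fun h => hy1 (smul_left_cancel γ h), (hfix γ g _).1 hy2, fun z hz => ?_⟩
    rcases hy3 (γ⁻¹ • z) ((hfix γ g _).2 (by rw [smul_inv_smul, hz])) with h | h
    · left; rw [← h, smul_inv_smul]
    · right; rw [← h, smul_inv_smul]
  · intro x
    obtain ⟨γ, rfl⟩ := htrans x
    obtain ⟨χ, hχ⟩ := hchi
    let ψ : stabilizer PGL(2, K) (γ • (∞ : OnePoint K)) →* stabilizer PGL(2, K) (∞ : OnePoint K) :=
      ((MulAut.conj γ⁻¹).toMonoidHom.comp (Subgroup.subtype _)).codRestrict _ (fun g => by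
        rw [mem_stabilizer_iff]
        simpa using (hfix γ g _).2 g.2)
    refine ⟨χ.comp ψ, fun g => ?_⟩
    rw [MonoidHom.comp_apply, hχ, ← hpow γ g]
    simp [ψ]

end Two

/-- The projective line over the algebraic closure of `F`. -/
def PLine (F : Type*) [Field F] : Type _ := OnePoint (AlgebraicClosure F)

section PLine

variable {F : Type*} [Field F]

open scoped Classical in
noncomputable instance instPGLPLine : MulAction PGL(2, F) (PLine F) :=
  MulAction.compHom (OnePoint (AlgebraicClosure F))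
    (ProjGenLinGroup.map (n := Fin 2) (algebraMap F (AlgebraicClosure F)))

theorem lineAct_PLine (p : ℕ) [Fact p.Prime] [CharP F p] :
    LineAct p (AlgebraicClosure F) PGL(2, F) (PLine F) := by
  classical
  exact @LineAct.comap p _ _ _ (OnePoint (AlgebraicClosure F)) _ _ _ _ instPGLPLine
    (lineAct_algClosed p)
    (ProjGenLinGroup.map (algebraMap F (AlgebraicClosure F))) (pgl_map_injective _) (fun _ _ => rfl)

/-- The `F`-rational points. -/
noncomputable def PLine.rat (x : OnePoint F) : PLine F :=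
  OnePoint.map (algebraMap F (AlgebraicClosure F)) x

theorem PLine.rat_injective : Function.Injective (PLine.rat (F := F)) :=
  Option.map_injective (algebraMap F (AlgebraicClosure F)).injective

theorem PLine.smul_rat [DecidableEq F] (g : PGL(2, F)) (x : OnePoint F) :
    g • PLine.rat x = PLine.rat (g • x) := by
  induction g using ProjGenLinGroup.induction_on with | mk g =>
  classical
  exact (OnePoint.map_smul (algebraMap F (AlgebraicClosure F)) g x).symm

/-- An element of `PGL₂(F)` fixing three points of the projective line is trivial. -/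
theorem pgl2_eq_one_of_three [DecidableEq F] (g : PGL(2, F)) {x y z : OnePoint F} (hxy : x ≠ y)
    (hxz : x ≠ z) (hyz : y ≠ z) (hx : g • x = x) (hy : g • y = y) (hz : g • z = z) : g = 1 := by
  obtain ⟨γ, rfl, rfl, rfl⟩ := exists_gl2_three x y z hxy hxz hyz
  induction g using ProjGenLinGroup.induction_on with | mk g =>
  rw [pgl_mk_smul, ← mul_smul, ← inv_smul_eq_iff, ← mul_smul, ← mul_assoc] at hx hy hz
  have h : ProjGenLinGroup.mk (γ⁻¹ * g * γ) = 1 := by
    have h1 := hx
    have h2 := hy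
    have h3 := hz
    generalize γ⁻¹ * g * γ = k at h1 h2 h3
    rw [smul_infty_eq_self_iff] at h1
    rw [upper_smul_coe k h1, coe_eq_coe, div_eq_iff (upper_ne_zero k h1).2] at h2 h3
    rw [pgl2_mk_eq_one_iff]
    exact ⟨by linear_combination h2, h1, by linear_combination h3 - h2⟩
  rw [map_mul, map_mul, map_inv] at h
  exact (conj_eq_one_iff (a := (ProjGenLinGroup.mk γ)⁻¹)).1 (by rwa [inv_inv])

/-- Over a finite field, the fixed point of an element of order `p` is rational. -/
theorem PLine.rat_of_unip [Finite F] (p : ℕ) [hp : Fact p.Prime] [CharP F p] (g : PGL(2, F))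
    (h1 : g ^ p = 1) (h2 : g ≠ 1) (x : PLine F) (hx : g • x = x) : ∃ y, x = PLine.rat y := by
  classical
  have := Fintype.ofFinite F
  obtain ⟨y, hy⟩ := Equiv.Perm.exists_fixed_point_of_prime (p := p) (n := 1) (α := OnePoint F)
    (by
      obtain ⟨k, -, hk⟩ := FiniteField.card F p
      have : Fintype.card (OnePoint F) = Fintype.card F + 1 := Fintype.card_option
      rw [this, hk]
      intro h
      exact hp.out.not_dvd_one ((Nat.dvd_add_right (dvd_pow_self p k.ne_zero)).1 h))
    (σ := toPerm g) (by rw [pow_one, ← toPermHom_apply, ← map_pow, h1, map_one])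
  refine ⟨y, (lineAct_PLine p).unip g _ x h1 h2 ?_ hx⟩
  rw [PLine.smul_rat]
  exact congrArg _ hy

end PLine

end H16
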