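import Mathlib
import Cfsg.Agent.H3.B71Defs
import Cfsg.Agent.H21.FieldCoord

/-!
The field lemma (step FL) in Bender's theorem on strongly embedded subgroups.
-/

set_option autoImplicit false
set_option linter.unusedSectionVars false

namespace H16

open H24 Subgroup H3.B71

theorem fld_aut {F : Type*} [Field F] [Finite F] (σ : F ≃+* F) {p : ℕ} (ho : orderOf σ = p)
    (hfix : ∀ y, σ y = y → y = 0 ∨ y = 1) :
    Nat.card F = 2 ^ p ∧ ∀ φ : F ≃+* F, φ ∈ Subgroup.zpowers σ := by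
  classical
  have := Fintype.ofFinite F
  have : Finite (F ≃+* F) := DFunLike.finite _
  have := Fintype.ofFinite (F ≃+* F)
  let F0 := FixedPoints.subfield (Subgroup.zpowers σ) F
  have h0 : ∀ y : F0, (y : F) = 0 ∨ (y : F) = 1 := fun y =>
    hfix y (y.2 ⟨σ, Subgroup.mem_zpowers σ⟩)
  have h1 : Module.finrank F0 F = p := by
    rw [FixedPoints.finrank_eq_card, Fintype.card_zpowers, ho]
  have h2 : Nat.card F0 = 2 := by
    rw [Nat.card_eq_two_iff]
    refine ⟨0, 1, zero_ne_one, Set.eq_univ_of_forall fun y => ?_⟩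
    rcases h0 y with h | h
    · exact Or.inl (Subtype.ext h)
    · exact Or.inr (Subtype.ext h)
  refine ⟨by rw [← h1, ← h2, Module.natCard_eq_pow_finrank (K := F0)], fun φ => ?_⟩
  obtain ⟨g, hg⟩ := FixedPoints.toAlgAut_surjective (Subgroup.zpowers σ) F
    (AlgEquiv.ofRingEquiv (f := φ) fun y => by
      have : φ (y : F) = y := by rcases h0 y with h | h <;> simp [h]
      exact this)
  have : φ = g := RingEquiv.ext fun x => (DFunLike.congr_fun hg x).symm
  exact this ▸ g.2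

variable {G : Type*} [Group G] [Finite G]

theorem field_lemma {K B : Subgroup G} {J : Set G} {s : G} (hK : Abl K) (hs : s ∈ J)
    (hJ : ∀ z ∈ J, Inv z) (hcomm : ∀ u ∈ J, ∀ z ∈ J, u * z = z * u)
    (hmul : ∀ u ∈ J, ∀ z ∈ J, u ≠ z → u * z ∈ J)
    (hKJ : ∀ k ∈ K, k * s * k⁻¹ ∈ J) (htr : ∀ z ∈ J, ∃ k ∈ K, z = k * s * k⁻¹)
    (hfree : ∀ k ∈ K, k * s = s * k → k = 1) (hB : B ≤ N[K]) (hBs : B ≤ C{s}) :
    Cyc K ∧ ∀ x ∈ B, (orderOf x).Prime → K ≠ ⊥ → K ⊓ C{x} = ⊥ →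
      ♯K + 1 = 2 ^ orderOf x ∧ ∀ g ∈ B, ∃ i : ℕ, g * (x ^ i)⁻¹ ∈ C[K] := by
  classical
  let E : Subgroup G :=
    { carrier := insert 1 J
      one_mem' := Set.mem_insert _ _
      mul_mem' := by
        rintro a b (rfl | ha) (rfl | hb)
        · simp
        · simp [hb]
        · simp [ha]
        · by_cases hab : a = b
          · subst hab; exact Or.inl (hJ a ha).2
          · exact Or.inr (hmul a ha b hb hab)
      inv_mem' := by
        rintro a (rfl | ha)
        · simp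
        · right; rw [(hJ a ha).inv]; exact ha }
  have hE : ∀ z, z ∈ E ↔ z = 1 ∨ z ∈ J := fun _ => Iff.rfl
  have hEa : IsMulCommutative E := abl_iff.2 (le_C_iff.2 fun a ha b hb => by
    rcases ha with rfl | ha
    · simp
    rcases hb with rfl | hb
    · simp
    exact hcomm a ha b hb)
  have hE2 : IsPGroup 2 E := fun z => ⟨1, Subtype.ext (by
    rcases z.2 with h | h
    · simp [h]
    · simpa [pow_two] using (hJ _ h).2)⟩
  have hconj : ∀ g, g * s = s * g → ∀ k, g * (k * s * k⁻¹) * g⁻¹ =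
      (g * k * g⁻¹) * s * (g * k * g⁻¹)⁻¹ := fun g hg k => by
    calc _ = g * k * g⁻¹ * (g * s) * k⁻¹ * g⁻¹ := by group
      _ = _ := by rw [hg]; group
  have hKE : K ≤ N[E] := le_N_iff.2 fun k hk z hz => by
    rcases hz with rfl | hz
    · simp
    obtain ⟨l, hl, rfl⟩ := htr z hz
    have := hKJ _ (K.mul_mem hk hl)
    exact Or.inr (by convert this using 1; group)
  have hBE : B ≤ N[E] := le_N_iff.2 fun g hg z hz => by
    rcases hz with rfl | hz
    · simp
    obtain ⟨l, hl, rfl⟩ := htr z hz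
    rw [hconj g (mem_C1.1 (hBs hg))]
    exact Or.inr (hKJ _ (conj_mem (hB hg) hl))
  have hinj : ∀ k ∈ K, ∀ l ∈ K, k * s * k⁻¹ = l * s * l⁻¹ → k = l := fun k hk l hl e => by
    have := hfree (l⁻¹ * k) (K.mul_mem (K.inv_mem hl) hk) (by
      calc _ = l⁻¹ * (k * s * k⁻¹) * k := by group
        _ = _ := by rw [e]; group)
    exact (inv_mul_eq_one.1 this).symm
  have hs1 : s ≠ 1 := (hJ s hs).1
  obtain ⟨n, hn⟩ := IsPGroup.iff_card.mp hE2
  obtain ⟨F, _, _, hF⟩ := H21.exists_field_of_card Nat.prime_two hn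
    (one_lt_card (ne_bot_of_mem (H := E) (Or.inr hs) hs1))
  obtain ⟨τ, μ, h1, h2, h3, h4, h5, h6, -, h7⟩ := H21.exists_field_coord E K
    (fun _ hk _ hl => hK.comm hk hl) hKE (fun U hU hU1 hUK => by
      refine le_antisymm hU fun z hz => ?_
      rcases hz with rfl | hz
      · exact U.one_mem
      obtain ⟨u, hu, hu1⟩ := exists_ne_one hU1
      obtain ⟨k, hk, rfl⟩ := htr z hz
      obtain ⟨l, hl, rfl⟩ := htr u ((hU hu).resolve_left hu1)
      have := conj_mem (hUK (K.mul_mem hk (K.inv_mem hl))) hu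
      convert this using 1
      group) (v₀ := s) (Or.inr hs) hs1 F hF
  have h0 : τ 0 = 1 := by
    have := h1 0 0
    rwa [add_zero, left_eq_mul] at this
  have h8 : ∀ k ∈ K, k * s * k⁻¹ = τ (μ k) := fun k hk => by rw [← h5, h6 k hk, mul_one]
  have h9 : ∀ k ∈ K, μ k ≠ 0 := fun k hk e => (hJ _ (hKJ k hk)).1 (by rw [h8 k hk, e, h0])
  let f : K →* Fˣ := MonoidHom.mk' (fun k => Units.mk0 (μ k) (h9 k k.2)) fun a b => by
    ext
    apply h2
    change τ (μ (a * b)) = τ (μ a * μ b)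
    rw [← h8 _ (K.mul_mem a.2 b.2), ← h6 _ a.2, ← h8 _ b.2]
    group
  have hf : Function.Bijective f := by
    refine ⟨fun a b e => Subtype.ext (hinj _ a.2 _ b.2 ?_), fun y => ?_⟩
    · rw [h8 _ a.2, h8 _ b.2]
      exact congrArg (fun u : Fˣ => τ u) e
    · obtain ⟨k, hk, e⟩ := htr _ ((h3 y).resolve_left fun h => y.ne_zero (h2 (h.trans h0.symm)))
      exact ⟨⟨k, hk⟩, Units.ext (h2 ((h8 k hk).symm.trans e.symm))⟩
  refine ⟨isCyclic_of_injective f hf.1, fun x hx hp hK1 hKx => ?_⟩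
  have h10 : ∀ g ∈ B, ∃ φ : F ≃+* F, ∀ y, g * τ y * g⁻¹ = τ (φ y) := fun g hg => by
    obtain ⟨φ, c, h⟩ := h7 g (hBE hg) fun a ha => conj_mem (hB hg) ha
    have hc : c = 1 := by
      apply h2
      have := h 1
      rw [map_one, mul_one, h5, mem_C1.1 (hBs hg), mul_inv_cancel_right] at this
      rw [← this, h5]
    exact ⟨φ, fun y => by simpa [hc] using h y⟩
  have h11 : ∀ g ∈ B, ∀ k ∈ K, g * τ (μ k) * g⁻¹ = τ (μ k) → k * g = g * k := fun g hg k hk e => by
    rw [← h8 k hk, hconj g (mem_C1.1 (hBs hg))] at e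
    exact (mul_inv_eq_iff_eq_mul.1 (hinj _ (conj_mem (hB hg) hk) _ hk e)).symm
  obtain ⟨σ, hσ⟩ := h10 x hx
  have hpow : ∀ n : ℕ, ∀ y, x ^ n * τ y * (x ^ n)⁻¹ = τ ((σ ^ n) y) := fun n => by
    induction n with
    | zero => simp
    | succ n ih =>
      intro y
      rw [pow_succ' σ, RingAut.mul_apply, ← hσ, ← ih, pow_succ']
      group
  have hfix : ∀ y, σ y = y → y = 0 ∨ y = 1 := fun y hy => by
    by_cases hy0 : y = 0
    · exact Or.inl hy0
    right
    obtain ⟨k, hk⟩ := hf.2 (Units.mk0 y hy0)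
    have e : μ k = y := congrArg Units.val hk
    have : (k : G) ∈ K ⊓ C{x} := ⟨k.2, mem_C1.2 (h11 x hx _ k.2 (by rw [hσ, e, hy]))⟩
    rw [hKx, mem_bot] at this
    apply h2
    rw [← e, ← h8 _ k.2, this, h5]
    simp
  have := Fact.mk hp
  have ho : orderOf σ = orderOf x := by
    refine orderOf_eq_prime (RingEquiv.ext fun y => h2 ?_) fun h => hK1 ?_
    · rw [← hpow, pow_orderOf_eq_one]; simp
    · rw [← hKx, eq_comm, inf_eq_left]
      exact fun k hk => mem_C1.2 (h11 x hx k hk (by rw [hσ, h]; rfl))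
  obtain ⟨e1, e2⟩ := fld_aut σ ho hfix
  refine ⟨?_, fun g hg => ?_⟩
  · rw [Nat.card_congr (Equiv.ofBijective f hf), Nat.card_units, ← e1]
    have := Nat.card_pos (α := F)
    omega
  · obtain ⟨φ, hφ⟩ := h10 g hg
    have : Finite (F ≃+* F) := DFunLike.finite _
    obtain ⟨i, hi⟩ := mem_powers_iff_mem_zpowers.2 (e2 φ)
    refine ⟨i, mem_C.2 fun k hk => h11 _ (B.mul_mem hg (B.inv_mem (B.pow_mem hx i))) k hk ?_⟩
    obtain ⟨y, hy⟩ := φ.surjective (μ k)
    have e3 : x ^ i * τ y * (x ^ i)⁻¹ = τ (μ k) := by rw [hpow, ← hy, ← hi]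
    rw [← e3]
    calc _ = g * τ y * g⁻¹ := by group
      _ = _ := by rw [hφ, hy, e3]

end H16
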