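import Mathlib
import Cfsg.Agent.H16.B71FL
import Cfsg.Agent.H1.BG38
import Cfsg.Agent.H26.S01a
import Cfsg.Agent.H27.PF14

/-!
Step V0 in Bender's theorem on strongly embedded subgroups.
-/

set_option autoImplicit false
set_option linter.unusedSectionVars false

namespace H16

open H24 H26 Subgroup H3.B71
open scoped commutatorElement

variable {G : Type*} [Group G] [Finite G]

/-- the hypotheses of step V0 -/
structure BV0 (K V : Subgroup G) (I : Set G) (s : G) : Prop where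
  abl : Abl K
  odd : Odd ♯V
  norm : V ≤ N[K]
  cent : V ≤ C{s}
  faith : V ⊓ C[K] = ⊥
  hs : s ∈ I
  hI : ∀ z ∈ I, Inv z
  mul : ∀ u ∈ I, ∀ z ∈ I, u ≠ z → u * z = z * u → u * z ∈ I
  conj : ∀ k ∈ K, k * s * k⁻¹ ∈ I
  tr : ∀ z ∈ I, ∃ k ∈ K, z = k * s * k⁻¹
  free : ∀ k ∈ K, k * s = s * k → k = 1
  good : ∀ y ∈ V, (orderOf y).Prime → ∀ u ∈ I, ∀ z ∈ I, y * u = u * y → y * z = z * y →
      u * z = z * u
  ab : ∀ y ∈ V, (orderOf y).Prime → orderOf y ∣ (⁅V, V⁆).relIndex V → K ⊓ C{y} = ⊥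

namespace BV0

variable {K V : Subgroup G} {I : Set G} {s : G} (h : BV0 K V I s)
include h

theorem sol : Sol V := H27.Feit_Thompson V h.odd

theorem fl {Y B : Subgroup G} (hY : Y ≤ V) (hY1 : Y ≠ ⊥) (hB : B ≤ V) (hBY : B ≤ N[K ⊓ C[Y]]) :
    Cyc (K ⊓ C[Y]) ∧ ∀ x ∈ B, (orderOf x).Prime → K ⊓ C[Y] ≠ ⊥ → K ⊓ C{x} = ⊥ →
      ♯(K ⊓ C[Y]) + 1 = 2 ^ orderOf x ∧ ∀ g ∈ B, ∃ i : ℕ, g * (x ^ i)⁻¹ ∈ C[K ⊓ C[Y]] := by
  obtain ⟨r, hr, hrY⟩ := exists_prime_dvd_card hY1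
  obtain ⟨y, hy, ho⟩ := exists_orderOf_eq hr hrY
  have hsY : s ∈ C[Y] := mem_C_iff_le_C1.2 (hY.trans h.cent)
  have hcomm : ∀ u ∈ {z | z ∈ I ∧ z ∈ C[Y]}, ∀ z ∈ {z | z ∈ I ∧ z ∈ C[Y]}, u * z = z * u :=
    fun u hu z hz => h.good y (hY hy) (ho ▸ hr) u hu.1 z hz.1 (mem_C.1 hu.2 y hy)
      (mem_C.1 hz.2 y hy)
  obtain ⟨h1, h2⟩ := field_lemma (K := K ⊓ C[Y]) (B := B) (J := {z | z ∈ I ∧ z ∈ C[Y]}) (s := s)
    (h.abl.of_le inf_le_left) ⟨h.hs, hsY⟩ (fun z hz => h.hI z hz.1) hcomm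
    (fun u hu z hz hne => ⟨h.mul u hu.1 z hz.1 hne (hcomm u hu z hz), mul_mem hu.2 hz.2⟩)
    (fun k hk => ⟨h.conj k hk.1, mul_mem (mul_mem hk.2 hsY) (inv_mem hk.2)⟩)
    (fun z hz => by
      obtain ⟨k, hk, rfl⟩ := h.tr z hz.1
      refine ⟨k, ⟨hk, mem_C.2 fun a ha => ?_⟩, rfl⟩
      have e1 := mem_C.1 hz.2 a ha
      have e2 := mem_C.1 hsY a ha
      have := h.free (k⁻¹ * (a * k * a⁻¹)) (mul_mem (inv_mem hk) (conj_mem (h.norm (hY ha)) hk)) (by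
        calc _ = k⁻¹ * a * k * a⁻¹ * (s * a) * a⁻¹ := by group
          _ = k⁻¹ * (a * (k * s * k⁻¹)) * k * a⁻¹ := by rw [← e2]; group
          _ = _ := by rw [e1]; group)
      rw [inv_mul_eq_one, eq_comm, mul_inv_eq_iff_eq_mul] at this
      exact this)
    (fun k hk => h.free k hk.1) hBY (hB.trans h.cent)
  exact ⟨h1, fun x hx hp h3 h4 => h2 x hx hp h3 (eq_bot_of_le h4 (inf_le_inf_right _ inf_le_left))⟩

theorem comm_of_fpf {v k : G} (hv : v ∈ V) (hf : K ⊓ C{v} = ⊥) (hk : k ∈ K) :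
    ∃ l ∈ K, k = l * v * l⁻¹ * v⁻¹ := by
  obtain ⟨l, hl, e⟩ := exists_conj_of_fpf (h.norm hv) hf hk
  exact ⟨l, hl, by rw [e, mul_inv_cancel_right]⟩

theorem caseA {x : G} (hx : x ∈ V) (hp : (orderOf x).Prime) (hxV : x ∈ C[V])
    (hfp : ∀ v ∈ V, orderOf v = orderOf x → K ⊓ C{v} = ⊥) {y : G} (hy : y ∈ V) (hy1 : y ≠ 1) :
    K ⊓ C{y} = ⊥ := by
  by_contra hL
  have hX : zpowers x ≤ V := zpowers_le.2 hx
  have key : ∀ v ∈ V, v ≠ 1 → K ⊓ C{v} ≠ ⊥ → ♯(K ⊓ C{v}) + 1 = 2 ^ orderOf x ∧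
      ∀ g ∈ V ⊓ N[K ⊓ C{v}], ∃ i : ℕ, g * (x ^ i)⁻¹ ∈ C[K ⊓ C{v}] := fun v hv hv1 h1 => by
    have := (h.fl (Y := zpowers v) (B := V ⊓ N[K ⊓ C{v}]) (zpowers_le.2 hv)
      (ne_bot_of_mem (mem_zpowers v) hv1) inf_le_left (by rw [C_zpowers]; exact inf_le_right)).2 x
    rw [C_zpowers] at this
    refine this ⟨hx, zpowers_le.1 (norm_inf (hX.trans h.norm) (norm_C1 (zpowers_le.2 ?_)))⟩ hp h1
      (hfp x hx rfl)
    exact C_le_C1 hv hxV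
  obtain ⟨L, hLd⟩ : ∃ L, L = K ⊓ C{y} := ⟨_, rfl⟩
  obtain ⟨hc, hB⟩ := key y hy hy1 hL
  rw [← hLd] at hL hc hB
  have hLK : L ≤ K := hLd ▸ inf_le_left
  have hY : ∀ v ∈ V ⊓ C[L], v ≠ 1 → K ⊓ C{v} = L := fun v hv hv1 => by
    have h1 : L ≤ K ⊓ C{v} := le_inf hLK (mem_C_iff_le_C1.1 hv.2)
    have := (key v hv.1 hv1 (ne_bot_of_le hL h1)).1
    exact (eq_of_card_eq h1 (by omega)).symm
  have hN : ∀ a ∈ V ⊓ C[L], a ≠ 1 → ∀ g ∈ V, g * a * g⁻¹ ∈ V ⊓ C[L] → g ∈ V ⊓ N[L] :=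
    fun a ha ha1 g hg hga => ⟨hg, mem_N_iff_cj.2 (by
      conv_lhs => rw [← hY a ha ha1]
      rw [cj_inf, cj_C1, cj_of_mem_N (h.norm hg), hY _ hga (by simpa using ha1)])⟩
  have hY1 : V ⊓ C[L] ≠ ⊥ :=
    ne_bot_of_mem ⟨hy, mem_C_iff_le_C1.2 (hLd ▸ inf_le_right)⟩ hy1
  have hlt := (h.sol.of_le (inf_le_left (b := C[L]))).der1_lt hY1
  obtain ⟨r, hr, hrY⟩ := Nat.exists_prime_and_dvd
    (n := ⁅V ⊓ C[L], V ⊓ C[L]⁆.relIndex (V ⊓ C[L])) fun e => hlt.not_ge (relIndex_eq_one.1 e)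
  obtain ⟨z, hz, hzr⟩ := exists_orderOf_eq hr (hrY.trans (relIndex_dvd_card _ _))
  have hz1 : K ⊓ C{z} ≠ ⊥ := by
    rw [hY z hz (ne_one_of_orderOf_prime (hzr ▸ hr))]; exact hL
  have hrp : r ≠ orderOf x := fun e => hz1 (hfp z hz.1 (hzr.trans e))
  obtain ⟨R, hR⟩ := Sylow_exists hr (V ⊓ C[L])
  have hYB : V ⊓ C[L] ≤ V ⊓ N[L] := inf_le_inf_left _ (C_le_N L)
  have hxB : x ∈ V ⊓ N[L] := by
    refine ⟨hx, ?_⟩
    rw [hLd]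
    exact zpowers_le.1 (norm_inf (hX.trans h.norm) (norm_C1 (zpowers_le.2 (C_le_C1 hy hxV))))
  have hprod : IsProd (V ⊓ C[L]) (zpowers x) (V ⊓ N[L]) :=
    ⟨hYB, zpowers_le.2 hxB, fun g hg => by
      obtain ⟨i, hi⟩ := hB g hg
      exact ⟨_, ⟨V.mul_mem hg.1 (V.inv_mem (V.pow_mem hx i)), hi⟩, x ^ i, pow_mem (mem_zpowers x) i,
        by group⟩⟩
  have hRB : Syl r (V ⊓ N[L]) R := hR.of_idx hYB ((piNat_compl_singleton hr).2 fun hd => by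
    have := hd.trans hprod.relIndex_dvd
    rw [card_zpowers'] at this
    exact hrp ((Nat.prime_dvd_prime_iff_eq hr hp).1 this))
  obtain ⟨a, ha, ha1⟩ := exists_ne_one (hR.ne_bot hr rfl (hrY.trans (relIndex_dvd_card _ _)))
  have hRV : Syl r V R := Syl.of_norm_le hr hRB inf_le_left fun g hg =>
    hN a (hR.le ha) ha1 g hg.1 (hR.le (conj_mem hg.2 ha))
  have hfoc : R ⊓ ⁅V, V⁆ ≤ ⁅V ⊓ C[L], V ⊓ C[L]⁆ := focal_subgroup_le hr hRV fun b hb u hu hub => by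
    by_cases hb1 : b = 1
    · simp [hb1]
    obtain ⟨c, hc, w, hw, rfl⟩ := hprod.mul u (hN b (hR.le hb) hb1 u hu (hR.le hub))
    have e := conj_eq_of_mem_C (zpowers_le.2 hxV hw) (hR.le hb).1
    have : b⁻¹ * (c * w * b * (c * w)⁻¹) = ⁅b⁻¹, c⁆ := by
      rw [commutatorElement_def]
      calc _ = b⁻¹ * (c * (w * b * w⁻¹) * c⁻¹) := by group
        _ = _ := by rw [e]; group
    rw [this]
    exact commutator_mem_commutator (inv_mem (hR.le hb)) hc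
  refine hz1 (h.ab z hz.1 (hzr ▸ hr) ?_)
  by_contra hnd
  rw [hzr] at hnd
  have h1 : R ≤ ⁅V, V⁆ :=
    le_of_idx_compl (der1_nml V) ((piNat_compl_singleton hr).2 hnd) hRV.pi hRV.le
  exact hR.not_dvd hr (hrY.trans (relIndex_dvd_of_le_left _ ((le_inf le_rfl h1).trans hfoc)))

theorem stepB1 {U X : Subgroup G} {l : ℕ} (hU : U ⊴ V) (hX : X ≤ V) (hp : (♯X).Prime)
    (hc : (♯U).Coprime ♯X) (hf : K ⊓ C[X] = ⊥) {n : G} (hn : n ∈ ⁅U, X⁆) (hn' : PiElt {l}ᶜ n) :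
    n ∈ C[O[{l}, K]] := by
  have hUs : Sol U := h.sol.of_le hU.le
  have hXU : X ≤ N[U] := hX.trans hU.norm
  have hVl : V ≤ N[O[{l}, K]] := norm_pcore _ h.norm
  obtain ⟨J, hJ, hXJ⟩ := coprime_Hall_exists {l}ᶜ hXU hc hUs
  have hcJ : (♯J).Coprime ♯X := hc.coprime_dvd_left (card_dvd hJ.le)
  have hM : J ⊔ X ≤ V := sup_le (hJ.le.trans hU.le) hX
  have hKX : (♯K).Coprime ♯X := (semireg_of_prime hp hf).coprime (hX.trans h.norm)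
  have h1 : ⁅X, J⁆ ≤ J ⊓ C[O[{l}, K]] :=
    H1.odd_prime_sdprod_sol_cent1 (h.sol.of_le hM) (odd_of_le h.odd hM)
      ⟨hXJ, inf_eq_bot_of_cop hcJ, rfl⟩ hcJ hp (h.abl.of_le (pcore_le _ _)).sol (hM.trans hVl)
      (by
        rw [card_sup_of_inf hXJ (inf_eq_bot_of_cop hcJ)]
        exact Nat.Coprime.mul_right ((pcore_pi _ _).coprime hJ.pi)
          (hKX.coprime_dvd_left (card_dvd (pcore_le _ _))))
      (eq_bot_of_le hf (inf_le_inf_right _ (pcore_le _ _)))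
  obtain ⟨C0, hC0⟩ : ∃ C0, C0 = U ⊓ C[O[{l}, K]] := ⟨_, rfl⟩
  have hVC : V ≤ N[C0] := hC0 ▸ norm_inf hU.norm (norm_C hVl)
  have h2 : ⁅quo U C0, quo X C0⁆ ≤ O[{l}, quo U C0] :=
    coprime_comm_pcore (quo_norm _ hXU) (coprime_quo hc _) (hUs.quo _)
      (hJ.quo (hU.le.trans hVC)) ((quo_cents (hJ.le.trans (hU.le.trans hVC)) (hX.trans hVC)).2 (by
        rw [commC, hC0]; exact h1.trans (inf_le_inf_right _ hJ.le)))
  rw [← quo_comm (hU.le.trans hVC) (hX.trans hVC)] at h2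
  have hnN : n ∈ N[C0] := hVC (comm_le_of_le hU.le hX hn)
  have h3 : cs C0 n = 1 :=
    ((pcore_pi _ _).piElt (h2 (cs_mem_quo hn hnN))).eq_one (hn'.ap _ hnN)
  rw [cs_eq_one hnN, hC0] at h3
  exact h3.2

theorem caseB {U P : Subgroup G} {x : G} (hp : (orderOf x).Prime) (hSD : SD U P V)
    (hU : IsPi {orderOf x}ᶜ U) (hP : IsPi {orderOf x} P) (hx : x ∈ P)
    (hfp : ∀ v ∈ V, orderOf x ∣ orderOf v → K ⊓ C{v} = ⊥) (hN1 : ⁅U, zpowers x⁆ ≠ ⊥) :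
    ∃ k₀ ∈ K, k₀ ≠ 1 ∧ ∀ v ∈ V, v ≠ 1 → ∃ l ∈ K, k₀ = l * v * l⁻¹ * v⁻¹ := by
  have hxV : x ∈ V := hSD.right_le hx
  have hX : zpowers x ≤ V := zpowers_le.2 hxV
  have hXp : IsPi {orderOf x} (zpowers x) := hP.of_le (zpowers_le.2 hx)
  have hxK := hfp x hxV dvd_rfl
  have hUV := hSD.nml
  have hXU : zpowers x ≤ N[U] := hX.trans hUV.norm
  have hB1 := fun l n => h.stepB1 (l := l) (n := n) hUV hX (by rwa [card_zpowers'])
    (hU.coprime' hXp) (by rwa [C_zpowers])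
  obtain ⟨M, hM⟩ : ∃ M, M = ⁅U, zpowers x⁆ := ⟨_, rfl⟩
  rw [← hM] at hN1 hB1
  have hMU : M ≤ U := hM ▸ comm_le_left hXU
  have hMV : M ≤ V := hMU.trans hUV.le
  obtain ⟨l, hl, hlM⟩ := exists_prime_dvd_card hN1
  obtain ⟨y, hy, hyl⟩ := exists_orderOf_eq hl hlM
  have hy1 : y ≠ 1 := ne_one_of_orderOf_prime (hyl ▸ hl)
  have hK' : O[{l}ᶜ, K] ≤ C{y} := (h.abl.of_le (pcore_le _ _)).nil.le_of_pcore_le fun r hr hrd =>
    ((pcore_nml _ K).pcore_le _).trans (mem_C_iff_le_C1.1 (hB1 r y hy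
      ((piElt_of_orderOf_prime hl hyl).mono
        (singleton_subset_compl fun e => (pcore_pi {l}ᶜ K).mem hr hrd e.symm))))
  have hcyc : ∀ v ∈ V, v ≠ 1 → Cyc (K ⊓ C{v}) := fun v hv hv1 => by
    have := (h.fl (Y := zpowers v) (B := ⊥) (zpowers_le.2 hv) (ne_bot_of_mem (mem_zpowers v) hv1)
      bot_le bot_le).1
    rwa [C_zpowers] at this
  have hMK' : M ≤ C[O[{l}ᶜ, K]] :=
    (hM ▸ commutator_mono hUV.le hX : M ≤ ⁅V, V⁆).trans (H25.cyc_der1_norm_le_cent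
      ((hcyc y (hMV hy) hy1).of_le (le_inf (pcore_le _ _) hK')) (norm_pcore _ h.norm))
  have hfa : ∀ v ∈ M, v ∈ C[O[{l}, K]] → v = 1 := fun v hv hv' => by
    have : v ∈ V ⊓ C[K] := ⟨hMV hv, by rw [h.abl.nil.C_eq {l}]; exact ⟨hv', hMK' hv⟩⟩
    rwa [h.faith, mem_bot] at this
  have hMl : IsPi {l} M := fun r hr hrd => by
    obtain ⟨n, hn, hnr⟩ := exists_orderOf_eq hr hrd
    by_contra e
    exact ne_one_of_orderOf_prime (hnr ▸ hr) (hfa n hn (hB1 l n hn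
      ((piElt_of_orderOf_prime hr hnr).mono (singleton_subset_compl e))))
  have hKl : O[{l}, K] ≠ ⊥ := fun e => hy1 (hfa y hy (by rw [e, C_bot]; trivial))
  have hK0 := IsPi.inf_C_ne_bot hl hMl (pcore_pi {l} K) (hMV.trans (norm_pcore _ h.norm)) hKl
  obtain ⟨k₀, hk₀, hk₀l⟩ := exists_orderOf_eq hl (((pcore_pi {l} K).inf_left _).dvd_card hK0)
  have hk₀K : k₀ ∈ K := pcore_le _ _ hk₀.1
  have hk₀1 : k₀ ≠ 1 := ne_one_of_orderOf_prime (hk₀l ▸ hl)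
  have hL1 : K ⊓ C[M] ≠ ⊥ := ne_bot_of_mem ⟨hk₀K, hk₀.2⟩ hk₀1
  have hx1 : x ≠ 1 := ne_one_of_orderOf_prime hp
  -- `P = ⟨x⟩` modulo the centraliser
  have hPX : P ≤ N[zpowers x] := H25.cyc_norm
    (H1.odd_regular_pgroup_cyclic hp hP (odd_of_le h.odd hSD.right_le)
      (ne_bot_of_mem hk₀K hk₀1) (hSD.right_le.trans h.norm) fun v hv hv1 =>
        hfp v (hSD.right_le hv) ((hP.piElt hv).dvd_orderOf hv1)) (zpowers_le.2 hx) (norm_self P)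
  have hVM : V ≤ N[M] := by
    rw [← hSD.sup, hM]
    exact sup_le (norm_comm_left _ _) (norm_comm hSD.norm hPX)
  have hVL : V ≤ N[K ⊓ C[M]] := norm_inf h.norm (norm_C hVM)
  obtain ⟨-, hB⟩ := (h.fl hMV hN1 le_rfl hVL).2 x hxV hp hL1 hxK
  obtain ⟨L, hL⟩ : ∃ L, L = K ⊓ C[M] := ⟨_, rfl⟩
  rw [← hL] at hL1 hVL hB
  have hLK : L ≤ K := hL ▸ inf_le_left
  have hnf : ∀ v ∈ C[L], K ⊓ C{v} ≠ ⊥ := fun v hv =>
    ne_bot_of_le hL1 (le_inf hLK (mem_C_iff_le_C1.1 hv))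
  have hprod : IsProd (V ⊓ C[L]) (zpowers x) V :=
    ⟨inf_le_left, hX, fun g hg => by
      obtain ⟨i, hi⟩ := hB g hg
      exact ⟨_, ⟨V.mul_mem hg (V.inv_mem (V.pow_mem hxV i)), hi⟩, x ^ i,
        pow_mem (mem_zpowers x) i, by group⟩⟩
  have hUL : U ≤ V ⊓ C[L] := le_of_idx_compl' (nml_inf_of_norm (norm_C hVL))
    (hXp.piNat.dvd hprod.relIndex_dvd) hU hUV.le
  have hPx : P ≤ zpowers x := fun g hg => by
    obtain ⟨c, hc, w, hw, rfl⟩ := hprod.mul g (hSD.right_le hg)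
    have hcP : c ∈ P := (P.mul_mem_cancel_right (zpowers_le.2 hx hw)).1 hg
    by_cases hc1 : c = 1
    · rwa [hc1, one_mul]
    · exact absurd (hfp c hc.1 ((hP.piElt hcP).dvd_orderOf hc1)) (hnf c hc.2)
  have hV' : ⁅V, V⁆ = ⁅U, U⁆ ⊔ M := by
    have e : V = U ⊔ zpowers x := by rw [← hSD.sup, le_antisymm hPx (zpowers_le.2 hx)]
    rw [e, der1_sup hXU, ← hM, der1_eq_bot.2 (abl_zpowers x), sup_bot_eq]
  have hUV' : U ≤ ⁅V, V⁆ := le_of_idx_compl' (der1_nml V) (fun r hr hrd => by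
    have h1 := hrd.trans (relIndex_dvd_card _ _)
    rw [hSD.card] at h1
    rcases (Nat.Prime.dvd_mul hr).1 h1 with h2 | h2
    · obtain ⟨u, hu, hur⟩ := exists_orderOf_eq hr h2
      exact absurd (h.ab u (hUV.le hu) (hur ▸ hr) (hur ▸ hrd)) (hnf u (hUL hu).2)
    · exact hP.mem hr h2) hU hUV.le
  have hUM : U ≤ M := by
    have hUN : U ≤ N[M] := hUV.le.trans hVM
    rw [← quo_eq_bot hUN]
    by_contra e
    refine (((h.sol.of_le hUV.le).quo M).der1_lt e).not_ge ?_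
    rw [← quo_comm hUN hUN, ← quo_sup_right ((der1_le U).trans hUN), ← hV']
    exact quo_mono _ hUV'
  refine ⟨k₀, hk₀K, hk₀1, fun v hv hv1 => ?_⟩
  by_cases hf : K ⊓ C{v} = ⊥
  · exact h.comm_of_fpf hv hf hk₀K
  have hvM : v ∈ M := hUM (((hSD.hall_left hU (by rwa [compl_compl])).mem_of_nml hUV.norm
    ((piNat_compl_singleton hp).2 fun e => hf (hfp v hv e)) hv))
  have hvK : ∀ k ∈ K, v * k⁻¹ * v⁻¹ ∈ K := fun k hk => conj_mem (h.norm hv) (K.inv_mem hk)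
  let φ : K →* G := MonoidHom.mk' (fun k => k * v * (k : G)⁻¹ * v⁻¹) fun a b => by
    change (a : G) * b * v * ((a : G) * b)⁻¹ * v⁻¹ = a * v * (a : G)⁻¹ * v⁻¹ * (b * v * (b : G)⁻¹ * v⁻¹)
    calc _ = a * (b * (v * (b : G)⁻¹ * v⁻¹) * (v * (a : G)⁻¹ * v⁻¹)) := by group
      _ = _ := by rw [h.abl.comm (K.mul_mem b.2 (hvK _ b.2)) (hvK _ a.2)]; group
  have hW : ∀ w, w ∈ φ.range ↔ ∃ k ∈ K, w = k * v * k⁻¹ * v⁻¹ := fun w =>
    ⟨fun ⟨k, e⟩ => ⟨k, k.2, e.symm⟩, fun ⟨k, hk, e⟩ => ⟨⟨k, hk⟩, e.symm⟩⟩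
  have hWl : φ.range ≤ O[{l}, K] := fun w hw => by
    obtain ⟨k, hk, rfl⟩ := (hW w).1 hw
    obtain ⟨a, ha, b, hb, rfl⟩ := (h.abl.nil.pcoreC {l}).cp.isProd.mul k hk
    have e := conj_eq_of_mem_C (cents_symm hMK' hb) hvM
    have : a * b * v * (a * b)⁻¹ * v⁻¹ = a * (v * a⁻¹ * v⁻¹) := by
      calc _ = a * (b * v * b⁻¹) * a⁻¹ * v⁻¹ := by group
        _ = _ := by rw [e]; group
    rw [this]
    exact mul_mem ha (conj_mem (norm_pcore _ h.norm hv) (inv_mem ha))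
  have hW1 : φ.range ≠ ⊥ := fun e => hv1 (by
    have : v ∈ V ⊓ C[K] := ⟨hv, mem_C.2 fun k hk => by
      have := (hW _).2 ⟨k, hk, rfl⟩
      rwa [e, mem_bot, mul_inv_eq_one, mul_inv_eq_iff_eq_mul] at this⟩
    rwa [h.faith, mem_bot] at this)
  have hvW : zpowers v ≤ N[φ.range] := zpowers_le.2 (mem_N_of_finite fun w hw => by
    obtain ⟨k, hk, rfl⟩ := (hW w).1 hw
    exact (hW _).2 ⟨_, conj_mem (h.norm hv) hk, by group⟩)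
  have hWp := (pcore_pi {l} K).of_le hWl
  have h1 := IsPi.inf_C_ne_bot hl (hMl.piElt hvM).isPi hWp hvW hW1
  rw [C_zpowers] at h1
  have h2 : zpowers k₀ ≤ φ.range ⊓ C{v} := H25.cyc_le_of_card_dvd (hcyc v hv hv1)
    (zpowers_le.2 ⟨hk₀K, C_le_C1 hvM hk₀.2⟩) (inf_le_inf_right _ (hWl.trans (pcore_le _ _)))
    (by rw [card_zpowers', hk₀l]; exact (hWp.inf_left _).dvd_card h1)
  exact (hW _).1 (h2 (mem_zpowers k₀)).1

theorem exists_k0 (hV1 : V ≠ ⊥) :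
    ∃ k₀ ∈ K, k₀ ≠ 1 ∧ ∀ v ∈ V, v ≠ 1 → ∃ l ∈ K, k₀ = l * v * l⁻¹ * v⁻¹ := by
  have hK1 : K ≠ ⊥ := fun e => hV1 (by have := h.faith; rwa [e, C_bot, inf_top_eq] at this)
  obtain ⟨p, hp, hpV⟩ := Nat.exists_prime_and_dvd (n := ⁅V, V⁆.relIndex V)
    fun e => (h.sol.der1_lt hV1).not_ge (relIndex_eq_one.1 e)
  have hfp : ∀ v ∈ V, p ∣ orderOf v → K ⊓ C{v} = ⊥ := fun v hv hd => by
    obtain ⟨w, hw, hwp⟩ := exists_orderOf_eq (H := zpowers v) hp (by rwa [card_zpowers'])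
    exact eq_bot_of_le (h.ab w (zpowers_le.2 hv hw) (hwp ▸ hp) (hwp ▸ hpV))
      (inf_le_inf_left _ (C1_le_C1_of_mem_zpowers hw))
  obtain ⟨P, hP⟩ := Sylow_exists hp V
  have hPc : Cyc P := H1.odd_regular_pgroup_cyclic hp hP.pi (odd_of_le h.odd hP.le) hK1
    (hP.le.trans h.norm) fun v hv hv1 => hfp v (hP.le hv) ((hP.pi.piElt hv).dvd_orderOf hv1)
  have hP' : P ⊓ ⁅V, V⁆ = ⊥ := (cyclic_Sylow_tiVsub_der1 hp hP hPc).resolve_right fun e =>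
    hP.not_dvd hp (hpV.trans (relIndex_dvd_of_le_left _ e))
  have hSD := Burnside_normal_complement hp hP (comm_eq_bot.1 (eq_bot_of_le hP'
    (le_inf (comm_le_right inf_le_right) (commutator_mono inf_le_left hP.le))))
  obtain ⟨x, hx, rfl⟩ := exists_orderOf_eq hp
    (hP.prime_dvd hp rfl (hpV.trans (relIndex_dvd_card _ _)))
  by_cases hN : ⁅O[{orderOf x}ᶜ, V], zpowers x⁆ = ⊥
  · obtain ⟨k, hk, hk1⟩ := exists_ne_one hK1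
    refine ⟨k, hk, hk1, fun v hv hv1 => h.comm_of_fpf hv (h.caseA (hP.le hx) hp ?_
      (fun w hw e => hfp w hw e.symm.dvd) hv hv1) hk⟩
    rw [← hSD.sup, C_sup]
    exact ⟨comm_eq_bot'.1 hN (mem_zpowers x), hPc.abl.le_C hx⟩
  · exact h.caseB hp hSD (pcore_pi _ _) hP.pi hx hfp hN

end BV0

end H16
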