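import Mathlib
import Cfsg.Agent.H16.DicksonAbs

/-! The case analysis in Dickson's classification (abstract form). -/

set_option autoImplicit false

namespace H16

open MulAction

theorem dickson_num_irregular (u a k e : ℕ) (hu : 2 ≤ u) (ha : 1 ≤ a) (hk : k ∣ u - 1)
    (h : e * ((1 + u * a) * (u - 2) + 2) = (1 + u * a) * (u * k)) :
    u = 2 ∨ (3 ≤ u ∧ a = 1 ∧ (k = u - 1 ∨ 2 * k = u - 1)) ∨ (u = 3 ∧ a = 3 ∧ k = 2 ∧ e = 5) := by
  obtain ⟨v, rfl⟩ : ∃ v, u = v + 2 := ⟨u - 2, by omega⟩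
  rcases Nat.eq_zero_or_pos v with rfl | hv
  · left; rfl
  right
  simp only [Nat.add_sub_cancel] at h
  have hk' : k ∣ v + 1 := hk
  have h1 : e * (1 + a * v) = (1 + (v + 2) * a) * k := by
    apply Nat.eq_of_mul_eq_mul_left (show 0 < v + 2 by omega)
    nlinarith
  have hA : (1 + a * v) ∣ 2 * k := by
    have h2 : (1 + a * v) ∣ a * (2 * k) := by
      have h3 : (1 + a * v) ∣ (1 + (v + 2) * a) * k := ⟨e, by rw [← h1]; ring⟩
      have h4 : (1 + (v + 2) * a) * k = (1 + a * v) * k + a * (2 * k) := by ring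
      rw [h4] at h3
      exact (Nat.dvd_add_right (Dvd.intro _ rfl)).1 h3
    refine Nat.Coprime.dvd_of_dvd_mul_left ?_ h2
    simp
  have hkpos : 0 < k := Nat.pos_of_dvd_of_pos hk' (by omega)
  have hkle : k ≤ v + 1 := Nat.le_of_dvd (by omega) hk'
  have hAle : 1 + a * v ≤ 2 * k := Nat.le_of_dvd (by omega) hA
  rcases Nat.lt_or_ge a 3 with h3 | h3
  · have : a = 1 ∨ a = 2 := by omega
    rcases this with rfl | rfl
    · left
      refine ⟨by omega, rfl, ?_⟩
      obtain ⟨c, hc⟩ := hk'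
      have : c ≤ 2 := by
        by_contra hc2
        have : 3 * k ≤ k * c := by nlinarith
        omega
      have hc0 : c ≠ 0 := by rintro rfl; omega
      have : c = 1 ∨ c = 2 := by omega
      rcases this with rfl | rfl <;> omega
    · exfalso
      have : (1 + 2 * v) ∣ k := by
        refine Nat.Coprime.dvd_of_dvd_mul_left ?_ hA
        simp
      have := Nat.le_of_dvd hkpos this
      omega
  · right
    have h5 : a * v ≤ 2 * v + 1 := by omega
    have h6 : v = 1 := by nlinarith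
    subst h6
    have h7 : a = 3 := by omega
    subst h7
    have h8 : k = 2 := by omega
    subst h8
    refine ⟨rfl, rfl, rfl, by omega⟩

theorem dickson_num_sorted (N m1 m2 m3 e1 e2 e3 : ℕ) (h1 : m1 * e1 = N) (h2 : m2 * e2 = N)
    (h3 : m3 * e3 = N) (he1 : 2 ≤ e1) (h12 : e1 ≤ e2) (h23 : e2 ≤ e3)
    (h : m1 + m2 + m3 = N + 2) :
    e1 = 2 ∧ ((e2 = 2 ∧ m3 = 2) ∨ (e2 = 3 ∧ ((e3 = 3 ∧ N = 12) ∨ (e3 = 4 ∧ N = 24) ∨
      (e3 = 5 ∧ N = 60)))) := by
  have a1 : e1 = 2 := by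
    by_contra hc
    have : 3 * m1 ≤ N := by rw [← h1]; nlinarith [show 3 ≤ e1 by omega]
    have : 3 * m2 ≤ N := by rw [← h2]; nlinarith [show 3 ≤ e2 by omega]
    have : 3 * m3 ≤ N := by rw [← h3]; nlinarith [show 3 ≤ e3 by omega]
    omega
  subst a1
  refine ⟨rfl, ?_⟩
  have a2 : e2 ≤ 3 := by
    by_contra hc
    have : 4 * m2 ≤ N := by rw [← h2]; nlinarith [show 4 ≤ e2 by omega]
    have : 4 * m3 ≤ N := by rw [← h3]; nlinarith [show 4 ≤ e3 by omega]
    omega
  have : e2 = 2 ∨ e2 = 3 := by omega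
  rcases this with rfl | rfl
  · left; omega
  · right
    refine ⟨rfl, ?_⟩
    have a3 : e3 ≤ 5 := by
      by_contra hc
      have : 6 * m3 ≤ N := by rw [← h3]; nlinarith [show 6 ≤ e3 by omega]
      omega
    have : e3 = 3 ∨ e3 = 4 ∨ e3 = 5 := by omega
    rcases this with rfl | rfl | rfl <;> omega

theorem dickson_num_regular (N m1 m2 m3 e1 e2 e3 : ℕ) (h1 : m1 * e1 = N) (h2 : m2 * e2 = N)
    (h3 : m3 * e3 = N) (he1 : 2 ≤ e1) (he2 : 2 ≤ e2) (he3 : 2 ≤ e3)
    (h : m1 + m2 + m3 = N + 2) :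
    (m1 = 2 ∧ e2 = 2 ∧ e3 = 2) ∨ (m2 = 2 ∧ e1 = 2 ∧ e3 = 2) ∨ (m3 = 2 ∧ e1 = 2 ∧ e2 = 2) ∨
    (N = 12 ∧ e1 ≤ 3 ∧ e2 ≤ 3 ∧ e3 ≤ 3) ∨ (N = 24 ∧ e1 ≤ 4 ∧ e2 ≤ 4 ∧ e3 ≤ 4) ∨
    (N = 60 ∧ (e1 ≤ 5 ∧ e1 ≠ 4) ∧ (e2 ≤ 5 ∧ e2 ≠ 4) ∧ (e3 ≤ 5 ∧ e3 ≠ 4)) := by
  rcases le_total e1 e2 with a | a <;> rcases le_total e2 e3 with b | b <;>
    rcases le_total e1 e3 with c | c
  · rcases dickson_num_sorted N m1 m2 m3 e1 e2 e3 h1 h2 h3 he1 a b (by omega) with
      ⟨rfl, ⟨rfl, rfl⟩ | ⟨rfl, ⟨rfl, rfl⟩ | ⟨rfl, rfl⟩ | ⟨rfl, rfl⟩⟩⟩ <;> simp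
  · rcases dickson_num_sorted N m1 m2 m3 e1 e2 e3 h1 h2 h3 he1 a b (by omega) with
      ⟨rfl, ⟨rfl, rfl⟩ | ⟨rfl, ⟨rfl, rfl⟩ | ⟨rfl, rfl⟩ | ⟨rfl, rfl⟩⟩⟩ <;> simp
  · rcases dickson_num_sorted N m1 m3 m2 e1 e3 e2 h1 h3 h2 he1 c b (by omega) with
      ⟨rfl, ⟨rfl, rfl⟩ | ⟨rfl, ⟨rfl, rfl⟩ | ⟨rfl, rfl⟩ | ⟨rfl, rfl⟩⟩⟩ <;> simp
  · rcases dickson_num_sorted N m3 m1 m2 e3 e1 e2 h3 h1 h2 he3 c a (by omega) with
      ⟨rfl, ⟨rfl, rfl⟩ | ⟨rfl, ⟨rfl, rfl⟩ | ⟨rfl, rfl⟩ | ⟨rfl, rfl⟩⟩⟩ <;> simp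
  · rcases dickson_num_sorted N m2 m1 m3 e2 e1 e3 h2 h1 h3 he2 a c (by omega) with
      ⟨rfl, ⟨rfl, rfl⟩ | ⟨rfl, ⟨rfl, rfl⟩ | ⟨rfl, rfl⟩ | ⟨rfl, rfl⟩⟩⟩ <;> simp
  · rcases dickson_num_sorted N m2 m3 m1 e2 e3 e1 h2 h3 h1 he2 b c (by omega) with
      ⟨rfl, ⟨rfl, rfl⟩ | ⟨rfl, ⟨rfl, rfl⟩ | ⟨rfl, rfl⟩ | ⟨rfl, rfl⟩⟩⟩ <;> simp
  · rcases dickson_num_sorted N m3 m2 m1 e3 e2 e1 h3 h2 h1 he3 b a (by omega) with
      ⟨rfl, ⟨rfl, rfl⟩ | ⟨rfl, ⟨rfl, rfl⟩ | ⟨rfl, rfl⟩ | ⟨rfl, rfl⟩⟩⟩ <;> simp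
  · rcases dickson_num_sorted N m3 m2 m1 e3 e2 e1 h3 h2 h1 he3 b a (by omega) with
      ⟨rfl, ⟨rfl, rfl⟩ | ⟨rfl, ⟨rfl, rfl⟩ | ⟨rfl, rfl⟩ | ⟨rfl, rfl⟩⟩⟩ <;> simp

namespace LineAct

variable {p : ℕ} {K : Type*} [Field K] {H X : Type*} [Group H] [MulAction H X]
variable [hp : Fact p.Prime] [CharP K p] [Finite H]

omit hp [CharP K p] [Finite H] in
theorem card_stabilizer_of_mem_orbit {x y : X} (h : y ∈ orbit H x) :
    Nat.card (stabilizer H y) = Nat.card (stabilizer H x) := by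
  obtain ⟨g, rfl⟩ := h
  exact card_stabilizer_smul g x

omit hp [CharP K p] [Finite H] in
theorem card_U_of_mem_orbit (L : LineAct p K H X) {x y : X} (h : y ∈ orbit H x) :
    Nat.card (L.U y) = Nat.card (L.U x) := by
  obtain ⟨g, rfl⟩ := h
  exact L.card_U_smul g x

/-- The dihedral case. -/
theorem dihedral (L : LineAct p K H X) (x : X) (hu : Nat.card (L.U x) = 1)
    (hm : Nat.card (orbit H x) = 2)
    (he : ∀ y, 2 ≤ Nat.card (stabilizer H y) → y ∉ orbit H x → Nat.card (stabilizer H y) = 2) :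
    ∃ k, ¬ p ∣ k ∧ Nonempty (H ≃* DihedralGroup k) := by
  obtain ⟨k, hk, hpk, -, -, hcyc⟩ := L.exists_k x
  rw [hu, one_mul] at hk
  obtain ⟨a, ha⟩ := (hcyc hu).exists_generator
  have hoa : orderOf (a : H) = k := by
    rw [Subgroup.orderOf_coe, orderOf_eq_card_of_forall_mem_zpowers ha, hk]
  have hN := card_orbit_mul_card_stabilizer (G := H) x
  rw [hm, hk] at hN
  have hidx : (stabilizer H x).index = 2 := by
    have := (stabilizer H x).index_mul_card
    rw [hk, ← hN] at this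
    exact Nat.eq_of_mul_eq_mul_right (hk ▸ Nat.card_pos) this
  have hnorm := Subgroup.normal_of_index_eq_two hidx
  have hinv : ∀ g : H, g ∉ stabilizer H x → g * g = 1 := by
    intro g hg
    obtain ⟨y, hy⟩ := L.exists_fixed g
    have hg1 : g ≠ 1 := by rintro rfl; exact hg (one_mem _)
    have hyx : y ∉ orbit H x := by
      rintro ⟨c, rfl⟩
      apply hg
      have h1 : c⁻¹ * g * c ∈ stabilizer H x := by
        rw [mem_stabilizer_iff, mul_smul, mul_smul, inv_smul_eq_iff]; exact hy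
      have := hnorm.conj_mem _ h1 c
      simpa [mul_assoc] using this
    have h2 := he y ((two_le_card_stabilizer_iff y).2 ⟨g, hg1, hy⟩) hyx
    have h3 := pow_card_eq_one' (x := (⟨g, hy⟩ : stabilizer H y))
    rw [h2, sq] at h3
    exact congrArg Subtype.val h3
  obtain ⟨s, hs⟩ : ∃ s, s ∉ stabilizer H x := by
    by_contra hc
    push Not at hc
    have : stabilizer H x = ⊤ := by rw [eq_top_iff]; exact fun g _ => hc g
    rw [this, Subgroup.index_top] at hidx; omega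
  have hk0 : k ≠ 0 := by rintro rfl; exact hpk (dvd_zero _)
  refine ⟨k, hpk, H7.nonempty_equiv_dihedral_of_card k hk0 (a : H) s hoa (hinv s hs) ?_ ?_ hN.symm⟩
  · have h1 := hinv (s * a) (fun h => hs (by simpa using mul_mem h (inv_mem a.2)))
    have h2 := hinv s hs
    rw [← inv_eq_iff_mul_eq_one] at h2
    rw [h2, eq_inv_iff_mul_eq_one, ← h1]; group
  · intro h
    exact hs ((Subgroup.zpowers_le.2 a.2) h)

omit hp [CharP K p] in
theorem pow_eq_one_of_fixed {g : H} {y : X} (hy : g • y = y) :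
    g ^ Nat.card (stabilizer H y) = 1 :=
  congrArg Subtype.val (pow_card_eq_one' (x := (⟨g, hy⟩ : stabilizer H y)))

/-- The case without unipotent elements. -/
theorem regular (L : LineAct p K H X) (hu : ∀ x, Nat.card (L.U x) = 1) :
    (IsCyclic H ∧ ¬ p ∣ Nat.card H) ∨ (∃ k, ¬ p ∣ k ∧ Nonempty (H ≃* DihedralGroup k)) ∨
      Nonempty (H ≃* alternatingGroup (Fin 4)) ∨ Nonempty (H ≃* Equiv.Perm (Fin 4)) ∨
      Nonempty (H ≃* alternatingGroup (Fin 5)) := by
  classical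
  obtain ⟨R, h1, h2, h3, h4⟩ := L.reps
  have hme := fun r : X => card_orbit_mul_card_stabilizer (G := H) r
  have hN : 0 < Nat.card H := Nat.card_pos
  have h5 : ∀ r ∈ R, Nat.card (orbit H r) * (Nat.card (stabilizer H r) + Nat.card (L.U r) - 2) +
      Nat.card (orbit H r) = Nat.card H := by
    intro r hr
    rw [hu r, ← hme r]
    obtain ⟨e, he⟩ : ∃ e, Nat.card (stabilizer H r) = e + 1 := ⟨_, (Nat.succ_pred (by
      have := h1 r hr; omega)).symm⟩
    rw [he]; simp; ring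
  have h6 : ∀ r ∈ R, 2 * Nat.card (orbit H r) ≤ Nat.card H := by
    intro r hr
    rw [← hme r, mul_comm]; exact Nat.mul_le_mul_left _ (h1 r hr)
  have hcyc : ∀ x : X, Nat.card (orbit H x) = 1 → IsCyclic H ∧ ¬ p ∣ Nat.card H := by
    intro x hx
    obtain ⟨k, hk, hpk, -, -, hc⟩ := L.exists_k x
    have h7 := hme x
    rw [hx, one_mul] at h7
    have htop : stabilizer H x = ⊤ := Subgroup.eq_top_of_card_eq _ h7
    refine ⟨?_, by rwa [← h7, hk, hu, one_mul]⟩
    have := hc (hu x)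
    rw [htop] at this
    exact isCyclic_of_surjective _ Subgroup.topEquiv.surjective
  have hR : R.card ≤ 3 := by
    by_contra hc
    have : R.card * Nat.card H ≤ 2 * ∑ r ∈ R, Nat.card (orbit H r) *
        (Nat.card (stabilizer H r) + Nat.card (L.U r) - 2) := by
      rw [Finset.mul_sum, ← smul_eq_mul, ← Finset.sum_const]
      refine Finset.sum_le_sum fun r hr => ?_
      have := h5 r hr; have := h6 r hr; omega
    have : 4 * Nat.card H ≤ R.card * Nat.card H := Nat.mul_le_mul_right _ (by omega)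
    omega
  have hpos : ∀ r : X, 0 < Nat.card (orbit H r) := fun r => by
    have := hme r
    rcases Nat.eq_zero_or_pos (Nat.card (orbit H r)) with h | h
    · rw [h] at this; omega
    · exact h
  have hord : ∀ g : H, g ≠ 1 → ∃ r ∈ R, g ^ Nat.card (stabilizer H r) = 1 := by
    intro g hg
    obtain ⟨y, hy⟩ := L.exists_fixed g
    obtain ⟨r, hr, hyr⟩ := h2 y ((two_le_card_stabilizer_iff y).2 ⟨g, hg, hy⟩)
    exact ⟨r, hr, card_stabilizer_of_mem_orbit hyr ▸ pow_eq_one_of_fixed hy⟩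
  interval_cases hc : R.card
  · rw [Finset.card_eq_zero.1 hc, Finset.sum_empty] at h4
    have h7 : Nat.card H = 1 := by omega
    left
    have := (Nat.card_eq_one_iff_unique.1 h7).1
    exact ⟨inferInstance, by rw [h7]; exact hp.out.not_dvd_one⟩
  · obtain ⟨r, rfl⟩ := Finset.card_eq_one.1 hc
    rw [Finset.sum_singleton] at h4
    have := h5 r (by simp); have := h6 r (by simp); have := hpos r
    omega
  · obtain ⟨r, s, hrs, rfl⟩ := Finset.card_eq_two.1 hc
    rw [Finset.sum_pair hrs] at h4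
    have := h5 r (by simp); have := h5 s (by simp); have := hpos r; have := hpos s
    exact Or.inl (hcyc r (by omega))
  · obtain ⟨r, s, t, hrs, hrt, hst, rfl⟩ := Finset.card_eq_three.1 hc
    rw [Finset.sum_insert (by simp [hrs, hrt]), Finset.sum_pair hst] at h4
    have := h5 r (by simp); have := h5 s (by simp); have := h5 t (by simp)
    have hnum := dickson_num_regular (Nat.card H) _ _ _ _ _ _ (hme r) (hme s) (hme t)
      (h1 r (by simp)) (h1 s (by simp)) (h1 t (by simp)) (by omega)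
    have hcases : ∀ y, 2 ≤ Nat.card (stabilizer H y) →
        y ∈ orbit H r ∨ y ∈ orbit H s ∨ y ∈ orbit H t := by
      intro y hy
      simpa using h2 y hy
    have hord' : ∀ g : H, g ≠ 1 → g ^ Nat.card (stabilizer H r) = 1 ∨
        g ^ Nat.card (stabilizer H s) = 1 ∨ g ^ Nat.card (stabilizer H t) = 1 := by
      intro g hg; simpa using hord g hg
    have hle : ∀ (g : H) (n : ℕ), 1 ≤ n → Nat.card (stabilizer H r) ≤ n →
        Nat.card (stabilizer H s) ≤ n → Nat.card (stabilizer H t) ≤ n → orderOf g ≤ n := by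
      intro g n hn a b c
      by_cases hg : g = 1
      · rw [hg, orderOf_one]; exact hn
      rcases hord' g hg with h | h | h
      · exact (orderOf_le_of_pow_eq_one Nat.card_pos h).trans a
      · exact (orderOf_le_of_pow_eq_one Nat.card_pos h).trans b
      · exact (orderOf_le_of_pow_eq_one Nat.card_pos h).trans c
    rcases hnum with h | h | h | h | h | h
    · refine Or.inr (Or.inl (L.dihedral r (hu r) h.1 fun y hy hy' => ?_))
      rcases hcases y hy with h' | h' | h'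
      · exact absurd h' hy'
      · rw [card_stabilizer_of_mem_orbit h', h.2.1]
      · rw [card_stabilizer_of_mem_orbit h', h.2.2]
    · refine Or.inr (Or.inl (L.dihedral s (hu s) h.1 fun y hy hy' => ?_))
      rcases hcases y hy with h' | h' | h'
      · rw [card_stabilizer_of_mem_orbit h', h.2.1]
      · exact absurd h' hy'
      · rw [card_stabilizer_of_mem_orbit h', h.2.2]
    · refine Or.inr (Or.inl (L.dihedral t (hu t) h.1 fun y hy hy' => ?_))
      rcases hcases y hy with h' | h' | h'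
      · rw [card_stabilizer_of_mem_orbit h', h.2.1]
      · rw [card_stabilizer_of_mem_orbit h', h.2.2]
      · exact absurd h' hy'
    · refine Or.inr (Or.inr (Or.inl (equiv_A4 h.1 fun g hg => ?_)))
      have := hle g 3 (by omega) h.2.1 h.2.2.1 h.2.2.2
      omega
    · refine Or.inr (Or.inr (Or.inr (Or.inl (equiv_S4 h.1 fun g hg => ?_))))
      have := hle g 4 (by omega) h.2.1 h.2.2.1 h.2.2.2
      omega
    · refine Or.inr (Or.inr (Or.inr (Or.inr (equiv_A5 h.1 fun g => ?_))))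
      by_cases hg : g = 1
      · left; rw [hg, one_pow]
      have key : ∀ e, 2 ≤ e → e ≤ 5 ∧ e ≠ 4 → g ^ e = 1 → g ^ 2 = 1 ∨ g ^ 3 = 1 ∨ g ^ 5 = 1 := by
        intro e h1 h2 h3
        have : e = 2 ∨ e = 3 ∨ e = 5 := by omega
        rcases this with rfl | rfl | rfl <;> tauto
      rcases hord' g hg with h' | h' | h'
      · exact key _ (h1 r (by simp)) h.2.1 h'
      · exact key _ (h1 s (by simp)) h.2.2.1 h'
      · exact key _ (h1 t (by simp)) h.2.2.2 h'

omit hp [CharP K p] in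
/-- All points with non-trivial unipotent stabiliser lie in one orbit. -/
theorem mem_orbit_of_two_le (L : LineAct p K H X) {x y : X} (hx : 2 ≤ Nat.card (L.U x))
    (hy : 2 ≤ Nat.card (L.U y)) : y ∈ orbit H x := by
  classical
  obtain ⟨R, h1, h2, h3, h4⟩ := L.reps
  have hme := fun r : X => card_orbit_mul_card_stabilizer (G := H) r
  have hle : ∀ z, Nat.card (L.U z) ≤ Nat.card (stabilizer H z) := fun z =>
    Subgroup.card_le_of_le (L.U_le z)
  obtain ⟨r, hr, hxr⟩ := h2 x (hx.trans (hle x))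
  obtain ⟨s, hs, hys⟩ := h2 y (hy.trans (hle y))
  by_cases hrs : r = s
  · subst hrs
    rw [orbit_eq_iff.2 hxr]; exact hys
  exfalso
  have key : ∀ z, 2 ≤ Nat.card (L.U z) → Nat.card H ≤
      Nat.card (orbit H z) * (Nat.card (stabilizer H z) + Nat.card (L.U z) - 2) := by
    intro z hz
    rw [← hme z]
    exact Nat.mul_le_mul_left _ (by omega)
  have := Finset.sum_le_sum_of_subset (f := fun r => Nat.card (orbit H r) *
    (Nat.card (stabilizer H r) + Nat.card (L.U r) - 2))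
    (show ({r, s} : Finset X) ⊆ R by intro z hz; simp at hz; rcases hz with rfl | rfl <;> assumption)
  rw [Finset.sum_pair hrs] at this
  have a := key r (L.card_U_of_mem_orbit hxr ▸ hx)
  have b := key s (L.card_U_of_mem_orbit hys ▸ hy)
  omega

/-- The case with unipotent elements. -/
theorem irregular (L : LineAct p K H X) (x : X) (hx : 2 ≤ Nat.card (L.U x)) :
    Nat.card (orbit H x) = 1 ∨ (p = 2 ∧ ∃ k, ¬ p ∣ k ∧ Nonempty (H ≃* DihedralGroup k)) ∨
      (3 ≤ Nat.card (L.U x) ∧ Nat.card (orbit H x) = Nat.card (L.U x) + 1 ∧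
        (Nat.card (stabilizer H x) = Nat.card (L.U x) * (Nat.card (L.U x) - 1) ∨
          2 * Nat.card (stabilizer H x) = Nat.card (L.U x) * (Nat.card (L.U x) - 1))) ∨
      (p = 3 ∧ Nat.card H = 60 ∧ ∀ g : H, g ^ 2 = 1 ∨ g ^ 3 = 1 ∨ g ^ 5 = 1) := by
  classical
  obtain ⟨R, h1, h2, h3, h4⟩ := L.reps
  have hme := fun r : X => card_orbit_mul_card_stabilizer (G := H) r
  have hN : 0 < Nat.card H := Nat.card_pos
  have hle : ∀ z, Nat.card (L.U z) ≤ Nat.card (stabilizer H z) := fun z =>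
    Subgroup.card_le_of_le (L.U_le z)
  obtain ⟨r, hr, hxr⟩ := h2 x (hx.trans (hle x))
  have hor : orbit H x = orbit H r := orbit_eq_iff.2 hxr
  rw [← Finset.add_sum_erase R _ hr, ← hor, ← card_stabilizer_of_mem_orbit hxr,
    ← L.card_U_of_mem_orbit hxr] at h4
  have hu1 : ∀ s ∈ R.erase r, Nat.card (L.U s) = 1 := by
    intro s hs
    by_contra hc
    have : 0 < Nat.card (L.U s) := Nat.card_pos
    have h5 := L.mem_orbit_of_two_le hx (show 2 ≤ Nat.card (L.U s) by omega)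
    rw [hor] at h5
    exact (Finset.ne_of_mem_erase hs) (h3 s (Finset.mem_of_mem_erase hs) r hr h5)
  have h5 : ∀ s ∈ R.erase r, Nat.card (orbit H s) *
      (Nat.card (stabilizer H s) + Nat.card (L.U s) - 2) + Nat.card (orbit H s) = Nat.card H := by
    intro s hs
    rw [hu1 s hs, ← hme s]
    obtain ⟨e, he⟩ : ∃ e, Nat.card (stabilizer H s) = e + 1 := ⟨_, (Nat.succ_pred (by
      have := h1 s (Finset.mem_of_mem_erase hs); omega)).symm⟩
    rw [he]; simp; ring
  have h6 : ∀ s ∈ R.erase r, 2 * Nat.card (orbit H s) ≤ Nat.card H := by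
    intro s hs
    rw [← hme s, mul_comm]; exact Nat.mul_le_mul_left _ (h1 s (Finset.mem_of_mem_erase hs))
  have h7 : Nat.card (orbit H x) * (Nat.card (stabilizer H x) + Nat.card (L.U x) - 2) =
      Nat.card H + Nat.card (orbit H x) * (Nat.card (L.U x) - 2) := by
    rw [← hme x, Nat.add_sub_assoc hx, mul_add]
  rw [h7] at h4
  have hR : (R.erase r).card ≤ 1 := by
    by_contra hc
    have : (R.erase r).card * Nat.card H ≤ 2 * ∑ r ∈ R.erase r, Nat.card (orbit H r) *
        (Nat.card (stabilizer H r) + Nat.card (L.U r) - 2) := by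
      rw [Finset.mul_sum, ← smul_eq_mul, ← Finset.sum_const]
      refine Finset.sum_le_sum fun r hr => ?_
      have := h5 r hr; have := h6 r hr; omega
    have : 2 * Nat.card H ≤ (R.erase r).card * Nat.card H := Nat.mul_le_mul_right _ (by omega)
    omega
  obtain ⟨k, hk, hpk, hkpow, hkd, -⟩ := L.exists_k x
  have hk0 : k ≠ 0 := by rintro rfl; exact hpk (dvd_zero _)
  obtain ⟨a, ha⟩ := L.card_U_dvd x
  have hmpos : 0 < Nat.card (orbit H x) := by
    have := hme x
    rcases Nat.eq_zero_or_pos (Nat.card (orbit H x)) with h | h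
    · rw [h] at this; omega
    · exact h
  have hm : Nat.card (orbit H x) = 1 + Nat.card (L.U x) * a := by omega
  rcases Nat.eq_zero_or_pos a with rfl | ha0
  · left; simpa using hm
  right
  interval_cases hc : (R.erase r).card
  · exfalso
    rw [Finset.card_eq_zero.1 hc, Finset.sum_empty] at h4
    have h8 := hme x
    have h9 : Nat.card (orbit H x) * Nat.card (L.U x) ≤ Nat.card H := by
      rw [← h8]; exact Nat.mul_le_mul_left _ (hle x)
    obtain ⟨v, hv⟩ : ∃ v, Nat.card (L.U x) = v + 2 := ⟨Nat.card (L.U x) - 2, by omega⟩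
    rw [hv] at h9 h4 hm
    simp only [Nat.add_sub_cancel] at h4
    have : 2 ≤ Nat.card (orbit H x) := by rw [hm]; nlinarith
    nlinarith
  obtain ⟨s, hs⟩ := Finset.card_eq_one.1 hc
  have hsm : s ∈ R.erase r := by rw [hs]; simp
  rw [hs, Finset.sum_singleton] at h4
  have h8 := h5 s hsm
  have hms : Nat.card (orbit H s) = Nat.card (orbit H x) * (Nat.card (L.U x) - 2) + 2 := by omega
  have hcases : ∀ y, 2 ≤ Nat.card (stabilizer H y) → y ∈ orbit H x ∨ y ∈ orbit H s := by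
    intro y hy
    obtain ⟨t, ht, hyt⟩ := h2 y hy
    by_cases htr : t = r
    · left; rw [hor, ← htr]; exact hyt
    · right
      have : t ∈ R.erase r := Finset.mem_erase.2 ⟨htr, ht⟩
      rw [hs, Finset.mem_singleton] at this
      exact this ▸ hyt
  have hpu := L.p_dvd_card_U x hx
  have hnum := dickson_num_irregular (Nat.card (L.U x)) a k (Nat.card (stabilizer H s)) hx ha0 hkd
    (by rw [← hm, ← hk, ← hms, hme x, mul_comm, hme s])
  rcases hnum with h | h | h
  · left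
    rw [h] at hpu hkd hms hk
    have hp2 : p = 2 := (Nat.prime_dvd_prime_iff_eq hp.out Nat.prime_two).1 hpu
    have hk1 : k = 1 := Nat.dvd_one.1 hkd
    refine ⟨hp2, L.dihedral s (hu1 s hsm) (by simpa using hms) fun y hy hy' => ?_⟩
    rw [card_stabilizer_of_mem_orbit ((hcases y hy).resolve_right hy'), hk, hk1]
  · right; left
    obtain ⟨h9, rfl, h10⟩ := h
    refine ⟨h9, by omega, ?_⟩
    rcases h10 with h10 | h10
    · left; rw [hk, h10]
    · right; rw [hk, ← h10]; ring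
  · right; right
    obtain ⟨h9, rfl, rfl, h10⟩ := h
    rw [h9] at hpu hm hk
    have hp3 : p = 3 := (Nat.prime_dvd_prime_iff_eq hp.out Nat.prime_three).1 hpu
    refine ⟨hp3, by rw [← hme x, hm, hk], fun g => ?_⟩
    by_cases hg : g = 1
    · left; rw [hg, one_pow]
    obtain ⟨y, hy⟩ := L.exists_fixed g
    rcases hcases y ((two_le_card_stabilizer_iff y).2 ⟨g, hg, hy⟩) with h' | h'
    · by_cases h3 : g ^ p = 1
      · right; left; rwa [hp3] at h3
      · left
        obtain ⟨c, rfl⟩ := h'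
        have h11 := hkpow (c⁻¹ * g * c) (by rw [mul_smul, mul_smul, inv_smul_eq_iff]; exact hy)
          (by
            intro h12
            apply h3
            have : (c⁻¹ * g * c⁻¹⁻¹) ^ p = 1 := by rwa [inv_inv]
            rw [conj_pow] at this
            exact conj_eq_one_iff.1 this)
        have : (c⁻¹ * g * c⁻¹⁻¹) ^ 2 = 1 := by rwa [inv_inv]
        rw [conj_pow] at this
        exact conj_eq_one_iff.1 this
    · right; right
      rw [← h10, ← card_stabilizer_of_mem_orbit h']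
      exact pow_eq_one_of_fixed hy

end LineAct

end H16
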