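import Mathlib
import Cfsg.Agent.H16.DicksonCases
import Cfsg.Agent.H16.PGL2Line
import Cfsg.Agent.H7.SL

/-! Dickson's classification of the subgroups of `PGL₂(F)`, `F` a finite field. -/

set_option autoImplicit false

namespace H16

open MulAction Matrix OnePoint
open scoped MatrixGroups

variable {F : Type*} [Field F]

/-- The translation `t ↦ t + b` in `PGL₂(F)`. -/
noncomputable def transl (b : F) : PGL(2, F) := ProjGenLinGroup.mk (gl2 1 b 0 1 (by simp))

/-- The dilation `t ↦ a t` in `PGL₂(F)`. -/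
noncomputable def dil (a : Fˣ) : PGL(2, F) := ProjGenLinGroup.mk (gl2 (a : F) 0 0 1 (by simp))

theorem transl_add (a b : F) : transl (a + b) = transl a * transl b := by
  unfold transl
  rw [← map_mul]
  congr 1
  ext i j
  fin_cases i <;> fin_cases j <;> simp [mul_apply, Fin.sum_univ_two, add_comm]

theorem transl_zero : transl (0 : F) = 1 := by
  rw [transl, pgl2_mk_eq_one_iff]; simp

theorem transl_neg (a : F) : transl (-a) = (transl a)⁻¹ := by
  rw [eq_inv_iff_mul_eq_one, ← transl_add, neg_add_cancel, transl_zero]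

theorem transl_eq_one_iff (a : F) : transl a = 1 ↔ a = 0 := by
  rw [transl, pgl2_mk_eq_one_iff]; simp

theorem transl_injective : Function.Injective (transl (F := F)) := by
  intro a b h
  have : transl (a - b) = 1 := by rw [sub_eq_add_neg, transl_add, transl_neg, h, mul_inv_cancel]
  exact sub_eq_zero.1 ((transl_eq_one_iff _).1 this)

theorem dil_mul (a b : Fˣ) : dil (a * b) = dil a * dil b := by
  unfold dil
  rw [← map_mul]
  congr 1
  ext i j
  fin_cases i <;> fin_cases j <;> simp [mul_apply, Fin.sum_univ_two]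

theorem dil_eq_one_iff (a : Fˣ) : dil a = 1 ↔ a = 1 := by
  rw [dil, pgl2_mk_eq_one_iff]; simp

theorem dil_inv (a : Fˣ) : dil a⁻¹ = (dil a)⁻¹ := by
  rw [eq_inv_iff_mul_eq_one, ← dil_mul, inv_mul_cancel, dil_eq_one_iff]

theorem dil_mul_transl (a : Fˣ) (b : F) : dil a * transl b = transl (a * b) * dil a := by
  unfold dil transl
  rw [← map_mul, ← map_mul]
  congr 1
  ext i j
  fin_cases i <;> fin_cases j <;> simp [mul_apply, Fin.sum_univ_two]

theorem upper_eq_transl_mul_dil (g : GL (Fin 2) F) (h : g 1 0 = 0) :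
    ProjGenLinGroup.mk g = transl (g 0 1 / g 1 1) *
      dil (Units.mk0 (g 0 0 / g 1 1) (div_ne_zero (upper_ne_zero g h).1 (upper_ne_zero g h).2)) := by
  unfold dil transl
  rw [← map_mul]
  have h2 := (upper_ne_zero g h).2
  refine pgl_mk_eq_of_smul _ _ (g 1 1)⁻¹ (inv_ne_zero h2) ?_
  ext i j
  fin_cases i <;> fin_cases j <;> simp [mul_apply, Fin.sum_univ_two, h, h2, div_eq_inv_mul]

theorem transl_pow_char (p : ℕ) [Fact p.Prime] [CharP F p] (b : F) : transl b ^ p = 1 := by
  rw [transl, upper_pow_char_iff p _ (by simp)]; simp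

section
variable [DecidableEq F]

theorem transl_smul_infty (b : F) : transl b • (∞ : OnePoint F) = ∞ := by
  simp [transl, pgl_mk_smul, smul_infty_eq_ite]

theorem transl_smul_coe (b t : F) : transl b • (t : OnePoint F) = ((t + b : F) : OnePoint F) := by
  simp [transl, pgl_mk_smul, smul_some_eq_ite]

theorem dil_smul_infty (a : Fˣ) : dil a • (∞ : OnePoint F) = ∞ := by
  simp [dil, pgl_mk_smul, smul_infty_eq_ite]

theorem dil_smul_coe (a : Fˣ) (t : F) : dil a • (t : OnePoint F) = ((a * t : F) : OnePoint F) := by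
  simp [dil, pgl_mk_smul, smul_some_eq_ite]

theorem exists_transl_mul_dil (g : PGL(2, F)) (h : g • (∞ : OnePoint F) = ∞) :
    ∃ (b : F) (a : Fˣ), g = transl b * dil a := by
  induction g using ProjGenLinGroup.induction_on with | mk g =>
  rw [pgl_mk_smul, smul_infty_eq_self_iff] at h
  exact ⟨_, _, upper_eq_transl_mul_dil g h⟩

theorem exists_transl_of_unip (p : ℕ) [Fact p.Prime] [CharP F p] (g : PGL(2, F))
    (h : g • (∞ : OnePoint F) = ∞) (hp : g ^ p = 1) : ∃ b : F, g = transl b := by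
  induction g using ProjGenLinGroup.induction_on with | mk g =>
  rw [pgl_mk_smul, smul_infty_eq_self_iff] at h
  rw [upper_pow_char_iff p g h] at hp
  refine ⟨g 0 1 / g 1 1, ?_⟩
  rw [upper_eq_transl_mul_dil g h, (dil_eq_one_iff _).2, mul_one]
  ext; simp [hp, (upper_ne_zero g h).2]

/-- An element sending `∞, 0, 1` into the subline over a subfield is defined over the subfield. -/
theorem mem_range_map_of_three {L : Type*} [Field L] (f : L →+* F) (g : PGL(2, F))
    (h1 : g • (∞ : OnePoint F) ∈ Set.range (OnePoint.map f))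
    (h2 : g • ((0 : F) : OnePoint F) ∈ Set.range (OnePoint.map f))
    (h3 : g • ((1 : F) : OnePoint F) ∈ Set.range (OnePoint.map f)) :
    g ∈ (ProjGenLinGroup.map (n := Fin 2) f).range := by
  classical
  obtain ⟨x, hx⟩ := h1
  obtain ⟨y, hy⟩ := h2
  obtain ⟨z, hz⟩ := h3
  have h01 : ((0 : F) : OnePoint F) ≠ ((1 : F) : OnePoint F) := by simp
  obtain ⟨k, k1, k2, k3⟩ := exists_gl2_three x y z
    (by rintro rfl; exact infty_ne_coe _ (smul_left_cancel g (hx.symm.trans hy)))
    (by rintro rfl; exact infty_ne_coe _ (smul_left_cancel g (hx.symm.trans hz)))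
    (by rintro rfl; exact h01 (smul_left_cancel g (hy.symm.trans hz)))
  refine ⟨ProjGenLinGroup.mk k, ?_⟩
  rw [eq_comm, ← mul_inv_eq_one, ← conj_eq_one_iff (a := g⁻¹), inv_inv]
  simp only [← mul_assoc, inv_mul_cancel, one_mul]
  refine pgl2_eq_one_of_three _ (infty_ne_coe (0 : F)) (infty_ne_coe (1 : F)) h01 ?_ ?_ ?_
  · rw [mul_smul, inv_smul_eq_iff, ← hx, ← k1, OnePoint.map_smul]; rfl
  · rw [mul_smul, inv_smul_eq_iff, ← hy, ← k2, OnePoint.map_smul]; simp [pgl_mk_smul]
  · rw [mul_smul, inv_smul_eq_iff, ← hz, ← k3, OnePoint.map_smul]; simp [pgl_mk_smul]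

end

theorem card_pgl_two [Finite F] : Nat.card PGL(2, F) = Nat.card F * (Nat.card F ^ 2 - 1) := by
  have := Fintype.ofFinite F
  rw [H7.card_pgl_eq_card_sl, H7.card_sl_two rfl, Nat.card_eq_fintype_card]

theorem card_psl_two' [Finite F] :
    Nat.gcd 2 (Nat.card F - 1) * Nat.card PSL(2, F) = Nat.card F * (Nat.card F ^ 2 - 1) := by
  have := Fintype.ofFinite F
  rw [Nat.card_eq_fintype_card (α := F), H7.card_psl_two rfl]

/-- In odd characteristic, a subgroup of index 2 of `PGL₂(F)` is the image of `PSL₂(F)`. -/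
theorem eq_range_toPGL_of_index_two [Finite F] (hodd : Odd (Nat.card F)) (H : Subgroup PGL(2, F))
    (hH : H.index = 2) : H = (ProjectiveSpecialLinearGroup.toPGL (n := Fin 2) (R := F)).range := by
  have h2 : (2 : F) ≠ 0 := by
    have := Fintype.ofFinite F
    intro h
    have h1 : ringChar F = 2 := by
      have := (ringChar.spec F 2).1 (by exact_mod_cast h)
      rcases (Nat.dvd_prime Nat.prime_two).1 this with h3 | h3
      · exact absurd h3 CharP.ringChar_ne_one
      · exact h3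
    have := FiniteField.even_card_iff_char_two.1 h1
    rw [Nat.card_eq_fintype_card, Nat.odd_iff] at hodd
    omega
  symm
  apply Subgroup.eq_of_le_of_card_ge
  · rintro _ ⟨g, rfl⟩
    induction g using QuotientGroup.induction_on with | H g =>
    refine SL2.transvection_induction
      (fun A : SL(2, F) => ProjectiveSpecialLinearGroup.toPGL (A : PSL(2, F)) ∈ H) ?_ ?_ g
    · intro i j h c
      have : c = c / 2 + c / 2 := by field_simp; ring
      rw [this, SpecialLinearGroup.transvection_add, QuotientGroup.mk_mul, map_mul, ← sq]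
      exact Subgroup.sq_mem_of_index_two hH _
    · intro A B hA hB
      rw [QuotientGroup.mk_mul, map_mul]
      exact mul_mem hA hB
  · have h3 := H.index_mul_card
    have h4 := card_psl_two' (F := F)
    rw [← card_pgl_two, ← h3, hH] at h4
    have h5 : Nat.gcd 2 (Nat.card F - 1) = 2 := by
      apply Nat.gcd_eq_left
      obtain ⟨k, hk⟩ := hodd
      exact ⟨k, by omega⟩
    rw [h5] at h4
    rw [← Nat.card_congr (MonoidHom.ofInjective
      ProjectiveSpecialLinearGroup.toPGL_injective).toEquiv]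
    omega

/-- The normalised form of the large case of Dickson's theorem. -/
theorem dickson_normalized [Finite F] [DecidableEq F] (p : ℕ) [hp : Fact p.Prime] [CharP F p]
    (H : Subgroup PGL(2, F)) (hb : ∃ b : F, b ≠ 0 ∧ transl b ∈ H)
    (h0 : ∃ g ∈ H, g • (∞ : OnePoint F) = ((0 : F) : OnePoint F))
    (h1 : ∃ g ∈ H, g • (∞ : OnePoint F) = ((1 : F) : OnePoint F)) :
    (p = 2 ∧ ∃ k, ¬ p ∣ k ∧ Nonempty (H ≃* DihedralGroup k)) ∨
    (p = 3 ∧ Nat.card H = 60 ∧ ∀ g : H, g ^ 2 = 1 ∨ g ^ 3 = 1 ∨ g ^ 5 = 1) ∨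
    ∃ L : Subfield F, 3 ≤ Nat.card L ∧ (∀ b : F, transl b ∈ H ↔ b ∈ L) ∧
      (H = (ProjGenLinGroup.map (n := Fin 2) L.subtype).range ∨
        (p ≠ 2 ∧ H = ((ProjGenLinGroup.map (n := Fin 2) L.subtype).comp
          ProjectiveSpecialLinearGroup.toPGL).range)) := by
  have LA := (lineAct_PLine (F := F) p).subgroup H
  let B : AddSubgroup F :=
    { carrier := {b | transl b ∈ H}
      zero_mem' := by simp only [Set.mem_ofPred_eq, transl_zero]; exact one_mem _
      add_mem' := fun {a b} ha hb => by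
        simp only [Set.mem_ofPred_eq, transl_add] at *; exact mul_mem ha hb
      neg_mem' := fun {a} ha => by
        simp only [Set.mem_ofPred_eq, transl_neg] at *; exact inv_mem ha }
  have hB : ∀ b, b ∈ B ↔ transl b ∈ H := fun _ => Iff.rfl
  have hsm : ∀ (g : H) (x : OnePoint F), g • PLine.rat x = PLine.rat ((g : PGL(2, F)) • x) :=
    fun g x => PLine.smul_rat _ _
  set x₀ : PLine F := PLine.rat ∞ with hx₀
  have hU : Nat.card (LA.U x₀) = Nat.card B := by
    symm
    refine Nat.card_congr (Equiv.ofBijective (fun b => ⟨⟨transl b, b.2⟩, ?_, ?_⟩) ⟨?_, ?_⟩)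
    · rw [hx₀, hsm]; exact congrArg _ (transl_smul_infty _)
    · exact Subtype.ext (transl_pow_char p _)
    · intro a b h
      exact Subtype.ext (transl_injective (congrArg (fun x => (x.1 : PGL(2, F))) h))
    · rintro ⟨g, hg1, hg2⟩
      rw [hx₀, hsm] at hg1
      obtain ⟨b, hb⟩ := exists_transl_of_unip p (g : PGL(2, F)) (PLine.rat_injective hg1)
        (by exact congrArg Subtype.val hg2)
      exact ⟨⟨b, by rw [hB, ← hb]; exact g.2⟩, Subtype.ext (Subtype.ext hb.symm)⟩
  have hU2 : 2 ≤ Nat.card (LA.U x₀) := by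
    rw [hU]
    obtain ⟨b, hb0, hb⟩ := hb
    exact Finite.one_lt_card_iff_nontrivial.2 ⟨⟨b, hb⟩, 0, fun h => hb0 (congrArg Subtype.val h)⟩
  obtain ⟨g₀, hg₀H, hg₀⟩ := h0
  obtain ⟨g₁, hg₁H, hg₁⟩ := h1
  have horb : ∀ g ∈ H, PLine.rat (g • ∞) ∈ orbit H x₀ := fun g hg => ⟨⟨g, hg⟩, hsm _ _⟩
  rcases LA.irregular x₀ hU2 with h | h | h | h
  · exfalso
    have := (Nat.card_eq_one_iff_unique.1 h).1
    have h2 : (⟨_, horb g₀ hg₀H⟩ : orbit H x₀) = ⟨x₀, mem_orbit_self _⟩ := Subsingleton.elim _ _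
    have h3 : g₀ • (∞ : OnePoint F) = ∞ := PLine.rat_injective (congrArg Subtype.val h2 :)
    rw [hg₀] at h3
    exact coe_ne_infty _ h3
  · exact Or.inl h
  swap
  · exact Or.inr (Or.inl h)
  right; right
  obtain ⟨hu3, hm, he⟩ := h
  rw [hU] at hu3 hm he
  -- the orbit is `{∞} ∪ B`
  have horb2 : ∀ g ∈ H, g • (∞ : OnePoint F) = ∞ ∨ ∃ b ∈ B, g • (∞ : OnePoint F) = (b : F) := by
    have hsub : insert x₀ ((fun b : F => PLine.rat (b : OnePoint F)) '' B) ⊆ orbit H x₀ := by
      rintro _ (rfl | ⟨b, hb, rfl⟩)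
      · exact mem_orbit_self _
      · have := horb (transl b * g₀) (mul_mem hb hg₀H)
        rwa [mul_smul, hg₀, transl_smul_coe, zero_add] at this
    have hcard : (insert x₀ ((fun b : F => PLine.rat (b : OnePoint F)) '' B)).ncard =
        Nat.card B + 1 := by
      rw [Set.ncard_insert_of_notMem, Set.ncard_image_of_injective]
      · rfl
      · exact PLine.rat_injective.comp coe_injective
      · rintro ⟨b, -, hb⟩
        exact coe_ne_infty _ (PLine.rat_injective hb)
    have heq := Set.eq_of_subset_of_ncard_le hsub (by rw [hcard, ← hm]; rfl)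
      (Set.finite_range _)
    intro g hg
    have := horb g hg
    rw [← heq] at this
    rcases this with h | ⟨b, hb, h⟩
    · exact Or.inl (PLine.rat_injective h)
    · exact Or.inr ⟨b, hb, (PLine.rat_injective h).symm⟩
  have h1B : (1 : F) ∈ B := by
    rcases horb2 g₁ hg₁H with h | ⟨b, hb, h⟩
    · rw [hg₁] at h; exact absurd h (coe_ne_infty _)
    · rw [hg₁, coe_eq_coe] at h; rwa [h]
  let Λ : Subgroup Fˣ :=
    { carrier := {a | dil a ∈ H}
      one_mem' := by simp only [Set.mem_ofPred_eq, (dil_eq_one_iff _).2 rfl]; exact one_mem _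
      mul_mem' := fun {a b} ha hb => by
        simp only [Set.mem_ofPred_eq, dil_mul] at *; exact mul_mem ha hb
      inv_mem' := fun {a} ha => by
        simp only [Set.mem_ofPred_eq, dil_inv] at *; exact inv_mem ha }
  have hstab : Nat.card (stabilizer H x₀) ≤ Nat.card B * Nat.card Λ := by
    rw [← Nat.card_prod]
    refine Nat.card_le_card_of_surjective (fun x : B × Λ =>
      (⟨⟨transl (x.1 : F) * dil (x.2 : Fˣ), mul_mem x.1.2 x.2.2⟩, ?_⟩ : stabilizer H x₀)) ?_
    · rw [mem_stabilizer_iff, hx₀, hsm, mul_smul, dil_smul_infty, transl_smul_infty]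
    · rintro ⟨g, hg⟩
      rw [mem_stabilizer_iff, hx₀, hsm] at hg
      obtain ⟨b, a, hba⟩ := exists_transl_mul_dil (g : PGL(2, F)) (PLine.rat_injective hg)
      have hbB : b ∈ B := by
        rcases horb2 (g * g₀) (mul_mem g.2 hg₀H) with h | ⟨b', hb', h⟩ <;>
          rw [mul_smul, hg₀, hba, mul_smul, dil_smul_coe, transl_smul_coe] at h
        · exact absurd h (coe_ne_infty _)
        · rw [coe_eq_coe, mul_zero, zero_add] at h; rwa [h]
      have haΛ : a ∈ Λ := by
        have : dil a = (transl b)⁻¹ * g := by rw [hba]; group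
        change dil a ∈ H
        rw [this]
        exact mul_mem (inv_mem hbB) g.2
      exact ⟨(⟨b, hbB⟩, ⟨a, haΛ⟩), Subtype.ext (Subtype.ext hba.symm)⟩
  let L : Subfield F :=
    { carrier := {c | ∀ b ∈ B, c * b ∈ B}
      mul_mem' := fun {c d} hc hd b hb => by rw [mul_assoc]; exact hc _ (hd b hb)
      one_mem' := fun b hb => by rwa [one_mul]
      add_mem' := fun {c d} hc hd b hb => by rw [add_mul]; exact add_mem (hc b hb) (hd b hb)
      zero_mem' := fun b hb => by rw [zero_mul]; exact zero_mem _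
      neg_mem' := fun {c} hc b hb => by rw [neg_mul]; exact neg_mem (hc b hb)
      inv_mem' := fun c hc b hb => by
        by_cases hc0 : c = 0
        · rw [hc0, _root_.inv_zero, zero_mul]; exact zero_mem _
        have hinj : Function.Injective (fun x : B => (⟨c * x, hc x x.2⟩ : B)) := fun x y h =>
          Subtype.ext (mul_left_cancel₀ hc0 (congrArg Subtype.val h))
        obtain ⟨x, hx⟩ := (Finite.injective_iff_surjective.1 hinj) ⟨b, hb⟩
        have hx' : c * x = b := congrArg Subtype.val hx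
        rw [← hx', inv_mul_cancel_left₀ hc0]
        exact x.2 }
  have hLB : L.toAddSubgroup ≤ B := fun c hc => by simpa using hc 1 h1B
  have hΛL : Nat.card Λ + 1 ≤ Nat.card L := by
    have hsub : insert (0 : F) ((fun a : Fˣ => (a : F)) '' Λ) ⊆ L := by
      rintro _ (rfl | ⟨a, ha, rfl⟩)
      · exact zero_mem L
      · intro b hb
        have : transl (a * b) = dil a * transl b * (dil a)⁻¹ := by rw [dil_mul_transl]; group
        change transl (a * b) ∈ H
        rw [this]
        exact mul_mem (mul_mem ha hb) (inv_mem ha)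
    have := Set.ncard_le_ncard hsub (Set.toFinite _)
    rwa [Set.ncard_insert_of_notMem (by simp), Set.ncard_image_of_injective _ Units.val_injective]
      at this
  have hLBeq : L.toAddSubgroup = B := by
    by_contra hne
    obtain ⟨c, hc⟩ := AddSubgroup.card_dvd_of_le hLB
    have hc1 : c ≠ 1 := by
      rintro rfl
      exact hne (AddSubgroup.eq_of_le_of_card_ge hLB (by rw [hc, mul_one]))
    have hc0 : c ≠ 0 := by rintro rfl; omega
    have h2 : Nat.card L * 2 ≤ Nat.card B := by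
      rw [hc]; exact Nat.mul_le_mul_left _ (by omega)
    have h3 : Nat.card B * (Nat.card B - 1) ≤ Nat.card B * (2 * Nat.card Λ) := by
      rcases he with he | he <;> nlinarith
    have := Nat.le_of_mul_le_mul_left h3 (by omega)
    omega
  have hLcard : Nat.card L = Nat.card B := by rw [← hLBeq]; rfl
  have hmemL : ∀ b : F, transl b ∈ H ↔ b ∈ L := fun b => by rw [← hB, ← hLBeq]; rfl
  refine ⟨L, by omega, hmemL, ?_⟩
  have hle : H ≤ (ProjGenLinGroup.map (n := Fin 2) L.subtype).range := by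
    have key : ∀ g ∈ H, g • (∞ : OnePoint F) ∈ Set.range (OnePoint.map L.subtype) := by
      intro g hg
      rcases horb2 g hg with h | ⟨b, hb, h⟩
      · exact ⟨∞, h.symm⟩
      · exact ⟨((⟨b, (hmemL b).1 hb⟩ : L) : OnePoint L), h.symm⟩
    intro g hg
    refine mem_range_map_of_three _ g (key g hg) ?_ ?_
    · rw [← hg₀, ← mul_smul]; exact key _ (mul_mem hg hg₀H)
    · rw [← hg₁, ← mul_smul]; exact key _ (mul_mem hg hg₁H)
  have hN := card_orbit_mul_card_stabilizer (G := H) x₀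
  have hrange : Nat.card (ProjGenLinGroup.map (n := Fin 2) L.subtype).range =
      (Nat.card B + 1) * (Nat.card B * (Nat.card B - 1)) := by
    rw [← Nat.card_congr (MonoidHom.ofInjective (pgl_map_injective _)).toEquiv, card_pgl_two,
      hLcard]
    obtain ⟨v, hv⟩ : ∃ v, Nat.card B = v + 1 := ⟨Nat.card B - 1, by omega⟩
    rw [hv, show (v + 1) ^ 2 - 1 = v * (v + 2) by
      rw [show (v + 1) ^ 2 = v * (v + 2) + 1 by ring]; simp]
    simp only [Nat.add_sub_cancel]; ring
  rcases he with he | he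
  · left
    apply Subgroup.eq_of_le_of_card_ge hle
    rw [hrange, ← hN, hm, he]
  · right
    obtain ⟨k, hk, -⟩ := LA.exists_k x₀
    rw [hU] at hk
    have hk2 : 2 * k = Nat.card B - 1 := by
      apply Nat.eq_of_mul_eq_mul_left (show 0 < Nat.card B by omega)
      rw [← he, hk]; ring
    have hodd : Odd (Nat.card L) := ⟨k, by omega⟩
    have hpB := LA.p_dvd_card_U x₀ hU2
    refine ⟨?_, ?_⟩
    · rintro rfl
      rw [hU] at hpB; omega
    have hidx : (H.comap (ProjGenLinGroup.map (n := Fin 2) L.subtype)).index = 2 := by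
      have h3 := (H.comap (ProjGenLinGroup.map (n := Fin 2) L.subtype)).index_mul_card
      have h4 : Nat.card (H.comap (ProjGenLinGroup.map (n := Fin 2) L.subtype)) = Nat.card H := by
        rw [← Subgroup.card_map_of_injective (pgl_map_injective L.subtype),
          Subgroup.map_comap_eq_self hle]
      rw [h4, Nat.card_congr (MonoidHom.ofInjective (pgl_map_injective L.subtype)).toEquiv,
        hrange, ← he, ← hm, mul_left_comm, hN] at h3
      exact Nat.eq_of_mul_eq_mul_right Nat.card_pos h3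
    rw [MonoidHom.range_comp, ← eq_range_toPGL_of_index_two hodd _ hidx,
      Subgroup.map_comap_eq_self hle]

/-- Dickson's theorem for a subgroup with a non-normal Sylow `p`-subgroup: `x` is the fixed point
of an element of order `p` of `H`, and `H` does not fix `x`. -/
theorem dickson_irregular [Finite F] [DecidableEq F] (p : ℕ) [hp : Fact p.Prime] [CharP F p]
    (H : Subgroup PGL(2, F)) (x : OnePoint F) (hx : ∃ g ∈ H, g ≠ 1 ∧ g ^ p = 1 ∧ g • x = x)
    (hne : ∃ g ∈ H, g • x ≠ x) :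
    (p = 2 ∧ ∃ k, ¬ p ∣ k ∧ Nonempty (H ≃* DihedralGroup k)) ∨
    (p = 3 ∧ Nat.card H = 60 ∧ ∀ g : H, g ^ 2 = 1 ∨ g ^ 3 = 1 ∨ g ^ 5 = 1) ∨
    ∃ (γ : PGL(2, F)) (L : Subfield F), 3 ≤ Nat.card L ∧
      (H.map (MulAut.conj γ).toMonoidHom = (ProjGenLinGroup.map (n := Fin 2) L.subtype).range ∨
        (p ≠ 2 ∧ H.map (MulAut.conj γ).toMonoidHom =
          ((ProjGenLinGroup.map (n := Fin 2) L.subtype).comp
            ProjectiveSpecialLinearGroup.toPGL).range)) := by
  have LA := (lineAct_PLine (F := F) p).subgroup H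
  have hsm : ∀ (g : H) (x : OnePoint F), g • PLine.rat x = PLine.rat ((g : PGL(2, F)) • x) :=
    fun g x => PLine.smul_rat _ _
  obtain ⟨v, hvH, hv1, hvp, hvx⟩ := hx
  have hU2 : 2 ≤ Nat.card (LA.U (PLine.rat x)) :=
    Finite.one_lt_card_iff_nontrivial.2 ⟨⟨⟨v, hvH⟩, by rw [hsm]; exact congrArg _ hvx,
      Subtype.ext hvp⟩, 1, fun h => hv1 (congrArg (fun y => (y.1 : PGL(2, F))) h)⟩
  rcases LA.irregular _ hU2 with h | h | h | h
  · exfalso
    obtain ⟨g, hgH, hg⟩ := hne
    have := (Nat.card_eq_one_iff_unique.1 h).1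
    have h2 : (⟨_, ⟨⟨g, hgH⟩, hsm _ _⟩⟩ : orbit H (PLine.rat x)) = ⟨_, mem_orbit_self _⟩ :=
      Subsingleton.elim _ _
    exact hg (PLine.rat_injective (congrArg Subtype.val h2 :))
  · exact Or.inl h
  swap
  · exact Or.inr (Or.inl h)
  obtain ⟨hu3, hm, -⟩ := h
  have h2 : 1 < (orbit H (PLine.rat x) \ {PLine.rat x}).ncard := by
    rw [Set.ncard_sdiff_singleton_of_mem (mem_orbit_self _)]
    have : (orbit H (PLine.rat x)).ncard = _ := hm
    omega
  obtain ⟨_, ⟨⟨g₀, rfl⟩, hg₀⟩, _, ⟨⟨g₁, rfl⟩, hg₁⟩, h01⟩ :=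
    (Set.one_lt_ncard ((Set.finite_range _).subset Set.sdiff_subset)).1 h2
  simp only [hsm, Set.mem_singleton_iff, PLine.rat_injective.eq_iff, ne_eq] at hg₀ hg₁ h01
  obtain ⟨c, c1, c2, c3⟩ := exists_gl2_three x _ _ (Ne.symm hg₀) (Ne.symm hg₁) h01
  rw [← pgl_mk_smul] at c1 c2 c3
  set γ := ProjGenLinGroup.mk c
  have e : H ≃* H.map (MulAut.conj γ⁻¹).toMonoidHom :=
    H.equivMapOfInjective _ (MulAut.conj γ⁻¹).injective
  have hmem : ∀ g ∈ H, γ⁻¹ * g * γ ∈ H.map (MulAut.conj γ⁻¹).toMonoidHom := fun g hg =>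
    ⟨g, hg, by simp⟩
  have hb : ∃ b : F, b ≠ 0 ∧ transl b ∈ H.map (MulAut.conj γ⁻¹).toMonoidHom := by
    obtain ⟨b, hb⟩ := exists_transl_of_unip p (γ⁻¹ * v * γ)
      (by rw [mul_smul, mul_smul, c1, inv_smul_eq_iff, c1, hvx])
      (by rw [show γ⁻¹ * v * γ = γ⁻¹ * v * γ⁻¹⁻¹ by rw [inv_inv], conj_pow, hvp]; group)
    refine ⟨b, ?_, hb ▸ hmem v hvH⟩
    rintro rfl
    rw [transl_zero] at hb
    exact hv1 ((conj_eq_one_iff (a := γ⁻¹)).1 (by rwa [inv_inv]))
  rcases dickson_normalized p (H.map (MulAut.conj γ⁻¹).toMonoidHom) hb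
    ⟨_, hmem g₀ g₀.2, by rw [mul_smul, mul_smul, c1, inv_smul_eq_iff, c2]⟩
    ⟨_, hmem g₁ g₁.2, by rw [mul_smul, mul_smul, c1, inv_smul_eq_iff, c3]⟩ with h | h | h
  · obtain ⟨h1, k, h2, ⟨e'⟩⟩ := h
    exact Or.inl ⟨h1, k, h2, ⟨e.trans e'⟩⟩
  · refine Or.inr (Or.inl ⟨h.1, by rw [Nat.card_congr e.toEquiv, h.2.1], fun g => ?_⟩)
    simpa only [← map_pow, map_eq_one_iff _ e.injective] using h.2.2 (e g)
  · obtain ⟨L, h1, -, h2⟩ := h
    exact Or.inr (Or.inr ⟨γ⁻¹, L, h1, h2⟩)

/-- **Dickson's theorem** for subgroups of `PGL₂(F)`, `F` finite of characteristic `p`. -/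
theorem dickson_pgl [Finite F] [DecidableEq F] (p : ℕ) [hp : Fact p.Prime] [CharP F p]
    (H : Subgroup PGL(2, F)) :
    (IsCyclic H ∧ ¬ p ∣ Nat.card H) ∨ (∃ k, ¬ p ∣ k ∧ Nonempty (H ≃* DihedralGroup k)) ∨
    (∃ x : OnePoint F, ∀ g ∈ H, g • x = x) ∨
    Nonempty (H ≃* alternatingGroup (Fin 4)) ∨ Nonempty (H ≃* Equiv.Perm (Fin 4)) ∨
    Nonempty (H ≃* alternatingGroup (Fin 5)) ∨
    ∃ L : Subfield F, 3 ≤ Nat.card L ∧ (Nonempty (H ≃* PSL(2, L)) ∨ Nonempty (H ≃* PGL(2, L))) := by
  have LA := (lineAct_PLine (F := F) p).subgroup H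
  by_cases hu : ∀ x, Nat.card (LA.U x) = 1
  · rcases LA.regular hu with h | h | h | h | h
    · exact Or.inl h
    · exact Or.inr (Or.inl h)
    · exact Or.inr (Or.inr (Or.inr (Or.inl h)))
    · exact Or.inr (Or.inr (Or.inr (Or.inr (Or.inl h))))
    · exact Or.inr (Or.inr (Or.inr (Or.inr (Or.inr (Or.inl h)))))
  push Not at hu
  obtain ⟨y, hy⟩ := hu
  have : Nontrivial (LA.U y) := Finite.one_lt_card_iff_nontrivial.1 (by
    have : 0 < Nat.card (LA.U y) := Nat.card_pos
    omega)
  obtain ⟨⟨v, hv1, hv2⟩, hv⟩ := exists_ne (1 : LA.U y)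
  have hv' : (v : PGL(2, F)) ≠ 1 := fun h => hv (Subtype.ext (Subtype.ext h))
  have hv2' : (v : PGL(2, F)) ^ p = 1 := congrArg Subtype.val hv2
  obtain ⟨x, rfl⟩ := PLine.rat_of_unip p v hv2' hv' y hv1
  have hvx : (v : PGL(2, F)) • x = x := PLine.rat_injective ((PLine.smul_rat _ _).symm.trans hv1)
  by_cases hfix : ∀ g ∈ H, g • x = x
  · exact Or.inr (Or.inr (Or.inl ⟨x, hfix⟩))
  push Not at hfix
  rcases dickson_irregular p H x ⟨v, v.2, hv', hv2', hvx⟩ hfix with h | h | ⟨γ, L, hL, h⟩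
  · exact Or.inr (Or.inl h.2)
  · exact Or.inr (Or.inr (Or.inr (Or.inr (Or.inr (Or.inl (equiv_A5 h.2.1 h.2.2))))))
  · have e : H ≃* H.map (MulAut.conj γ).toMonoidHom :=
      H.equivMapOfInjective _ (MulAut.conj γ).injective
    refine Or.inr (Or.inr (Or.inr (Or.inr (Or.inr (Or.inr ⟨L, hL, ?_⟩)))))
    rcases h with h | ⟨-, h⟩
    · exact Or.inr ⟨e.trans ((MulEquiv.subgroupCongr h).trans
        (MonoidHom.ofInjective (pgl_map_injective _)).symm)⟩
    · exact Or.inl ⟨e.trans ((MulEquiv.subgroupCongr h).trans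
        (MonoidHom.ofInjective (by
          exact (pgl_map_injective _).comp ProjectiveSpecialLinearGroup.toPGL_injective)).symm)⟩

end H16
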