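import Mathlib
import Cfsg.Agent.H16.PGL2Line
import Cfsg.Agent.H7.QuadAlg

/-! Orders of elements of `GL₂`, `SL₂`, `PGL₂`, `PSL₂` over a finite field. -/

set_option autoImplicit false

namespace H16

open Matrix
open scoped MatrixGroups

theorem mat2_charpoly {R : Type*} [CommRing R] (g : Matrix (Fin 2) (Fin 2) R) (α β : R)
    (h1 : α + β = g.trace) (h2 : α * β = g.det) : (g - α • 1) * (g - β • 1) = 0 := by
  rw [trace_fin_two] at h1
  rw [det_fin_two] at h2
  ext i j
  fin_cases i <;> fin_cases j <;> simp [mul_apply, Fin.sum_univ_two]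
  · linear_combination h2 - (g 0 0) * h1
  · linear_combination - (g 0 1) * h1
  · linear_combination - (g 1 0) * h1
  · linear_combination h2 - (g 1 1) * h1

theorem mat_pow_of_quadratic {R n : Type*} [CommRing R] [Fintype n] [DecidableEq n]
    (g : Matrix n n R) (α β : R) (h : (g - α • 1) * (g - β • 1) = 0) (k : ℕ) :
    (α - β) • g ^ k = α ^ k • (g - β • 1) - β ^ k • (g - α • 1) := by
  have h' : g * g = (α + β) • g - (α * β) • 1 := by
    simp only [sub_mul, mul_sub, smul_mul_assoc, mul_smul_comm, one_mul, mul_one] at h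
    rw [← sub_eq_zero, ← h]; module
  induction k with
  | zero => simp only [pow_zero, one_smul]; module
  | succ k ih =>
    rw [pow_succ, ← smul_mul_assoc, ih]
    simp only [sub_mul, smul_mul_assoc, one_mul, h']
    module

variable {F : Type*} [Field F] [Fintype F]

theorem mat2_pow_cases (p : ℕ) [hp : Fact p.Prime] [CharP F p] (g : Matrix (Fin 2) (Fin 2) F)
    (hg : g.det ≠ 0) :
    ((g ^ p) 0 1 = 0 ∧ (g ^ p) 1 0 = 0 ∧ (g ^ p) 0 0 = (g ^ p) 1 1) ∨
      g ^ (Fintype.card F - 1) = 1 ∨ g ^ (Fintype.card F + 1) = g.det • 1 := by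
  let K := AlgebraicClosure F
  let ι : F →+* K := algebraMap F K
  have hinj : Function.Injective (ι.mapMatrix (m := Fin 2)) := fun a b h => by
    ext i j; exact ι.injective (congrFun (congrFun h i) j)
  obtain ⟨α, hα⟩ : ∃ α : K, α ^ 2 - ι g.trace * α + ι g.det = 0 := by
    obtain ⟨α, hα⟩ := IsAlgClosed.exists_root
      (Polynomial.X ^ 2 - Polynomial.C (ι g.trace) * Polynomial.X + Polynomial.C (ι g.det)) (by
        have : (Polynomial.X ^ 2 - Polynomial.C (ι g.trace) * Polynomial.X +
          Polynomial.C (ι g.det)).degree = 2 := by compute_degree!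
        rw [this]; decide)
    exact ⟨α, by simpa using hα⟩
  set β := ι g.trace - α with hβ
  have h1 : α + β = ι g.trace := by rw [hβ]; ring
  have h2 : α * β = ι g.det := by rw [hβ]; linear_combination -hα
  set G := ι.mapMatrix g with hG
  have hq : (G - α • 1) * (G - β • 1) = 0 := mat2_charpoly G α β
    (by rw [h1, hG, trace_fin_two, trace_fin_two]; simp)
    (by rw [h2, hG, RingHom.map_det])
  have key : ∀ (k : ℕ) (c : K), α ≠ β → α ^ k = c → β ^ k = c → G ^ k = c • 1 := by
    intro k c hne ha hb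
    have := mat_pow_of_quadratic G α β hq k
    rw [ha, hb] at this
    apply smul_right_injective _ (sub_ne_zero.2 hne)
    simp only [this]
    module
  by_cases hab : α = β
  · left
    rw [← hab] at hq
    have h3 : G ^ p = α ^ p • 1 := by
      have : G = α • 1 + (G - α • 1) := by abel
      rw [this, add_pow_char_of_commute _ (by
        simp only [Commute, SemiconjBy, smul_mul_assoc, mul_smul_comm, one_mul,
          mul_one]), smul_pow, one_pow]
      obtain ⟨k, hk⟩ : ∃ k, p = k + 2 := ⟨p - 2, by have := hp.out.two_le; omega⟩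
      have : (G - α • 1) ^ p = 0 := by rw [hk, pow_add, sq, hq, mul_zero]
      rw [this, add_zero]
    rw [hG, ← map_pow] at h3
    have h4 := fun i j => congrFun (congrFun h3 i) j
    refine ⟨ι.injective ?_, ι.injective ?_, ι.injective ?_⟩
    · simpa using h4 0 1
    · simpa using h4 1 0
    · have h5 := h4 0 0
      have h6 := h4 1 1
      simp only [RingHom.mapMatrix_apply, map_apply, Matrix.smul_apply, one_apply_eq] at h5 h6
      rw [h5, h6]
  right
  obtain ⟨n, -, hn⟩ := FiniteField.card F p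
  have hfix : ∀ x : F, ι x ^ Fintype.card F = ι x := fun x => by
    rw [← map_pow, FiniteField.pow_card]
  have hadd : α ^ Fintype.card F + β ^ Fintype.card F = α + β := by
    rw [h1, ← hfix, ← h1, hn, add_pow_char_pow]
  have hmul : α ^ Fintype.card F * β ^ Fintype.card F = α * β := by
    rw [← mul_pow, h2, hfix]
  have hαβ : α * β ≠ 0 := by rw [h2]; exact (map_ne_zero ι).2 hg
  have hq1 : Fintype.card F = Fintype.card F - 1 + 1 := by
    have := Fintype.card_pos (α := F); omega
  have : (α ^ Fintype.card F - α) * (α ^ Fintype.card F - β) = 0 := by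
    linear_combination (α ^ Fintype.card F) * hadd - hmul
  rcases mul_eq_zero.1 this with h | h
  · left
    have ha : α ^ Fintype.card F = α := by linear_combination h
    have hb : β ^ Fintype.card F = β := by linear_combination hadd - h
    apply hinj
    rw [map_pow, map_one, key _ 1 hab, one_smul]
    · rw [hq1, pow_succ] at ha
      exact mul_right_cancel₀ (left_ne_zero_of_mul hαβ) (by rw [ha, one_mul])
    · rw [hq1, pow_succ] at hb
      exact mul_right_cancel₀ (right_ne_zero_of_mul hαβ) (by rw [hb, one_mul])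
  · right
    have ha : α ^ Fintype.card F = β := by linear_combination h
    have hb : β ^ Fintype.card F = α := by linear_combination hadd - h
    apply hinj
    rw [map_pow, key _ (ι g.det) hab]
    · ext i j; by_cases hij : i = j <;> simp [hij, one_apply]
    · rw [pow_succ, ha, ← h2, mul_comm]
    · rw [pow_succ, hb, ← h2]

theorem pgl2_pow_cases (p : ℕ) [hp : Fact p.Prime] [CharP F p] (g : PGL(2, F)) :
    g ^ p = 1 ∨ g ^ (Fintype.card F - 1) = 1 ∨ g ^ (Fintype.card F + 1) = 1 := by
  induction g using ProjGenLinGroup.induction_on with | mk g =>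
  simp only [← map_pow, pgl2_mk_eq_one_iff, Units.val_pow_eq_pow_val]
  rcases mat2_pow_cases p g.1 g.det_ne_zero with h | h | h
  · exact Or.inl h
  · right; left; rw [h]; simp
  · right; right; rw [h]; simp

omit [Fintype F] in
theorem sl2_mem_center_iff (g : SL(2, F)) :
    g ∈ Subgroup.center SL(2, F) ↔ g 0 1 = 0 ∧ g 1 0 = 0 ∧ g 0 0 = g 1 1 := by
  rw [← SpecialLinearGroup.toPGL_ker, MonoidHom.mem_ker, MonoidHom.comp_apply, pgl2_mk_eq_one_iff]
  rfl

omit [Fintype F] in
theorem psl2_mk_eq_one_iff (g : SL(2, F)) :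
    (g : PSL(2, F)) = 1 ↔ g 0 1 = 0 ∧ g 1 0 = 0 ∧ g 0 0 = g 1 1 := by
  rw [QuotientGroup.eq_one_iff, sl2_mem_center_iff]

theorem sl2_pow_cases (p : ℕ) [hp : Fact p.Prime] [CharP F p] (g : SL(2, F)) :
    g ^ p ∈ Subgroup.center SL(2, F) ∨ g ^ (Fintype.card F - 1) = 1 ∨
      g ^ (Fintype.card F + 1) = 1 := by
  rcases mat2_pow_cases p g.1 (by rw [g.2]; exact one_ne_zero) with h | h | h
  · left; rw [sl2_mem_center_iff]; exact h
  · right; left; exact Subtype.ext h
  · right; right; rw [g.2, one_smul] at h; exact Subtype.ext h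

theorem gcd_two_cases (q : ℕ) (hq : 1 ≤ q) :
    (q % 2 = 1 ∧ Nat.gcd 2 (q - 1) = 2) ∨ (q % 2 = 0 ∧ Nat.gcd 2 (q - 1) = 1) := by
  rcases Nat.mod_two_eq_zero_or_one q with h | h
  · right
    refine ⟨h, ?_⟩
    rw [← Nat.coprime_iff_gcd_eq_one, Nat.coprime_two_left, Nat.odd_iff]; omega
  · left
    exact ⟨h, Nat.gcd_eq_left (by omega)⟩

theorem psl2_pow_cases (p : ℕ) [hp : Fact p.Prime] [CharP F p] {q : ℕ} (hF : Fintype.card F = q)
    (g : PSL(2, F)) :
    g ^ p = 1 ∨ g ^ ((q - 1) / Nat.gcd 2 (q - 1)) = 1 ∨ g ^ ((q + 1) / Nat.gcd 2 (q - 1)) = 1 := by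
  induction g using QuotientGroup.induction_on with | H g =>
  subst hF
  simp only [← QuotientGroup.mk_pow, QuotientGroup.eq_one_iff]
  rcases gcd_two_cases (Fintype.card F) Fintype.card_pos with ⟨h1, h2⟩ | ⟨h1, h2⟩
  · have h3 := H7.two_ne_zero_of_odd_card (F := F) (Nat.odd_iff.2 h1)
    rw [h2]
    rcases sl2_pow_cases p g with h | h | h
    · exact Or.inl h
    · refine Or.inr (Or.inl (H7.sl2_sq_mem_center h3 _ ?_))
      rw [← pow_add, ← h]; congr 1; omega
    · refine Or.inr (Or.inr (H7.sl2_sq_mem_center h3 _ ?_))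
      rw [← pow_add, ← h]; congr 1; omega
  · rw [h2, Nat.div_one, Nat.div_one]
    rcases sl2_pow_cases p g with h | h | h
    · exact Or.inl h
    · right; left; rw [h]; exact one_mem _
    · right; right; rw [h]; exact one_mem _

theorem psl2_orderOf_dvd (p : ℕ) [hp : Fact p.Prime] [CharP F p] {q : ℕ} (hF : Fintype.card F = q)
    (g : PSL(2, F)) (hg : ¬ p ∣ orderOf g) :
    orderOf g ∣ (q + 1) / Nat.gcd 2 (q - 1) ∨ orderOf g ∣ (q - 1) / Nat.gcd 2 (q - 1) := by
  rcases psl2_pow_cases p hF g with h | h | h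
  · rcases (Nat.dvd_prime hp.out).1 (orderOf_dvd_of_pow_eq_one h) with h1 | h1
    · rw [h1]; exact Or.inl (one_dvd _)
    · exact absurd (h1 ▸ dvd_rfl) hg
  · exact Or.inr (orderOf_dvd_of_pow_eq_one h)
  · exact Or.inl (orderOf_dvd_of_pow_eq_one h)

theorem sl2_orderOf_dvd (p : ℕ) [hp : Fact p.Prime] [CharP F p] {q : ℕ} (hF : Fintype.card F = q)
    (g : SL(2, F)) (hg : Nat.Coprime (orderOf g) p) : orderOf g ∣ q - 1 ∨ orderOf g ∣ q + 1 := by
  subst hF
  rcases sl2_pow_cases p g with h | h | h
  · left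
    have h1 := H7.sl2_center_sq _ h
    rw [← pow_mul] at h1
    have h2 : orderOf g ∣ 2 := hg.dvd_of_dvd_mul_left (orderOf_dvd_of_pow_eq_one h1)
    rcases Nat.mod_two_eq_zero_or_one (Fintype.card F) with h3 | h3
    · have hp2 : p = 2 := by
        have := FiniteField.even_card_iff_char_two.2 h3
        rw [← ringChar.eq F p, this]
      rw [hp2] at hg
      rw [Nat.Coprime.eq_one_of_dvd hg h2]; exact one_dvd _
    · exact h2.trans (by omega)
  · exact Or.inl (orderOf_dvd_of_pow_eq_one h)
  · exact Or.inr (orderOf_dvd_of_pow_eq_one h)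

end H16
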