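import Mathlib
import Cfsg.Agent.H16.Dickson
import Cfsg.Agent.H16.SL2Orders

/-! `PSL₂(F)`: action on the projective line, functoriality, Dickson's theorem. -/

set_option autoImplicit false

namespace H16

open MulAction Matrix OnePoint
open scoped MatrixGroups

namespace LineAct

variable {p : ℕ} {K : Type*} [Field K] {H X : Type*} [Group H] [MulAction H X]
variable [hp : Fact p.Prime] [CharP K p] [Finite H]

theorem exists_fixed_of_isPGroup (L : LineAct p K H X) (Q : Subgroup H) (hQ : IsPGroup p Q)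
    (hne : Q ≠ ⊥) : ∃ y, Q ≤ L.U y := by
  have : Nontrivial Q := (Subgroup.nontrivial_iff_ne_bot Q).2 hne
  have := hQ.center_nontrivial
  obtain ⟨z, hz⟩ := exists_prime_orderOf_dvd_card' (G := Subgroup.center Q) p
    ((hQ.to_subgroup _).card_eq_or_dvd.resolve_left (Finite.one_lt_card.ne'))
  have hz1 : ((z : Q) : H) ≠ 1 := by
    intro h
    have : z = 1 := Subtype.ext (Subtype.ext h)
    rw [this, orderOf_one] at hz
    exact hp.out.one_lt.ne hz
  have hzp : ((z : Q) : H) ^ p = 1 := by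
    have := pow_orderOf_eq_one z
    rw [hz] at this
    exact congrArg (fun x => ((x : Subgroup.center Q) : H)) this
  obtain ⟨y, hy⟩ := L.exists_fixed ((z : Q) : H)
  refine ⟨y, fun g hg => ?_⟩
  have hgy : g • y = y := by
    refine L.unip _ y _ hzp hz1 hy ?_
    have := congrArg Subtype.val (Subgroup.mem_center_iff.1 z.2 ⟨g, hg⟩)
    simp only [Subgroup.coe_mul] at this
    rw [← mul_smul, ← this, mul_smul, hy]
  refine ⟨hgy, ?_⟩
  by_contra hne
  obtain ⟨k, -, hpk, hk, -⟩ := L.exists_k y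
  obtain ⟨n, hn⟩ := hQ ⟨g, hg⟩
  have h1 := orderOf_dvd_of_pow_eq_one (hk g hgy hne)
  have h2 : orderOf g ∣ p ^ n := orderOf_dvd_of_pow_eq_one (congrArg Subtype.val hn)
  have h3 : orderOf g = 1 := Nat.eq_one_of_dvd_coprimes
    (Nat.Coprime.pow_left n ((Nat.Prime.coprime_iff_not_dvd hp.out).2 hpk)) h2 h1
  rw [orderOf_eq_one_iff.1 h3, one_pow] at hne
  exact hne rfl

omit [CharP K p] [Finite H] in
theorem isPGroup_U (L : LineAct p K H X) (x : X) : IsPGroup p (L.U x) :=
  fun g => ⟨1, Subtype.ext (by simpa using g.2.2)⟩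

omit [CharP K p] [Finite H] hp in
theorem eq_of_U_le (L : LineAct p K H X) {x y : X} (hx : L.U x ≠ ⊥) (h : L.U x ≤ L.U y) : x = y := by
  obtain ⟨⟨v, hv⟩, hv1⟩ := Subgroup.ne_bot_iff_exists_ne_one.1 hx
  exact L.unip v y x hv.2 (fun h => hv1 (Subtype.ext h)) (h hv).1 hv.1

theorem exists_sylow_eq_U (L : LineAct p K H X) (x : X) (hx : L.U x ≠ ⊥) :
    ∃ P : Sylow p H, (P : Subgroup H) = L.U x := by
  refine ⟨⟨L.U x, L.isPGroup_U x, fun {Q} hQ hle => le_antisymm ?_ hle⟩, rfl⟩
  obtain ⟨y, hy⟩ := L.exists_fixed_of_isPGroup Q hQ (fun h => hx (by rwa [h, le_bot_iff] at hle))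
  rwa [L.eq_of_U_le hx (hle.trans hy)]

omit [CharP K p] [Finite H] hp in
theorem stabilizer_le_normalizer_U (L : LineAct p K H X) (x : X) :
    stabilizer H x ≤ Subgroup.normalizer (L.U x : Set H) := by
  intro g hg
  rw [Subgroup.mem_normalizer_iff]
  intro a
  constructor
  · intro ha
    have := L.conj_mem_U g ha
    rwa [mem_stabilizer_iff.1 hg] at this
  · intro ha
    have := L.conj_mem_U g⁻¹ ha
    rw [mem_stabilizer_iff.1 (inv_mem hg)] at this
    simpa [mul_assoc] using this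

end LineAct

section Map

variable {n : Type*} [Fintype n] [DecidableEq n] {F K : Type*} [Field F] [Field K]

/-- The map `PSL_n(K) → PSL_n(F)` induced by a field homomorphism. -/
noncomputable def pslMap (f : K →+* F) :
    ProjectiveSpecialLinearGroup n K →* ProjectiveSpecialLinearGroup n F :=
  QuotientGroup.map _ _ (SpecialLinearGroup.map f) (by
    intro g hg
    obtain ⟨r, hr, hg⟩ := Matrix.SpecialLinearGroup.mem_center_iff.1 hg
    refine Matrix.SpecialLinearGroup.mem_center_iff.2 ⟨f r, by rw [← map_pow, hr, map_one], ?_⟩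
    simp only [SpecialLinearGroup.map_apply_coe, ← hg]
    ext i j
    by_cases h : i = j <;> simp [h])

theorem pslMap_mk (f : K →+* F) (g : SpecialLinearGroup n K) :
    pslMap f (g : ProjectiveSpecialLinearGroup n K) = (SpecialLinearGroup.map f g :) := rfl

theorem toPGL_pslMap (f : K →+* F) (g : ProjectiveSpecialLinearGroup n K) :
    ProjectiveSpecialLinearGroup.toPGL (pslMap f g) =
      ProjGenLinGroup.map f (ProjectiveSpecialLinearGroup.toPGL g) := by
  induction g using QuotientGroup.induction_on with | H g =>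
  rw [pslMap_mk, ProjectiveSpecialLinearGroup.toPGL_mk, ProjectiveSpecialLinearGroup.toPGL_mk,
    ProjGenLinGroup.map_mk]
  congr 1
  ext i j
  rfl

theorem pslMap_injective (f : K →+* F) : Function.Injective (pslMap (n := n) f) := by
  intro a b h
  apply ProjectiveSpecialLinearGroup.toPGL_injective
  apply pgl_map_injective f
  rw [← toPGL_pslMap, ← toPGL_pslMap, h]

theorem sl_map_injective (f : K →+* F) : Function.Injective (SpecialLinearGroup.map (n := n) f) := by
  intro a b h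
  ext i j
  exact f.injective (congrFun (congrFun (congrArg Subtype.val h) i) j)

/-- `PSL_n` of isomorphic fields. -/
noncomputable def pslCongr (e : K ≃+* F) :
    ProjectiveSpecialLinearGroup n K ≃* ProjectiveSpecialLinearGroup n F :=
  MulEquiv.ofBijective (pslMap (e : K →+* F)) ⟨pslMap_injective _, fun g => by
    induction g using QuotientGroup.induction_on with | H g =>
    refine ⟨(SpecialLinearGroup.map (e.symm : F →+* K) g :), ?_⟩
    rw [pslMap_mk]
    congr 1
    ext i j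
    simp⟩

/-- `PGL_n` of isomorphic fields. -/
noncomputable def pglCongr (e : K ≃+* F) : ProjGenLinGroup n K ≃* ProjGenLinGroup n F :=
  MulEquiv.ofBijective (ProjGenLinGroup.map (e : K →+* F)) ⟨pgl_map_injective _, fun g => by
    induction g using ProjGenLinGroup.induction_on with | mk g =>
    refine ⟨ProjGenLinGroup.mk (GeneralLinearGroup.map (e.symm : F →+* K) g), ?_⟩
    rw [ProjGenLinGroup.map_mk]
    congr 1
    ext i j
    simp⟩

/-- `SL_n` of isomorphic fields. -/
noncomputable def slCongr (e : K ≃+* F) : SpecialLinearGroup n K ≃* SpecialLinearGroup n F :=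
  MulEquiv.ofBijective (SpecialLinearGroup.map (e : K →+* F)) ⟨sl_map_injective _, fun g => by
    refine ⟨(SpecialLinearGroup.map (e.symm : F →+* K) g :), ?_⟩
    ext i j
    simp⟩

theorem exists_field_type_zero (L : Type*) [Field L] [Finite L] :
    ∃ (K : Type) (_ : Field K) (_ : Fintype K), Nonempty (K ≃+* L) := by
  let e : Fin (Nat.card L) ≃ L := (Finite.equivFin L).symm
  letI := e.field
  exact ⟨Fin (Nat.card L), e.field, inferInstance, ⟨e.ringEquiv⟩⟩

theorem card_subfield_pow [Finite F] (L : Subfield F) :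
    ∃ m, 1 ≤ m ∧ Nat.card L ^ m = Nat.card F :=
  ⟨Module.finrank L F, Module.finrank_pos, (Module.natCard_eq_pow_finrank (K := L) (V := F)).symm⟩

end Map

variable {F : Type*} [Field F]

noncomputable instance instPSLOnePoint [DecidableEq F] : MulAction PSL(2, F) (OnePoint F) :=
  MulAction.compHom _ (ProjectiveSpecialLinearGroup.toPGL (n := Fin 2) (R := F))

noncomputable instance instPSLPLine : MulAction PSL(2, F) (PLine F) :=
  MulAction.compHom _ (ProjectiveSpecialLinearGroup.toPGL (n := Fin 2) (R := F))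

theorem psl_smul_def [DecidableEq F] (g : PSL(2, F)) (x : OnePoint F) :
    g • x = ProjectiveSpecialLinearGroup.toPGL g • x := rfl

theorem psl_mk_smul [DecidableEq F] (g : SL(2, F)) (x : OnePoint F) :
    (g : PSL(2, F)) • x = (SpecialLinearGroup.toGL g : GL (Fin 2) F) • x := rfl

theorem lineAct_PSL (p : ℕ) [Fact p.Prime] [CharP F p] :
    LineAct p (AlgebraicClosure F) PSL(2, F) (PLine F) :=
  (lineAct_PLine p).comap _ ProjectiveSpecialLinearGroup.toPGL_injective (fun _ _ => rfl)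

theorem psl_smul_rat [DecidableEq F] (g : PSL(2, F)) (x : OnePoint F) :
    g • PLine.rat x = PLine.rat (g • x) := PLine.smul_rat _ _

/-- An `SL₂` matrix from its entries. -/
def sl2 (a b c d : F) (h : a * d - b * c = 1) : SL(2, F) :=
  ⟨!![a, b; c, d], by rwa [det_fin_two_of]⟩

@[simp] theorem sl2_val (a b c d : F) (h : a * d - b * c = 1) :
    (sl2 a b c d h : Matrix (Fin 2) (Fin 2) F) = !![a, b; c, d] := rfl

theorem sl2_det (g : SL(2, F)) : g 0 0 * g 1 1 - g 0 1 * g 1 0 = 1 := by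
  have := g.2
  rwa [det_fin_two] at this

theorem toPGL_sl2_transl (b : F) :
    ProjectiveSpecialLinearGroup.toPGL (sl2 1 b 0 1 (by simp) : PSL(2, F)) = transl b := by
  rw [ProjectiveSpecialLinearGroup.toPGL_mk, transl]
  congr 1
  ext i j
  rfl

instance instPSLPretransitive [DecidableEq F] : IsPretransitive PSL(2, F) (OnePoint F) := by
  have : ∀ x : OnePoint F, ∃ g : PSL(2, F), g • (∞ : OnePoint F) = x := by
    intro x
    cases x with
    | infty => exact ⟨1, one_smul _ _⟩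
    | coe a => exact ⟨sl2 a (-1) 1 0 (by simp), by simp [psl_mk_smul, smul_infty_eq_ite]⟩
  refine ⟨fun x y => ?_⟩
  obtain ⟨g, rfl⟩ := this x
  obtain ⟨h, rfl⟩ := this y
  exact ⟨h * g⁻¹, by rw [mul_smul, inv_smul_smul]⟩

theorem psl2_stabilizer_index [DecidableEq F] [Finite F] (x : OnePoint F) :
    (stabilizer PSL(2, F) x).index = Nat.card F + 1 := by
  rw [index_stabilizer_of_transitive]
  exact Finite.card_option

theorem psl2_U_ne_bot (p : ℕ) [Fact p.Prime] [CharP F p] (x : OnePoint F) :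
    (lineAct_PSL p).U (PLine.rat x) ≠ ⊥ := by
  classical
  obtain ⟨g, rfl⟩ := exists_smul_eq PSL(2, F) (∞ : OnePoint F) x
  rw [Subgroup.ne_bot_iff_exists_ne_one]
  have h1 : (sl2 (1 : F) 1 0 1 (by simp) : PSL(2, F)) ∈ (lineAct_PSL p).U (PLine.rat ∞) := by
    refine ⟨?_, ?_⟩
    · rw [psl_smul_rat, psl_smul_def, toPGL_sl2_transl, transl_smul_infty]
    · apply ProjectiveSpecialLinearGroup.toPGL_injective
      rw [map_pow, toPGL_sl2_transl, transl_pow_char, map_one]
  have h2 := (lineAct_PSL p).conj_mem_U g h1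
  rw [psl_smul_rat] at h2
  refine ⟨⟨_, h2⟩, fun h => ?_⟩
  have h3 := conj_eq_one_iff.1 (congrArg Subtype.val h)
  rw [psl2_mk_eq_one_iff] at h3
  simp at h3

/-- **Dickson's theorem** for subgroups of `PSL₂(F)`. -/
theorem dickson_psl [Fintype F] [DecidableEq F] (p : ℕ) [hp : Fact p.Prime] [CharP F p] {q : ℕ}
    (hF : Fintype.card F = q) (H : Subgroup PSL(2, F)) :
    (∃ k : ℕ, (k ∣ (q + 1) / Nat.gcd 2 (q - 1) ∨ k ∣ (q - 1) / Nat.gcd 2 (q - 1)) ∧
      ((IsCyclic H ∧ Nat.card H = k) ∨ Nonempty (H ≃* DihedralGroup k))) ∨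
    (∃ x : OnePoint F, H ≤ stabilizer PSL(2, F) x) ∨
    Nonempty (H ≃* alternatingGroup (Fin 4)) ∨ Nonempty (H ≃* Equiv.Perm (Fin 4)) ∨
    Nonempty (H ≃* alternatingGroup (Fin 5)) ∨
    ∃ L : Subfield F, 3 ≤ Nat.card L ∧ (Nonempty (H ≃* PSL(2, L)) ∨ Nonempty (H ≃* PGL(2, L))) := by
  have e : H ≃* H.map ProjectiveSpecialLinearGroup.toPGL :=
    H.equivMapOfInjective _ ProjectiveSpecialLinearGroup.toPGL_injective
  rcases dickson_pgl p (H.map ProjectiveSpecialLinearGroup.toPGL) with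
    ⟨h1, h2⟩ | ⟨k, h1, ⟨e'⟩⟩ | ⟨x, hx⟩ | ⟨⟨e'⟩⟩ | ⟨⟨e'⟩⟩ | ⟨⟨e'⟩⟩ | ⟨L, hL, h⟩
  · left
    have hc : IsCyclic H := isCyclic_of_surjective e.symm e.symm.surjective
    rw [← Nat.card_congr e.toEquiv] at h2
    refine ⟨Nat.card H, ?_, Or.inl ⟨hc, rfl⟩⟩
    obtain ⟨g, hg⟩ := hc.exists_generator
    rw [← orderOf_eq_card_of_forall_mem_zpowers hg, ← Subgroup.orderOf_coe] at h2 ⊢
    exact psl2_orderOf_dvd p hF _ h2
  · left
    refine ⟨k, ?_, Or.inr ⟨e.trans e'⟩⟩
    have h3 : orderOf (((e.trans e').symm (DihedralGroup.r 1) : H) : PSL(2, F)) = k := by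
      rw [Subgroup.orderOf_coe, MulEquiv.orderOf_eq, DihedralGroup.orderOf_r_one]
    rw [← h3] at h1 ⊢
    exact psl2_orderOf_dvd p hF _ h1
  · exact Or.inr (Or.inl ⟨x, fun g hg => hx _ ⟨g, hg, rfl⟩⟩)
  · exact Or.inr (Or.inr (Or.inl ⟨e.trans e'⟩))
  · exact Or.inr (Or.inr (Or.inr (Or.inl ⟨e.trans e'⟩)))
  · exact Or.inr (Or.inr (Or.inr (Or.inr (Or.inl ⟨e.trans e'⟩))))
  · refine Or.inr (Or.inr (Or.inr (Or.inr (Or.inr ⟨L, hL, ?_⟩))))
    rcases h with ⟨⟨e'⟩⟩ | ⟨⟨e'⟩⟩
    · exact Or.inl ⟨e.trans e'⟩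
    · exact Or.inr ⟨e.trans e'⟩

/-- A point stabiliser of `PSL₂(F)` normalises a Sylow `p`-subgroup. -/
theorem psl2_stabilizer_le_normalizer [Finite F] [DecidableEq F] (p : ℕ) [hp : Fact p.Prime]
    [CharP F p] (x : OnePoint F) : ∃ P : Sylow p PSL(2, F), stabilizer PSL(2, F) x ≤
      Subgroup.normalizer ((P : Subgroup PSL(2, F)) : Set PSL(2, F)) := by
  obtain ⟨P, hP⟩ := (lineAct_PSL (F := F) p).exists_sylow_eq_U _ (psl2_U_ne_bot p x)
  refine ⟨P, fun g hg => ?_⟩
  rw [hP]
  apply (lineAct_PSL (F := F) p).stabilizer_le_normalizer_U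
  rw [mem_stabilizer_iff, psl_smul_rat, mem_stabilizer_iff.1 hg]

end H16
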