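import Mathlib
import Cfsg.Agent.H16.PSL2Basic

/-! `PSL₂(3) ≅ A₄`, `PSL₂(4) ≅ PSL₂(5) ≅ A₅`; subfield embeddings. -/

set_option autoImplicit false

namespace H16

open Matrix
open scoped MatrixGroups

variable {F : Type*} [Field F] [Fintype F]

theorem charP_of_card_eq_pow {p n : ℕ} (hp : p.Prime) (h : Fintype.card F = p ^ n) : CharP F p := by
  obtain ⟨r, hr, m, hr', hm⟩ := FiniteField.card' F
  have : r = p := by
    have h1 : r ∣ p ^ n := by rw [← h, hm]; exact dvd_pow_self r m.ne_zero
    exact (Nat.prime_dvd_prime_iff_eq hr' hp).1 (hr'.dvd_of_dvd_pow h1)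
  exact this ▸ hr

theorem psl2_three (hF : Fintype.card F = 3) : Nonempty (PSL(2, F) ≃* alternatingGroup (Fin 4)) := by
  have : Fact (Nat.Prime 3) := ⟨by norm_num⟩
  have : CharP F 3 := charP_of_card_eq_pow (n := 1) (by norm_num) hF
  have h := H7.card_psl_two hF
  refine equiv_A4 (by norm_num at h; omega) fun g hg => ?_
  rcases psl2_pow_cases 3 hF g with h | h | h <;>
  · have := orderOf_dvd_of_pow_eq_one h
    rw [hg] at this
    norm_num at this

theorem psl2_four (hF : Fintype.card F = 4) : Nonempty (PSL(2, F) ≃* alternatingGroup (Fin 5)) := by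
  have : CharP F 2 := charP_of_card_eq_pow (n := 2) (by norm_num) hF
  have h := H7.card_psl_two hF
  refine equiv_A5 (by norm_num at h; omega) fun g => ?_
  simpa using psl2_pow_cases 2 hF g

theorem psl2_five (hF : Fintype.card F = 5) : Nonempty (PSL(2, F) ≃* alternatingGroup (Fin 5)) := by
  have : Fact (Nat.Prime 5) := ⟨by norm_num⟩
  have : CharP F 5 := charP_of_card_eq_pow (n := 1) (by norm_num) hF
  have h := H7.card_psl_two hF
  refine equiv_A5 (by norm_num at h; omega) fun g => ?_
  have := psl2_pow_cases 5 hF g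
  norm_num at this
  tauto

/-- A finite field whose order is a power of that of `K` contains a copy of `K`. -/
theorem exists_ringHom_of_card_pow {K : Type*} [Field K] [Fintype K] {m : ℕ}
    (h : Fintype.card K ^ m = Fintype.card F) : Nonempty (K →+* F) := by
  obtain ⟨p, hp, n, hp', hn⟩ := FiniteField.card' K
  have : Fact p.Prime := ⟨hp'⟩
  have : CharP F p := charP_of_card_eq_pow hp' (n := n * m) (by rw [← h, hn, pow_mul])
  letI := ZMod.algebra K p
  letI := ZMod.algebra F p
  have h1 : Module.finrank (ZMod p) K = n := by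
    apply Nat.pow_right_injective hp'.two_le
    simp only
    rw [← hn, FiniteField.pow_finrank_eq_card]
  have h2 : Module.finrank (ZMod p) F = n * m := by
    apply Nat.pow_right_injective hp'.two_le
    simp only
    rw [pow_mul, ← hn, h, FiniteField.pow_finrank_eq_card]
  obtain ⟨f⟩ := FiniteField.nonempty_algHom_of_finrank_dvd (F := ZMod p) (K := K) (L := F)
    (by rw [h1, h2]; exact Dvd.intro _ rfl)
  exact ⟨f.toRingHom⟩

omit [Fintype F] in
theorem exists_subgroup_of_injective {G H : Type*} [Group G] [Group H] (f : H →* G)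
    (hf : Function.Injective f) : ∃ K : Subgroup G, Nonempty (K ≃* H) :=
  ⟨f.range, ⟨(MonoidHom.ofInjective hf).symm⟩⟩

end H16
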