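import Mathlib
import Cfsg.Agent.H16.PSL2Small

/-! Subgroups `A₄`, `S₄`, `A₅` of `PSL₂(F)` in odd characteristic, from quaternions. -/

set_option autoImplicit false

namespace H16

open Matrix
open scoped MatrixGroups

theorem four_dvd_card_of_commute {G : Type*} [Group G] (H : Subgroup G) (x s : G) (hx : x ∈ H)
    (hs : s ∈ H) (hx1 : x ≠ 1) (hs1 : s ≠ 1) (hxs : x * s ≠ 1) (hx2 : x ^ 2 = 1) (hs2 : s ^ 2 = 1)
    (hc : (x * s) ^ 2 = 1) : 4 ∣ Nat.card H := by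
  have ho : orderOf x = 2 := orderOf_eq_prime hx2 hx1
  have hxx : x * x = 1 := by rw [← sq, hx2]
  have hss : s * s = 1 := by rw [← sq, hs2]
  obtain ⟨D, -, -, hD, ⟨e⟩⟩ := H7.exists_subgroup_equiv_dihedral 2 x s ho hss
    (by rw [inv_eq_of_mul_eq_one_right hss, eq_inv_iff_mul_eq_one]
        calc s * x * s * x = s * ((x * s) ^ 2) * s⁻¹ := by rw [sq]; group
          _ = 1 := by rw [hc]; group)
    (by
      rintro ⟨k, hk⟩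
      simp only at hk
      rcases Int.even_or_odd' k with ⟨m, rfl | rfl⟩
      · rw [_root_.zpow_mul, zpow_ofNat, hx2, _root_.one_zpow] at hk; exact hs1 hk.symm
      · rw [_root_.zpow_add, _root_.zpow_mul, zpow_ofNat, hx2, _root_.one_zpow, one_mul,
          zpow_one] at hk
        exact hxs (hk ▸ hxx))
  have hle : D ≤ H := fun g hg => by
    obtain ⟨k, rfl | rfl⟩ := hD g hg
    · exact zpow_mem hx k
    · exact mul_mem hs (zpow_mem hx k)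
  have := Subgroup.card_dvd_of_le hle
  rwa [Nat.card_congr e.toEquiv, DihedralGroup.nat_card] at this

/-- Quaternions with coordinates in `ℤ[θ]`. -/
structure ZQ where
  a0 : ℤ
  a1 : ℤ
  b0 : ℤ
  b1 : ℤ
  c0 : ℤ
  c1 : ℤ
  d0 : ℤ
  d1 : ℤ
  deriving DecidableEq

namespace ZQ

/-- Product, with `θ² = u θ + v`. -/
def mul (u v : ℤ) (p q : ZQ) : ZQ where
  a0 := p.a0 * q.a0 - p.b0 * q.b0 - p.c0 * q.c0 - p.d0 * q.d0 +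
    v * (p.a1 * q.a1 - p.b1 * q.b1 - p.c1 * q.c1 - p.d1 * q.d1)
  a1 := p.a0 * q.a1 - p.b0 * q.b1 - p.c0 * q.c1 - p.d0 * q.d1 +
    (p.a1 * q.a0 - p.b1 * q.b0 - p.c1 * q.c0 - p.d1 * q.d0) +
    u * (p.a1 * q.a1 - p.b1 * q.b1 - p.c1 * q.c1 - p.d1 * q.d1)
  b0 := p.a0 * q.b0 + p.b0 * q.a0 + p.c0 * q.d0 - p.d0 * q.c0 +
    v * (p.a1 * q.b1 + p.b1 * q.a1 + p.c1 * q.d1 - p.d1 * q.c1)
  b1 := p.a0 * q.b1 + p.b0 * q.a1 + p.c0 * q.d1 - p.d0 * q.c1 +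
    (p.a1 * q.b0 + p.b1 * q.a0 + p.c1 * q.d0 - p.d1 * q.c0) +
    u * (p.a1 * q.b1 + p.b1 * q.a1 + p.c1 * q.d1 - p.d1 * q.c1)
  c0 := p.a0 * q.c0 - p.b0 * q.d0 + p.c0 * q.a0 + p.d0 * q.b0 +
    v * (p.a1 * q.c1 - p.b1 * q.d1 + p.c1 * q.a1 + p.d1 * q.b1)
  c1 := p.a0 * q.c1 - p.b0 * q.d1 + p.c0 * q.a1 + p.d0 * q.b1 +
    (p.a1 * q.c0 - p.b1 * q.d0 + p.c1 * q.a0 + p.d1 * q.b0) +
    u * (p.a1 * q.c1 - p.b1 * q.d1 + p.c1 * q.a1 + p.d1 * q.b1)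
  d0 := p.a0 * q.d0 + p.b0 * q.c0 - p.c0 * q.b0 + p.d0 * q.a0 +
    v * (p.a1 * q.d1 + p.b1 * q.c1 - p.c1 * q.b1 + p.d1 * q.a1)
  d1 := p.a0 * q.d1 + p.b0 * q.c1 - p.c0 * q.b1 + p.d0 * q.a1 +
    (p.a1 * q.d0 + p.b1 * q.c0 - p.c1 * q.b0 + p.d1 * q.a0) +
    u * (p.a1 * q.d1 + p.b1 * q.c1 - p.c1 * q.b1 + p.d1 * q.a1)

def smul (k : ℤ) (p : ZQ) : ZQ :=
  ⟨k * p.a0, k * p.a1, k * p.b0, k * p.b1, k * p.c0, k * p.c1, k * p.d0, k * p.d1⟩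

def pow (u v : ℤ) (p : ZQ) : ℕ → ZQ
  | 0 => ⟨1, 0, 0, 0, 0, 0, 0, 0⟩
  | n + 1 => mul u v (pow u v p n) p

def isReal (p : ZQ) : Bool :=
  p.b0 == 0 && p.b1 == 0 && p.c0 == 0 && p.c1 == 0 && p.d0 == 0 && p.d1 == 0

def closed (u v : ℤ) (S gens : List ZQ) : Bool :=
  S.all fun q => gens.all fun x => S.any fun r =>
    decide (mul u v q x = smul 2 r) || decide (mul u v q x = smul (-2) r)

variable {F : Type*} [Field F]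

/-- The matrix of a quaternion, for `a² + b² = -1` and `θ ↦ t`. -/
def mat (a b t : F) (p : ZQ) : Matrix (Fin 2) (Fin 2) F :=
  !![(p.a0 + p.a1 * t) + a * (p.c0 + p.c1 * t) + b * (p.d0 + p.d1 * t),
      (p.b0 + p.b1 * t) + b * (p.c0 + p.c1 * t) - a * (p.d0 + p.d1 * t);
    -(p.b0 + p.b1 * t) + b * (p.c0 + p.c1 * t) - a * (p.d0 + p.d1 * t),
      (p.a0 + p.a1 * t) - a * (p.c0 + p.c1 * t) - b * (p.d0 + p.d1 * t)]

/-- The data needed to realise quaternions in `SL₂(F)`. -/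
structure Data (F : Type*) [Field F] (u v : ℤ) where
  a : F
  b : F
  t : F
  hab : a ^ 2 + b ^ 2 = -1
  ht : t ^ 2 = u * t + v
  h2 : (2 : F) ≠ 0

variable {u v : ℤ} (D : Data F u v)

theorem mat_mul (p q : ZQ) :
    mat D.a D.b D.t (mul u v p q) = mat D.a D.b D.t p * mat D.a D.b D.t q := by
  have h1 := D.hab
  have h2 := D.ht
  ext i j
  fin_cases i <;> fin_cases j <;> simp [mat, mul, Matrix.mul_apply, Fin.sum_univ_two] <;> grind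

theorem mat_smul (k : ℤ) (p : ZQ) : mat D.a D.b D.t (smul k p) = (k : F) • mat D.a D.b D.t p := by
  ext i j
  fin_cases i <;> fin_cases j <;> simp [mat, smul] <;> ring

theorem mat_det (p : ZQ) : (mat D.a D.b D.t p).det = (p.a0 + p.a1 * D.t) ^ 2 +
    (p.b0 + p.b1 * D.t) ^ 2 + (p.c0 + p.c1 * D.t) ^ 2 + (p.d0 + p.d1 * D.t) ^ 2 := by
  rw [mat, det_fin_two_of]
  linear_combination (-(p.c0 + p.c1 * D.t) ^ 2 - (p.d0 + p.d1 * D.t) ^ 2) * D.hab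

/-- `g ∈ PSL₂(F)` is represented by the quaternion `q`. -/
def Rep (g : PSL(2, F)) (q : ZQ) : Prop :=
  ∃ (g' : SL(2, F)) (c : F), (g' : PSL(2, F)) = g ∧ c ≠ 0 ∧ c • g'.1 = mat D.a D.b D.t q

variable {D}

theorem Rep.mul {g h : PSL(2, F)} {p q : ZQ} (hg : Rep D g p) (hh : Rep D h q) :
    Rep D (g * h) (mul u v p q) := by
  obtain ⟨g, c, rfl, hc, hg⟩ := hg
  obtain ⟨h, d, rfl, hd, hh⟩ := hh
  refine ⟨g * h, c * d, rfl, mul_ne_zero hc hd, ?_⟩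
  rw [mat_mul, ← hg, ← hh, smul_mul_smul_comm]; rfl

theorem Rep.of_smul {g : PSL(2, F)} {p : ZQ} {k : ℤ} (hk : (k : F) ≠ 0) (hg : Rep D g (smul k p)) :
    Rep D g p := by
  obtain ⟨g, c, rfl, hc, hg⟩ := hg
  refine ⟨g, (k : F)⁻¹ * c, rfl, mul_ne_zero (inv_ne_zero hk) hc, ?_⟩
  rw [mul_smul, hg, mat_smul, inv_smul_smul₀ hk]

theorem Rep.unique {g h : PSL(2, F)} {p : ZQ} (hg : Rep D g p) (hh : Rep D h p) : g = h := by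
  obtain ⟨g, c, rfl, hc, hg⟩ := hg
  obtain ⟨h, d, rfl, hd, hh⟩ := hh
  apply ProjectiveSpecialLinearGroup.toPGL_injective
  refine pgl_mk_eq_of_smul _ _ (d⁻¹ * c) (mul_ne_zero (inv_ne_zero hd) hc) ?_
  change h.1 = (d⁻¹ * c) • g.1
  rw [mul_smul, hg, ← hh, inv_smul_smul₀ hd]

theorem rep_one : Rep D 1 ⟨1, 0, 0, 0, 0, 0, 0, 0⟩ :=
  ⟨1, 1, rfl, one_ne_zero, by ext i j; fin_cases i <;> fin_cases j <;> simp [mat]⟩

theorem rep_two : Rep D 1 ⟨2, 0, 0, 0, 0, 0, 0, 0⟩ :=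
  ⟨1, 2, rfl, D.h2, by ext i j; fin_cases i <;> fin_cases j <;> simp [mat]⟩

theorem Rep.pow {g : PSL(2, F)} {p : ZQ} (hg : Rep D g p) (n : ℕ) : Rep D (g ^ n) (pow u v p n) := by
  induction n with
  | zero => rw [pow_zero]; exact rep_one
  | succ n ih => rw [pow_succ]; exact ih.mul hg

theorem Rep.eq_one_iff {g : PSL(2, F)} {p : ZQ} (hg : Rep D g p) :
    g = 1 ↔ (p.b0 + p.b1 * D.t = 0 ∧ p.c0 + p.c1 * D.t = 0 ∧ p.d0 + p.d1 * D.t = 0) := by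
  obtain ⟨g, c, rfl, hc, hg⟩ := hg
  have h := fun i j => congrFun (congrFun hg i) j
  have h00 := h 0 0
  have h01 := h 0 1
  have h10 := h 1 0
  have h11 := h 1 1
  simp only [mat, Matrix.smul_apply, smul_eq_mul, of_apply, cons_val', cons_val_zero, cons_val_one,
    cons_val_fin_one] at h00 h01 h10 h11
  have h2 := D.h2
  have hab := D.hab
  rw [psl2_mk_eq_one_iff]
  generalize p.b0 + p.b1 * D.t = x at *
  generalize p.c0 + p.c1 * D.t = y at *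
  generalize p.d0 + p.d1 * D.t = z at *
  constructor
  · rintro ⟨e1, e2, e3⟩
    rw [e1] at h01; rw [e2] at h10; rw [e3] at h00
    have hx : x = 0 := mul_left_cancel₀ h2 (by linear_combination h10 - h01)
    have k1 : D.b * y - D.a * z = 0 := mul_left_cancel₀ h2 (by linear_combination -h10 - h01)
    have k2 : D.a * y + D.b * z = 0 := mul_left_cancel₀ h2 (by linear_combination h11 - h00)
    exact ⟨hx, by linear_combination y * hab - D.b * k1 - D.a * k2,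
      by linear_combination z * hab + D.a * k1 - D.b * k2⟩
  · rintro ⟨rfl, rfl, rfl⟩
    exact ⟨mul_left_cancel₀ hc (by linear_combination h01),
      mul_left_cancel₀ hc (by linear_combination h10),
      mul_left_cancel₀ hc (by linear_combination h00 - h11)⟩

theorem Rep.eq_one_of_isReal {g : PSL(2, F)} {p : ZQ} (hg : Rep D g p) (h : p.isReal = true) :
    g = 1 := by
  simp only [isReal, Bool.and_eq_true, beq_iff_eq] at h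
  rw [hg.eq_one_iff]
  simp [h]

theorem exists_rep (p : ZQ) (h : (p.a0 + p.a1 * D.t) ^ 2 +
    (p.b0 + p.b1 * D.t) ^ 2 + (p.c0 + p.c1 * D.t) ^ 2 + (p.d0 + p.d1 * D.t) ^ 2 = 4) :
    ∃ g, Rep D g p := by
  have h2 := D.h2
  have hdet : ((2 : F)⁻¹ • mat D.a D.b D.t p).det = 1 := by
    rw [det_smul, mat_det, h, Fintype.card_fin]
    field_simp; norm_num
  exact ⟨_, ⟨(2 : F)⁻¹ • mat D.a D.b D.t p, hdet⟩, 2, rfl, h2, smul_inv_smul₀ h2 _⟩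

variable (D) in
/-- The subgroup generated by the elements represented by a list of quaternions. -/
def gen (gens : List ZQ) : Subgroup PSL(2, F) := Subgroup.closure {g | ∃ q ∈ gens, Rep D g q}

theorem mem_gen {gens : List ZQ} {g : PSL(2, F)} {q : ZQ} (hq : q ∈ gens) (h : Rep D g q) :
    g ∈ gen D gens := Subgroup.subset_closure ⟨q, hq, h⟩

theorem rep_of_mem_gen [Finite F] {S gens : List ZQ} (h1 : (⟨2, 0, 0, 0, 0, 0, 0, 0⟩ : ZQ) ∈ S)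
    (hc : closed u v S gens = true) {g : PSL(2, F)} (hg : g ∈ gen D gens) :
    ∃ q ∈ S, Rep D g q := by
  rw [gen, ← Subgroup.mem_toSubmonoid, Subgroup.closure_toSubmonoid_of_finite] at hg
  induction hg using Submonoid.closure_induction_right with
  | one => exact ⟨_, h1, rep_two⟩
  | mul_right x hx y hy ih =>
    obtain ⟨q, hq, hxq⟩ := ih
    obtain ⟨r, hr, hyr⟩ := hy
    simp only [closed, List.all_eq_true, List.any_eq_true, Bool.or_eq_true,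
      decide_eq_true_eq] at hc
    obtain ⟨s, hs, h | h⟩ := hc q hq r hr
    · exact ⟨s, hs, Rep.of_smul (k := 2) (by simpa using D.h2) (h ▸ hxq.mul hyr)⟩
    · exact ⟨s, hs, Rep.of_smul (k := -2) (by simpa using D.h2) (h ▸ hxq.mul hyr)⟩

theorem card_gen_le [Finite F] {S gens : List ZQ} (h1 : (⟨2, 0, 0, 0, 0, 0, 0, 0⟩ : ZQ) ∈ S)
    (hc : closed u v S gens = true) : Nat.card (gen D gens) ≤ S.length := by
  choose f hf1 hf2 using fun g : gen D gens => rep_of_mem_gen h1 hc g.2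
  have : Nat.card (gen D gens) ≤ Nat.card S.toFinset :=
    Nat.card_le_card_of_injective (fun g => ⟨f g, List.mem_toFinset.2 (hf1 g)⟩) (fun g h hgh =>
      Subtype.ext ((hf2 g).unique (by rw [Subtype.mk.inj hgh]; exact hf2 h)))
  rw [Nat.card_eq_fintype_card (α := S.toFinset), Fintype.card_coe] at this
  exact this.trans (List.toFinset_card_le S)

def listA4 : List ZQ := [⟨2, 0, 0, 0, 0, 0, 0, 0⟩, ⟨0, 0, 2, 0, 0, 0, 0, 0⟩, ⟨0, 0, 0, 0, 2, 0, 0, 0⟩,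
  ⟨1, 0, 1, 0, 1, 0, 1, 0⟩, ⟨0, 0, 0, 0, 0, 0, 2, 0⟩, ⟨1, 0, -1, 0, 1, 0, -1, 0⟩,
  ⟨1, 0, -1, 0, -1, 0, 1, 0⟩, ⟨1, 0, 1, 0, -1, 0, -1, 0⟩, ⟨1, 0, -1, 0, -1, 0, -1, 0⟩,
  ⟨1, 0, 1, 0, 1, 0, -1, 0⟩, ⟨1, 0, -1, 0, 1, 0, 1, 0⟩, ⟨1, 0, 1, 0, -1, 0, 1, 0⟩]

def listS4 : List ZQ := [⟨2, 0, 0, 0, 0, 0, 0, 0⟩, ⟨0, 1, 0, 1, 0, 0, 0, 0⟩, ⟨0, 0, 0, 0, 2, 0, 0, 0⟩,
  ⟨1, 0, 1, 0, 1, 0, 1, 0⟩, ⟨0, 0, 2, 0, 0, 0, 0, 0⟩, ⟨0, 0, 0, 0, 0, 1, 0, 1⟩,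
  ⟨0, 0, 0, 1, 0, 0, 0, 1⟩, ⟨0, 0, 0, 0, 0, 1, 0, -1⟩, ⟨1, 0, -1, 0, -1, 0, 1, 0⟩,
  ⟨0, 0, 0, 1, 0, 1, 0, 0⟩, ⟨1, 0, 1, 0, -1, 0, -1, 0⟩, ⟨1, 0, -1, 0, -1, 0, -1, 0⟩,
  ⟨0, 1, 0, -1, 0, 0, 0, 0⟩, ⟨0, 0, 0, 0, 0, 0, 2, 0⟩, ⟨1, 0, -1, 0, 1, 0, -1, 0⟩,
  ⟨0, 1, 0, 0, 0, -1, 0, 0⟩, ⟨0, 0, 0, 1, 0, 0, 0, -1⟩, ⟨0, 1, 0, 0, 0, 0, 0, -1⟩,
  ⟨0, 1, 0, 0, 0, 0, 0, 1⟩, ⟨1, 0, -1, 0, 1, 0, 1, 0⟩, ⟨0, 0, 0, 1, 0, -1, 0, 0⟩,
  ⟨1, 0, 1, 0, -1, 0, 1, 0⟩, ⟨1, 0, 1, 0, 1, 0, -1, 0⟩, ⟨0, 1, 0, 0, 0, 1, 0, 0⟩]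

def listA5 : List ZQ := [⟨2, 0, 0, 0, 0, 0, 0, 0⟩, ⟨0, 0, 2, 0, 0, 0, 0, 0⟩, ⟨0, 0, 0, 0, 2, 0, 0, 0⟩,
  ⟨1, 0, 1, 0, 1, 0, 1, 0⟩, ⟨0, 1, 1, 0, -1, 1, 0, 0⟩, ⟨0, 0, 0, 0, 0, 0, 2, 0⟩,
  ⟨1, 0, -1, 0, 1, 0, -1, 0⟩, ⟨1, 0, 0, -1, 0, 0, 1, -1⟩, ⟨1, 0, -1, 0, -1, 0, 1, 0⟩,
  ⟨1, -1, 0, 0, 0, 1, -1, 0⟩, ⟨1, 0, 1, 0, -1, 0, -1, 0⟩, ⟨1, 0, -1, 0, -1, 0, -1, 0⟩,
  ⟨0, 0, 1, 0, 0, 1, -1, 1⟩, ⟨1, 0, 0, -1, 0, 0, -1, 1⟩, ⟨1, -1, 0, 0, 0, 1, 1, 0⟩,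
  ⟨0, 0, 0, 1, -1, 1, 1, 0⟩, ⟨1, -1, 0, -1, -1, 0, 0, 0⟩, ⟨0, 0, 1, -1, 1, 0, 0, 1⟩,
  ⟨1, 0, 1, 0, 1, 0, -1, 0⟩, ⟨1, 0, 0, 0, -1, 1, 0, -1⟩, ⟨0, 1, 1, 0, 1, -1, 0, 0⟩,
  ⟨0, 0, 1, -1, -1, 0, 0, 1⟩, ⟨0, 1, 0, 0, 1, 0, 1, -1⟩, ⟨0, 1, 1, -1, 0, 0, -1, 0⟩,
  ⟨1, 0, -1, 0, 1, 0, 1, 0⟩, ⟨0, 1, 1, -1, 0, 0, 1, 0⟩, ⟨0, 0, 1, -1, -1, 0, 0, -1⟩,
  ⟨0, 1, -1, 0, -1, 1, 0, 0⟩, ⟨1, -1, 1, 0, 0, 0, 0, -1⟩, ⟨1, 0, 0, 0, 1, -1, 0, 1⟩,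
  ⟨1, 0, 1, 0, -1, 0, 1, 0⟩, ⟨1, -1, 0, -1, 1, 0, 0, 0⟩, ⟨0, 1, 0, 0, -1, 0, 1, -1⟩,
  ⟨0, 1, -1, 1, 0, 0, -1, 0⟩, ⟨0, 1, -1, 0, 1, -1, 0, 0⟩, ⟨1, 0, 1, -1, 0, -1, 0, 0⟩,
  ⟨0, 0, 1, -1, 1, 0, 0, -1⟩, ⟨1, 0, 1, -1, 0, 1, 0, 0⟩, ⟨0, 1, 0, 0, -1, 0, -1, 1⟩,
  ⟨1, 0, -1, 1, 0, -1, 0, 0⟩, ⟨1, -1, -1, 0, 0, 0, 0, 1⟩, ⟨1, 0, 0, 0, 1, -1, 0, -1⟩,
  ⟨1, -1, 0, 1, 1, 0, 0, 0⟩, ⟨1, -1, 0, 0, 0, -1, 1, 0⟩, ⟨1, 0, 0, 1, 0, 0, -1, 1⟩,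
  ⟨0, 0, 1, 0, 0, -1, 1, -1⟩, ⟨0, 0, 0, 1, -1, 1, -1, 0⟩, ⟨1, 0, 0, 1, 0, 0, 1, -1⟩,
  ⟨1, -1, 0, 0, 0, -1, -1, 0⟩, ⟨1, -1, -1, 0, 0, 0, 0, -1⟩, ⟨0, 0, 0, 1, 1, -1, -1, 0⟩,
  ⟨0, 0, 1, 0, 0, 1, 1, -1⟩, ⟨0, 0, 1, 0, 0, -1, -1, 1⟩, ⟨0, 1, 0, 0, 1, 0, -1, 1⟩,
  ⟨1, 0, -1, 1, 0, 1, 0, 0⟩, ⟨0, 0, 0, 1, 1, -1, 1, 0⟩, ⟨1, -1, 0, 1, -1, 0, 0, 0⟩,
  ⟨1, 0, 0, 0, -1, 1, 0, 1⟩, ⟨0, 1, -1, 1, 0, 0, 1, 0⟩, ⟨1, -1, 1, 0, 0, 0, 0, 1⟩]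


def qi : ZQ := ⟨0, 0, 2, 0, 0, 0, 0, 0⟩
def qj : ZQ := ⟨0, 0, 0, 0, 2, 0, 0, 0⟩
def qw : ZQ := ⟨1, 0, 1, 0, 1, 0, 1, 0⟩
def qz : ZQ := ⟨0, 1, 1, 0, -1, 1, 0, 0⟩
def qo : ZQ := ⟨0, 1, 0, 1, 0, 0, 0, 0⟩

theorem closedA4 : closed 0 0 listA4 [qi, qj, qw] = true := by decide +kernel
theorem closedS4 : closed 0 2 listS4 [qo, qj, qw] = true := by decide +kernel
theorem closedA5 : closed 1 1 listA5 [qi, qj, qw, qz] = true := by decide +kernel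
theorem ordA4 : listA4.all (fun q => (pow 0 0 q 2).isReal || (pow 0 0 q 3).isReal) = true := by
  decide +kernel
theorem ordS4 : listS4.all (fun q => (pow 0 2 q 4).isReal || (pow 0 2 q 3).isReal) = true := by
  decide +kernel
theorem ordA5 : listA5.all (fun q => (pow 1 1 q 2).isReal || (pow 1 1 q 3).isReal ||
    (pow 1 1 q 5).isReal) = true := by
  decide +kernel

theorem four_ne (D : Data F u v) : (4 : F) ≠ 0 := by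
  rw [show (4 : F) = 2 * 2 by norm_num]; exact mul_ne_zero D.h2 D.h2

theorem four_dvd_gen {gens : List ZQ} (hi : qi ∈ gens) (hj : qj ∈ gens) :
    4 ∣ Nat.card (gen D gens) := by
  obtain ⟨x, hx⟩ := exists_rep (D := D) qi (by simp [qi]; norm_num)
  obtain ⟨s, hs⟩ := exists_rep (D := D) qj (by simp [qj]; norm_num)
  have h2 := D.h2
  have h4 := four_ne D
  refine four_dvd_card_of_commute _ x s (mem_gen hi hx) (mem_gen hj hs) ?_ ?_ ?_ ?_ ?_ ?_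
  · rw [Ne, hx.eq_one_iff]; simp [qi, h2]
  · rw [Ne, hs.eq_one_iff]; simp [qj, h2]
  · rw [Ne, (hx.mul hs).eq_one_iff]; simp [qi, qj, mul, h4]
  · rw [(hx.pow 2).eq_one_iff]; simp [qi, pow, mul]
  · rw [(hs.pow 2).eq_one_iff]; simp [qj, pow, mul]
  · rw [((hx.mul hs).pow 2).eq_one_iff]; simp [qi, qj, pow, mul]

theorem three_dvd_gen {gens : List ZQ} (hw : qw ∈ gens) : 3 ∣ Nat.card (gen D gens) := by
  obtain ⟨x, hx⟩ := exists_rep (D := D) qw (by simp [qw]; norm_num)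
  have : Fact (Nat.Prime 3) := ⟨by norm_num⟩
  have : orderOf x = 3 := orderOf_eq_prime
    (by rw [(hx.pow 3).eq_one_iff]; simp [qw, pow, mul]) (by rw [Ne, hx.eq_one_iff]; simp [qw])
  exact this ▸ Subgroup.orderOf_dvd_natCard _ (mem_gen hw hx)

end ZQ

variable {F : Type*} [Field F] [Finite F]

theorem exists_quatData (h2 : (2 : F) ≠ 0) (u v : ℤ) (t : F) (ht : t ^ 2 = u * t + v) :
    Nonempty (ZQ.Data F u v) := by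
  obtain ⟨p, hp⟩ := CharP.exists F
  have : NeZero p := ⟨CharP.char_ne_zero_of_finite F p⟩
  obtain ⟨a, b, hab⟩ := CharP.sq_add_sq F p (-1)
  exact ⟨⟨a, b, t, by simpa using hab, ht, h2⟩⟩

open ZQ

theorem psl2_has_A4_of_odd (h2 : (2 : F) ≠ 0) :
    ∃ H : Subgroup PSL(2, F), Nonempty (H ≃* alternatingGroup (Fin 4)) := by
  obtain ⟨D⟩ := exists_quatData h2 0 0 0 (by simp)
  refine ⟨gen D [qi, qj, qw], equiv_A4 ?_ fun g hg => ?_⟩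
  · have h1 : Nat.card (gen D [qi, qj, qw]) ≤ 12 := card_gen_le (by decide) closedA4
    have h3 := four_dvd_gen (D := D) (gens := [qi, qj, qw]) (by simp) (by simp)
    have h4 := three_dvd_gen (D := D) (gens := [qi, qj, qw]) (by simp)
    have : 0 < Nat.card (gen D [qi, qj, qw]) := Nat.card_pos
    omega
  · obtain ⟨q, hq, hr⟩ := rep_of_mem_gen (by decide) closedA4 g.2
    have := List.all_eq_true.1 ordA4 q hq
    rw [← Subgroup.orderOf_coe] at hg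
    rcases Bool.or_eq_true_iff.1 this with h | h <;>
    · have := orderOf_dvd_of_pow_eq_one ((hr.pow _).eq_one_of_isReal h)
      rw [hg] at this
      norm_num at this

theorem psl2_has_S4_of_odd (h2 : (2 : F) ≠ 0) (hsq : IsSquare (2 : F)) :
    ∃ H : Subgroup PSL(2, F), Nonempty (H ≃* Equiv.Perm (Fin 4)) := by
  obtain ⟨t, ht⟩ := hsq
  obtain ⟨D⟩ := exists_quatData h2 0 2 t (by simp [ht, sq])
  refine ⟨gen D [qo, qj, qw], equiv_S4 ?_ fun g hg => ?_⟩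
  · have h1 : Nat.card (gen D [qo, qj, qw]) ≤ 24 := card_gen_le (by decide) closedS4
    have h4 := three_dvd_gen (D := D) (gens := [qo, qj, qw]) (by simp)
    have hD := D.ht
    have h3 : 8 ∣ Nat.card (gen D [qo, qj, qw]) := by
      obtain ⟨x, hx⟩ := exists_rep (D := D) qo (by simp [qo]; simp at hD; linear_combination 2 * hD)
      obtain ⟨s, hs⟩ := exists_rep (D := D) qj (by simp [qj]; norm_num)
      have hx2 : x ^ 2 ≠ 1 := by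
        rw [Ne, (hx.pow 2).eq_one_iff]; simp [qo, ZQ.pow, ZQ.mul, four_ne D]
      have ho : orderOf x = 4 := orderOf_eq_prime_pow (p := 2) (n := 1) hx2
        (by rw [(hx.pow _).eq_one_iff]; simp [qo, ZQ.pow, ZQ.mul])
      have hss : s * s = 1 := by rw [(hs.mul hs).eq_one_iff]; simp [qj, ZQ.mul]
      have hsx : s * x * s⁻¹ = x⁻¹ := by
        rw [inv_eq_of_mul_eq_one_right hss, eq_inv_iff_mul_eq_one,
          (((hs.mul hx).mul hs).mul hx).eq_one_iff]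
        simp [qo, qj, ZQ.mul]
      obtain ⟨E, -, -, hE, ⟨e⟩⟩ := H7.exists_subgroup_equiv_dihedral 4 x s ho hss hsx (by
        rintro ⟨k, rfl⟩
        apply hx2
        simp only at hsx
        rw [sq, ← eq_inv_iff_mul_eq_one, ← hsx]; group)
      have hle : E ≤ gen D [qo, qj, qw] := fun g hg => by
        have hx' := mem_gen (gens := [qo, qj, qw]) (by simp) hx
        obtain ⟨k, rfl | rfl⟩ := hE g hg
        · exact zpow_mem hx' k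
        · exact mul_mem (mem_gen (by simp) hs) (zpow_mem hx' k)
      have := Subgroup.card_dvd_of_le hle
      rwa [Nat.card_congr e.toEquiv, DihedralGroup.nat_card] at this
    have : 0 < Nat.card (gen D [qo, qj, qw]) := Nat.card_pos
    omega
  · obtain ⟨q, hq, hr⟩ := rep_of_mem_gen (by decide) closedS4 g.2
    have := List.all_eq_true.1 ordS4 q hq
    rw [← Subgroup.orderOf_coe] at hg
    rcases Bool.or_eq_true_iff.1 this with h | h <;>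
    · have := orderOf_dvd_of_pow_eq_one ((hr.pow _).eq_one_of_isReal h)
      rw [hg] at this
      norm_num at this

theorem psl2_has_A5_of_odd (h2 : (2 : F) ≠ 0) (hsq : IsSquare (5 : F)) :
    ∃ H : Subgroup PSL(2, F), Nonempty (H ≃* alternatingGroup (Fin 5)) := by
  obtain ⟨s, hs⟩ := hsq
  obtain ⟨D⟩ := exists_quatData h2 1 1 ((1 + s) / 2) (by
    field_simp; push_cast; linear_combination -hs)
  refine ⟨gen D [qi, qj, qw, qz], equiv_A5 ?_ fun g => ?_⟩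
  · have h1 : Nat.card (gen D [qi, qj, qw, qz]) ≤ 60 := card_gen_le (by decide) closedA5
    have h3 := four_dvd_gen (D := D) (gens := [qi, qj, qw, qz]) (by simp) (by simp)
    have h4 := three_dvd_gen (D := D) (gens := [qi, qj, qw, qz]) (by simp)
    have hD := D.ht
    have h5 : 5 ∣ Nat.card (gen D [qi, qj, qw, qz]) := by
      obtain ⟨x, hx⟩ := exists_rep (D := D) qz (by simp [qz]; simp at hD; linear_combination 2 * hD)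
      have : Fact (Nat.Prime 5) := ⟨by norm_num⟩
      have : orderOf x = 5 := orderOf_eq_prime
        ((hx.pow 5).eq_one_of_isReal (by decide)) (by rw [Ne, hx.eq_one_iff]; simp [qz])
      exact this ▸ Subgroup.orderOf_dvd_natCard _ (mem_gen (by simp) hx)
    have : 0 < Nat.card (gen D [qi, qj, qw, qz]) := Nat.card_pos
    omega
  · obtain ⟨q, hq, hr⟩ := rep_of_mem_gen (by decide) closedA5 g.2
    have := List.all_eq_true.1 ordA5 q hq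
    simp only [Bool.or_eq_true] at this
    rcases this with (h | h) | h
    · exact Or.inl (Subtype.ext ((hr.pow _).eq_one_of_isReal h))
    · exact Or.inr (Or.inl (Subtype.ext ((hr.pow _).eq_one_of_isReal h)))
    · exact Or.inr (Or.inr (Subtype.ext ((hr.pow _).eq_one_of_isReal h)))

end H16
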