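import Mathlib
import Cfsg.Agent.H16.PSL2Quat

/-! When `PSL₂(q)` contains `A₄`, `S₄`, `A₅`, `PGL₂(r)`. -/

set_option autoImplicit false

namespace H16

open Matrix MulAction
open scoped MatrixGroups

variable {F : Type*} [Field F] [Fintype F]

theorem psl2_card_stabilizer [DecidableEq F] {q : ℕ} (hF : Fintype.card F = q) (x : OnePoint F) :
    Nat.gcd 2 (q - 1) * Nat.card (stabilizer PSL(2, F) x) = q * (q - 1) := by
  have h1 := (stabilizer PSL(2, F) x).index_mul_card
  rw [psl2_stabilizer_index, Nat.card_eq_fintype_card (α := F), hF] at h1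
  have h2 := H7.card_psl_two hF
  rw [← h1, mul_left_comm] at h2
  apply Nat.eq_of_mul_eq_mul_left (show 0 < q + 1 by omega)
  rw [h2, show q ^ 2 - 1 = (q + 1) * (q - 1) by simpa using Nat.sq_sub_sq q 1]
  ring

theorem exists_subgroup_trans {G H K : Type*} [Group G] [Group H] [Group K] (f : H →* G)
    (hf : Function.Injective f) (h : ∃ S : Subgroup H, Nonempty (S ≃* K)) :
    ∃ S : Subgroup G, Nonempty (S ≃* K) := by
  obtain ⟨S, ⟨e⟩⟩ := h
  exact ⟨S.map f, ⟨(S.equivMapOfInjective f hf).symm.trans e⟩⟩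

theorem exists_card_four_hom {n : ℕ} (hF : Fintype.card F = 2 ^ n) (hn : Even n) :
    ∃ (K : Type) (_ : Field K) (_ : Fintype K), Fintype.card K = 4 ∧ Nonempty (K →+* F) := by
  have := Fintype.ofFinite (GaloisField 2 2)
  have h4 : Fintype.card (GaloisField 2 2) = 4 := by
    rw [← Nat.card_eq_fintype_card, GaloisField.card 2 2 (by norm_num)]; rfl
  obtain ⟨m, rfl⟩ := hn
  exact ⟨GaloisField 2 2, inferInstance, this, h4, exists_ringHom_of_card_pow (m := m)
    (by rw [h4, hF, ← two_mul, pow_mul]; norm_num)⟩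

theorem psl2_four_has_A4 (hF : Fintype.card F = 4) :
    ∃ H : Subgroup PSL(2, F), Nonempty (H ≃* alternatingGroup (Fin 4)) := by
  classical
  have : CharP F 2 := charP_of_card_eq_pow (n := 2) (by norm_num) hF
  refine ⟨stabilizer PSL(2, F) (OnePoint.infty : OnePoint F), equiv_A4 ?_ fun g hg => ?_⟩
  · simpa using psl2_card_stabilizer hF OnePoint.infty
  · rw [← Subgroup.orderOf_coe] at hg
    rcases psl2_pow_cases 2 hF g with h | h | h <;>
    · have := orderOf_dvd_of_pow_eq_one h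
      rw [hg] at this
      norm_num at this

theorem A4_elements : ∃ x y a : alternatingGroup (Fin 4),
    x ^ 2 = 1 ∧ x ≠ 1 ∧ x * y = y * x ∧ a * x * a⁻¹ = y ∧ a ^ 3 = 1 ∧ a ≠ 1 :=
  ⟨⟨Equiv.swap 0 1 * Equiv.swap 2 3, Equiv.Perm.mem_alternatingGroup.2 (by decide)⟩,
    ⟨Equiv.swap 1 2 * Equiv.swap 0 3, Equiv.Perm.mem_alternatingGroup.2 (by decide)⟩,
    ⟨Equiv.swap 0 2 * Equiv.swap 0 1, Equiv.Perm.mem_alternatingGroup.2 (by decide)⟩,
    by simp only [Ne, Subtype.ext_iff]; decide⟩

theorem psl2_has_A4_iff (p n : ℕ) [hp : Fact p.Prime] [CharP F p] (hF : Fintype.card F = p ^ n) :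
    (∃ H : Subgroup PSL(2, F), Nonempty (H ≃* alternatingGroup (Fin 4))) ↔ ¬ (p = 2 ∧ Odd n) := by
  classical
  constructor
  · rintro ⟨H, ⟨e⟩⟩ ⟨rfl, hn⟩
    obtain ⟨x, y, a, h1, h2, h3, h4, h5, h6⟩ := A4_elements
    let φ := H.subtype.comp e.symm.toMonoidHom
    have hφ : Function.Injective φ := Subtype.val_injective.comp e.symm.injective
    have L := lineAct_PSL (F := F) 2
    have hx2 : φ x ^ 2 = 1 := by rw [← map_pow, h1, map_one]
    have hx1 : φ x ≠ 1 := (map_ne_one_iff φ hφ).2 h2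
    obtain ⟨P, hP⟩ := L.exists_fixed (φ x)
    have hyP : φ y • P = P := L.unip (φ x) P _ hx2 hx1 hP
      (by rw [← mul_smul, ← map_mul, h3, map_mul, mul_smul, hP])
    have hy : φ y = φ a * φ x * (φ a)⁻¹ := by rw [← h4, map_mul, map_mul, map_inv]
    have haP : φ a • P = P := L.unip (φ y) P _ (by rw [hy, conj_pow, hx2]; group)
      (by rw [hy]; exact fun h => hx1 (conj_eq_one_iff.1 h)) hyP
      (by rw [hy, mul_smul, mul_smul, inv_smul_smul, hP])
    obtain ⟨Q, rfl⟩ := PLine.rat_of_unip 2 (ProjectiveSpecialLinearGroup.toPGL (φ x))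
      (by rw [← map_pow, hx2, map_one])
      ((map_ne_one_iff _ ProjectiveSpecialLinearGroup.toPGL_injective).2 hx1) P hP
    rw [psl_smul_rat] at haP
    have ho : orderOf (φ a) = 3 := by
      have : Fact (Nat.Prime 3) := ⟨by norm_num⟩
      exact orderOf_eq_prime (by rw [← map_pow, h5, map_one]) ((map_ne_one_iff φ hφ).2 h6)
    have h7 := Subgroup.orderOf_dvd_natCard (stabilizer PSL(2, F) Q) (PLine.rat_injective haP)
    rw [ho] at h7
    have h8 := h7.trans (Dvd.intro_left _ (psl2_card_stabilizer hF Q))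
    obtain ⟨k, rfl⟩ := hn
    have h9 : 2 ^ (2 * k + 1) % 3 = 2 := by
      rw [pow_succ, pow_mul, Nat.mul_mod, Nat.pow_mod]; norm_num
    generalize 2 ^ (2 * k + 1) = N at h8 h9
    rcases (Nat.Prime.dvd_mul Nat.prime_three).1 h8 with h | h <;> omega
  · intro h
    by_cases hp2 : p = 2
    · subst hp2
      obtain ⟨K, _, _, hK, ⟨f⟩⟩ := exists_card_four_hom hF
        (Nat.not_odd_iff_even.1 fun hn => h ⟨rfl, hn⟩)
      exact exists_subgroup_trans (pslMap f) (pslMap_injective f) (psl2_four_has_A4 hK)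
    · exact psl2_has_A4_of_odd (Ring.two_ne_zero (by rwa [ringChar.eq F p]))

theorem psl2_has_S4_iff {q : ℕ} (hF : Fintype.card F = q) :
    (∃ H : Subgroup PSL(2, F), Nonempty (H ≃* Equiv.Perm (Fin 4))) ↔ q ^ 2 % 16 = 1 := by
  have hmod : q ^ 2 % 16 = 1 ↔ (q % 8 = 1 ∨ q % 8 = 7) := by
    rw [Nat.pow_mod]
    have : q % 8 = q % 16 % 8 := by omega
    rw [this]
    have : q % 16 < 16 := Nat.mod_lt _ (by norm_num)
    interval_cases (q % 16) <;> simp
  rw [hmod]
  constructor
  · rintro ⟨H, ⟨e⟩⟩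
    obtain ⟨p, _, n, hp, -⟩ := FiniteField.card' F
    have := Fact.mk hp
    have ho : orderOf ((e.symm (finRotate 4) : H) : PSL(2, F)) = 4 := by
      rw [Subgroup.orderOf_coe, MulEquiv.orderOf_eq]
      exact orderOf_eq_prime_pow (p := 2) (n := 1) (by decide) (by decide)
    have hq : 1 ≤ q := hF ▸ Fintype.card_pos
    rcases psl2_pow_cases p hF (e.symm (finRotate 4) : H) with h | h | h
    all_goals
      have h1 := orderOf_dvd_of_pow_eq_one h
      rw [ho] at h1
    · rcases (Nat.dvd_prime hp).1 h1 with h2 | h2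
      · omega
      · rw [← h2] at hp; norm_num at hp
    all_goals
      rcases gcd_two_cases q hq with ⟨h2, h3⟩ | ⟨h2, h3⟩ <;> rw [h3] at h1 <;> omega
  · intro h
    exact psl2_has_S4_of_odd (H7.two_ne_zero_of_odd_card (by rw [hF, Nat.odd_iff]; omega))
      (FiniteField.isSquare_two_iff.2 (by rw [hF]; omega))

theorem psl2_has_A5_iff {q : ℕ} (hF : Fintype.card F = q) :
    (∃ H : Subgroup PSL(2, F), Nonempty (H ≃* alternatingGroup (Fin 5))) ↔ 5 ∣ q * (q ^ 2 - 1) := by
  constructor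
  · rintro ⟨H, ⟨e⟩⟩
    have h1 := H.card_subgroup_dvd_card
    rw [Nat.card_congr e.toEquiv, nat_card_alternatingGroup] at h1
    rw [← H7.card_psl_two hF]
    exact Dvd.dvd.mul_left (Dvd.dvd.trans (by simp [Nat.factorial]) h1) _
  · intro h
    have hq : 1 ≤ q := hF ▸ Fintype.card_pos
    have h5 : q % 5 = 0 ∨ q % 5 = 1 ∨ q % 5 = 4 := by
      rcases (Nat.Prime.dvd_mul (by norm_num)).1 h with h1 | h1
      · omega
      · have h2 : q ^ 2 % 5 = 1 := by
          have : 1 ≤ q ^ 2 := Nat.one_le_pow _ _ hq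
          omega
        rw [Nat.pow_mod] at h2
        have : q % 5 < 5 := Nat.mod_lt _ (by norm_num)
        interval_cases (q % 5) <;> simp_all
    by_cases h2 : ringChar F = 2
    · have : CharP F 2 := h2 ▸ ringChar.charP F
      obtain ⟨n, -, hn⟩ := FiniteField.card F 2
      obtain ⟨K, _, _, hK, ⟨f⟩⟩ := exists_card_four_hom hn (by
        by_contra hodd
        obtain ⟨k, hk⟩ := Nat.not_even_iff_odd.1 hodd
        rw [hF, hk, pow_succ, pow_mul] at hn
        have : ∀ k : ℕ, 4 ^ k % 5 = 1 ∨ 4 ^ k % 5 = 4 := by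
          intro k
          induction k with
          | zero => simp
          | succ k ih => rw [pow_succ]; omega
        have := this k
        norm_num at hn
        omega)
      obtain ⟨e⟩ := psl2_four hK
      exact exists_subgroup_of_injective ((pslMap f).comp e.symm.toMonoidHom)
        ((pslMap_injective f).comp e.symm.injective)
    · refine psl2_has_A5_of_odd (Ring.two_ne_zero h2) ?_
      have key : ∀ (e : ℤ) (r : ℕ), (e = 0 ∨ e = 1 ∨ e = -1) → (r = 0 ∨ r = 1 ∨ r = 4) →
          IsSquare ((e : ZMod 5) * (r : ZMod 5)) := by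
        rintro e r (rfl | rfl | rfl) (rfl | rfl | rfl) <;> decide
      have : Fact (Nat.Prime 5) := ⟨by norm_num⟩
      have h3 := (FiniteField.isSquare_odd_prime_iff h2 (p := 5) (by norm_num)).2 (by
        rw [Ne, quadraticChar_neg_one_iff_not_isSquare, not_not, hF]
        have h4 : (q : ZMod 5) = ((q % 5 : ℕ) : ZMod 5) := (ZMod.natCast_mod q 5).symm
        rw [h4]
        exact key _ _ (ZMod.isQuadratic_χ₄ (q : ZMod 4)) h5)
      simpa using h3

theorem exists_geom_parity (s : ℕ) (hs : Odd s) (m : ℕ) :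
    ∃ c, s ^ m - 1 = (s - 1) * c ∧ c % 2 = m % 2 := by
  induction m with
  | zero => exact ⟨0, by simp, rfl⟩
  | succ m ih =>
    obtain ⟨c, h1, h2⟩ := ih
    refine ⟨s ^ m + c, ?_, ?_⟩
    · have h3 : 1 ≤ s ^ m := Nat.one_le_pow _ _ hs.pos
      have h4 : 1 ≤ s ^ (m + 1) := Nat.one_le_pow _ _ hs.pos
      have h5 : 1 ≤ s := hs.pos
      zify [h3, h4, h5] at h1 ⊢
      linear_combination h1
    · have := Nat.odd_iff.1 (hs.pow (n := m))
      omega

omit [Fintype F] in
theorem mk_mem_range_toPGL (g : GL (Fin 2) F) (h : IsSquare g.1.det) :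
    ProjGenLinGroup.mk g ∈ (ProjectiveSpecialLinearGroup.toPGL (n := Fin 2) (R := F)).range := by
  obtain ⟨s, hs⟩ := h
  have hs0 : s ≠ 0 := by rintro rfl; exact g.det_ne_zero (by simpa using hs)
  let g' : SL(2, F) := ⟨s⁻¹ • g.1, by rw [det_smul, hs, Fintype.card_fin]; field_simp⟩
  exact ⟨g', (pgl_mk_eq_of_smul g (SpecialLinearGroup.toGL g') s⁻¹ (inv_ne_zero hs0) rfl).symm⟩

theorem psl2_has_pgl2_iff {K : Type*} [Field K] [Fintype K] {q : ℕ} (hF : Fintype.card F = q)
    (hodd : Odd q) (m : ℕ) (hm : 1 ≤ m) (hK : Fintype.card K ^ m = q) :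
    (∃ H : Subgroup PSL(2, F), Nonempty (H ≃* PGL(2, K))) ↔ Even m := by
  have hr : Odd (Fintype.card K) := (Nat.odd_pow_iff (by omega)).1 (hK ▸ hodd)
  have hr1 : 1 < Fintype.card K := Fintype.one_lt_card
  constructor
  · rintro ⟨H, ⟨e⟩⟩
    have h1 := H.card_subgroup_dvd_card
    rw [Nat.card_congr e.toEquiv, card_pgl_two, Nat.card_eq_fintype_card] at h1
    have h2 := H7.card_psl_two hF
    rcases gcd_two_cases q hodd.pos with ⟨-, h3⟩ | ⟨h3, -⟩
    swap
    · rw [Nat.odd_iff] at hodd; omega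
    rw [h3] at h2
    have h4 := Nat.mul_dvd_mul_left 2 h1
    obtain ⟨c, hc1, hc2⟩ := exists_geom_parity (Fintype.card K ^ 2) hr.pow m
    rw [h2, ← hK, ← pow_mul, mul_comm m 2, pow_mul, hc1, ← mul_assoc, mul_comm _ c,
      ← mul_assoc] at h4
    have h5 := Nat.dvd_of_mul_dvd_mul_right (by
      have : 2 ^ 2 ≤ Fintype.card K ^ 2 := Nat.pow_le_pow_left hr1 2
      omega) h4
    have h6 : 2 ∣ Fintype.card K ^ m * c := (Dvd.intro _ rfl).trans h5
    rw [hK] at h6
    rcases (Nat.Prime.dvd_mul Nat.prime_two).1 h6 with h | h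
    · rw [Nat.odd_iff] at hodd; omega
    · rw [Nat.even_iff]; omega
  · intro hev
    obtain ⟨f⟩ := exists_ringHom_of_card_pow (hK.trans hF.symm)
    have hsq : ∀ x : K, x ≠ 0 → IsSquare (f x) := by
      intro x hx
      have h2 : ringChar F ≠ 2 := fun h => by
        have := FiniteField.even_card_iff_char_two.1 h
        rw [hF] at this; rw [Nat.odd_iff] at hodd; omega
      rw [FiniteField.isSquare_iff h2 ((map_ne_zero f).2 hx), hF]
      obtain ⟨c, hc1, hc2⟩ := exists_geom_parity _ hr m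
      rw [hK] at hc1
      obtain ⟨d, rfl⟩ : ∃ d, c = 2 * d := ⟨c / 2, by rw [Nat.even_iff] at hev; omega⟩
      have : q / 2 = (Fintype.card K - 1) * d := by
        rw [Nat.odd_iff] at hodd
        rw [mul_left_comm] at hc1
        omega
      rw [this, ← map_pow, pow_mul, FiniteField.pow_card_sub_one_eq_one x hx, one_pow, map_one]
    have hle : (ProjGenLinGroup.map (n := Fin 2) f).range ≤
        (ProjectiveSpecialLinearGroup.toPGL (n := Fin 2) (R := F)).range := by
      rintro _ ⟨g, rfl⟩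
      induction g using ProjGenLinGroup.induction_on with | mk g =>
      apply mk_mem_range_toPGL
      have := hsq _ g.det_ne_zero
      rwa [RingHom.map_det] at this
    exact exists_subgroup_of_injective
      ((MonoidHom.ofInjective ProjectiveSpecialLinearGroup.toPGL_injective).symm.toMonoidHom.comp
        ((Subgroup.inclusion hle).comp (ProjGenLinGroup.map (n := Fin 2) f).rangeRestrict))
      (by exact (MonoidHom.ofInjective
        ProjectiveSpecialLinearGroup.toPGL_injective).symm.injective.comp ((Subgroup.inclusion_injective hle).comp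
        (MonoidHom.rangeRestrict_injective_iff.2 (pgl_map_injective f))))

end H16
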