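import Mathlib
import Cfsg.Agent.H16.PSL2Basic
import Cfsg.Agent.H7.QuadAlg
import Cfsg.Agent.H2.Quaternion

/-! Dickson's theorem for subgroups of `SL₂(F)`. -/

set_option autoImplicit false

namespace H16

open MulAction Matrix OnePoint
open scoped MatrixGroups

variable {F : Type*} [Field F]

/-- The map `SL₂(F) → PGL₂(F)`. -/
noncomputable def slPGL : SL(2, F) →* PGL(2, F) :=
  ProjGenLinGroup.mk.comp SpecialLinearGroup.toGL

theorem slPGL_apply (g : SL(2, F)) : slPGL g = ProjGenLinGroup.mk (SpecialLinearGroup.toGL g) := rfl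

theorem toPGL_mk_eq (g : SL(2, F)) :
    ProjectiveSpecialLinearGroup.toPGL (g : PSL(2, F)) = slPGL g := rfl

theorem sl2_mem_center_iff' (g : SL(2, F)) :
    g ∈ Subgroup.center SL(2, F) ↔ g = 1 ∨ g = -1 := by
  constructor
  · intro h
    obtain ⟨h1, h2, h3⟩ := (sl2_mem_center_iff g).1 h
    have h4 := sl2_det g
    rw [h1, ← h3, zero_mul, sub_zero] at h4
    rcases mul_self_eq_one_iff.1 h4 with h5 | h5
    · left
      ext i j
      fin_cases i <;> fin_cases j <;> simp [h1, h2, ← h3, h5]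
    · right
      ext i j
      fin_cases i <;> fin_cases j <;> simp [h1, h2, ← h3, h5]
  · rintro (rfl | rfl)
    · exact one_mem _
    · rw [sl2_mem_center_iff]; simp

theorem slPGL_eq_one_iff (g : SL(2, F)) : slPGL g = 1 ↔ g = 1 ∨ g = -1 := by
  rw [← sl2_mem_center_iff', sl2_mem_center_iff, slPGL_apply, pgl2_mk_eq_one_iff]
  rfl

theorem slPGL_eq_iff (g h : SL(2, F)) : slPGL g = slPGL h ↔ h = g ∨ h = -g := by
  rw [← inv_mul_eq_one, ← map_inv, ← map_mul, slPGL_eq_one_iff, inv_mul_eq_one, eq_comm,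
    inv_mul_eq_iff_eq_mul, mul_neg, mul_one]

theorem psl2_mk_eq_iff (g h : SL(2, F)) : (g : PSL(2, F)) = h ↔ h = g ∨ h = -g := by
  rw [← slPGL_eq_iff, ← toPGL_mk_eq, ← toPGL_mk_eq,
    ProjectiveSpecialLinearGroup.toPGL_injective.eq_iff]

theorem sl2_neg_one_ne (h2 : (2 : F) ≠ 0) : (-1 : SL(2, F)) ≠ 1 := by
  intro h
  have := congrFun (congrFun (congrArg Subtype.val h) 0) 0
  simp at this
  exact h2 (by linear_combination -this)

/-- Conjugation of `SL_n` by an element of `GL_n`. -/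
noncomputable def slConj {n : Type*} [Fintype n] [DecidableEq n] (c : GL n F) :
    SpecialLinearGroup n F ≃* SpecialLinearGroup n F where
  toFun g := ⟨c.1 * g.1 * (c⁻¹).1, by
    rw [det_mul, det_mul, g.2, mul_one, ← det_mul, ← Units.val_mul, mul_inv_cancel]; simp⟩
  invFun g := ⟨(c⁻¹).1 * g.1 * c.1, by
    rw [det_mul, det_mul, g.2, mul_one, ← det_mul, ← Units.val_mul, inv_mul_cancel]; simp⟩
  left_inv g := Subtype.ext (by simp [Matrix.mul_assoc])
  right_inv g := Subtype.ext (by simp [Matrix.mul_assoc])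
  map_mul' g h := Subtype.ext (by
    change c.1 * (g.1 * h.1) * (c⁻¹).1 = c.1 * g.1 * (c⁻¹).1 * (c.1 * h.1 * (c⁻¹).1)
    simp [Matrix.mul_assoc])

theorem toGL_slConj {n : Type*} [Fintype n] [DecidableEq n] (c : GL n F)
    (g : SpecialLinearGroup n F) :
    (SpecialLinearGroup.toGL (slConj c g) : GL n F) = c * SpecialLinearGroup.toGL g * c⁻¹ :=
  Units.ext rfl

theorem slPGL_slConj (c : GL (Fin 2) F) (g : SL(2, F)) :
    slPGL (slConj c g) = ProjGenLinGroup.mk c * slPGL g * (ProjGenLinGroup.mk c)⁻¹ := by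
  rw [slPGL_apply, toGL_slConj, map_mul, map_mul, map_inv, slPGL_apply]

theorem slPGL_map {K : Type*} [Field K] (f : K →+* F) (g : SL(2, K)) :
    slPGL (SpecialLinearGroup.map f g) = ProjGenLinGroup.map f (slPGL g) :=
  toPGL_pslMap f (g : PSL(2, K))

theorem neg_one_mem_of_sq (H : Subgroup SL(2, F)) (w : SL(2, F)) (hw : w * w = -1)
    (h : slPGL w ∈ H.map slPGL) : -1 ∈ H := by
  obtain ⟨g, hg, e⟩ := h
  have : g * g = -1 := by
    rcases (slPGL_eq_iff _ _).1 e with rfl | rfl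
    · exact hw
    · simpa using hw
  exact this ▸ mul_mem hg hg

theorem mem_of_slPGL_mem (H : Subgroup SL(2, F)) (h1 : -1 ∈ H) (w : SL(2, F))
    (h : slPGL w ∈ H.map slPGL) : w ∈ H := by
  obtain ⟨g, hg, e⟩ := h
  rcases (slPGL_eq_iff _ _).1 e with rfl | rfl
  · exact hg
  · simpa using mul_mem h1 hg

theorem range_le_of_slPGL {K : Type*} [Field K] (H : Subgroup SL(2, F)) (φ : SL(2, K) →* SL(2, F))
    (hφ : φ (-1) = -1) (h : ∀ g, slPGL (φ g) ∈ H.map slPGL) : φ.range ≤ H := by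
  have h1 : -1 ∈ H := by
    refine neg_one_mem_of_sq H (φ (sl2 0 (-1) 1 0 (by simp))) ?_ (h _)
    rw [← map_mul, ← hφ]
    congr 1
    ext i j
    fin_cases i <;> fin_cases j <;> simp [mul_apply, Fin.sum_univ_two]
  rintro _ ⟨g, rfl⟩
  exact mem_of_slPGL_mem H h1 _ (h g)

/-- In odd characteristic, an irregular subgroup contains a conjugate of `PSL₂(L)`. -/
theorem exists_conj_psl_le [Finite F] [DecidableEq F] (p : ℕ) [hp : Fact p.Prime] [CharP F p]
    (hp2 : p ≠ 2) (H : Subgroup PGL(2, F)) (x : OnePoint F)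
    (hx : ∃ g ∈ H, g ≠ 1 ∧ g ^ p = 1 ∧ g • x = x) (hne : ∃ g ∈ H, g • x ≠ x) :
    ∃ (γ : PGL(2, F)) (L : Subfield F), ∀ g : SL(2, L),
      γ⁻¹ * ProjGenLinGroup.map L.subtype (slPGL g) * γ ∈ H := by
  have key : ∀ H : Subgroup PGL(2, F), (∃ (γ : PGL(2, F)) (L : Subfield F), 3 ≤ Nat.card L ∧
      (H.map (MulAut.conj γ).toMonoidHom = (ProjGenLinGroup.map (n := Fin 2) L.subtype).range ∨
        (p ≠ 2 ∧ H.map (MulAut.conj γ).toMonoidHom =
          ((ProjGenLinGroup.map (n := Fin 2) L.subtype).comp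
            ProjectiveSpecialLinearGroup.toPGL).range))) →
      ∃ (γ : PGL(2, F)) (L : Subfield F), ∀ g : SL(2, L),
        γ⁻¹ * ProjGenLinGroup.map L.subtype (slPGL g) * γ ∈ H := by
    rintro H ⟨γ, L, -, h⟩
    refine ⟨γ, L, fun g => ?_⟩
    have : ProjGenLinGroup.map L.subtype (slPGL g) ∈ H.map (MulAut.conj γ).toMonoidHom := by
      rcases h with h | ⟨-, h⟩ <;> rw [h]
      · exact ⟨_, rfl⟩
      · exact ⟨(g : PSL(2, L)), rfl⟩
    obtain ⟨k, hk, e⟩ := this
    rw [← e]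
    simpa [mul_assoc] using hk
  rcases dickson_irregular p H x hx hne with h | ⟨rfl, h1, h2⟩ | h
  · exact absurd h.1 hp2
  swap
  · exact key H h
  obtain ⟨e⟩ := equiv_A5 h1 h2
  let φ : alternatingGroup (Fin 5) →* PGL(2, F) := H.subtype.comp e.symm.toMonoidHom
  have hφ : Function.Injective φ := Subtype.val_injective.comp e.symm.injective
  let S := stabilizer (alternatingGroup (Fin 5)) (4 : Fin 5)
  let a : alternatingGroup (Fin 5) :=
    ⟨Equiv.swap 0 1 * Equiv.swap 1 2, Equiv.Perm.mem_alternatingGroup.2 (by decide)⟩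
  let b : alternatingGroup (Fin 5) :=
    ⟨Equiv.swap 1 2 * Equiv.swap 2 3, Equiv.Perm.mem_alternatingGroup.2 (by decide)⟩
  have ha : a ∈ S := by rw [mem_stabilizer_iff]; decide
  have hb : b ∈ S := by rw [mem_stabilizer_iff]; decide
  have ha3 : φ a ^ 3 = 1 := by rw [← map_pow, show a ^ 3 = 1 by decide, map_one]
  have hb3 : φ b ^ 3 = 1 := by rw [← map_pow, show b ^ 3 = 1 by decide, map_one]
  have ha1 : φ a ≠ 1 := by rw [Ne, map_eq_one_iff _ hφ]; decide
  have LA := lineAct_PLine (F := F) 3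
  obtain ⟨y, hy⟩ := LA.exists_fixed (φ a)
  obtain ⟨y, rfl⟩ := PLine.rat_of_unip 3 _ ha3 ha1 y hy
  have hy' : φ a • y = y := PLine.rat_injective (by rw [← PLine.smul_rat, hy])
  have hby : φ b • y ≠ y := by
    intro h
    have h3 : φ b ∈ LA.U (PLine.rat y) := ⟨by rw [PLine.smul_rat, h], hb3⟩
    have h4 := (mul_mem (show φ a ∈ LA.U (PLine.rat y) from ⟨hy, ha3⟩) h3).2
    rw [← map_mul, ← map_pow, map_eq_one_iff _ hφ] at h4
    revert h4
    decide
  have hle : S.map φ ≤ H := by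
    rintro _ ⟨g, -, rfl⟩
    exact (e.symm g).2
  rcases dickson_irregular 3 (S.map φ) y ⟨_, ⟨a, ha, rfl⟩, ha1, ha3, hy'⟩ ⟨_, ⟨b, hb, rfl⟩, hby⟩
    with h | ⟨-, h3, -⟩ | h
  · exact absurd h.1 hp2
  · exfalso
    rw [Subgroup.card_map_of_injective hφ, ← h1, Nat.card_congr e.toEquiv,
      Subgroup.card_eq_iff_eq_top] at h3
    have : (⟨Equiv.swap 2 3 * Equiv.swap 3 4, Equiv.Perm.mem_alternatingGroup.2 (by decide)⟩ :
        alternatingGroup (Fin 5)) ∈ S :=
      h3 ▸ Subgroup.mem_top _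
    rw [mem_stabilizer_iff] at this
    revert this
    decide
  · obtain ⟨γ, L, h⟩ := key _ h
    exact ⟨γ, L, fun g => hle (h g)⟩

theorem two_ne_zero_of_charP (p : ℕ) [hp : Fact p.Prime] [CharP F p] (hp2 : p ≠ 2) :
    (2 : F) ≠ 0 := by
  intro h
  have : ((2 : ℕ) : F) = 0 := by exact_mod_cast h
  rw [CharP.cast_eq_zero_iff F p] at this
  exact hp2 ((Nat.prime_dvd_prime_iff_eq hp.out Nat.prime_two).1 this)

/-- A subgroup of `SL₂(F)` with more than one Sylow `p`-subgroup is irregular. -/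
theorem irregular_of_sylow [Finite F] [DecidableEq F] (p : ℕ) [hp : Fact p.Prime] [CharP F p]
    (hp2 : p ≠ 2) (H : Subgroup SL(2, F)) (hH : 1 < Nat.card (Sylow p H)) :
    ∃ x : OnePoint F, (∃ g ∈ H.map slPGL, g ≠ 1 ∧ g ^ p = 1 ∧ g • x = x) ∧
      ∃ g ∈ H.map slPGL, g • x ≠ x := by
  have h2 := two_ne_zero_of_charP (F := F) p hp2
  have hodd : Odd p := hp.out.odd_of_ne_two hp2
  let π : H →* H.map slPGL := slPGL.subgroupMap H
  have hπ : Function.Surjective π := slPGL.subgroupMap_surjective H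
  have hneg : ∀ (g h : SL(2, F)) (m n : ℕ), g ^ p ^ m = 1 → h ^ p ^ n = 1 → h ≠ -g := by
    rintro g h m n h1 h3 rfl
    have h4 : g ^ p ^ (m + n) = 1 := by rw [pow_add, pow_mul, h1, one_pow]
    have h5 : (-g) ^ p ^ (m + n) = 1 := by rw [add_comm, pow_add, pow_mul, h3, one_pow]
    rw [Odd.neg_pow (hodd.pow), h4] at h5
    exact sl2_neg_one_ne h2 h5
  have hinj : ∀ P Q : Sylow p H, (P : Subgroup H).map π = (Q : Subgroup H).map π → P = Q := by
    intro P Q h
    have : (Q : Subgroup H) ≤ P := by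
      intro g hg
      have : π g ∈ (P : Subgroup H).map π := h ▸ ⟨g, hg, rfl⟩
      obtain ⟨k, hk, e⟩ := this
      rcases (slPGL_eq_iff _ _).1 (congrArg Subtype.val e) with e' | e'
      · rwa [show g = k from Subtype.ext e']
      · obtain ⟨m, hm⟩ := P.isPGroup' ⟨k, hk⟩
        obtain ⟨n, hn⟩ := Q.isPGroup' ⟨g, hg⟩
        exact absurd e' (hneg _ _ m n (congrArg (fun y => ((y.1 : H) : SL(2, F))) hm)
          (congrArg (fun y => ((y.1 : H) : SL(2, F))) hn))
    exact Sylow.ext (Q.is_maximal' P.isPGroup' this)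
  obtain ⟨P, Q, hPQ⟩ := Finite.one_lt_card_iff_nontrivial.1 hH
  have LA := (lineAct_PLine (F := F) p).subgroup (H.map slPGL)
  have hbot : ∀ P Q : Sylow p H, (P : Subgroup H).map π = ⊥ → P = Q := by
    intro P Q h
    apply hinj
    have h1 := Nat.card_congr (Sylow.equiv (P.mapSurjective hπ) (Q.mapSurjective hπ)).toEquiv
    simp only [Sylow.coe_mapSurjective, h, Subgroup.card_bot] at h1
    rw [h, eq_comm, ← Subgroup.card_eq_one, ← h1]
  have hU : ∀ P : Sylow p H, (P : Subgroup H).map π ≠ ⊥ →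
      ∃ y, (P : Subgroup H).map π = LA.U y := by
    intro P h
    obtain ⟨y, hy⟩ := LA.exists_fixed_of_isPGroup _ (P.isPGroup'.map π) h
    exact ⟨y, ((P.mapSurjective hπ).is_maximal' (LA.isPGroup_U y) hy).symm⟩
  have hP : (P : Subgroup H).map π ≠ ⊥ := fun h => hPQ (hbot P Q h)
  have hQ : (Q : Subgroup H).map π ≠ ⊥ := fun h => hPQ (hbot Q P h).symm
  obtain ⟨y, hy⟩ := hU P hP
  obtain ⟨z, hz⟩ := hU Q hQ
  have hyz : y ≠ z := by
    rintro rfl
    exact hPQ (hinj P Q (hy.trans hz.symm))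
  rw [hy] at hP
  rw [hz] at hQ
  obtain ⟨⟨u, hu⟩, hu1⟩ := Subgroup.ne_bot_iff_exists_ne_one.1 hP
  obtain ⟨⟨v, hv⟩, hv1⟩ := Subgroup.ne_bot_iff_exists_ne_one.1 hQ
  have hu1' : (u : PGL(2, F)) ≠ 1 := fun h => hu1 (Subtype.ext (Subtype.ext h))
  have hup : (u : PGL(2, F)) ^ p = 1 := congrArg Subtype.val hu.2
  obtain ⟨x, rfl⟩ := PLine.rat_of_unip p _ hup hu1' y hu.1
  refine ⟨x, ⟨u, u.2, hu1', hup, PLine.rat_injective (by rw [← PLine.smul_rat]; exact hu.1)⟩,
    v, v.2, fun h => hyz ?_⟩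
  refine LA.unip v z _ hv.2 (fun h => hv1 (Subtype.ext h)) hv.1 ?_
  change (v : PGL(2, F)) • PLine.rat x = _
  rw [PLine.smul_rat, h]

theorem sl2_dickson_prime [Finite F] (p : ℕ) [hp : Fact p.Prime] [CharP F p]
    (hp2 : p ≠ 2) (H : Subgroup SL(2, F)) (hH : 1 < Nat.card (Sylow p H)) :
    ∃ φ : SL(2, ZMod p) →* SL(2, F), Function.Injective φ ∧ φ.range ≤ H := by
  classical
  obtain ⟨x, h1, h2⟩ := irregular_of_sylow p hp2 H hH
  obtain ⟨γ, L, h⟩ := exists_conj_psl_le p hp2 _ x h1 h2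
  induction γ using ProjGenLinGroup.induction_on with | mk c =>
  let f : ZMod p →+* L := ZMod.castHom (dvd_refl p) L
  let φ : SL(2, ZMod p) →* SL(2, F) := (slConj c⁻¹).toMonoidHom.comp
    ((SpecialLinearGroup.map L.subtype).comp (SpecialLinearGroup.map f))
  refine ⟨φ, (slConj c⁻¹).injective.comp ((sl_map_injective _).comp (sl_map_injective _)),
    range_le_of_slPGL H φ ?_ fun g => ?_⟩
  · apply Subtype.ext
    change (c⁻¹).1 * _ * (c⁻¹⁻¹).1 = _
    have : ((SpecialLinearGroup.map L.subtype).comp (SpecialLinearGroup.map f)) (-1) =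
        (-1 : SL(2, F)) := by
      ext i j
      fin_cases i <;> fin_cases j <;> simp
    rw [this]
    simp
  · have := h (SpecialLinearGroup.map f g)
    change slPGL (slConj c⁻¹ (SpecialLinearGroup.map L.subtype (SpecialLinearGroup.map f g))) ∈ _
    rwa [slPGL_slConj, slPGL_map, map_inv, inv_inv]

theorem sl2_uniqueOrderP (h2 : (2 : F) ≠ 0) : H2.UniqueOrderP 2 SL(2, F) := by
  intro x y hx hx2 hy2
  by_cases hy : y = 1
  · rw [hy]; exact one_mem _
  have h1 := H7.sl2_involution_eq_neg_one h2 x hx (by rwa [← sq])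
  have h3 := H7.sl2_involution_eq_neg_one h2 y hy (by rwa [← sq])
  rw [show y = x from Subtype.ext (h3.trans h1.symm)]
  exact Subgroup.mem_zpowers x

theorem quaternion_not_isCyclic (k : ℕ) (hk : 1 ≤ k) : ¬ IsCyclic (QuaternionGroup (2 ^ k)) := by
  intro h
  have := IsCyclic.isMulCommutative.is_comm.comm (QuaternionGroup.a (n := 2 ^ k) 1)
    (QuaternionGroup.xa 0)
  simp only [QuaternionGroup.a_mul_xa, QuaternionGroup.xa_mul_a, QuaternionGroup.xa.injEq] at this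
  have h2 : ((2 : ℕ) : ZMod (2 * 2 ^ k)) = 0 := by
    push_cast
    linear_combination -this
  rw [ZMod.natCast_eq_zero_iff] at h2
  have h3 := Nat.le_of_dvd two_pos h2
  have : 2 ≤ 2 ^ k := by
    calc 2 = 2 ^ 1 := rfl
      _ ≤ 2 ^ k := Nat.pow_le_pow_right two_pos hk
  omega

theorem sl2_dickson_sylow_two [Finite F] (p : ℕ) [hp : Fact p.Prime] [CharP F p]
    (hp2 : p ≠ 2) (H : Subgroup SL(2, F)) (hH : 1 < Nat.card (Sylow p H)) (S : Sylow 2 H) :
    ∃ k : ℕ, 1 ≤ k ∧ Nonempty ((S : Subgroup H) ≃* QuaternionGroup (2 ^ k)) := by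
  have h2 := two_ne_zero_of_charP (F := F) p hp2
  obtain ⟨φ, hφ, hle⟩ := sl2_dickson_prime p hp2 H hH
  rcases (((sl2_uniqueOrderP h2).subgroup H).subgroup S).isCyclic_or_quaternion S.isPGroup' with
    h | ⟨-, n, h⟩
  swap
  · exact ⟨n + 1, by omega, h⟩
  exfalso
  obtain ⟨T⟩ : Nonempty (Sylow 2 SL(2, ZMod p)) := inferInstance
  obtain ⟨k, hk, ⟨e⟩⟩ := H7.sl2_sylow_two_quaternion
    (by rw [ZMod.card]; exact hp.out.odd_of_ne_two hp2) T
  let ψ : SL(2, ZMod p) →* H := φ.codRestrict H (fun g => hle ⟨g, rfl⟩)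
  have hψ : Function.Injective ψ := fun a b h => hφ (congrArg Subtype.val h)
  obtain ⟨S', hS'⟩ := (T.isPGroup'.map ψ).exists_le_sylow
  have h1 : IsCyclic S' := isCyclic_of_surjective (Sylow.equiv S S') (Sylow.equiv S S').surjective
  have h3 : IsCyclic ((T : Subgroup SL(2, ZMod p)).map ψ) := Subgroup.isCyclic_of_le hS'
  let e' := ((T : Subgroup SL(2, ZMod p)).equivMapOfInjective ψ hψ).symm.trans e
  exact quaternion_not_isCyclic k hk (isCyclic_of_surjective e' e'.surjective)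

end H16
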