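import Mathlib
import Cfsg.Agent.H16.PSL2Sub
import Cfsg.Agent.H16.SL2Dickson

/-! Consequences of Dickson's theorem: minimal index, maximal dihedral subgroups, minimal simple
groups `PSL₂(q)`. -/

set_option autoImplicit false

namespace H16

open MulAction Matrix OnePoint
open scoped MatrixGroups

section Solv

variable {G : Type*} [Group G]

theorem solvable_of_hom {A : Type*} [Group A] (f : G →* A) [Group.IsSolvable A]
    [Group.IsSolvable f.ker] : Group.IsSolvable G :=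
  Group.isSolvable_of_ker_le_range f.ker.subtype f (by simp)

theorem solvable_of_equiv {A : Type*} [Group A] (e : G ≃* A) [Group.IsSolvable A] :
    Group.IsSolvable G :=
  Group.isSolvable_of_isSolvable_injective (f := e.toMonoidHom) e.injective

theorem solvable_A4 : Group.IsSolvable (alternatingGroup (Fin 4)) := by
  have h := alternatingGroup.kleinFour_isKleinFour (α := Fin 4) (by simp)
  rw [alternatingGroup.kleinFour_eq_commutator (by simp), ← Abelianization.ker_of] at h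
  have := Group.isSolvable_of_comm (IsKleinFour.isMulCommutative (G := (Abelianization.of
    (G := alternatingGroup (Fin 4))).ker)).is_comm.comm
  exact solvable_of_hom Abelianization.of

theorem solvable_S4 : Group.IsSolvable (Equiv.Perm (Fin 4)) :=
  haveI : Group.IsSolvable (Equiv.Perm.sign (α := Fin 4)).ker := solvable_A4
  solvable_of_hom Equiv.Perm.sign

theorem solvable_dihedral (n : ℕ) : Group.IsSolvable (DihedralGroup n) := by
  let f : DihedralGroup n →* ℤˣ := MonoidHom.mk' (fun g => match g with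
    | DihedralGroup.r _ => 1
    | DihedralGroup.sr _ => -1) (by rintro (i | i) (j | j) <;> simp)
  have : Group.IsSolvable f.ker := Group.isSolvable_of_comm (by
    rintro ⟨i | i, hi⟩ ⟨j | j, hj⟩
    · exact Subtype.ext (by simp [add_comm])
    all_goals simp [f] at hi hj)
  exact solvable_of_hom f

theorem not_solvable_A5 : ¬ Group.IsSolvable (alternatingGroup (Fin 5)) := by
  rw [← IsSimpleGroup.comm_iff_isSolvable]
  intro h
  have := h ⟨Equiv.swap 0 1 * Equiv.swap 1 2, Equiv.Perm.mem_alternatingGroup.2 (by decide)⟩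
    ⟨Equiv.swap 1 2 * Equiv.swap 2 3, Equiv.Perm.mem_alternatingGroup.2 (by decide)⟩
  revert this
  decide

theorem LineAct.solvable_stabilizer {p : ℕ} {K : Type*} [Field K] {X : Type*} [MulAction G X]
    [Fact p.Prime] [Finite G] (L : LineAct p K G X) (x : X) :
    Group.IsSolvable (stabilizer G x) := by
  obtain ⟨χ, hχ⟩ := L.chi x
  have h1 : IsPGroup p χ.ker := fun g =>
    ⟨1, Subtype.ext (Subtype.ext (by simpa using (hχ g).1 g.2))⟩
  have := h1.isNilpotent
  exact solvable_of_hom χ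

end Solv

variable {F : Type*} [Field F] [Fintype F]

theorem psl2_proper_cases [DecidableEq F] {q : ℕ} (hF : Fintype.card F = q)
    (H : Subgroup PSL(2, F)) (hH : H ≠ ⊤) :
    (Nat.gcd 2 (q - 1) * Nat.card H ≤ 2 * (q + 1) ∧ Group.IsSolvable H) ∨
    (∃ x : OnePoint F, H ≤ stabilizer PSL(2, F) x) ∨
    (Nonempty (H ≃* alternatingGroup (Fin 4)) ∧ q ≠ 3) ∨
    (Nonempty (H ≃* Equiv.Perm (Fin 4)) ∧ (q % 8 = 1 ∨ q % 8 = 7)) ∨
    (Nonempty (H ≃* alternatingGroup (Fin 5)) ∧ q ≠ 4 ∧ q ≠ 5 ∧ 5 ∣ q * (q ^ 2 - 1)) ∨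
    ∃ L : Subfield F, 3 ≤ Nat.card L ∧ (∃ m, 2 ≤ m ∧ Nat.card L ^ m = q) ∧
      (Nonempty (H ≃* PSL(2, L)) ∨ Nonempty (H ≃* PGL(2, L))) := by
  obtain ⟨p, hc⟩ := CharP.exists F
  have hp : Fact p.Prime := ⟨CharP.char_is_prime F p⟩
  have hq : 1 < q := hF ▸ Fintype.one_lt_card
  have hN := H7.card_psl_two hF
  have hlt : Nat.card H < Nat.card PSL(2, F) :=
    lt_of_le_of_ne (Subgroup.card_le_card_group H) (fun h => hH ((Subgroup.card_eq_iff_eq_top H).1 h))
  rcases dickson_psl p hF H with ⟨k, h1, h2⟩ | h | ⟨⟨e⟩⟩ | ⟨⟨e⟩⟩ | ⟨⟨e⟩⟩ | ⟨L, h1, h2⟩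
  · left
    have hk : Nat.gcd 2 (q - 1) * k ≤ q + 1 ∧ k ≠ 0 := by
      rcases gcd_two_cases q hq.le with ⟨h3, h4⟩ | ⟨h3, h4⟩ <;> rw [h4] at h1 ⊢ <;>
        rcases h1 with h1 | h1
      all_goals
        have h5 := Nat.le_of_dvd (by omega) h1
        refine ⟨by omega, ?_⟩
        rintro rfl
        rw [zero_dvd_iff] at h1
        omega
    rcases h2 with ⟨h2, h3⟩ | ⟨⟨e⟩⟩
    · exact ⟨by rw [h3]; omega, Group.isSolvable_of_comm IsCyclic.isMulCommutative.is_comm.comm⟩
    · have := solvable_dihedral k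
      refine ⟨?_, solvable_of_equiv e⟩
      rw [Nat.card_congr e.toEquiv, DihedralGroup.nat_card]
      nlinarith [hk.1]
  · exact Or.inr (Or.inl h)
  · refine Or.inr (Or.inr (Or.inl ⟨⟨e⟩, ?_⟩))
    rintro rfl
    rw [Nat.card_congr e.toEquiv, nat_card_alternatingGroup] at hlt
    norm_num [Nat.factorial] at hlt hN
    omega
  · refine Or.inr (Or.inr (Or.inr (Or.inl ⟨⟨e⟩, ?_⟩)))
    have h1 := (psl2_has_S4_iff hF).1 ⟨H, ⟨e⟩⟩
    rw [Nat.pow_mod] at h1
    have : q % 8 = q % 16 % 8 := by omega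
    rw [this]
    have h2 : q % 16 < 16 := Nat.mod_lt _ (by norm_num)
    generalize q % 16 = r at h1 h2
    interval_cases r <;> simp at h1 ⊢
  · refine Or.inr (Or.inr (Or.inr (Or.inr (Or.inl ⟨⟨e⟩, ?_, ?_, (psl2_has_A5_iff hF).1 ⟨H, ⟨e⟩⟩⟩))))
    all_goals
      rintro rfl
      rw [Nat.card_congr e.toEquiv, nat_card_alternatingGroup] at hlt
      norm_num [Nat.factorial] at hlt hN
      omega
  · refine Or.inr (Or.inr (Or.inr (Or.inr (Or.inr ⟨L, h1, ?_, h2⟩))))
    obtain ⟨m, hm1, hm⟩ := card_subfield_pow L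
    rw [Nat.card_eq_fintype_card (α := F), hF] at hm
    refine ⟨m, ?_, hm⟩
    by_contra hm2
    obtain rfl : m = 1 := by omega
    rw [pow_one] at hm
    have hd : 0 < Nat.gcd 2 (q - 1) := Nat.gcd_pos_of_pos_left _ two_pos
    rcases h2 with ⟨⟨e⟩⟩ | ⟨⟨e⟩⟩
    · have h3 := card_psl_two' (F := L)
      rw [hm, ← hN, ← Nat.card_congr e.toEquiv] at h3
      have := Nat.eq_of_mul_eq_mul_left hd h3
      omega
    · have h3 := card_pgl_two (F := L)
      rw [hm, ← hN, ← Nat.card_congr e.toEquiv] at h3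
      nlinarith

theorem psl2_solvable_stabilizer [DecidableEq F] (x : OnePoint F) :
    Group.IsSolvable (stabilizer PSL(2, F) x) := by
  obtain ⟨p, hc⟩ := CharP.exists F
  have hp : Fact p.Prime := ⟨CharP.char_is_prime F p⟩
  have h := (lineAct_PSL (F := F) p).solvable_stabilizer (PLine.rat x)
  have : stabilizer PSL(2, F) x = stabilizer PSL(2, F) (PLine.rat x) := by
    ext g
    rw [mem_stabilizer_iff, mem_stabilizer_iff, psl_smul_rat, PLine.rat_injective.eq_iff]
  rwa [this]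

theorem card_le_of_subfield_case {G : Type*} [Group G] (L : Type*) [Field L] [Finite L]
    (h : Nonempty (G ≃* PSL(2, L)) ∨ Nonempty (G ≃* PGL(2, L))) :
    Nat.card G ≤ Nat.card L * (Nat.card L ^ 2 - 1) ∧ ∀ g : G, orderOf g ≤ Nat.card L + 1 := by
  have h1 : ∃ f : G →* PGL(2, L), Function.Injective f := by
    rcases h with ⟨⟨e⟩⟩ | ⟨⟨e⟩⟩
    · exact ⟨ProjectiveSpecialLinearGroup.toPGL.comp e.toMonoidHom,
        ProjectiveSpecialLinearGroup.toPGL_injective.comp e.injective⟩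
    · exact ⟨e.toMonoidHom, e.injective⟩
  obtain ⟨f, hf⟩ := h1
  refine ⟨card_pgl_two (F := L) ▸ Nat.card_le_card_of_injective f hf, fun g => ?_⟩
  have := Fintype.ofFinite L
  obtain ⟨p, hc, n, hp, hn⟩ := FiniteField.card' L
  have : Fact p.Prime := ⟨hp⟩
  have h2 : p ≤ Fintype.card L := hn ▸ Nat.le_self_pow n.ne_zero p
  have h3 : 1 < Fintype.card L := Fintype.one_lt_card
  rw [← orderOf_injective f hf, Nat.card_eq_fintype_card]
  rcases pgl2_pow_cases p (f g) with h | h | h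
  · exact (orderOf_le_of_pow_eq_one hp.pos h).trans (by omega)
  · exact (orderOf_le_of_pow_eq_one (by omega) h).trans (by omega)
  · exact orderOf_le_of_pow_eq_one (by omega) h

theorem card_ne_of_not_primePow {n : ℕ} (hn : ¬ IsPrimePow n) : Fintype.card F ≠ n :=
  fun h => hn (h ▸ FiniteField.isPrimePow_card F)

theorem psl2_min_index {q : ℕ} (hF : Fintype.card F = q)
    (hq : q ∉ ({2, 3, 5, 7, 9, 11} : Finset ℕ)) (H : Subgroup PSL(2, F)) (hH : H ≠ ⊤) :
    q + 1 ≤ H.index := by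
  classical
  have hq1 : 1 < q := hF ▸ Fintype.one_lt_card
  have hN := H7.card_psl_two hF
  simp only [Finset.mem_insert, Finset.mem_singleton, not_or] at hq
  have h6 : q ≠ 6 := hF ▸ card_ne_of_not_primePow (by decide)
  have h10 : q ≠ 10 := hF ▸ card_ne_of_not_primePow (by decide)
  have h12 : q ≠ 12 := hF ▸ card_ne_of_not_primePow (by decide)
  have hq' : q = 4 ∨ q = 8 ∨ 13 ≤ q := by omega
  have hd : Nat.gcd 2 (q - 1) ≤ 2 := Nat.gcd_le_left _ two_pos
  suffices h : Nat.gcd 2 (q - 1) * Nat.card H ≤ q * (q - 1) by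
    have h1 := H.index_mul_card
    rw [← h1, mul_left_comm] at hN
    by_contra hlt
    have h2 : H.index * (Nat.gcd 2 (q - 1) * Nat.card H) ≤ q * (q * (q - 1)) :=
      Nat.mul_le_mul (by omega) h
    rw [hN] at h2
    obtain ⟨r, rfl⟩ : ∃ r, q = r + 1 := ⟨q - 1, by omega⟩
    have : (r + 1) ^ 2 - 1 = r * (r + 2) := by
      rw [Nat.sub_eq_iff_eq_add (Nat.one_le_pow _ _ (by omega))]; ring
    rw [this, Nat.add_sub_cancel] at h2
    have : 0 < r := by omega
    nlinarith
  have hbig : 13 ≤ q → 156 ≤ q * (q - 1) := fun h =>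
    calc 156 = 13 * 12 := rfl
      _ ≤ q * (q - 1) := Nat.mul_le_mul h (by omega)
  rcases psl2_proper_cases hF H hH with ⟨h, -⟩ | ⟨x, h⟩ | ⟨⟨e⟩, -⟩ | ⟨⟨e⟩, h⟩ | ⟨⟨e⟩, h1, -, h2⟩ |
    ⟨L, h1, ⟨m, hm, h2⟩, h3⟩
  · refine h.trans ?_
    obtain ⟨r, rfl⟩ : ∃ r, q = r + 4 := ⟨q - 4, by omega⟩
    rw [show r + 4 - 1 = r + 3 from rfl]
    nlinarith
  · rw [← psl2_card_stabilizer hF x]
    exact Nat.mul_le_mul_left _ (Subgroup.card_le_of_le h)
  · rw [Nat.card_congr e.toEquiv, nat_card_alternatingGroup]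
    norm_num [Nat.factorial]
    rcases hq' with rfl | rfl | h
    · decide
    · decide
    · have := hbig h; omega
  · rw [Nat.card_congr e.toEquiv, Nat.card_perm]
    norm_num [Nat.factorial]
    have := hbig (by omega); omega
  · rw [Nat.card_congr e.toEquiv, nat_card_alternatingGroup]
    norm_num [Nat.factorial]
    rcases hq' with rfl | rfl | h
    · omega
    · omega
    · have := hbig h; omega
  · have h4 := (card_le_of_subfield_case L h3).1
    have h5 : Nat.card L ^ 2 ≤ q := h2 ▸ Nat.pow_le_pow_right (by omega) hm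
    calc _ ≤ 2 * (Nat.card L * (Nat.card L ^ 2 - 1)) := Nat.mul_le_mul hd h4
      _ = (2 * Nat.card L) * (Nat.card L ^ 2 - 1) := by ring
      _ ≤ q * (q - 1) := Nat.mul_le_mul (by nlinarith) (by omega)

theorem A4_no_S3 (x s : alternatingGroup (Fin 4)) (hx : x ^ 3 = 1) (hx1 : x ≠ 1) :
    s * x * s⁻¹ ≠ x⁻¹ := by
  revert x s
  decide

theorem A4_orders (x : alternatingGroup (Fin 4)) : orderOf x ≤ 3 := by
  have : x ^ 2 = 1 ∨ x ^ 3 = 1 := by revert x; decide
  rcases this with h | h <;> exact (orderOf_le_of_pow_eq_one (by norm_num) h).trans (by norm_num)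

theorem S4_orders (x : Equiv.Perm (Fin 4)) : orderOf x ≤ 4 := by
  have : x ^ 4 = 1 ∨ x ^ 3 = 1 := by revert x; decide +kernel
  rcases this with h | h <;> exact (orderOf_le_of_pow_eq_one (by norm_num) h).trans (by norm_num)

theorem A5_orders (x : alternatingGroup (Fin 5)) : orderOf x ≤ 3 ∨ orderOf x = 5 := by
  have : x ^ 2 = 1 ∨ x ^ 3 = 1 ∨ x ^ 5 = 1 := by revert x; decide +kernel
  rcases this with h | h | h
  · exact Or.inl ((orderOf_le_of_pow_eq_one (by norm_num) h).trans (by norm_num))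
  · exact Or.inl (orderOf_le_of_pow_eq_one (by norm_num) h)
  · rcases (Nat.dvd_prime (by norm_num)).1 (orderOf_dvd_of_pow_eq_one h) with h | h <;> omega

omit [Fintype F] in
/-- The image in `PSL₂` of a torus normaliser. -/
theorem psl2_dihedral_of_torus [Finite F] (x y : SL(2, F)) (n : ℕ) (hx : orderOf x = n)
    (hy : y * y = -1) (hyx : y * x * y⁻¹ = x⁻¹) (hne : y ∉ Subgroup.zpowers x)
    (d : ℕ) (hd : ((2 : F) = 0 ∧ d = 1) ∨ ((2 : F) ≠ 0 ∧ d = 2 ∧ 2 ∣ n)) :
    ∃ x s : PSL(2, F), orderOf x = n / d ∧ s * s = 1 ∧ s * x * s⁻¹ = x⁻¹ ∧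
      s ∉ Subgroup.zpowers x := by
  have hmem : -1 ∈ Subgroup.zpowers x := by
    rcases hd with ⟨h2, -⟩ | ⟨h2, -, h3⟩
    · have : (-1 : SL(2, F)) = 1 := by
        ext i j
        fin_cases i <;> fin_cases j <;> simp <;> linear_combination -h2
      rw [this]; exact one_mem _
    · obtain ⟨⟨z, hz⟩, h4⟩ := exists_prime_orderOf_dvd_card' (G := Subgroup.zpowers x) 2
        (by rwa [Nat.card_zpowers, hx])
      rw [← Subgroup.orderOf_coe] at h4
      have := H7.sl2_involution_eq_neg_one h2 z (by rintro rfl; simp at h4)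
        (by rw [← sq]; exact orderOf_dvd_iff_pow_eq_one.1 (dvd_of_eq h4))
      rwa [← show z = -1 from Subtype.ext this]
  refine ⟨x, y, ?_, ?_, ?_, ?_⟩
  · rcases hd with ⟨h2, rfl⟩ | ⟨h2, rfl, m, h3⟩
    · rw [Nat.div_one, ← hx]
      refine orderOf_injective (QuotientGroup.mk' _) (fun a b h => ?_) x
      rcases (psl2_mk_eq_iff a b).1 h with rfl | rfl
      · rfl
      · ext i j
        simp only [SpecialLinearGroup.coe_neg, Matrix.neg_apply]
        linear_combination a.1 i j * h2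
    · have hn : 0 < n := hx ▸ orderOf_pos x
      subst h3
      rw [Nat.mul_div_cancel_left _ two_pos, orderOf_eq_iff (by omega)]
      constructor
      · rw [← QuotientGroup.mk_pow, QuotientGroup.eq_one_iff]
        apply H7.sl2_sq_mem_center h2
        rw [← pow_add, ← two_mul, ← hx, pow_orderOf_eq_one]
      · intro k hk hk0 h
        rw [← QuotientGroup.mk_pow, QuotientGroup.eq_one_iff] at h
        have h4 := H7.sl2_center_sq _ h
        rw [← pow_mul] at h4
        have := Nat.le_of_dvd (by omega) (orderOf_dvd_of_pow_eq_one h4)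
        omega
  · rw [← QuotientGroup.mk_mul, hy, QuotientGroup.eq_one_iff, sl2_mem_center_iff']
    exact Or.inr rfl
  · rw [← QuotientGroup.mk_inv, ← QuotientGroup.mk_mul, ← QuotientGroup.mk_mul, hyx,
      QuotientGroup.mk_inv]
  · rintro ⟨k, hk⟩
    simp only [← QuotientGroup.mk_zpow] at hk
    rcases (psl2_mk_eq_iff _ _).1 hk with h | h
    · exact hne ⟨k, h.symm⟩
    · apply hne
      rw [h, ← neg_one_mul]
      exact mul_mem hmem ⟨k, rfl⟩

theorem two_cases {q : ℕ} (hF : Fintype.card F = q) :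
    ((2 : F) = 0 ∧ q % 2 = 0 ∧ Nat.gcd 2 (q - 1) = 1) ∨
      ((2 : F) ≠ 0 ∧ q % 2 = 1 ∧ Nat.gcd 2 (q - 1) = 2) := by
  have hq1 : 1 < q := hF ▸ Fintype.one_lt_card
  rcases gcd_two_cases q hq1.le with ⟨h1, h2⟩ | ⟨h1, h2⟩
  · exact Or.inr ⟨H7.two_ne_zero_of_odd_card (by rw [hF, Nat.odd_iff, h1]), h1, h2⟩
  · refine Or.inl ⟨?_, h1, h2⟩
    have := FiniteField.even_card_iff_char_two.2 (show Fintype.card F % 2 = 0 by rw [hF, h1])
    have h3 := ringChar.Nat.cast_ringChar (R := F)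
    rw [this] at h3
    exact_mod_cast h3

theorem psl2_dihedral_maximal {q : ℕ} (hF : Fintype.card F = q) (x s : PSL(2, F)) (k : ℕ)
    (hx : orderOf x = k) (hs : s * s = 1) (hsx : s * x * s⁻¹ = x⁻¹) (hne : s ∉ Subgroup.zpowers x)
    (h1 : q + 1 < 2 * (Nat.gcd 2 (q - 1) * k)) (h1' : Nat.gcd 2 (q - 1) * k ≤ q + 1) (h2 : 3 ≤ q)
    (h3 : ¬ 2 * (Nat.gcd 2 (q - 1) * k) ∣ q * (q - 1) ∨ (Nat.Coprime k q ∧ 3 ≤ k))
    (h4 : q ≠ 3 → 3 ≤ k) (h5 : q % 8 = 1 ∨ q % 8 = 7 → 5 ≤ k)
    (h6 : q ≠ 4 → q ≠ 5 → 5 ∣ q * (q ^ 2 - 1) → 4 ≤ k ∧ k ≠ 5)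
    (h7 : ∀ r m, 3 ≤ r → 2 ≤ m → r ^ m = q → r + 1 < k) :
    ∃ H : Subgroup PSL(2, F), IsCoatom H ∧ Nonempty (H ≃* DihedralGroup k) := by
  classical
  obtain ⟨D, hxD, hsD, -, ⟨e₀⟩⟩ := H7.exists_subgroup_equiv_dihedral k x s hx hs hsx hne
  have hN := H7.card_psl_two hF
  have hD : Nat.card D = 2 * k := by rw [Nat.card_congr e₀.toEquiv, DihedralGroup.nat_card]
  refine ⟨D, ⟨?_, fun K hK => ?_⟩, ⟨e₀⟩⟩
  · rintro rfl
    rw [Subgroup.card_top] at hD
    rw [hD] at hN
    obtain ⟨r, rfl⟩ : ∃ r, q = r + 3 := ⟨q - 3, by omega⟩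
    have : (r + 3) ^ 2 - 1 = (r + 2) * (r + 4) := by
      rw [Nat.sub_eq_iff_eq_add (Nat.one_le_pow _ _ (by omega))]; ring
    rw [this] at hN
    nlinarith
  by_contra hKt
  have hdvd : 2 * k ∣ Nat.card K := hD ▸ Subgroup.card_dvd_of_le hK.le
  have hlt : 2 * k < Nat.card K := by
    rw [← hD]
    exact lt_of_le_of_ne (Subgroup.card_le_of_le hK.le)
      (fun h => hK.ne (Subgroup.eq_of_le_of_card_ge hK.le h.ge))
  have hxK : orderOf (⟨x, hK.le hxD⟩ : K) = k := by rw [← hx, Subgroup.orderOf_mk]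
  rcases psl2_proper_cases hF K hKt with ⟨h, -⟩ | ⟨y, h⟩ | ⟨⟨e⟩, h⟩ | ⟨⟨e⟩, h⟩ | ⟨⟨e⟩, h, h', h''⟩ |
    ⟨L, h8, ⟨m, hm, h9⟩, h10⟩
  · obtain ⟨c, hc⟩ := hdvd
    have : 2 ≤ c := by
      by_contra hc2
      have : c = 0 ∨ c = 1 := by omega
      rcases this with rfl | rfl <;> omega
    rw [hc] at h
    nlinarith
  · rcases h3 with h3 | ⟨h3, h3'⟩
    · apply h3
      rw [← psl2_card_stabilizer hF y, mul_left_comm]
      exact Nat.mul_dvd_mul_left _ (hdvd.trans (Subgroup.card_dvd_of_le h))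
    · obtain ⟨p, hc, n, hp, hn⟩ := FiniteField.card' F
      have : Fact p.Prime := ⟨hp⟩
      obtain ⟨χ, hχ⟩ := (lineAct_PSL (F := F) p).chi (PLine.rat y)
      have hm : ∀ g ∈ D, g ∈ stabilizer PSL(2, F) (PLine.rat y) := fun g hg => by
        rw [mem_stabilizer_iff, psl_smul_rat, mem_stabilizer_iff.1 (h (hK.le hg))]
      have h11 : χ (⟨x, hm x hxD⟩ * ⟨x, hm x hxD⟩) = 1 := by
        have : (⟨s, hm s hsD⟩ : stabilizer PSL(2, F) (PLine.rat y)) * ⟨x, hm x hxD⟩ *
            (⟨s, hm s hsD⟩)⁻¹ = (⟨x, hm x hxD⟩)⁻¹ := Subtype.ext hsx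
        have := congrArg χ this
        rw [map_mul, map_mul, map_inv, map_inv, mul_inv_cancel_comm, eq_inv_iff_mul_eq_one] at this
        rw [map_mul, this]
      rw [hχ] at h11
      change (x * x) ^ p = 1 at h11
      rw [← sq, ← pow_mul, ← orderOf_dvd_iff_pow_eq_one, hx] at h11
      have h12 : Nat.Coprime k p := by
        rw [← hF, hn] at h3
        exact (Nat.coprime_pow_right_iff n.pos _ _).1 h3
      have := Nat.le_of_dvd two_pos (h12.dvd_of_dvd_mul_right h11)
      omega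
  · have h11 := A4_orders (e ⟨x, hK.le hxD⟩)
    rw [MulEquiv.orderOf_eq, hxK] at h11
    obtain rfl : k = 3 := by have := h4 h; omega
    refine A4_no_S3 (e ⟨x, hK.le hxD⟩) (e ⟨s, hK.le hsD⟩) ?_ ?_ ?_
    · rw [← map_pow, ← hxK, pow_orderOf_eq_one, map_one]
    · rw [Ne, map_eq_one_iff _ e.injective, ← orderOf_eq_one_iff, hxK]; decide
    · rw [← map_inv, ← map_inv, ← map_mul, ← map_mul]
      congr 1
      exact Subtype.ext hsx
  · have h11 := S4_orders (e ⟨x, hK.le hxD⟩)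
    rw [MulEquiv.orderOf_eq, hxK] at h11
    have := h5 h
    omega
  · have h11 := A5_orders (e ⟨x, hK.le hxD⟩)
    rw [MulEquiv.orderOf_eq, hxK] at h11
    have := h6 h h' h''
    omega
  · have h11 := (card_le_of_subfield_case L h10).2 ⟨x, hK.le hxD⟩
    have := h7 _ _ h8 hm h9
    omega

theorem psl2_dihedral_add_maximal {q : ℕ} (hF : Fintype.card F = q)
    (hq : q ∉ ({2, 7, 9} : Finset ℕ)) : ∃ H : Subgroup PSL(2, F), IsCoatom H ∧
      Nonempty (H ≃* DihedralGroup ((q + 1) / Nat.gcd 2 (q - 1))) := by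
  have hq1 : 1 < q := hF ▸ Fintype.one_lt_card
  simp only [Finset.mem_insert, Finset.mem_singleton, not_or] at hq
  obtain ⟨x, y, h1, h2, h3, h4⟩ := H7.exists_nonsplit_torus hF
  have hd := two_cases hF
  obtain ⟨x, s, h5, h6, h7, h8⟩ := psl2_dihedral_of_torus x y _ h1 h2 h3 h4 (Nat.gcd 2 (q - 1))
    (by rcases hd with h | h; exacts [Or.inl ⟨h.1, h.2.2⟩, Or.inr ⟨h.1, h.2.2, by omega⟩])
  have h9 : Nat.gcd 2 (q - 1) * ((q + 1) / Nat.gcd 2 (q - 1)) = q + 1 := by
    rcases hd with ⟨-, h, h'⟩ | ⟨-, h, h'⟩ <;> rw [h'] <;> omega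
  refine psl2_dihedral_maximal hF x s _ h5 h6 h7 h8 (by omega) (by omega) (by omega) (Or.inl ?_)
    ?_ ?_ ?_ ?_
  · rw [h9]
    intro h
    have h10 : q + 1 ∣ q * (q - 1) := (Dvd.intro_left 2 rfl).trans h
    obtain ⟨r, rfl⟩ : ∃ r, q = r + 2 := ⟨q - 2, by omega⟩
    have h11 : (r + 2) * (r + 2 - 1) = (r + 2 + 1) * r + 2 := by
      rw [show r + 2 - 1 = r + 1 from rfl]; ring
    rw [h11, Nat.dvd_add_right (dvd_mul_right _ _)] at h10
    have := Nat.le_of_dvd two_pos h10
    omega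
  · rcases hd with ⟨-, h, h'⟩ | ⟨-, h, h'⟩ <;> rw [h'] <;> omega
  · rcases hd with ⟨-, h, h'⟩ | ⟨-, h, h'⟩ <;> rw [h'] <;> omega
  · intro h4 h5 h
    have h3 : q ≠ 3 := by rintro rfl; omega
    rcases hd with ⟨-, h, h'⟩ | ⟨-, h, h'⟩ <;> rw [h'] <;> omega
  · intro r m hr hm h
    have : r ^ 2 ≤ q := h ▸ Nat.pow_le_pow_right (by omega) hm
    have h10 : 2 * r + 3 ≤ q := by nlinarith
    rcases hd with ⟨-, h, h'⟩ | ⟨-, h, h'⟩ <;> rw [h'] <;> omega

theorem psl2_dihedral_sub_maximal {q : ℕ} (hF : Fintype.card F = q)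
    (hq : q ∉ ({2, 3, 5, 7, 9, 11} : Finset ℕ)) : ∃ H : Subgroup PSL(2, F), IsCoatom H ∧
      Nonempty (H ≃* DihedralGroup ((q - 1) / Nat.gcd 2 (q - 1))) := by
  have hq1 : 1 < q := hF ▸ Fintype.one_lt_card
  simp only [Finset.mem_insert, Finset.mem_singleton, not_or] at hq
  have h6' : q ≠ 6 := hF ▸ card_ne_of_not_primePow (by decide)
  obtain ⟨x, y, h1, h2, h3, h4⟩ := H7.exists_split_torus hF
  have hd := two_cases hF
  obtain ⟨x, s, h5, h6, h7, h8⟩ := psl2_dihedral_of_torus x y _ h1 h2 h3 h4 (Nat.gcd 2 (q - 1))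
    (by rcases hd with h | h; exacts [Or.inl ⟨h.1, h.2.2⟩, Or.inr ⟨h.1, h.2.2, by omega⟩])
  have h9 : Nat.gcd 2 (q - 1) * ((q - 1) / Nat.gcd 2 (q - 1)) = q - 1 := by
    rcases hd with ⟨-, h, h'⟩ | ⟨-, h, h'⟩ <;> rw [h'] <;> omega
  refine psl2_dihedral_maximal hF x s _ h5 h6 h7 h8 (by omega) (by omega) (by omega)
    (Or.inr ⟨?_, ?_⟩) ?_ ?_ ?_ ?_
  · refine Nat.Coprime.coprime_dvd_left (Dvd.intro_left _ h9) ?_
    obtain ⟨r, rfl⟩ : ∃ r, q = r + 1 := ⟨q - 1, by omega⟩
    simp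
  · rcases hd with ⟨-, h, h'⟩ | ⟨-, h, h'⟩ <;> rw [h'] <;> omega
  · rcases hd with ⟨-, h, h'⟩ | ⟨-, h, h'⟩ <;> rw [h'] <;> omega
  · rcases hd with ⟨-, h, h'⟩ | ⟨-, h, h'⟩ <;> rw [h'] <;> omega
  · intro h4 h5 h
    rcases hd with ⟨-, h, h'⟩ | ⟨-, h, h'⟩ <;> rw [h'] <;> omega
  · intro r m hr hm h
    have h10 : 2 * r + 5 ≤ q := by
      rcases hr.eq_or_lt with rfl | hr
      · rcases hm.eq_or_lt with rfl | hm
        · omega
        · have : 3 ^ 3 ≤ q := h ▸ Nat.pow_le_pow_right (by omega) hm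
          omega
      · have : r ^ 2 ≤ q := h ▸ Nat.pow_le_pow_right (by omega) hm
        nlinarith
    rcases hd with ⟨-, h, h'⟩ | ⟨-, h, h'⟩ <;> rw [h'] <;> omega

theorem psl2_not_solvable (hF : 4 ≤ Fintype.card F) : ¬ Group.IsSolvable PSL(2, F) := by
  have := ProjectiveSpecialLinearGroup.rank_two_simple (F := F) (by rwa [Nat.card_eq_fintype_card])
  rw [← IsSimpleGroup.comm_iff_isSolvable]
  intro h
  have h1 := h (sl2 (1 : F) 1 0 1 (by simp) : SL(2, F)) (sl2 (1 : F) 0 1 1 (by simp) : SL(2, F))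
  rw [← QuotientGroup.mk_mul, ← QuotientGroup.mk_mul, psl2_mk_eq_iff] at h1
  rcases h1 with h1 | h1
  · have := congrFun (congrFun (congrArg Subtype.val h1) 0) 0
    simp [mul_apply, Fin.sum_univ_two] at this
  · have h2 := congrFun (congrFun (congrArg Subtype.val h1) 0) 0
    have h3 := congrFun (congrFun (congrArg Subtype.val h1) 0) 1
    simp [mul_apply, Fin.sum_univ_two] at h2 h3
    exact one_ne_zero (by linear_combination h2 - h3 : (1 : F) = 0)

theorem pgl2_three (hF : Fintype.card F = 3) : Nonempty (PGL(2, F) ≃* Equiv.Perm (Fin 4)) := by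
  have : Fact (Nat.Prime 3) := ⟨by norm_num⟩
  have : CharP F 3 := charP_of_card_eq_pow (n := 1) (by norm_num) hF
  refine equiv_S4 (by rw [card_pgl_two, Nat.card_eq_fintype_card, hF]; rfl) fun g hg => ?_
  have := pgl2_pow_cases 3 g
  simp only [← orderOf_dvd_iff_pow_eq_one, hg, hF] at this
  omega

theorem psl2_lt_of_pow {K : Type*} [Field K] [Fintype K] {m : ℕ} (hm : 2 ≤ m)
    (h : Fintype.card K ^ m = Fintype.card F) :
    ∃ H : Subgroup PSL(2, F), H ≠ ⊤ ∧ Nonempty (H ≃* PSL(2, K)) := by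
  obtain ⟨f⟩ := exists_ringHom_of_card_pow h
  refine ⟨(pslMap f).range, fun ht => ?_, ⟨(MonoidHom.ofInjective (pslMap_injective f)).symm⟩⟩
  have h1 : Nat.card PSL(2, F) = Nat.card PSL(2, K) := by
    rw [← Subgroup.card_top, ← ht]
    exact Nat.card_congr (MonoidHom.ofInjective (pslMap_injective f)).symm.toEquiv
  have h2 := (card_le_of_subfield_case (G := PSL(2, K)) K (Or.inl ⟨MulEquiv.refl _⟩)).1
  have h3 := H7.card_psl_two (F := F) rfl
  have hd : Nat.gcd 2 (Fintype.card F - 1) ≤ 2 := Nat.gcd_le_left _ two_pos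
  have h4 : 1 < Fintype.card K := Fintype.one_lt_card
  have h5 : Fintype.card K ^ 2 ≤ Fintype.card F := h ▸ Nat.pow_le_pow_right (by omega) hm
  rw [Nat.card_eq_fintype_card (α := K)] at h2
  have h6 : Fintype.card F * (Fintype.card F ^ 2 - 1) ≤
      2 * (Fintype.card K * (Fintype.card K ^ 2 - 1)) := by
    rw [← h3, h1]; exact Nat.mul_le_mul hd h2
  have h7 : 2 * Fintype.card K ≤ Fintype.card F := by nlinarith
  have h8 : Fintype.card K ^ 2 < Fintype.card F ^ 2 := Nat.pow_lt_pow_left (by omega) two_ne_zero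
  have h9 : 2 * Fintype.card K * (Fintype.card K ^ 2 - 1) <
      Fintype.card F * (Fintype.card F ^ 2 - 1) :=
    Nat.mul_lt_mul_of_le_of_lt h7 (by have := Nat.one_le_pow 2 (Fintype.card K) (by omega); omega)
      (by omega)
  nlinarith

theorem psl2_minimal_simple_iff {q : ℕ} (hF : Fintype.card F = q) :
    (IsSimpleGroup PSL(2, F) ∧ ¬ IsMulCommutative PSL(2, F) ∧
      ∀ H : Subgroup PSL(2, F), H ≠ ⊤ → Group.IsSolvable H) ↔
    ((∃ r : ℕ, r.Prime ∧ q = 2 ^ r) ∨ (∃ r : ℕ, r.Prime ∧ r ≠ 2 ∧ q = 3 ^ r) ∨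
      (q.Prime ∧ 5 < q ∧ (q % 5 = 2 ∨ q % 5 = 3)) ∨ q = 5) := by
  classical
  have hN := H7.card_psl_two hF
  have hq1 : 1 < q := hF ▸ Fintype.one_lt_card
  constructor
  · rintro ⟨h1, h2, h3⟩
    have hns : ¬ Group.IsSolvable PSL(2, F) := by
      rw [← IsSimpleGroup.comm_iff_isSolvable]
      exact fun h => h2 ⟨⟨h⟩⟩
    have hq4 : 4 ≤ q := by
      by_contra h
      obtain rfl | rfl : q = 2 ∨ q = 3 := by omega
      · have hN' : Nat.card PSL(2, F) = 6 := by
          rw [show Nat.gcd 2 (2 - 1) = 1 by decide] at hN; omega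
        obtain ⟨g, hg⟩ := exists_prime_orderOf_dvd_card' (G := PSL(2, F)) 3
          (by rw [hN']; decide)
        have h4 := (Subgroup.zpowers g).index_mul_card
        rw [Nat.card_zpowers, hg] at h4
        have h5 : (Subgroup.zpowers g).index = 2 := by omega
        rcases (Subgroup.normal_of_index_eq_two h5).eq_bot_or_eq_top with h6 | h6
        · rw [h6, Subgroup.index_bot] at h5
          omega
        · rw [h6, Subgroup.index_top] at h5
          omega
      · obtain ⟨e⟩ := psl2_three hF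
        have := solvable_A4
        exact hns (solvable_of_equiv e)
    obtain ⟨p, hc, ⟨n, hn0⟩, hp, hn⟩ := FiniteField.card' F
    simp only [PNat.mk_coe] at hn
    rw [hF] at hn
    have : Fact p.Prime := ⟨hp⟩
    have hsub : ∀ a b, n = a * b → 2 ≤ b → p ^ a < 4 := by
      intro a b hab hb
      by_contra h4
      have ha : a ≠ 0 := by rintro rfl; simp at h4
      have := Fintype.ofFinite (GaloisField p a)
      have h5 : Fintype.card (GaloisField p a) = p ^ a := by
        rw [← Nat.card_eq_fintype_card, GaloisField.card p a ha]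
      obtain ⟨H, h6, ⟨e⟩⟩ := psl2_lt_of_pow (F := F) (K := GaloisField p a) hb
        (by rw [h5, hF, hn, hab, pow_mul])
      have := h3 H h6
      exact psl2_not_solvable (F := GaloisField p a) (by omega) (solvable_of_equiv e.symm)
    have hA5 : 5 ∣ q * (q ^ 2 - 1) → q = 4 ∨ q = 5 := by
      intro h
      obtain ⟨H, ⟨e⟩⟩ := (psl2_has_A5_iff hF).2 h
      by_cases hH : H = ⊤
      · have h4 := Nat.card_congr e.toEquiv
        rw [hH, Subgroup.card_top, nat_card_alternatingGroup] at h4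
        rw [h4] at hN
        norm_num [Nat.factorial] at hN
        have hd : Nat.gcd 2 (q - 1) ≤ 2 := Nat.gcd_le_left _ two_pos
        by_contra h5
        have h6 : 6 ^ 2 ≤ q ^ 2 := Nat.pow_le_pow_left (by omega) 2
        have : 6 * 35 ≤ q * (q ^ 2 - 1) := Nat.mul_le_mul (by omega) (by omega)
        omega
      · have := h3 H hH
        exact absurd (solvable_of_equiv e.symm) not_solvable_A5
    have hp2 := hp.two_le
    have hprime : 2 ≤ n → n.Prime := by
      intro h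
      rw [Nat.prime_def_lt]
      refine ⟨h, fun a ha ⟨b, hb⟩ => ?_⟩
      have hb2 : 2 ≤ b := by
        by_contra h4
        obtain rfl | rfl : b = 0 ∨ b = 1 := by omega
        all_goals omega
      have h4 := hsub a b hb hb2
      by_contra ha1
      have ha0 : a ≠ 0 := by rintro rfl; omega
      have : 2 ^ 2 ≤ p ^ a := (Nat.pow_le_pow_left hp2 2).trans
        (Nat.pow_le_pow_right (by omega) (by omega))
      omega
    rcases (show n = 1 ∨ 2 ≤ n by omega) with rfl | h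
    · rw [pow_one] at hn
      subst hn
      by_cases h5 : q = 5
      · exact Or.inr (Or.inr (Or.inr h5))
      have h4 : q ≠ 4 := by rintro rfl; exact absurd hp (by norm_num)
      refine Or.inr (Or.inr (Or.inl ⟨hp, by omega, ?_⟩))
      by_contra h6
      have : 5 ∣ q * (q ^ 2 - 1) := by
        rcases (show q % 5 = 0 ∨ q % 5 = 1 ∨ q % 5 = 4 by omega) with h | h | h
        · exact Dvd.dvd.mul_right (Nat.dvd_of_mod_eq_zero h) _
        all_goals
          refine Dvd.dvd.mul_left ?_ _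
          refine (Nat.modEq_iff_dvd' (Nat.one_le_pow _ _ (by omega))).1 ?_
          rw [Nat.ModEq, Nat.pow_mod, h]
      have := hA5 this
      omega
    · have h4 := hsub 1 n (one_mul n).symm h
      rw [pow_one] at h4
      obtain rfl | rfl : p = 2 ∨ p = 3 := by omega
      · exact Or.inl ⟨n, hprime h, hn⟩
      · refine Or.inr (Or.inl ⟨n, hprime h, ?_, hn⟩)
        rintro rfl
        subst hn
        have := hA5 (by decide)
        omega
  · intro h
    have hq4 : 4 ≤ q := by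
      rcases h with ⟨r, hr, rfl⟩ | ⟨r, hr, -, rfl⟩ | h | h
      · exact Nat.pow_le_pow_right two_pos hr.two_le
      · exact le_trans (by norm_num) (Nat.pow_le_pow_right three_pos hr.two_le)
      all_goals omega
    have hs := ProjectiveSpecialLinearGroup.rank_two_simple (F := F)
      (by rwa [Nat.card_eq_fintype_card, hF])
    refine ⟨hs, fun h => psl2_not_solvable (F := F) (hF ▸ hq4)
      (Group.isSolvable_of_comm h.is_comm.comm), fun H hH => ?_⟩
    rcases psl2_proper_cases hF H hH with ⟨-, h⟩ | ⟨x, h⟩ | ⟨⟨e⟩, -⟩ | ⟨⟨e⟩, -⟩ | ⟨-, h1, h2, h3⟩ |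
      ⟨L, h1, ⟨m, hm, h2⟩, h3⟩
    · exact h
    · have := psl2_solvable_stabilizer x
      exact Group.isSolvable_of_isSolvable_injective (Subgroup.inclusion_injective h)
    · have := solvable_A4
      exact solvable_of_equiv e
    · have := solvable_S4
      exact solvable_of_equiv e
    · exfalso
      have key : q % 5 = 2 ∨ q % 5 = 3 := by
        rcases h with ⟨r, hr, rfl⟩ | ⟨r, hr, hr2, rfl⟩ | h | h
        · obtain ⟨k, rfl⟩ := hr.odd_of_ne_two (by rintro rfl; exact h1 rfl)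
          rw [pow_succ, pow_mul]
          clear * -
          induction k with
          | zero => decide
          | succ k ih => rw [pow_succ]; omega
        · obtain ⟨k, rfl⟩ := hr.odd_of_ne_two hr2
          rw [pow_succ, pow_mul]
          clear * -
          induction k with
          | zero => decide
          | succ k ih => rw [pow_succ]; omega
        · exact h.2.2
        · exact absurd h h2
      rcases (Nat.Prime.dvd_mul (by norm_num)).1 h3 with h4 | h4
      · omega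
      · have := (Nat.modEq_iff_dvd' (Nat.one_le_pow _ _ (by omega))).2 h4
        rw [Nat.ModEq, Nat.pow_mod] at this
        rcases key with k | k <;> rw [k] at this <;> omega
    · have h4 : ∀ p r : ℕ, p.Prime → r.Prime → q = p ^ r → Nat.card L = p := by
        intro p r hp hr h5
        have h6 : Nat.card L ∣ p ^ r := by rw [← h5, ← h2]; exact dvd_pow_self _ (by omega)
        obtain ⟨a, -, ha⟩ := (Nat.dvd_prime_pow hp).1 h6
        rw [ha, ← pow_mul, h5] at h2
        have h7 := Nat.pow_right_injective hp.two_le h2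
        rcases (Nat.dvd_prime hr).1 ⟨a, by rw [← h7, mul_comm]⟩ with h8 | h8
        · omega
        · rw [← h8] at h7
          rw [ha, show a = 1 by nlinarith, pow_one]
      have h5 : ¬ q.Prime := by
        rw [← h2]
        exact Nat.Prime.not_prime_pow hm
      rcases h with ⟨r, hr, h⟩ | ⟨r, hr, -, h⟩ | h | h
      · have := h4 2 r Nat.prime_two hr h
        omega
      · have h6 := h4 3 r Nat.prime_three hr h
        have := Fintype.ofFinite L
        rw [Nat.card_eq_fintype_card] at h6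
        rcases h3 with ⟨⟨e⟩⟩ | ⟨⟨e⟩⟩
        · obtain ⟨e'⟩ := psl2_three h6
          have := solvable_A4
          exact solvable_of_equiv (e.trans e')
        · obtain ⟨e'⟩ := pgl2_three h6
          have := solvable_S4
          exact solvable_of_equiv (e.trans e')
      · exact absurd h.1 h5
      · exact absurd (by rw [h]; norm_num) h5

end H16
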