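import Mathlib
import Cfsg.Agent.H16.PSL2Max

/-! Elements of order four of `SL₂(q)`, involutions and four-groups of `PSL₂(q)`, `q` odd. -/

set_option autoImplicit false

namespace H16

open MulAction Matrix OnePoint
open scoped MatrixGroups

variable {F : Type*} [Field F]

/-- The standard element of order four. -/
def wS : SL(2, F) := sl2 0 (-1) 1 0 (by simp)

theorem wS_mul_self : (wS : SL(2, F)) * wS = -1 := by
  ext i j
  fin_cases i <;> fin_cases j <;> simp [wS, mul_apply, Fin.sum_univ_two]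

theorem trace_eq_zero_of_sq (h2 : (2 : F) ≠ 0) (g : SL(2, F)) (hg : g * g = -1) :
    g 0 0 + g 1 1 = 0 := by
  have hd := sl2_det g
  have h00 := congrFun (congrFun (congrArg Subtype.val hg) 0) 0
  have h01 := congrFun (congrFun (congrArg Subtype.val hg) 0) 1
  have h10 := congrFun (congrFun (congrArg Subtype.val hg) 1) 0
  have h11 := congrFun (congrFun (congrArg Subtype.val hg) 1) 1
  simp [mul_apply, Fin.sum_univ_two] at h00 h01 h10 h11
  have : (g 0 0 + g 1 1) ^ 2 = 0 := by linear_combination h00 + h11 + 2 * hd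
  exact pow_eq_zero_iff two_ne_zero |>.1 this

theorem sq_eq_of_trace (g : SL(2, F)) (hg : g 0 0 + g 1 1 = 0) : g * g = -1 := by
  have hd := sl2_det g
  ext i j
  fin_cases i <;> fin_cases j <;> simp [mul_apply, Fin.sum_univ_two]
  · linear_combination g 0 0 * hg - hd
  · linear_combination g 0 1 * hg
  · linear_combination g 1 0 * hg
  · linear_combination g 1 1 * hg - hd

theorem sq_eq_of_anti (h2 : (2 : F) ≠ 0) (g c : SL(2, F)) (h : c * g = -(g * c)) : c * c = -1 := by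
  apply sq_eq_of_trace
  have h1 : c = -(g * c * g⁻¹) := by rw [← neg_mul, ← h, mul_inv_cancel_right]
  have h3 : trace c.1 = -trace c.1 := by
    have h4 : (g⁻¹).1 * (g * c).1 = c.1 := congrArg Subtype.val (inv_mul_cancel_left g c)
    conv_lhs => rw [h1]
    change trace (-((g * c).1 * (g⁻¹).1)) = _
    rw [trace_neg, trace_mul_comm, h4]
  rw [trace_fin_two] at h3
  apply mul_left_cancel₀ h2
  linear_combination h3

theorem eq_of_comm_of_sq (h2 : (2 : F) ≠ 0) (g c : SL(2, F)) (hg : g * g = -1) (hc : c * c = -1)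
    (h : c * g = g * c) : c = g ∨ c = -g := by
  have h1 : (c * g) * (c * g) = 1 := by
    rw [mul_assoc, ← mul_assoc g, ← h, mul_assoc, hg, ← mul_assoc, hc]; simp
  have h3 : g⁻¹ = -g := by rw [inv_eq_iff_mul_eq_one, mul_neg, hg, neg_neg]
  rcases (sl2_mem_center_iff' _).1 (H7.sl2_sq_mem_center h2 _ h1) with h4 | h4
  · right; rw [← h3, eq_inv_iff_mul_eq_one, h4]
  · left; rw [← neg_inj, ← h3, eq_inv_iff_mul_eq_one, neg_mul, h4, neg_neg]

theorem exists_sq_add_sq' [Finite F] (c : F) : ∃ a b : F, a ^ 2 + b ^ 2 = c := by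
  obtain ⟨p, hp⟩ := CharP.exists F
  have := Fintype.ofFinite F
  rcases two_cases (F := F) rfl with ⟨h, -⟩ | ⟨h, h1, -⟩
  · obtain ⟨s, hs⟩ := H7.isSquare_of_two_eq_zero h c
    exact ⟨s, 0, by rw [hs]; ring⟩
  · classical
    obtain ⟨a, b, hab⟩ := FiniteField.exists_root_sum_quadratic
      (f := Polynomial.X ^ 2) (g := Polynomial.X ^ 2 - Polynomial.C c) (by simp)
      (Polynomial.degree_X_pow_sub_C (by norm_num) _) h1
    exact ⟨a, b, by simp at hab; linear_combination hab⟩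

theorem exists_gl_conj_wS (h2 : (2 : F) ≠ 0) (g : SL(2, F)) (hg : g * g = -1) :
    ∃ c : GL (Fin 2) F, slConj c wS = g := by
  have ht := trace_eq_zero_of_sq h2 g hg
  have hd := sl2_det g
  have key : ∀ c : GL (Fin 2) F, c.1 * wS.1 = g.1 * c.1 → slConj c wS = g := by
    intro c h
    apply Subtype.ext
    change c.1 * wS.1 * (c⁻¹).1 = g.1
    rw [h]; simp
  by_cases h10 : g 1 0 = 0
  · by_cases h01 : g 0 1 = 0
    · refine ⟨gl2 1 (g 0 0) 1 (g 1 1) ?_, key _ ?_⟩
      · intro h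
        have h3 : g 0 0 = 0 := by
          apply mul_left_cancel₀ h2
          linear_combination ht - h
        rw [h3, h01] at hd
        simp at hd
      · ext i j
        fin_cases i <;> fin_cases j <;> simp [wS, mul_apply, Fin.sum_univ_two, h10, h01]
        · linear_combination hd - g 0 0 * ht + g 1 0 * h01
        · linear_combination hd - g 1 1 * ht + g 1 0 * h01
    · refine ⟨gl2 0 (g 0 1) 1 (g 1 1) (by simpa using h01), key _ ?_⟩
      ext i j
      fin_cases i <;> fin_cases j <;> simp [wS, mul_apply, Fin.sum_univ_two]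
      · linear_combination -g 0 1 * ht
      · linear_combination hd - g 1 1 * ht
  · refine ⟨gl2 1 (g 0 0) 0 (g 1 0) (by simpa using h10), key _ ?_⟩
    ext i j
    fin_cases i <;> fin_cases j <;> simp [wS, mul_apply, Fin.sum_univ_two]
    · linear_combination hd - g 0 0 * ht
    · linear_combination -g 1 0 * ht

theorem slConj_mul (c d : GL (Fin 2) F) (g : SL(2, F)) :
    slConj (c * d) g = slConj c (slConj d g) := by
  apply Subtype.ext
  change (c * d).1 * g.1 * ((c * d)⁻¹).1 = c.1 * (d.1 * g.1 * (d⁻¹).1) * (c⁻¹).1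
  simp [Matrix.mul_assoc]

theorem slConj_inv (c : GL (Fin 2) F) (g : SL(2, F)) : slConj c⁻¹ (slConj c g) = g :=
  (slConj c).symm_apply_apply g

theorem slConj_eq_iff (c : GL (Fin 2) F) (g h : SL(2, F)) :
    slConj c g = h ↔ c.1 * g.1 = h.1 * c.1 := by
  refine Subtype.ext_iff.trans ?_
  change c.1 * g.1 * (c⁻¹).1 = h.1 ↔ _
  rw [Units.mul_inv_eq_iff_eq_mul]

theorem slConj_neg (c : GL (Fin 2) F) (g : SL(2, F)) : slConj c (-g) = -slConj c g := by
  apply Subtype.ext
  change c.1 * (-g.1) * (c⁻¹).1 = -(c.1 * g.1 * (c⁻¹).1)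
  simp

theorem exists_sl_of_isSquare (c : GL (Fin 2) F) (h : IsSquare c.1.det) :
    ∃ k : SL(2, F), ∀ g, slConj c g = k * g * k⁻¹ := by
  obtain ⟨s, hs⟩ := h
  have hs0 : s ≠ 0 := by rintro rfl; exact c.det_ne_zero (by simpa using hs)
  obtain ⟨k, hk⟩ : ∃ k : SL(2, F), c.1 = s • k.1 :=
    ⟨⟨s⁻¹ • c.1, by rw [det_smul, hs, Fintype.card_fin]; field_simp⟩, (smul_inv_smul₀ hs0 _).symm⟩
  refine ⟨k, fun g => ?_⟩
  have h1 : (k * g * k⁻¹).1 * k.1 = k.1 * g.1 := congrArg Subtype.val (inv_mul_cancel_right (k * g) k)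
  rw [slConj_eq_iff, hk, smul_mul_assoc, mul_smul_comm, h1]

theorem slConj_rot (a b : F) (h : a * a - (-b) * b ≠ 0) : slConj (gl2 a (-b) b a h) wS = wS := by
  rw [slConj_eq_iff]
  ext i j
  fin_cases i <;> fin_cases j <;> simp [wS, mul_apply, Fin.sum_univ_two]

theorem exists_conj_wS [Finite F] (h2 : (2 : F) ≠ 0) (g : SL(2, F)) (hg : g * g = -1) :
    ∃ k : SL(2, F), k * wS * k⁻¹ = g := by
  obtain ⟨c, hc⟩ := exists_gl_conj_wS h2 g hg
  obtain ⟨a, b, hab⟩ := exists_sq_add_sq' c.1.det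
  have h : a * a - (-b) * b ≠ 0 := by
    rw [show a * a - (-b) * b = c.1.det by linear_combination hab]; exact c.det_ne_zero
  obtain ⟨k, hk⟩ := exists_sl_of_isSquare (c * gl2 a (-b) b a h) ⟨c.1.det, by
    rw [Units.val_mul, det_mul, gl2_val, det_fin_two_of, ← hab]; ring⟩
  exact ⟨k, by rw [← hk, slConj_mul, slConj_rot, hc]⟩

theorem isConj_of_sq [Finite F] (h2 : (2 : F) ≠ 0) (g h : SL(2, F)) (hg : g * g = -1)
    (hh : h * h = -1) : ∃ k : SL(2, F), k * g * k⁻¹ = h := by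
  obtain ⟨a, rfl⟩ := exists_conj_wS h2 g hg
  obtain ⟨b, rfl⟩ := exists_conj_wS h2 h hh
  exact ⟨b * a⁻¹, by group⟩

theorem exists_lift_of_involution (h2 : (2 : F) ≠ 0) (t : PSL(2, F)) (h1 : t ≠ 1) (ht : t * t = 1) :
    ∃ g : SL(2, F), (g : PSL(2, F)) = t ∧ g * g = -1 := by
  induction t using QuotientGroup.induction_on with | H g =>
  refine ⟨g, rfl, ?_⟩
  rw [← QuotientGroup.mk_mul, QuotientGroup.eq_one_iff, sl2_mem_center_iff'] at ht
  exact ht.resolve_left fun h => h1 ((QuotientGroup.eq_one_iff _).2 (H7.sl2_sq_mem_center h2 g h))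

theorem mk_ne_one_of_sq (h2 : (2 : F) ≠ 0) (g : SL(2, F)) (hg : g * g = -1) :
    (g : PSL(2, F)) ≠ 1 := by
  rw [Ne, QuotientGroup.eq_one_iff, sl2_mem_center_iff']
  rintro (rfl | rfl) <;> exact sl2_neg_one_ne h2 (by simpa using hg.symm)

theorem mk_neg (g : SL(2, F)) : ((-g : SL(2, F)) : PSL(2, F)) = g :=
  (psl2_mk_eq_iff _ _).2 (Or.inr (neg_neg g).symm)

theorem mk_mul_self_of_sq (g : SL(2, F)) (hg : g * g = -1) :
    (g : PSL(2, F)) * g = 1 := by
  rw [← QuotientGroup.mk_mul, hg, mk_neg, QuotientGroup.mk_one]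

theorem psl2_involutions_conj [Finite F] (h2 : (2 : F) ≠ 0) (x y : PSL(2, F))
    (hx1 : x ≠ 1) (hx : x * x = 1) (hy1 : y ≠ 1) (hy : y * y = 1) : IsConj x y := by
  obtain ⟨g, rfl, hg⟩ := exists_lift_of_involution h2 x hx1 hx
  obtain ⟨h, rfl, hh⟩ := exists_lift_of_involution h2 y hy1 hy
  obtain ⟨k, rfl⟩ := isConj_of_sq h2 g h hg hh
  exact isConj_iff.2 ⟨k, rfl⟩

theorem card_circle [Fintype F] {q : ℕ} (hF : Fintype.card F = q) (hodd : Odd q) :
    (q % 4 = 1 → Nat.card {z : F × F // z.1 ^ 2 + z.2 ^ 2 = 1} = q - 1) ∧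
      (q % 4 = 3 → Nat.card {z : F × F // z.1 ^ 2 + z.2 ^ 2 = 1} = q + 1) := by
  have h2 := H7.two_ne_zero_of_odd_card (F := F) (hF ▸ hodd)
  constructor
  · intro h
    obtain ⟨i, hi⟩ : IsSquare (-1 : F) := by
      rw [FiniteField.isSquare_neg_one_iff, hF]; omega
    have hi0 : i ≠ 0 := by rintro rfl; simp at hi
    let e : {z : F × F // z.1 ^ 2 + z.2 ^ 2 = 1} ≃ Fˣ :=
      { toFun := fun z => ⟨z.1.1 + i * z.1.2, z.1.1 - i * z.1.2,
          by linear_combination z.2 + z.1.2 ^ 2 * hi, by linear_combination z.2 + z.1.2 ^ 2 * hi⟩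
        invFun := fun u => ⟨((u.1 + u.2) / 2, (u.1 - u.2) / (2 * i)), by
          have := u.3
          field_simp
          linear_combination (4 * i ^ 2) * this - (u.1 - u.2) ^ 2 * hi⟩
        left_inv := fun z => Subtype.ext (Prod.ext (by simp; field_simp; ring)
          (by simp; field_simp; ring))
        right_inv := fun u => Units.ext (by simp; field_simp; ring) }
    rw [Nat.card_congr e, Nat.card_units, Nat.card_eq_fintype_card, hF]
  · intro h
    have ha : H7.Aniso (0 : F) 1 := by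
      intro x y hxy
      by_cases hy : y = 0
      · subst hy
        simpa using hxy
      · exfalso
        have : IsSquare (-1 : F) := ⟨x / y, by field_simp; linear_combination -hxy⟩
        rw [FiniteField.isSquare_neg_one_iff, hF] at this
        exact this h
    obtain ⟨ζ, h3, h4, h5⟩ := ha.exists_generator hF
    rw [← h4, ← Nat.card_zpowers]
    symm
    refine Nat.card_eq_of_bijective (fun u => ⟨(u.1.1.re, u.1.1.im), ?_⟩) ⟨fun u v huv => ?_, ?_⟩
    · obtain ⟨_, k, rfl⟩ := u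
      have h6 : (Units.map (QuadraticAlgebra.norm : H7.QA (0 : F) 1 →* F) ζ) = 1 := Units.ext h3
      have h7 : (Units.map (QuadraticAlgebra.norm : H7.QA (0 : F) 1 →* F) (ζ ^ k)) = 1 := by
        rw [map_zpow, h6, _root_.one_zpow]
      have h8 := congrArg Units.val h7
      simp only [Units.coe_map, Units.val_one] at h8
      rw [H7.qa_norm] at h8
      linear_combination h8
    · simp only [Subtype.mk.injEq, Prod.mk.injEq] at huv
      exact Subtype.ext (Units.ext (QuadraticAlgebra.ext huv.1 huv.2))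
    · rintro ⟨⟨x, y⟩, hxy⟩
      obtain ⟨k, hk⟩ := h5 ⟨x, y⟩ (by rw [H7.qa_norm]; linear_combination hxy)
      refine ⟨⟨ζ ^ k, Subgroup.npow_mem_zpowers ζ k⟩, ?_⟩
      simp only [Units.val_pow_eq_pow_val, ← hk]

theorem card_centralizer_wS :
    Nat.card {c : SL(2, F) | c * wS = wS * c} = Nat.card {z : F × F // z.1 ^ 2 + z.2 ^ 2 = 1} := by
  symm
  refine Nat.card_eq_of_bijective (fun z => ⟨sl2 z.1.1 (-z.1.2) z.1.2 z.1.1
    (by linear_combination z.2), ?_⟩) ⟨fun u v huv => ?_, ?_⟩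
  · ext i j
    fin_cases i <;> fin_cases j <;> simp [wS, mul_apply, Fin.sum_univ_two]
  · have h := congrArg (fun x => x.1.1) huv
    exact Subtype.ext (Prod.ext (congrFun (congrFun h 0) 0) (congrFun (congrFun h 1) 0))
  · rintro ⟨c, hc⟩
    have hd := sl2_det c
    have h00 := congrFun (congrFun (congrArg Subtype.val hc) 0) 0
    have h01 := congrFun (congrFun (congrArg Subtype.val hc) 0) 1
    simp [wS, mul_apply, Fin.sum_univ_two] at h00 h01
    refine ⟨⟨(c 0 0, c 1 0), by linear_combination hd + c 0 0 * h01 + c 1 0 * h00⟩, ?_⟩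
    ext i j
    fin_cases i <;> fin_cases j <;> simp [h00, h01]

theorem card_comm_eq [Finite F] (h2 : (2 : F) ≠ 0) (g : SL(2, F)) (hg : g * g = -1) :
    Nat.card {c : SL(2, F) | c * g = g * c} = Nat.card {z : F × F // z.1 ^ 2 + z.2 ^ 2 = 1} := by
  obtain ⟨k, rfl⟩ := exists_conj_wS h2 g hg
  rw [← card_centralizer_wS]
  refine Nat.card_congr (Equiv.subtypeEquiv (MulAut.conj k⁻¹).toEquiv fun c => ?_)
  simp only [Set.mem_ofPred_eq, MulEquiv.toEquiv_eq_coe, EquivLike.coe_coe, MulAut.conj_apply,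
    inv_inv]
  constructor
  · intro h
    calc _ = k⁻¹ * (c * (k * wS * k⁻¹)) * k := by group
      _ = _ := by rw [h]; group
  · intro h
    calc _ = k * (k⁻¹ * c * k * wS) * k⁻¹ := by group
      _ = _ := by rw [h]; group

theorem card_anti_eq [Finite F] (h2 : (2 : F) ≠ 0) (g : SL(2, F)) (hg : g * g = -1) :
    Nat.card {c : SL(2, F) | c * g = -(g * c)} = Nat.card {c : SL(2, F) | c * g = g * c} := by
  obtain ⟨k, hk⟩ := isConj_of_sq h2 g (-g) hg (by simpa using hg)
  rw [mul_inv_eq_iff_eq_mul] at hk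
  refine Nat.card_congr (Equiv.subtypeEquiv (Equiv.mulLeft k) fun c => ?_)
  simp only [Set.mem_ofPred_eq, Equiv.coe_mulLeft]
  have : g * k = k * -g := by rw [mul_neg, hk, neg_mul, neg_neg]
  rw [← mul_assoc g, this, mul_assoc, mul_assoc, mul_right_inj, neg_mul]

theorem card_pm_eq [Finite F] (h2 : (2 : F) ≠ 0) (g : SL(2, F)) (hg : g * g = -1) :
    Nat.card {c : SL(2, F) | c * g = g * c ∨ c * g = -(g * c)} =
      2 * Nat.card {c : SL(2, F) | c * g = g * c} := by
  rw [Set.ofPred_or, Nat.card_coe_set_eq, Set.ncard_union_eq, ← Nat.card_coe_set_eq,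
    ← Nat.card_coe_set_eq, card_anti_eq h2 g hg, two_mul]
  rw [Set.disjoint_left]
  intro c h1 h3
  rw [Set.mem_ofPred_eq] at h1 h3
  rw [h1, ← neg_one_mul, right_eq_mul] at h3
  exact sl2_neg_one_ne h2 h3

theorem exists_gen_of_card_four [Finite F] (h2 : (2 : F) ≠ 0) (A : Subgroup SL(2, F))
    (hA : Nat.card A = 4) : ∃ g : SL(2, F), g * g = -1 ∧ A = Subgroup.zpowers g := by
  have hp : IsPGroup 2 A := IsPGroup.of_card (n := 2) hA
  rcases ((sl2_uniqueOrderP h2).subgroup A).isCyclic_or_quaternion hp with h | ⟨-, n, ⟨e⟩⟩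
  · obtain ⟨g, rfl⟩ := (Subgroup.isCyclic_iff_exists_zpowers_eq_top A).1 h
    rw [Nat.card_zpowers] at hA
    refine ⟨g, Subtype.ext (H7.sl2_involution_eq_neg_one h2 _ (fun h => ?_) ?_), rfl⟩
    · have := orderOf_dvd_of_pow_eq_one (show g ^ 2 = 1 by rw [sq, h])
      rw [hA] at this
      omega
    · rw [← pow_orderOf_eq_one g, hA]; simp only [pow_succ, pow_zero, one_mul, mul_assoc]
  · have := Nat.card_congr e.toEquiv
    rw [hA, Nat.card_eq_fintype_card, QuaternionGroup.card, pow_succ] at this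
    have := Nat.one_le_two_pow (n := n)
    omega

theorem mem_zpowers_of_sq (g c : SL(2, F)) (hg : g * g = -1) :
    c ∈ Subgroup.zpowers g ↔ c = 1 ∨ c = -1 ∨ c = g ∨ c = -g := by
  constructor
  · rintro ⟨k, rfl⟩
    have h3 : g⁻¹ = -g := by rw [inv_eq_iff_mul_eq_one, mul_neg, hg, neg_neg]
    induction k using Int.induction_on with
    | zero => simp
    | succ k ih =>
      simp only [_root_.zpow_add_one] at ih ⊢
      rcases ih with h | h | h | h <;> simp [h, hg]
    | pred k ih =>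
      simp only [_root_.zpow_sub_one] at ih ⊢
      rcases ih with h | h | h | h <;> rw [h, h3] <;> simp [hg]
  · have h1 : -1 ∈ Subgroup.zpowers g :=
      hg ▸ mul_mem (Subgroup.mem_zpowers g) (Subgroup.mem_zpowers g)
    rintro (rfl | rfl | rfl | rfl)
    · exact one_mem _
    · exact h1
    · exact Subgroup.mem_zpowers _
    · simpa using mul_mem h1 (Subgroup.mem_zpowers g)

theorem normalizer_zpowers_eq [Finite F] (h2 : (2 : F) ≠ 0) (g : SL(2, F)) (hg : g * g = -1) :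
    (Subgroup.normalizer (Subgroup.zpowers g : Set SL(2, F)) : Set SL(2, F)) =
      {c : SL(2, F) | c * g = g * c ∨ c * g = -(g * c)} := by
  ext c
  simp only [SetLike.mem_coe, Set.mem_ofPred_eq]
  have hc : ∀ c : SL(2, F), c * g * c⁻¹ * (c * g * c⁻¹) = -1 := fun c => by
    rw [conj_mul, hg]; simp
  constructor
  · intro h
    have h1 := (Subgroup.mem_normalizer_iff.1 h g).1 (Subgroup.mem_zpowers g)
    have h3 := hc c
    rcases (mem_zpowers_of_sq g _ hg).1 h1 with h4 | h4 | h4 | h4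
    · rw [h4] at h3; exact absurd (by simpa using h3.symm) (sl2_neg_one_ne h2)
    · rw [h4] at h3; exact absurd (by simpa using h3.symm) (sl2_neg_one_ne h2)
    · exact Or.inl (mul_inv_eq_iff_eq_mul.1 h4)
    · exact Or.inr (by rw [mul_inv_eq_iff_eq_mul.1 h4, neg_mul])
  · intro h
    apply Subgroup.mem_normalizer_fintype
    rintro _ ⟨k, rfl⟩
    rw [← conj_zpow]
    apply Subgroup.zpow_mem
    rw [mem_zpowers_of_sq g _ hg]
    rcases h with h | h <;> rw [h] <;> simp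

theorem psl2_card_preimage (h2 : (2 : F) ≠ 0) (S : Set PSL(2, F)) :
    Nat.card (QuotientGroup.mk ⁻¹' S : Set SL(2, F)) = 2 * Nat.card S := by
  rw [QuotientGroup.card_preimage_mk]
  congr 1
  have : Subgroup.center SL(2, F) = Subgroup.zpowers (-1) := by
    apply le_antisymm
    · intro g hg
      rcases (sl2_mem_center_iff' g).1 hg with rfl | rfl
      · exact one_mem _
      · exact Subgroup.mem_zpowers _
    · rw [Subgroup.zpowers_le, sl2_mem_center_iff']
      exact Or.inr rfl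
  rw [this, Nat.card_zpowers]
  exact orderOf_eq_prime (by simp) (sl2_neg_one_ne h2)

theorem psl2_card_centralizer [Finite F] (h2 : (2 : F) ≠ 0) (t : PSL(2, F)) (h1 : t ≠ 1)
    (ht : t * t = 1) : Nat.card (Subgroup.centralizer ({t} : Set PSL(2, F))) =
      2 * Nat.card {s : PSL(2, F) | s ≠ 1 ∧ s * s = 1 ∧ s ≠ t ∧ s * t = t * s} := by
  obtain ⟨g, rfl, hg⟩ := exists_lift_of_involution h2 t h1 ht
  have e1 := psl2_card_preimage h2 (Subgroup.centralizer ({(g : PSL(2, F))} : Set PSL(2, F)))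
  have e2 := psl2_card_preimage h2
    {s : PSL(2, F) | s ≠ 1 ∧ s * s = 1 ∧ s ≠ g ∧ s * g = g * s}
  have hcomm : ∀ c : SL(2, F), (c : PSL(2, F)) * g = g * c ↔ c * g = g * c ∨ c * g = -(g * c) := by
    intro c
    rw [eq_comm, ← QuotientGroup.mk_mul, ← QuotientGroup.mk_mul, psl2_mk_eq_iff]
  have h3 : (QuotientGroup.mk ⁻¹' (Subgroup.centralizer ({(g : PSL(2, F))} : Set PSL(2, F)) :
      Set PSL(2, F)) : Set SL(2, F)) = {c : SL(2, F) | c * g = g * c ∨ c * g = -(g * c)} := by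
    ext c
    simp only [Set.mem_preimage, SetLike.mem_coe, Subgroup.mem_centralizer_singleton_iff,
      Set.mem_ofPred_eq, hcomm]
  have h4 : (QuotientGroup.mk ⁻¹' {s : PSL(2, F) | s ≠ 1 ∧ s * s = 1 ∧ s ≠ g ∧ s * g = g * s} :
      Set SL(2, F)) = {c : SL(2, F) | c * g = -(g * c)} := by
    ext c
    simp only [Set.mem_preimage, Set.mem_ofPred_eq, hcomm]
    constructor
    · rintro ⟨k1, k2, k3, k4⟩
      refine k4.resolve_left fun h => k3 ?_
      obtain ⟨c', e, hc'⟩ := exists_lift_of_involution h2 _ k1 k2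
      have hc : c * c = -1 := by
        rcases (psl2_mk_eq_iff _ _).1 e with rfl | rfl
        · exact hc'
        · simpa using hc'
      rcases eq_of_comm_of_sq h2 g c hg hc h with rfl | rfl
      · rfl
      · exact mk_neg _
    · intro h
      have hc := sq_eq_of_anti h2 g c h
      refine ⟨mk_ne_one_of_sq h2 c hc, mk_mul_self_of_sq c hc, fun e => ?_, Or.inr h⟩
      rcases (psl2_mk_eq_iff _ _).1 e with rfl | rfl
      · rw [hg] at h; exact sl2_neg_one_ne h2 (by simpa using h)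
      · rw [mul_neg, neg_mul, hc] at h; exact sl2_neg_one_ne h2 (by simpa using h.symm)
  rw [h3, card_pm_eq h2 g hg] at e1
  rw [h4, card_anti_eq h2 g hg] at e2
  simp only [SetLike.coe_sort_coe] at e1
  omega

section Klein

variable {G : Type*} [Group G]

/-- The four-group on two commuting involutions. -/
def kleinOf (t s : G) (ht : t * t = 1) (hs : s * s = 1) (hc : s * t = t * s) : Subgroup G where
  carrier := {g | g = 1 ∨ g = t ∨ g = s ∨ g = t * s}
  one_mem' := Or.inl rfl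
  mul_mem' := by
    have h1 : ∀ x, t * (t * x) = x := fun x => by rw [← mul_assoc, ht, one_mul]
    have h2 : ∀ x, s * (t * x) = t * (s * x) := fun x => by rw [← mul_assoc, hc, mul_assoc]
    rintro _ _ (rfl | rfl | rfl | rfl) (h | h | h | h) <;> rw [h] <;>
      simp [ht, hs, hc, h1, h2, mul_assoc]
  inv_mem' := by
    have h1 : t⁻¹ = t := inv_eq_of_mul_eq_one_right ht
    have h2 : s⁻¹ = s := inv_eq_of_mul_eq_one_right hs
    rintro _ (rfl | rfl | rfl | rfl) <;> simp [h1, h2, hc]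

theorem mem_kleinOf {t s : G} {ht : t * t = 1} {hs : s * s = 1} {hc : s * t = t * s} {g : G} :
    g ∈ kleinOf t s ht hs hc ↔ g = 1 ∨ g = t ∨ g = s ∨ g = t * s := Iff.rfl

theorem card_kleinOf {t s : G} (ht : t * t = 1) (hs : s * s = 1) (hc : s * t = t * s)
    (ht1 : t ≠ 1) (hs1 : s ≠ 1) (hst : s ≠ t) : Nat.card (kleinOf t s ht hs hc) = 4 := by
  have h1 : t * s ≠ 1 := fun h => hst (mul_left_cancel (h.trans ht.symm))
  have : (kleinOf t s ht hs hc : Set G) = {1, t, s, t * s} := rfl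
  rw [← SetLike.coe_sort_coe, this, Nat.card_coe_set_eq, Set.ncard_insert_of_notMem,
    Set.ncard_insert_of_notMem, Set.ncard_pair]
  · simpa using ht1
  · simp [hst.symm, hs1]
  · simp [ht1.symm, hs1.symm, h1.symm]

theorem isKleinFour_kleinOf {t s : G} (ht : t * t = 1) (hs : s * s = 1) (hc : s * t = t * s)
    (ht1 : t ≠ 1) (hs1 : s ≠ 1) (hst : s ≠ t) : IsKleinFour (kleinOf t s ht hs hc) := by
  refine ⟨card_kleinOf ht hs hc ht1 hs1 hst, ?_⟩
  have : Nontrivial (kleinOf t s ht hs hc) :=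
    ⟨⟨t, Or.inr (Or.inl rfl)⟩, 1, fun h => ht1 (congrArg Subtype.val h)⟩
  rw [Monoid.exponent_eq_prime_iff Nat.prime_two]
  rintro ⟨g, hg⟩ h1
  refine orderOf_eq_prime (Subtype.ext ?_) h1
  change g ^ 2 = 1
  rw [sq]
  rcases hg with rfl | rfl | rfl | rfl
  · simp
  · exact ht
  · exact hs
  · rw [mul_assoc, ← mul_assoc s, hc, mul_assoc, hs, mul_one, ht]

theorem klein_mul_self {V : Subgroup G} (hV : IsKleinFour V) {t : G} (ht : t ∈ V) : t * t = 1 :=
  congrArg Subtype.val (IsKleinFour.mul_self (⟨t, ht⟩ : V))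

theorem klein_comm' {V : Subgroup G} (hV : IsKleinFour V) {t s : G} (ht : t ∈ V) (hs : s ∈ V) :
    s * t = t * s :=
  congrArg Subtype.val ((IsKleinFour.isMulCommutative (G := V)).is_comm.comm ⟨s, hs⟩ ⟨t, ht⟩)

theorem eq_kleinOf {V : Subgroup G} (hV : IsKleinFour V) {t s : G} (ht : t ∈ V) (hs : s ∈ V)
    (ht1 : t ≠ 1) (hs1 : s ≠ 1) (hst : s ≠ t) :
    V = kleinOf t s (klein_mul_self hV ht) (klein_mul_self hV hs) (klein_comm' hV ht hs) := by
  have : Finite V := Nat.finite_of_card_ne_zero (by rw [hV.card_four]; decide)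
  symm
  apply Subgroup.eq_of_le_of_card_ge
  · rintro _ (rfl | rfl | rfl | rfl)
    exacts [one_mem _, ht, hs, mul_mem ht hs]
  · rw [card_kleinOf _ _ _ ht1 hs1 hst, hV.card_four]

theorem klein_eq_of_mem {V W : Subgroup G} (hV : IsKleinFour V) (hW : IsKleinFour W) {t s : G}
    (ht : t ∈ V) (hs : s ∈ V) (ht' : t ∈ W) (hs' : s ∈ W) (ht1 : t ≠ 1) (hs1 : s ≠ 1)
    (hst : s ≠ t) : V = W :=
  (eq_kleinOf hV ht hs ht1 hs1 hst).trans (eq_kleinOf hW ht' hs' ht1 hs1 hst).symm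

theorem card_pairs_of_card_four {α : Type*} (h : Nat.card α = 4) (o : α) :
    Nat.card {p : α × α // p.1 ≠ o ∧ p.2 ≠ o ∧ p.2 ≠ p.1} = 6 := by
  have : Finite α := Nat.finite_of_card_ne_zero (by rw [h]; decide)
  let e : α ≃ Fin 4 := Finite.equivFinOfCardEq h
  have h1 : ∀ o : Fin 4, Fintype.card {p : Fin 4 × Fin 4 // p.1 ≠ o ∧ p.2 ≠ o ∧ p.2 ≠ p.1} = 6 := by
    decide
  rw [← h1 (e o), ← Nat.card_eq_fintype_card]
  exact Nat.card_congr (Equiv.subtypeEquiv (e.prodCongr e) fun p => by simp)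

theorem exists_pair_of_klein {V : Subgroup G} (hV : IsKleinFour V) :
    ∃ t ∈ V, ∃ s ∈ V, t ≠ 1 ∧ s ≠ 1 ∧ s ≠ t := by
  have h := card_pairs_of_card_four hV.card_four (1 : V)
  obtain ⟨⟨⟨t, s⟩, h1, h2, h3⟩⟩ := (Nat.card_ne_zero.1 (by rw [h]; decide)).1
  exact ⟨t, t.2, s, s.2, fun e => h1 (Subtype.ext e), fun e => h2 (Subtype.ext e),
    fun e => h3 (Subtype.ext e)⟩

theorem six_mul_card_klein [Finite G] : 6 * Nat.card {V : Subgroup G // IsKleinFour V} =
    Nat.card (Σ t : {t : G // t ≠ 1 ∧ t * t = 1},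
      {s : G | s ≠ 1 ∧ s * s = 1 ∧ s ≠ t ∧ s * t = t * s}) := by
  have := Fintype.ofFinite {V : Subgroup G // IsKleinFour V}
  have h1 : Nat.card (Σ V : {V : Subgroup G // IsKleinFour V},
      {p : V.1 × V.1 // p.1 ≠ 1 ∧ p.2 ≠ 1 ∧ p.2 ≠ p.1}) =
      6 * Nat.card {V : Subgroup G // IsKleinFour V} := by
    rw [Nat.card_sigma, Finset.sum_congr rfl fun V _ => card_pairs_of_card_four V.2.card_four 1]
    simp [mul_comm]
  rw [← h1]
  refine Nat.card_eq_of_bijective (fun x => ⟨⟨x.2.1.1, fun e => x.2.2.1 (Subtype.ext e),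
    klein_mul_self x.1.2 x.2.1.1.2⟩, x.2.1.2, fun e => x.2.2.2.1 (Subtype.ext e),
    klein_mul_self x.1.2 x.2.1.2.2, fun e => x.2.2.2.2 (Subtype.ext e),
    klein_comm' x.1.2 x.2.1.1.2 x.2.1.2.2⟩) ⟨?_, ?_⟩
  · rintro ⟨⟨V, hV⟩, ⟨⟨t, ht⟩, ⟨s, hs⟩⟩, h1, h2, h3⟩ ⟨⟨W, hW⟩, ⟨⟨t', ht'⟩, ⟨s', hs'⟩⟩, h4⟩ h
    obtain rfl : t = t' := congrArg (fun x => x.1.1) h
    obtain rfl : s = s' := congrArg (fun x => x.2.1) h
    obtain rfl : V = W := klein_eq_of_mem hV hW ht hs ht' hs' (fun e => h1 (Subtype.ext e))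
      (fun e => h2 (Subtype.ext e)) (fun e => h3 (Subtype.ext e))
    rfl
  · rintro ⟨⟨t, ht1, ht⟩, s, hs1, hs, hst, hc⟩
    exact ⟨⟨⟨kleinOf t s ht hs hc, isKleinFour_kleinOf ht hs hc ht1 hs1 hst⟩,
      (⟨t, Or.inr (Or.inl rfl)⟩, ⟨s, Or.inr (Or.inr (Or.inl rfl))⟩),
      fun e => ht1 (congrArg Subtype.val e), fun e => hs1 (congrArg Subtype.val e),
      fun e => hst (congrArg Subtype.val e)⟩, rfl⟩

theorem isKleinFour_map {G' : Type*} [Group G'] {V : Subgroup G} (hV : IsKleinFour V) (f : G →* G')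
    (hf : Function.Injective f) : IsKleinFour (V.map f) := by
  have e := V.equivMapOfInjective f hf
  exact ⟨by rw [← Nat.card_congr e.toEquiv, hV.card_four],
    by rw [← Monoid.exponent_eq_of_mulEquiv e, hV.exponent_two]⟩

end Klein

theorem psl2_card_klein [Finite F] (h2 : (2 : F) ≠ 0) :
    12 * Nat.card {V : Subgroup PSL(2, F) // IsKleinFour V} = Nat.card PSL(2, F) := by
  have := Fintype.ofFinite {t : PSL(2, F) // t ≠ 1 ∧ t * t = 1}
  have hw1 := mk_ne_one_of_sq h2 wS wS_mul_self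
  have hw := mk_mul_self_of_sq (F := F) wS wS_mul_self
  rw [show 12 = 2 * 6 from rfl, mul_assoc, six_mul_card_klein, Nat.card_sigma, Finset.mul_sum,
    Finset.sum_congr rfl fun t _ => (psl2_card_centralizer h2 t.1 t.2.1 t.2.2).symm,
    ← ncard_conj_mul_card_centralizer ((wS : SL(2, F)) : PSL(2, F))]
  have h3 : ∀ t : {t : PSL(2, F) // t ≠ 1 ∧ t * t = 1},
      Nat.card (Subgroup.centralizer ({t.1} : Set PSL(2, F))) =
        Nat.card (Subgroup.centralizer ({((wS : SL(2, F)) : PSL(2, F))} : Set PSL(2, F))) := by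
    intro t
    obtain ⟨c, hc⟩ := isConj_iff.1 (psl2_involutions_conj h2 _ _ t.2.1 t.2.2 hw1 hw)
    refine Nat.card_congr (Equiv.subtypeEquiv (MulAut.conj c).toEquiv fun g => ?_)
    simp only [Subgroup.mem_centralizer_singleton_iff, ← hc, MulEquiv.toEquiv_eq_coe,
      EquivLike.coe_coe, MulAut.conj_apply, conj_mul, mul_left_inj, mul_right_inj]
  rw [Finset.sum_congr rfl fun t _ => h3 t, Finset.sum_const, Finset.card_univ, smul_eq_mul,
    ← Nat.card_eq_fintype_card, ← Nat.card_coe_set_eq]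
  congr 1
  refine Nat.card_congr (Equiv.subtypeEquivRight fun t => ⟨fun h => ?_, fun h => ?_⟩)
  · exact psl2_involutions_conj h2 _ _ hw1 hw h.1 h.2
  · obtain ⟨c, rfl⟩ := isConj_iff.1 h
    exact ⟨by rwa [Ne, conj_eq_one_iff], by rw [conj_mul, hw]; simp⟩

/-- The automorphism of `PSL₂(F)` induced by an element of `GL₂(F)`. -/
noncomputable def pslConj (c : GL (Fin 2) F) : PSL(2, F) →* PSL(2, F) :=
  QuotientGroup.map _ _ (slConj c).toMonoidHom (by
    intro g hg
    rw [Subgroup.mem_comap, sl2_mem_center_iff']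
    rcases (sl2_mem_center_iff' g).1 hg with rfl | rfl
    · exact Or.inl (map_one _)
    · right
      change slConj c (-1) = -1
      rw [slConj_neg, map_one])

theorem pslConj_mk (c : GL (Fin 2) F) (g : SL(2, F)) :
    pslConj c (g : PSL(2, F)) = (slConj c g : SL(2, F)) := rfl

theorem pslConj_mul (c d : GL (Fin 2) F) : pslConj (c * d) = (pslConj c).comp (pslConj d) := by
  ext g
  exact congrArg _ (slConj_mul c d g)

theorem pslConj_injective (c : GL (Fin 2) F) : Function.Injective (pslConj c) := by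
  intro a b h
  induction a using QuotientGroup.induction_on with | H a =>
  induction b using QuotientGroup.induction_on with | H b =>
  have := congrArg (pslConj c⁻¹) h
  rwa [pslConj_mk, pslConj_mk, pslConj_mk, pslConj_mk, slConj_inv, slConj_inv] at this

theorem exists_pslConj_eq (c : GL (Fin 2) F) (h : IsSquare c.1.det) :
    ∃ k : PSL(2, F), pslConj c = (MulAut.conj k).toMonoidHom := by
  obtain ⟨k, hk⟩ := exists_sl_of_isSquare c h
  refine ⟨k, ?_⟩
  ext g
  exact congrArg _ (hk g)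

theorem pslConj_toGL (k : SL(2, F)) :
    pslConj (SpecialLinearGroup.toGL k) = (MulAut.conj (k : PSL(2, F))).toMonoidHom := by
  ext g
  refine congrArg QuotientGroup.mk
    (show slConj (SpecialLinearGroup.toGL k) g = k * g * k⁻¹ from ?_)
  rw [slConj_eq_iff]
  exact (congrArg Subtype.val (inv_mul_cancel_right (k * g) k)).symm

theorem exists_lifts_of_klein (h2 : (2 : F) ≠ 0) {V : Subgroup PSL(2, F)} (hV : IsKleinFour V) :
    ∃ g h : SL(2, F), g * g = -1 ∧ h * g = -(g * h) ∧ (g : PSL(2, F)) ∈ V ∧ (h : PSL(2, F)) ∈ V := by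
  obtain ⟨t, ht, s, hs, ht1, hs1, hst⟩ := exists_pair_of_klein hV
  obtain ⟨g, rfl, hg⟩ := exists_lift_of_involution h2 t ht1 (klein_mul_self hV ht)
  obtain ⟨h, rfl, hh⟩ := exists_lift_of_involution h2 s hs1 (klein_mul_self hV hs)
  refine ⟨g, h, hg, ?_, ht, hs⟩
  have h3 := (klein_comm' hV ht hs).symm
  rw [← QuotientGroup.mk_mul, ← QuotientGroup.mk_mul, psl2_mk_eq_iff] at h3
  refine h3.resolve_left fun e => hst ?_
  rcases eq_of_comm_of_sq h2 g h hg hh e with rfl | rfl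
  · rfl
  · exact mk_neg _

theorem mk_ne_of_anti (h2 : (2 : F) ≠ 0) (g h : SL(2, F)) (hg : g * g = -1) (hh : h * g = -(g * h)) :
    (h : PSL(2, F)) ≠ g := by
  intro e
  have hc := sq_eq_of_anti h2 g h hh
  rcases (psl2_mk_eq_iff _ _).1 e with rfl | rfl
  · rw [hg] at hh; exact sl2_neg_one_ne h2 (by simpa using hh)
  · rw [mul_neg, neg_mul, hc] at hh; exact sl2_neg_one_ne h2 (by simpa using hh.symm)

theorem exists_rot_anti (h2 : (2 : F) ≠ 0) (h h' : SL(2, F)) (hh : h * wS = -(wS * h))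
    (hh' : h' * wS = -(wS * h')) : ∃ c : GL (Fin 2) F, slConj c wS = wS ∧ slConj c h = h' := by
  have hd := sl2_det h
  have hd' := sl2_det h'
  have h00 := congrFun (congrFun (congrArg Subtype.val hh) 0) 0
  have h01 := congrFun (congrFun (congrArg Subtype.val hh) 0) 1
  have k00 := congrFun (congrFun (congrArg Subtype.val hh') 0) 0
  have k01 := congrFun (congrFun (congrArg Subtype.val hh') 0) 1
  simp [wS, mul_apply, Fin.sum_univ_two, vecMul, dotProduct] at h00 h01 k00 k01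
  rw [← h00, ← h01] at hd
  rw [← k00, ← k01] at hd'
  by_cases h0 : 1 - (h 0 0 * h' 0 0 + h 0 1 * h' 0 1) = 0
  · refine ⟨gl2 0 (-1) 1 0 (by simp), slConj_rot _ _ _, ?_⟩
    have e1 : h 0 0 * h' 0 1 - h 0 1 * h' 0 0 = 0 := by
      apply pow_eq_zero_iff two_ne_zero |>.1
      linear_combination (1 + (h 0 0 * h' 0 0 + h 0 1 * h' 0 1)) * h0 + hd' -
        (h' 0 0 ^ 2 + h' 0 1 ^ 2) * hd
    have e2 : h' 0 0 = -h 0 0 := by linear_combination h 0 0 * h0 + h 0 1 * e1 - h' 0 0 * hd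
    have e3 : h' 0 1 = -h 0 1 := by linear_combination h 0 1 * h0 - h 0 0 * e1 - h' 0 1 * hd
    rw [slConj_eq_iff]
    ext i j
    fin_cases i <;> fin_cases j <;>
      simp [mul_apply, Fin.sum_univ_two, ← h00, ← h01, ← k00, ← k01, e2, e3]
  · refine ⟨gl2 (1 - (h 0 0 * h' 0 0 + h 0 1 * h' 0 1)) (-(h 0 1 * h' 0 0 - h 0 0 * h' 0 1))
      (h 0 1 * h' 0 0 - h 0 0 * h' 0 1) (1 - (h 0 0 * h' 0 0 + h 0 1 * h' 0 1)) ?_,
      slConj_rot _ _ _, ?_⟩
    · intro e
      apply mul_ne_zero h2 h0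
      linear_combination e - hd' + (h' 0 0 ^ 2 + h' 0 1 ^ 2) * hd
    · rw [slConj_eq_iff]
      ext i j
      fin_cases i <;> fin_cases j <;>
        simp [mul_apply, Fin.sum_univ_two, ← h00, ← h01, ← k00, ← k01]
      · linear_combination h' 0 0 * hd - h 0 0 * hd'
      · linear_combination h' 0 1 * hd - h 0 1 * hd'
      · linear_combination h' 0 1 * hd - h 0 1 * hd'
      · linear_combination -h' 0 0 * hd + h 0 0 * hd'

theorem exists_slConj_pair (h2 : (2 : F) ≠ 0) (g h g' h' : SL(2, F)) (hg : g * g = -1)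
    (hh : h * g = -(g * h)) (hg' : g' * g' = -1) (hh' : h' * g' = -(g' * h')) :
    ∃ c : GL (Fin 2) F, slConj c g = g' ∧ slConj c h = h' := by
  obtain ⟨a, rfl⟩ := exists_gl_conj_wS h2 g hg
  obtain ⟨b, rfl⟩ := exists_gl_conj_wS h2 g' hg'
  obtain ⟨h, rfl⟩ := (slConj a).surjective h
  obtain ⟨h', rfl⟩ := (slConj b).surjective h'
  rw [← map_mul, ← map_mul, ← slConj_neg, (slConj _).injective.eq_iff] at hh hh'
  obtain ⟨c, h3, h4⟩ := exists_rot_anti h2 h h' hh hh'
  exact ⟨b * c * a⁻¹, by rw [slConj_mul, slConj_mul, slConj_inv, h3],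
    by rw [slConj_mul, slConj_mul, slConj_inv, h4]⟩

theorem exists_pslConj_klein (h2 : (2 : F) ≠ 0) {V W : Subgroup PSL(2, F)} (hV : IsKleinFour V)
    (hW : IsKleinFour W) : ∃ c : GL (Fin 2) F, W = V.map (pslConj c) := by
  obtain ⟨g, h, hg, hh, h3, h4⟩ := exists_lifts_of_klein h2 hV
  obtain ⟨g', h', hg', hh', h5, h6⟩ := exists_lifts_of_klein h2 hW
  obtain ⟨c, rfl, rfl⟩ := exists_slConj_pair h2 g h g' h' hg hh hg' hh'
  exact ⟨c, klein_eq_of_mem hW (isKleinFour_map hV _ (pslConj_injective c)) h5 h6 ⟨_, h3, rfl⟩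
    ⟨_, h4, rfl⟩ (mk_ne_one_of_sq h2 _ hg') (mk_ne_one_of_sq h2 _ (sq_eq_of_anti h2 _ _ hh'))
    (mk_ne_of_anti h2 _ _ hg' hh')⟩

theorem exists_norm_det_two (h2 : (2 : F) ≠ 0) {V : Subgroup PSL(2, F)} (hV : IsKleinFour V) :
    ∃ r : GL (Fin 2) F, r.1.det = 2 ∧ V.map (pslConj r) = V ∧ (∃ s ∈ V, pslConj r s ≠ s) ∧
      ∃ t ∈ V, pslConj (r * r) = (MulAut.conj t).toMonoidHom := by
  obtain ⟨g, h, hg, hh, h3, h4⟩ := exists_lifts_of_klein h2 hV
  have ht := trace_eq_zero_of_sq h2 g hg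
  have hd := sl2_det g
  have hdet : (1 + g.1).det = 2 := by
    rw [det_fin_two]
    simp
    linear_combination ht + hd
  let r : GL (Fin 2) F := GeneralLinearGroup.mkOfDetNeZero (1 + g.1) (by rwa [hdet])
  have hr : r.1 = 1 + g.1 := rfl
  have hg' : g.1 * g.1 = -1 := congrArg Subtype.val hg
  have hh' : h.1 * g.1 = -(g.1 * h.1) := congrArg Subtype.val hh
  have e1 : slConj r g = g := by
    rw [slConj_eq_iff, hr, add_mul, mul_add, one_mul, mul_one]
  have e2 : slConj r h = g * h := by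
    rw [slConj_eq_iff, hr]
    change _ = g.1 * h.1 * _
    rw [add_mul, mul_add, one_mul, mul_one, mul_assoc, hh', mul_neg, ← mul_assoc, hg', add_comm]
    simp
  have h5 : h * h = -1 := sq_eq_of_anti h2 _ _ hh
  have h6 : g * h * g = -(g * (g * h)) := by rw [mul_assoc, hh, mul_neg]
  refine ⟨r, hdet, ?_, ⟨h, h4, ?_⟩, g, h3, ?_⟩
  · refine klein_eq_of_mem (isKleinFour_map hV _ (pslConj_injective r)) hV (t := g)
      (s := (g * h : SL(2, F))) ⟨g, h3, by rw [pslConj_mk, e1]⟩ ⟨h, h4, by rw [pslConj_mk, e2]⟩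
      h3 (mul_mem h3 h4) (mk_ne_one_of_sq h2 _ hg)
      (mk_ne_one_of_sq h2 _ (sq_eq_of_anti h2 _ _ h6)) (mk_ne_of_anti h2 _ _ hg h6)
  · rw [pslConj_mk, e2, QuotientGroup.mk_mul, Ne, mul_eq_right]
    exact mk_ne_one_of_sq h2 _ hg
  · ext k
    refine congrArg QuotientGroup.mk (show slConj (r * r) k = g * k * g⁻¹ from ?_)
    have h7 : (r * r).1 = (2 : F) • g.1 := by
      rw [Units.val_mul, hr, add_mul, mul_add, mul_add, hg', two_smul]; simp; abel
    have h8 : (g * k * g⁻¹).1 * g.1 = g.1 * k.1 :=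
      congrArg Subtype.val (inv_mul_cancel_right (g * k) g)
    rw [slConj_eq_iff, h7, smul_mul_assoc, mul_smul_comm, h8]

theorem isSquare_mul_of_not [Finite F] {a b : F} (ha : ¬ IsSquare a) (hb : ¬ IsSquare b) :
    IsSquare (a * b) := by
  classical
  have := Fintype.ofFinite F
  have ha0 : a ≠ 0 := by rintro rfl; exact ha ⟨0, by simp⟩
  have hb0 : b ≠ 0 := by rintro rfl; exact hb ⟨0, by simp⟩
  rw [← quadraticChar_neg_one_iff_not_isSquare] at ha hb
  rw [← quadraticChar_one_iff_isSquare (mul_ne_zero ha0 hb0), map_mul, ha, hb]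
  rfl

theorem psl2_klein_conj_of_not_isSquare [Finite F] (h : ¬ IsSquare (2 : F))
    {V W : Subgroup PSL(2, F)} (hV : IsKleinFour V) (hW : IsKleinFour W) :
    ∃ g : PSL(2, F), W = V.map (MulAut.conj g).toMonoidHom := by
  have h2 : (2 : F) ≠ 0 := fun e => h (e ▸ ⟨0, by simp⟩)
  obtain ⟨c, rfl⟩ := exists_pslConj_klein h2 hV hW
  by_cases hc : IsSquare c.1.det
  · obtain ⟨k, hk⟩ := exists_pslConj_eq c hc
    exact ⟨k, by rw [hk]⟩
  · obtain ⟨r, h3, h4, -⟩ := exists_norm_det_two h2 hV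
    obtain ⟨k, hk⟩ := exists_pslConj_eq (c * r)
      (by rw [Units.val_mul, det_mul, h3]; exact isSquare_mul_of_not hc h)
    exact ⟨k, by rw [← hk, pslConj_mul, ← Subgroup.map_map, h4]⟩

theorem psl2_klein_not_all_conj [Finite F] (h2 : (2 : F) ≠ 0) (h : IsSquare (2 : F))
    {V : Subgroup PSL(2, F)} (hV : IsKleinFour V) :
    ¬ ∀ W : Subgroup PSL(2, F), IsKleinFour W →
      ∃ g : PSL(2, F), W = V.map (MulAut.conj g).toMonoidHom := by
  intro hall
  letI : MulAction PSL(2, F) {V : Subgroup PSL(2, F) // IsKleinFour V} :=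
    { smul := fun g W => ⟨W.1.map (MulAut.conj g).toMonoidHom,
        isKleinFour_map W.2 _ (MulAut.conj g).injective⟩
      one_smul := fun W => Subtype.ext (by
        change W.1.map _ = _
        rw [map_one]; exact Subgroup.map_id _)
      mul_smul := fun a b W => Subtype.ext (by
        change W.1.map _ = (W.1.map _).map _
        rw [Subgroup.map_map, map_mul]; rfl) }
  have : IsPretransitive PSL(2, F) {V : Subgroup PSL(2, F) // IsKleinFour V} := by
    refine .of_orbit (x₀ := ⟨V, hV⟩) fun W => ?_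
    obtain ⟨g, hg⟩ := hall W.1 W.2
    exact ⟨g, Subtype.ext hg.symm⟩
  let N := stabilizer PSL(2, F) (⟨V, hV⟩ : {V : Subgroup PSL(2, F) // IsKleinFour V})
  have hN : ∀ g, g ∈ N ↔ V.map (MulAut.conj g).toMonoidHom = V := fun g => Subtype.ext_iff
  have h1 := N.card_mul_index
  rw [index_stabilizer_of_transitive, ← psl2_card_klein h2] at h1
  have h3 : Nat.card N = 12 := Nat.eq_of_mul_eq_mul_right
    (Nat.card_pos_iff.2 ⟨⟨⟨V, hV⟩⟩, inferInstance⟩) h1
  have hle : V ≤ N := by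
    intro t ht
    rw [hN]
    ext s
    constructor
    · rintro ⟨u, hu, rfl⟩
      exact mul_mem (mul_mem ht hu) (inv_mem ht)
    · intro hs
      exact ⟨t⁻¹ * s * t, mul_mem (mul_mem (inv_mem ht) hs) ht, by simp [mul_assoc]⟩
  have : (V.subgroupOf N).Normal := ⟨fun s hs g => by
    rw [Subgroup.mem_subgroupOf, ← (hN g).1 g.2]
    exact ⟨s, hs, rfl⟩⟩
  have h4 : (V.subgroupOf N).index = 3 := by
    have := (V.subgroupOf N).card_mul_index
    rw [h3, Nat.card_congr (Subgroup.subgroupOfEquivOfLe hle).toEquiv, hV.card_four] at this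
    omega
  obtain ⟨r, h5, h6, ⟨s, hs, h7⟩, t, ht, h8⟩ := exists_norm_det_two h2 hV
  obtain ⟨k, hk⟩ := exists_pslConj_eq r (h5 ▸ h)
  rw [pslConj_mul, hk] at h8
  rw [hk] at h6 h7
  have h9 := (V.subgroupOf N).pow_index_mem ⟨k, (hN k).2 h6⟩
  rw [h4, Subgroup.mem_subgroupOf] at h9
  change k ^ 3 ∈ V at h9
  have h10 : k * (k * s * k⁻¹) * k⁻¹ = s := by
    have : k * (k * s * k⁻¹) * k⁻¹ = t * s * t⁻¹ := DFunLike.congr_fun h8 s
    rw [this, ← klein_comm' hV ht hs, mul_inv_cancel_right]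
  apply h7
  change k * s * k⁻¹ = s
  calc k * s * k⁻¹ = k * (k * (k * s * k⁻¹) * k⁻¹) * k⁻¹ := by rw [h10]
    _ = k ^ 3 * s * (k ^ 3)⁻¹ := by simp [pow_succ, mul_assoc]
    _ = s := by rw [← klein_comm' hV h9 hs, mul_inv_cancel_right]

theorem psl2_exists_klein [Finite F] (h2 : (2 : F) ≠ 0) :
    ∃ V : Subgroup PSL(2, F), IsKleinFour V := by
  have h := psl2_card_klein h2
  have : 0 < Nat.card PSL(2, F) := Nat.card_pos
  obtain ⟨V⟩ := (Nat.card_ne_zero.1 (show Nat.card {V : Subgroup PSL(2, F) // IsKleinFour V} ≠ 0 by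
    omega)).1
  exact ⟨V.1, V.2⟩

theorem psl2_klein_two_classes [Finite F] (h2 : (2 : F) ≠ 0) (h : IsSquare (2 : F)) :
    ∃ V₁ V₂ : Subgroup PSL(2, F), IsKleinFour V₁ ∧ IsKleinFour V₂ ∧
      (¬ ∃ g : PSL(2, F), V₂ = V₁.map (MulAut.conj g).toMonoidHom) ∧
      ∀ W : Subgroup PSL(2, F), IsKleinFour W →
        (∃ g : PSL(2, F), W = V₁.map (MulAut.conj g).toMonoidHom) ∨
        (∃ g : PSL(2, F), W = V₂.map (MulAut.conj g).toMonoidHom) := by
  obtain ⟨V, hV⟩ := psl2_exists_klein h2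
  have h1 := psl2_klein_not_all_conj h2 h hV
  push Not at h1
  obtain ⟨V₂, hV₂, h1⟩ := h1
  refine ⟨V, V₂, hV, hV₂, not_exists.2 h1, fun W hW => ?_⟩
  obtain ⟨c, rfl⟩ := exists_pslConj_klein h2 hV hW
  obtain ⟨d, rfl⟩ := exists_pslConj_klein h2 hV hV₂
  by_cases hc : IsSquare c.1.det
  · obtain ⟨k, hk⟩ := exists_pslConj_eq c hc
    exact Or.inl ⟨k, by rw [hk]⟩
  · have hd : ¬ IsSquare (d⁻¹).1.det := by
      intro hd
      obtain ⟨k, hk⟩ := exists_pslConj_eq d (by
        rw [← isSquare_inv, eq_comm.1 (eq_inv_of_mul_eq_one_left (a := (d⁻¹).1.det) ?_)]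
        · exact hd
        · rw [← det_mul, ← Units.val_mul, inv_mul_cancel]; simp)
      exact h1 k (by rw [hk])
    obtain ⟨k, hk⟩ := exists_pslConj_eq (c * d⁻¹)
      (by rw [Units.val_mul, det_mul]; exact isSquare_mul_of_not hc hd)
    exact Or.inr ⟨k, by rw [← hk, Subgroup.map_map, ← pslConj_mul, inv_mul_cancel_right]⟩

end H16
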