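import Mathlib
import Cfsg.Agent.H7.SmallTools
import Cfsg.Agent.H15.Finite

/-! General tools for the determination of automorphism groups of classical groups: isomorphisms
of central quotients seen as correspondences, fixed vectors of `p`-groups, semilinearity. -/

set_option autoImplicit false

namespace H16

open Subgroup

section Cor

variable {G H : Type*} [Group G] [Group H]

/-- `g` has order a power of `p`. -/
def PE (p : ℕ) (g : G) : Prop := ∃ k : ℕ, g ^ p ^ k = 1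

theorem PE.conj {p : ℕ} {g : G} (h : PE p g) (x : G) : PE p (x * g * x⁻¹) := by
  obtain ⟨k, hk⟩ := h
  exact ⟨k, by rw [conj_pow, hk]; simp⟩

theorem PE.inv {p : ℕ} {g : G} (h : PE p g) : PE p g⁻¹ := by
  obtain ⟨k, hk⟩ := h
  exact ⟨k, by rw [inv_pow, hk, inv_one]⟩

theorem PE.of_mem {p : ℕ} {N : Subgroup G} (hN : IsPGroup p N) {g : G} (hg : g ∈ N) : PE p g := by
  obtain ⟨k, hk⟩ := hN ⟨g, hg⟩
  exact ⟨k, congrArg Subtype.val hk⟩

theorem PE.map {p : ℕ} {g : G} (h : PE p g) (f : G →* H) : PE p (f g) := by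
  obtain ⟨k, hk⟩ := h
  exact ⟨k, by rw [← map_pow, hk, map_one]⟩

theorem PE.of_injective {p : ℕ} {g : G} (f : G →* H) (hf : Function.Injective f) (h : PE p (f g)) :
    PE p g := by
  obtain ⟨k, hk⟩ := h
  exact ⟨k, hf (by rw [map_pow, hk, map_one])⟩

theorem isPGroup_of_PE {p : ℕ} {N : Subgroup G} (h : ∀ g ∈ N, PE p g) : IsPGroup p N := fun g => by
  obtain ⟨k, hk⟩ := h g.1 g.2
  exact ⟨k, Subtype.ext hk⟩

theorem PE.of_commute {p : ℕ} {a b : G} (ha : PE p a) (hb : PE p b) (h : Commute a b) :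
    PE p (a * b) := by
  obtain ⟨k, hk⟩ := ha
  obtain ⟨l, hl⟩ := hb
  refine ⟨k + l, ?_⟩
  rw [h.mul_pow, pow_add, pow_mul, hk, mul_comm (p ^ k), pow_mul, hl]
  simp

/-- The correspondence defined by an isomorphism of central quotients. -/
def Cor (α : G ⧸ center G ≃* H ⧸ center H) (g : G) (h : H) : Prop := α g = h

namespace Cor

variable {α : G ⧸ center G ≃* H ⧸ center H} {g g' : G} {h h' : H}

theorem one : Cor α 1 1 := map_one α

theorem mul (a : Cor α g h) (b : Cor α g' h') : Cor α (g * g') (h * h') := by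
  unfold Cor at *
  rw [QuotientGroup.mk_mul, map_mul, a, b, QuotientGroup.mk_mul]

theorem inv (a : Cor α g h) : Cor α g⁻¹ h⁻¹ := by
  unfold Cor at *
  rw [QuotientGroup.mk_inv, map_inv, a, QuotientGroup.mk_inv]

theorem pow (a : Cor α g h) (n : ℕ) : Cor α (g ^ n) (h ^ n) := by
  unfold Cor at *
  rw [QuotientGroup.mk_pow, map_pow, a, QuotientGroup.mk_pow]

theorem conj (a : Cor α g h) (b : Cor α g' h') : Cor α (g * g' * g⁻¹) (h * h' * h⁻¹) :=
  (a.mul b).mul a.inv

theorem symm (a : Cor α g h) : Cor α.symm h g := by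
  unfold Cor at *
  rw [← a, α.symm_apply_apply]

theorem of_symm (a : Cor α.symm h g) : Cor α g h := a.symm

variable (α) in
theorem exists_right (g : G) : ∃ h, Cor α g h := by
  obtain ⟨h, hh⟩ := QuotientGroup.mk_surjective (α g)
  exact ⟨h, hh.symm⟩

variable (α) in
theorem exists_left (h : H) : ∃ g, Cor α g h := by
  obtain ⟨g, hg⟩ := exists_right α.symm h
  exact ⟨g, hg.symm⟩

theorem mem_center (a : Cor α g h) (b : Cor α g h') : h⁻¹ * h' ∈ center H :=
  QuotientGroup.eq.1 (Eq.trans (Eq.symm a) b)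

theorem of_center (hg : g ∈ center G) (hh : h ∈ center H) : Cor α g h := by
  unfold Cor
  rw [(QuotientGroup.eq_one_iff g).2 hg, (QuotientGroup.eq_one_iff h).2 hh, map_one]

theorem center_iff (a : Cor α g h) : g ∈ center G ↔ h ∈ center H := by
  rw [← QuotientGroup.eq_one_iff, ← QuotientGroup.eq_one_iff, ← a, map_eq_one_iff α α.injective]

theorem unique {p : ℕ} (hZ : ∀ z ∈ center H, PE p z → z = 1) (a : Cor α g h) (b : Cor α g h')
    (ha : PE p h) (hb : PE p h') : h = h' := by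
  have h1 := a.mem_center b
  refine inv_mul_eq_one.1 (hZ _ h1 (ha.inv.of_commute hb ?_))
  have := mem_center_iff.1 h1 h
  rw [mul_inv_cancel_left] at this
  change h⁻¹ * h' = h' * h⁻¹
  rw [eq_mul_inv_iff_mul_eq]
  exact this.symm

theorem exists_PE [Finite H] {p : ℕ} (hZ : ∀ z ∈ center H, PE p z → z = 1) (hg : PE p g) :
    ∃ h, Cor α g h ∧ PE p h := by
  obtain ⟨k, hk⟩ := hg
  obtain ⟨h, hh⟩ := exists_right α g
  have h1 : h ^ p ^ k ∈ center H := (hh.pow _).center_iff.1 (hk ▸ one_mem _)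
  have h2 : Function.Injective fun z : center H => z ^ p ^ k := fun z w hz => by
    have h3 : z.1 ^ p ^ k = w.1 ^ p ^ k := congrArg Subtype.val hz
    refine Subtype.ext (inv_mul_eq_one.1 (hZ _ (mul_mem (inv_mem z.2) w.2) ⟨k, ?_⟩))
    rw [Commute.mul_pow (mem_center_iff.1 w.2 _), inv_pow, h3, inv_mul_cancel]
  obtain ⟨z, hz⟩ := Finite.injective_iff_surjective.1 h2 ⟨_, h1⟩⁻¹
  refine ⟨h * z, by simpa using hh.mul (of_center (one_mem _) z.2), k, ?_⟩
  rw [Commute.mul_pow (mem_center_iff.1 z.2 h)]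
  exact mul_eq_one_iff_eq_inv'.2 (congrArg Subtype.val hz)

end Cor

/-- The subgroup corresponding to `S`. -/
def corMap (α : G ⧸ center G ≃* H ⧸ center H) (S : Subgroup G) : Subgroup H :=
  ((S.map (QuotientGroup.mk' (center G))).map (α : _ →* H ⧸ center H)).comap
    (QuotientGroup.mk' (center H))

variable {α : G ⧸ center G ≃* H ⧸ center H}

theorem mem_corMap {S : Subgroup G} {h : H} : h ∈ corMap α S ↔ ∃ g ∈ S, Cor α g h := by
  simp [corMap, Cor]

theorem Cor.mem_iff {S : Subgroup G} (hS : center G ≤ S) {g : G} {h : H} (a : Cor α g h) :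
    g ∈ S ↔ h ∈ corMap α S := by
  refine ⟨fun hg => mem_corMap.2 ⟨g, hg, a⟩, fun hh => ?_⟩
  obtain ⟨g', hg', b⟩ := mem_corMap.1 hh
  simpa using S.mul_mem hg' (hS (b.symm.mem_center a.symm))

theorem index_corMap {S : Subgroup G} (hS : center G ≤ S) : (corMap α S).index = S.index := by
  rw [corMap, index_comap_of_surjective _ (QuotientGroup.mk'_surjective _), index_map_equiv,
    index_map_eq _ (QuotientGroup.mk'_surjective _) (by rwa [QuotientGroup.ker_mk'])]

theorem isCoatom_corMap {S : Subgroup G} (hS : center G ≤ S) (h : IsCoatom S) :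
    IsCoatom (corMap α S) := by
  refine ⟨fun h1 => h.1 (eq_top_iff.2 fun g _ => ?_), fun T hT => ?_⟩
  · obtain ⟨k, hk⟩ := Cor.exists_right α g
    exact (hk.mem_iff hS).2 (h1 ▸ trivial)
  · have h0 : center H ≤ T := fun z hz => hT.le (mem_corMap.2 ⟨1, one_mem _, .of_center (one_mem _) hz⟩)
    have h1 : S < corMap α.symm T := by
      refine lt_of_le_of_ne (fun g hg => ?_) fun h2 => hT.not_ge fun k hk => ?_
      · obtain ⟨k, hk⟩ := Cor.exists_right α g
        exact mem_corMap.2 ⟨k, hT.le ((hk.mem_iff hS).1 hg), hk.symm⟩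
      · obtain ⟨g, hg⟩ := Cor.exists_left α k
        exact mem_corMap.2 ⟨g, h2 ▸ mem_corMap.2 ⟨k, hk, hg.symm⟩, hg⟩
    refine eq_top_iff.2 fun k _ => ?_
    obtain ⟨g, hg⟩ := Cor.exists_left α k
    exact (hg.symm.mem_iff h0).2 (h.2 _ h1 ▸ trivial)

theorem exists_liftP [Finite H] {p : ℕ} [Fact p.Prime] (α : G ⧸ center G ≃* H ⧸ center H)
    {N : Subgroup G} (hN : IsPGroup p N) :
    ∃ N' : Subgroup H, IsPGroup p N' ∧ ∀ h, h ∈ N' ↔ PE p h ∧ ∃ g ∈ N, Cor α g h := by
  let M := corMap α N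
  have h1 : IsPGroup p ((N.map (QuotientGroup.mk' (center G))).map (α : _ →* H ⧸ center H)) :=
    (hN.map _).map _
  have h2 := h1.isNilpotent
  have h3 : Group.IsNilpotent M := Subgroup.isNilpotent_of_ker_le_center
    ((QuotientGroup.mk' (center H)).subgroupComap _) fun x hx => by
      have : x.1 ∈ center H := (QuotientGroup.eq_one_iff _).1 (congrArg Subtype.val hx)
      exact mem_center_iff.2 fun y => Subtype.ext (mem_center_iff.1 this y)
  obtain ⟨S⟩ : Nonempty (Sylow p M) := inferInstance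
  have h4 := S.normal_of_normalizerCondition Group.normalizerCondition_of_isNilpotent
  refine ⟨(S : Subgroup M).map M.subtype, S.isPGroup'.map _, fun h => ⟨?_, ?_⟩⟩
  · rintro ⟨x, hx, rfl⟩
    exact ⟨(PE.of_mem S.isPGroup' hx).map _, mem_corMap.1 x.2⟩
  · rintro ⟨hp, hh⟩
    refine ⟨⟨h, mem_corMap.2 hh⟩, ?_, rfl⟩
    obtain ⟨k, hk⟩ := hp
    have h5 : IsPGroup p (zpowers (⟨h, mem_corMap.2 hh⟩ : M)) := isPGroup_of_PE (by
      rintro _ ⟨n, rfl⟩
      exact ⟨k, by rw [← zpow_natCast, ← zpow_mul, mul_comm, zpow_mul, zpow_natCast,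
        show (⟨h, mem_corMap.2 hh⟩ : M) ^ p ^ k = 1 from Subtype.ext hk, one_zpow]⟩)
    obtain ⟨T, hT⟩ := h5.exists_le_sylow
    have := Sylow.unique_of_normal S h4
    rw [Subsingleton.elim S T]
    exact hT (mem_zpowers _)

theorem exists_conj_mem_of_index [Finite H] {p : ℕ} [Fact p.Prime] {K P : Subgroup H}
    (hK : ¬ p ∣ K.index) (hP : IsPGroup p P) : ∃ x : H, ∀ r ∈ P, x * r * x⁻¹ ∈ K := by
  obtain ⟨y, hy⟩ := hP.nonempty_fixed_point_of_prime_not_dvd_card (H ⧸ K) hK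
  obtain ⟨x, rfl⟩ := QuotientGroup.mk_surjective y
  refine ⟨x⁻¹, fun r hr => ?_⟩
  have := QuotientGroup.eq.1 (hy ⟨r⁻¹, P.inv_mem hr⟩)
  simpa [mul_assoc] using this

variable (G) in
/-- The automorphism of the central quotient induced by an automorphism. -/
def autQuot : MulAut G →* MulAut (G ⧸ center G) where
  toFun := H7.quotCenterCongr
  map_one' := MulEquiv.ext fun x => by obtain ⟨x, rfl⟩ := QuotientGroup.mk_surjective x; rfl
  map_mul' a b := MulEquiv.ext fun x => by obtain ⟨x, rfl⟩ := QuotientGroup.mk_surjective x; rfl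

theorem cor_autQuot (φ : MulAut G) (g : G) : Cor (autQuot G φ) g (φ g) := rfl

theorem Cor.trans {K : Type*} [Group K] {β : H ⧸ center H ≃* K ⧸ center K} {g : G} {h : H} {k : K}
    (a : Cor α g h) (b : Cor β h k) : Cor (α.trans β) g k := by
  unfold Cor at *
  rw [MulEquiv.trans_apply, a, b]

theorem Cor.comp {α β : MulAut (G ⧸ center G)} {g h k : G} (a : Cor α g h) (b : Cor β h k) :
    Cor (β * α) g k := a.trans b

theorem Cor.inv_iff {α : MulAut (G ⧸ center G)} {g h : G} : Cor α⁻¹ g h ↔ Cor α h g :=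
  ⟨fun a => a.symm, fun a => a.symm⟩

theorem eq_one_of_cor {α : MulAut (G ⧸ center G)} (h : ∀ g, Cor α g g) : α = 1 :=
  MulEquiv.ext fun x => by obtain ⟨x, rfl⟩ := QuotientGroup.mk_surjective x; exact h x

theorem index_eq_of_reps (S : Subgroup G) {ι : Type*} (t : ι → G)
    (h1 : ∀ g, ∃ i, (t i)⁻¹ * g ∈ S) (h2 : ∀ i j, (t i)⁻¹ * t j ∈ S → i = j) :
    S.index = Nat.card ι :=
  (Nat.card_congr (Equiv.ofBijective (fun i => (t i : G ⧸ S))
    ⟨fun i j h => h2 i j (QuotientGroup.eq.1 h), fun x => by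
      obtain ⟨g, rfl⟩ := QuotientGroup.mk_surjective x
      obtain ⟨i, hi⟩ := h1 g
      exact ⟨i, QuotientGroup.eq.2 hi⟩⟩)).symm

end Cor

section Lin

variable {F : Type*} [Field F] {V : Type*} [AddCommGroup V] [Module F V]

theorem exists_fixed_ne_zero (p : ℕ) [Fact p.Prime] [CharP F p] [Finite V] [Nontrivial V]
    {P : Type*} [Group P] (hP : IsPGroup p P) (ρ : Representation F P V) :
    ∃ v, v ≠ 0 ∧ ∀ g, ρ g v = v := by
  letI : MulAction P V :=
    { smul := fun g v => ρ g v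
      one_smul := fun v => show ρ 1 v = v by simp
      mul_smul := fun g h v => show ρ (g * h) v = ρ g (ρ h v) by simp }
  obtain ⟨x, hx⟩ := exists_ne (0 : V)
  have h1 : addOrderOf x = p := addOrderOf_eq_prime (by
    rw [← Nat.cast_smul_eq_nsmul F, CharP.cast_eq_zero, zero_smul]) hx
  obtain ⟨v, hv, h0⟩ := hP.exists_fixed_point_of_prime_dvd_card_of_fixed_point V
    (h1 ▸ addOrderOf_dvd_natCard x) (a := 0) fun g => show ρ g 0 = 0 by simp
  exact ⟨v, h0.symm, hv⟩

theorem exists_fixed_mod (p : ℕ) [Fact p.Prime] [CharP F p] [Finite V] {P : Type*} [Group P]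
    (hP : IsPGroup p P) (ρ : P →* (V ≃ₗ[F] V)) {X₀ X : Submodule F V} (h : ¬ X ≤ X₀)
    (h0 : ∀ g, ∀ x ∈ X₀, ρ g x ∈ X₀) (h1 : ∀ g, ∀ x ∈ X, ρ g x ∈ X) :
    ∃ x ∈ X, x ∉ X₀ ∧ ∀ g, ρ g x - x ∈ X₀ := by
  let ρ₀ : Representation F P V := LinearEquiv.automorphismGroup.toLinearMapMonoidHom.comp ρ
  let ρ₁ := ρ₀.subrepresentation X h1
  let ρ₂ := ρ₁.quotient (X₀.comap X.subtype) fun g x hx => h0 g x hx
  have : Nontrivial (X ⧸ X₀.comap X.subtype) := Submodule.Quotient.nontrivial_iff.2 fun h2 =>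
    h fun x hx => show (⟨x, hx⟩ : X) ∈ X₀.comap X.subtype from h2 ▸ trivial
  have : Finite (X ⧸ X₀.comap X.subtype) := Finite.of_surjective _ (Submodule.mkQ_surjective _)
  obtain ⟨v, hv, h2⟩ := exists_fixed_ne_zero p hP ρ₂
  obtain ⟨x, rfl⟩ := Submodule.mkQ_surjective _ v
  refine ⟨x.1, x.2, fun hx => hv ((Submodule.Quotient.mk_eq_zero _).2 hx), fun g => ?_⟩
  exact (Submodule.Quotient.eq (X₀.comap X.subtype)).1 (h2 g)

theorem exists_fixed_mem (p : ℕ) [Fact p.Prime] [CharP F p] [Finite V] {P : Type*} [Group P]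
    (hP : IsPGroup p P) (ρ : P →* (V ≃ₗ[F] V)) {X : Submodule F V} (h : X ≠ ⊥)
    (h1 : ∀ g, ∀ x ∈ X, ρ g x ∈ X) : ∃ x ∈ X, x ≠ 0 ∧ ∀ g, ρ g x = x := by
  obtain ⟨x, hx, h2, h3⟩ := exists_fixed_mod p hP ρ (X₀ := ⊥) (by simpa using h) (by simp) h1
  exact ⟨x, hx, by simpa using h2, fun g => by simpa [sub_eq_zero] using h3 g⟩

theorem eq_of_PE (p : ℕ) [Fact p.Prime] [CharP F p] {g : V ≃ₗ[F] V} (hg : PE p g) {x : V} {c : F}
    (h : g x = c • x) : g x = x := by
  obtain ⟨k, hk⟩ := hg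
  have h1 : ∀ n : ℕ, (g ^ n) x = c ^ n • x := fun n => by
    induction n with
    | zero => simp
    | succ n ih => rw [pow_succ', LinearEquiv.mul_apply, ih, map_smul, h, smul_smul, pow_succ]
  have h2 := h1 (p ^ k)
  rw [hk, LinearEquiv.coe_one, id] at h2
  have h3 : (c - 1) ^ p ^ k • x = 0 := by rw [sub_pow_char_pow, one_pow, sub_smul, ← h2]; simp
  rcases smul_eq_zero.1 h3 with h4 | h4
  · rw [h, sub_eq_zero.1 (pow_eq_zero_iff (pow_pos (Fact.out : p.Prime).pos k).ne' |>.1 h4), one_smul]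
  · simp [h4]

theorem pow_char_apply (p : ℕ) [CharP F p] (g : V ≃ₗ[F] V) {x : V} (h : g (g x - x) = g x - x) :
    (g ^ p) x = x := by
  have h1 : ∀ n : ℕ, (g ^ n) x = x + n • (g x - x) := fun n => by
    induction n with
    | zero => simp
    | succ n ih =>
      rw [pow_succ', LinearEquiv.mul_apply, ih, map_add, map_nsmul, h, succ_nsmul]; abel
  rw [h1, ← Nat.cast_smul_eq_nsmul F, CharP.cast_eq_zero, zero_smul, add_zero]

/-- An additive injection which intertwines enough linear maps is semilinear. -/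
theorem exists_semilinear [Finite F] (W : Submodule F V) (θ : V → V)
    (hadd : ∀ x ∈ W, ∀ y ∈ W, θ (x + y) = θ x + θ y) (hinj : ∀ x ∈ W, θ x = 0 → x = 0)
    (A : (V →ₗ[F] V) → (V →ₗ[F] V) → Prop) (hA : ∀ a a', A a a' → ∀ x ∈ W, θ (a x) = a' (θ x))
    (U : Set V) (hUW : ∀ u ∈ U, u ∈ W) (hU : ∀ w ∈ W, w ∈ AddSubgroup.closure U) {u₀ : V}
    (hu : u₀ ∈ W) (hu0 : u₀ ≠ 0) (h1 : ∀ c : F, ∃ d : F, θ (c • u₀) = d • θ u₀)
    (h2 : ∀ v ∈ U, ∃ a a', A a a' ∧ ∃ c : F, v = c • a u₀)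
    (h3 : AddSubgroup.closure {m : F | ∃ a a', A a a' ∧ a u₀ = m • u₀} = ⊤) :
    ∃ s : F ≃+* F, ∀ (c : F), ∀ w ∈ W, θ (c • w) = s c • θ w := by
  choose s hs using h1
  have h0 : θ 0 = 0 := by simpa using hadd 0 W.zero_mem 0 W.zero_mem
  have hθ : θ u₀ ≠ 0 := fun h => hu0 (hinj _ hu h)
  have hc : ∀ {a b : F}, a • θ u₀ = b • θ u₀ → a = b := fun h => smul_left_injective F hθ h
  have sadd : ∀ a b, s (a + b) = s a + s b := fun a b => hc (by
    rw [← hs, add_smul, hadd _ (W.smul_mem _ hu) _ (W.smul_mem _ hu), hs, hs, add_smul])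
  have s0 : s 0 = 0 := hc (by rw [← hs, zero_smul, h0, zero_smul])
  have sneg : ∀ a, s (-a) = -s a := fun a => by
    rw [eq_neg_iff_add_eq_zero, ← sadd, neg_add_cancel, s0]
  have smul : ∀ m c, s (m * c) = s m * s c := fun m c => by
    have hm : m ∈ AddSubgroup.closure {m : F | ∃ a a', A a a' ∧ a u₀ = m • u₀} := h3 ▸ trivial
    induction hm using AddSubgroup.closure_induction with
    | mem m hm =>
      obtain ⟨a, a', ha, hm⟩ := hm
      have e1 := hA a a' ha _ (W.smul_mem c hu)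
      have e2 := hA a a' ha _ hu
      rw [map_smul, hm, smul_smul, hs, hs, map_smul, ← e2, hm, hs, smul_smul] at e1
      rw [mul_comm, hc e1, mul_comm]
    | zero => simp [s0]
    | add a b _ _ ha hb => rw [add_mul, sadd, ha, hb, sadd, add_mul]
    | neg a _ ha => rw [neg_mul, sneg, ha, sneg, neg_mul]
  let s' : F →+* F :=
    { toFun := s, map_zero' := s0, map_add' := sadd, map_mul' := smul
      map_one' := hc (by rw [← hs, one_smul, one_smul]) }
  refine ⟨RingEquiv.ofBijective s' (Finite.injective_iff_bijective.1 s'.injective), fun c w hw => ?_⟩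
  change _ = s c • _
  have hneg : ∀ x ∈ W, θ (-x) = -θ x := fun x hx => by
    rw [eq_neg_iff_add_eq_zero, ← hadd _ (W.neg_mem hx) _ hx, neg_add_cancel, h0]
  have hle : ∀ x ∈ AddSubgroup.closure U, x ∈ W := fun x hx =>
    (AddSubgroup.closure_le W.toAddSubgroup).2 hUW hx
  have hw' := hU w hw
  clear hw
  induction hw' using AddSubgroup.closure_induction with
  | mem v hv =>
    obtain ⟨a, a', ha, d, rfl⟩ := h2 v hv
    rw [smul_smul, ← map_smul, ← map_smul, hA a a' ha _ (W.smul_mem _ hu),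
      hA a a' ha _ (W.smul_mem _ hu), hs, hs, smul, mul_smul, map_smul]
  | zero => simp [h0]
  | add a b ha hb iha ihb =>
    rw [smul_add, hadd _ (W.smul_mem _ (hle a ha)) _ (W.smul_mem _ (hle b hb)), iha, ihb,
      hadd _ (hle a ha) _ (hle b hb), smul_add]
  | neg a ha iha => rw [smul_neg, hneg _ (W.smul_mem _ (hle a ha)), iha, hneg _ (hle a ha), smul_neg]

end Lin

section Fld

variable {F : Type*} [Field F] [Fintype F]

/-- Ring automorphisms of a field of characteristic `p` are automorphisms over the prime field. -/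
def ringAutEquiv (p : ℕ) [Fact p.Prime] [Algebra (ZMod p) F] : RingAut F ≃* (F ≃ₐ[ZMod p] F) where
  toFun s := AlgEquiv.ofRingEquiv (f := s) fun x => by
    obtain ⟨n, rfl⟩ := ZMod.natCast_zmod_surjective x
    simp
  invFun s := s.toRingEquiv
  left_inv _ := rfl
  right_inv _ := rfl
  map_mul' _ _ := rfl

theorem card_ringAut (p f : ℕ) [Fact p.Prime] (hF : Fintype.card F = p ^ f) :
    Nat.card (RingAut F) = f := by
  have : CharP F p := charP_of_card_eq_prime_pow hF
  letI := ZMod.algebra F p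
  rw [Nat.card_congr (ringAutEquiv p).toEquiv, IsGalois.card_aut_eq_finrank]
  have := Module.card_eq_pow_finrank (K := ZMod p) (V := F)
  rw [hF, ZMod.card] at this
  exact (Nat.pow_right_injective (Fact.out : p.Prime).two_le this).symm

theorem ringAut_comm (s t : F ≃+* F) (x : F) : s (t x) = t (s x) := by
  obtain ⟨p, hp⟩ := CharP.exists F
  have : Fact p.Prime := ⟨CharP.char_is_prime F p⟩
  letI := ZMod.algebra F p
  have h : ringAutEquiv p s * ringAutEquiv p t = ringAutEquiv p t * ringAutEquiv p s :=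
    IsMulCommutative.is_comm.comm _ _
  exact DFunLike.congr_fun h x

omit [Fintype F] in
theorem closure_eq_top_of_sq [Finite F] {M : Set F} (h : ∀ x : F, x ≠ 0 → x ^ 2 ∈ M) :
    AddSubgroup.closure M = ⊤ := by
  have h1 : ∀ x : F, x ^ 2 ∈ AddSubgroup.closure M := fun x => by
    by_cases hx : x = 0
    · simp [hx]
    · exact AddSubgroup.subset_closure (h x hx)
  refine eq_top_iff.2 fun c _ => ?_
  obtain ⟨x, y, h2⟩ := H15.exists_sq_add_sq (one_ne_zero (α := F)) one_ne_zero c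
  rw [← h2, one_mul, one_mul]
  exact add_mem (h1 x) (h1 y)

end Fld

end H16
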