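import Mathlib
import Cfsg.Agent.H7.SpSuSimple
import Cfsg.Agent.H7.OmegaSimple
import Cfsg.Agent.H16.AutGen

/-! Unipotent radicals of stabilisers of totally singular subspaces, and the group they generate. -/

set_option autoImplicit false
set_option linter.unusedSectionVars false

namespace H16

open Module H15 H7

variable {F : Type*} [Field F] {σ : F →+* F} {V : Type*} [AddCommGroup V] [Module F V]

/-- The unipotent radical of the stabiliser of a totally singular subspace. -/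
def rad (Φ : Form σ V) (Y : Submodule F V) : Subgroup Φ.Isom where
  carrier := {g | (∀ y ∈ Y, g.1 y = y) ∧ ∀ x ∈ Φ.perp Y, g.1 x - x ∈ Y}
  one_mem' := ⟨fun _ _ => rfl, fun _ _ => by simp⟩
  mul_mem' {a b} ha hb := ⟨fun y hy => by rw [Form.Isom.mul_apply, hb.1 y hy, ha.1 y hy],
    fun x hx => by
      have := ha.1 _ (hb.2 x hx)
      rw [map_sub, sub_eq_iff_eq_add] at this
      rw [Form.Isom.mul_apply, this, add_sub_assoc]
      exact Y.add_mem (hb.2 x hx) (ha.2 x hx)⟩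
  inv_mem' {a} ha := ⟨fun y hy => by rw [Form.Isom.inv_apply_eq, ha.1 y hy], fun x hx => by
    have := ha.2 ((a⁻¹).1 x) fun y hy => by
      rw [← Form.Isom.B_left, ha.1 y hy]; exact hx y hy
    rw [Form.Isom.apply_inv_apply] at this
    simpa using Y.neg_mem this⟩

/-- The unipotent radical of the stabiliser of a singular point. -/
def Rad (Φ : Form σ V) (e : V) : Subgroup Φ.Isom := rad Φ (Submodule.span F {e})

/-- The group generated by the unipotent radicals of the point stabilisers. -/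
def EG (Φ : Form σ V) : Subgroup Φ.Isom := Subgroup.closure {g | ∃ e, Sing Φ e ∧ g ∈ Rad Φ e}

/-- There are transvections. -/
def Tr (Φ : Form σ V) : Prop := Φ.τ = 0 ∧ ∃ c : F, c ≠ 0 ∧ c * Φ.ε + σ c = 0

variable {Φ : Form σ V}

theorem mem_rad {Y : Submodule F V} {g : Φ.Isom} :
    g ∈ rad Φ Y ↔ (∀ y ∈ Y, g.1 y = y) ∧ ∀ x ∈ Φ.perp Y, g.1 x - x ∈ Y := Iff.rfl

theorem mem_Rad {e : V} {g : Φ.Isom} :
    g ∈ Rad Φ e ↔ g.1 e = e ∧ ∀ x, Φ.B e x = 0 → ∃ t : F, g.1 x = x + t • e := by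
  simp only [Rad, mem_rad, Form.mem_perp_singleton, Submodule.mem_span_singleton]
  constructor
  · rintro ⟨h1, h2⟩
    exact ⟨h1 e ⟨1, one_smul _ _⟩, fun x hx => (h2 x hx).imp fun t ht => by rw [ht]; abel⟩
  · rintro ⟨h1, h2⟩
    exact ⟨by rintro _ ⟨c, rfl⟩; rw [map_smul, h1],
      fun x hx => (h2 x hx).imp fun t ht => by rw [ht]; abel⟩

theorem Rad_le_EG {e : V} (he : Sing Φ e) : Rad Φ e ≤ EG Φ := fun _ hg =>
  Subgroup.subset_closure ⟨e, he, hg⟩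

theorem Rad_smul {c : F} (hc : c ≠ 0) (e : V) : Rad Φ (c • e) = Rad Φ e := by
  rw [Rad, Rad, Submodule.span_singleton_smul_eq (IsUnit.mk0 c hc)]

theorem conj_mem_Rad {e : V} {r : Φ.Isom} (hr : r ∈ Rad Φ e) (g : Φ.Isom) :
    g * r * g⁻¹ ∈ Rad Φ (g.1 e) := by
  rw [mem_Rad] at hr ⊢
  refine ⟨by simp [hr.1], fun x hx => ?_⟩
  obtain ⟨t, ht⟩ := hr.2 ((g⁻¹).1 x) (by rw [← Form.Isom.B_left, hx])
  exact ⟨t, by rw [Form.Isom.mul_apply, Form.Isom.mul_apply, ht]; simp⟩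

theorem conj_mem_rad {Y : Submodule F V} {r g : Φ.Isom} (hr : r ∈ rad Φ Y) (hg : g ∈ Φ.stab Y) :
    g * r * g⁻¹ ∈ rad Φ Y := by
  have hg' := inv_mem hg
  refine ⟨fun y hy => ?_, fun x hx => ?_⟩
  · rw [Form.Isom.mul_apply, Form.Isom.mul_apply, hr.1 _ ((hg' y).1 hy)]; simp
  · have := (hg _).1 (hr.2 _ ((Φ.stab_le_stab_perp Y hg' x).1 hx))
    simpa using this

instance instNormalEG : (EG Φ).Normal := normal_closure_of_conj _ fun _ ⟨_, he, hx⟩ g =>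
  ⟨_, he.map g, conj_mem_Rad hx g⟩

theorem rad_PE (p : ℕ) [CharP F p] [FiniteDimensional F V] (h : Φ.Nondeg) {Y : Submodule F V}
    (hY : Φ.TotSing Y) {g : Φ.Isom} (hg : g ∈ rad Φ Y) : PE p g := by
  refine ⟨2, Form.Isom.ext fun x => ?_⟩
  have h1 : ∀ x ∈ Φ.perp Y, (g ^ p).1 x = x := fun x hx =>
    pow_char_apply p g.1 (hg.1 _ (hg.2 x hx))
  rw [sq, pow_mul]
  refine pow_char_apply p (g ^ p).1 (h1 _ fun y hy => ?_)
  rw [map_sub, Form.Isom.B_right, ((rad Φ Y).inv_mem (pow_mem hg p)).1 y hy, sub_self]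

theorem totSing_singleton {e : V} (he : Sing Φ e) : Φ.TotSing (Submodule.span F {e}) := by
  constructor
  · intro x hx y hy
    obtain ⟨a, rfl⟩ := Submodule.mem_span_singleton.1 hx
    obtain ⟨b, rfl⟩ := Submodule.mem_span_singleton.1 hy
    simp [he.1]
  · intro x hx
    obtain ⟨a, rfl⟩ := Submodule.mem_span_singleton.1 hx
    exact (he.smul a).2

theorem Rad_PE (p : ℕ) [CharP F p] [FiniteDimensional F V] (h : Φ.Nondeg) {e : V} (he : Sing Φ e)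
    {g : Φ.Isom} (hg : g ∈ Rad Φ e) : PE p g := rad_PE p h (totSing_singleton he) hg

theorem Rad_apply {e f x : V} {r : Φ.Isom} (hr : r ∈ Rad Φ e) (hef : Φ.B e f = 1)
    (hx : Φ.B e x = 0) : r.1 x = x - (Φ.B (r.1 f - f) x / Φ.ε) • e := by
  obtain ⟨h1, h2⟩ := mem_Rad.1 hr
  obtain ⟨t, ht⟩ := h2 x hx
  have h3 := Form.Isom.map_B r f x
  have h4 := Form.Isom.map_B r f e
  rw [h1, Φ.B_symm_one hef] at h4
  rw [ht, map_add, map_smul, h4, smul_eq_mul] at h3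
  rw [ht, sub_eq_add_neg x, ← neg_smul]
  congr 2
  rw [map_sub, LinearMap.sub_apply, ← h3]
  field_simp [Φ.eps_ne_zero]
  ring

theorem Rad_B {e : V} {r : Φ.Isom} (hr : r ∈ Rad Φ e) (x : V) : Φ.B e (r.1 x) = Φ.B e x := by
  rw [← Form.Isom.map_B r e x, (mem_Rad.1 hr).1]

theorem Rad_ext {e f : V} {r r' : Φ.Isom} (hr : r ∈ Rad Φ e) (hr' : r' ∈ Rad Φ e)
    (hef : Φ.B e f = 1) (h : r.1 f = r'.1 f) : r = r' := Form.Isom.ext fun v => by
  have h1 : Φ.B e (v - Φ.B e v • f) = 0 := by simp [hef]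
  have h2 := Rad_apply hr hef h1
  rw [h, ← Rad_apply hr' hef h1, map_sub, map_sub, map_smul, map_smul, h] at h2
  exact sub_left_injective h2

theorem Rad_fix {e f x : V} {r : Φ.Isom} (hr : r ∈ Rad Φ e) (hef : Φ.B e f = 1)
    (hx : Φ.B e x = 0) (h : Φ.B (r.1 f - f) x = 0) : r.1 x = x := by
  rw [Rad_apply hr hef hx, h]; simp

theorem hyp_B {e f : V} (H : HypPair Φ e f) (a b a' b' : F) {w w' : V} (hw : w ∈ hypPerp Φ e f)
    (hw' : w' ∈ hypPerp Φ e f) :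
    Φ.B (a • e + b • f + w) (a' • e + b' • f + w') =
      σ a * b' + σ b * a' * Φ.ε + Φ.B w w' := by
  have h1 := mem_hypPerp.1 hw
  have h2 := mem_hypPerp.1 hw'
  simp [H.ee, H.ff, H.ef, H.fe, h2.1, h2.2, Φ.B_eq_zero_comm.1 h1.1, Φ.B_eq_zero_comm.1 h1.2]
  ring

theorem tau_eps {e f : V} (H : HypPair Φ e f) : Φ.τ * Φ.ε = Φ.τ := by
  have := Φ.tau_symm f e
  rwa [H.ef, H.fe, mul_one] at this

theorem tau_sigma {e f : V} (H : HypPair Φ e f) (c : F) : Φ.τ * σ c = Φ.τ * c := by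
  have := Φ.tau_symm e (c • f)
  simp only [map_smul, H.ef, LinearMap.map_smulₛₗ, LinearMap.smul_apply, H.fe, smul_eq_mul] at this
  linear_combination -this - σ c * tau_eps H

theorem exists_Rad [FiniteDimensional F V] (h : Φ.Nondeg) {e f y : V} (H : HypPair Φ e f)
    (hy : Sing Φ y) (hey : Φ.B e y = 1) : ∃ r ∈ Rad Φ e, r.1 f = y := by
  have H' : HypPair Φ e y := ⟨H.ee, hy.1, hey, H.Qe, hy.2⟩
  let L : V →ₗ[F] V := LinearMap.id + (Φ.B e).smulRight (y - f) -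
    (Φ.ε⁻¹ • (Φ.B (y - f) - Φ.B y f • Φ.B e)).smulRight e
  have hL : ∀ (a b : F), ∀ w ∈ hypPerp Φ e f, L (a • e + b • f + w) =
      a • e + b • y + (w - (Φ.B y w / Φ.ε) • e) := fun a b w hw => by
    have h1 := mem_hypPerp.1 hw
    simp only [L, LinearMap.sub_apply, LinearMap.add_apply, LinearMap.id_apply,
      LinearMap.smulRight_apply, LinearMap.smul_apply, map_add, map_smul, map_sub, H.ee, H.ef,
      H.ff, H.fe, H'.fe, h1.1, h1.2, smul_eq_mul]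
    module
  have hm : ∀ w ∈ hypPerp Φ e f, w - (Φ.B y w / Φ.ε) • e ∈ hypPerp Φ e y := fun w hw => by
    simpa [(mem_hypPerp.1 hw).1] using H'.proj_mem w
  refine ⟨Φ.mkIsom h L (fun u v => ?_) (fun u => ?_), mem_Rad.2 ⟨?_, fun x hx => ?_⟩, ?_⟩
  · obtain ⟨a, b, w, hw, rfl⟩ := H.exists_eq u
    obtain ⟨a', b', w', hw', rfl⟩ := H.exists_eq v
    rw [hL _ _ _ hw, hL _ _ _ hw', hyp_B H' _ _ _ _ (hm _ hw) (hm _ hw'), hyp_B H _ _ _ _ hw hw']
    simp [H.ee, (mem_hypPerp.1 hw').1, Φ.B_eq_zero_comm.1 (mem_hypPerp.1 hw).1]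
  · obtain ⟨a, b, w, hw, rfl⟩ := H.exists_eq u
    rw [hL _ _ _ hw, H'.Q_eq _ _ (hm _ hw), H.Q_eq _ _ hw, Φ.Q_sub, Φ.Q_smul, H.Qe]
    simp [Φ.B_eq_zero_comm.1 (mem_hypPerp.1 hw).1]
  · simpa using hL 1 0 0 (zero_mem _)
  · obtain ⟨a, b, w, hw, rfl⟩ := H.exists_eq x
    rw [H.B_e _ _ hw] at hx
    refine ⟨-(Φ.B y w / Φ.ε), (hL _ _ _ hw).trans ?_⟩
    rw [hx]; module
  · simpa using hL 0 1 0 (zero_mem _)

theorem hypPair_of_ne {e x : V} (he : Sing Φ e) (hx : Sing Φ x) (h : Φ.B e x ≠ 0) :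
    HypPair Φ e ((Φ.B e x)⁻¹ • x) :=
  ⟨he.1, (hx.smul _).1, by simp [h], he.2, (hx.smul _).2⟩

theorem exists_Rad' [FiniteDimensional F V] (h : Φ.Nondeg) {z x y : V} (hz : Sing Φ z)
    (hx : Sing Φ x) (hy : Sing Φ y) (h1 : Φ.B z x ≠ 0) (h2 : Φ.B z y ≠ 0) :
    ∃ r ∈ Rad Φ z, (∃ c : F, c ≠ 0 ∧ r.1 x = c • y) ∧
      ∀ v, Φ.B z v = 0 → Φ.B x v = 0 → Φ.B y v = 0 → r.1 v = v := by
  have H := hypPair_of_ne hz hx h1
  obtain ⟨r, hr, h3⟩ := exists_Rad h H (hy.smul (Φ.B z y)⁻¹) (by simp [h2])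
  refine ⟨r, hr, ⟨Φ.B z x * (Φ.B z y)⁻¹, mul_ne_zero h1 (inv_ne_zero h2), ?_⟩,
    fun v a b c => Rad_fix hr H.ef a (by rw [h3]; simp [b, c])⟩
  rw [map_smul, inv_smul_eq_iff₀ h1] at h3
  rw [h3, smul_smul]

theorem exists_not_sing (hT : ¬ Tr Φ) {U : Submodule F V} {x y : V} (hx : x ∈ U) (hy : y ∈ U)
    (h : Φ.B x y ≠ 0) : ∃ w ∈ U, ¬ Sing Φ w := by
  by_contra hc
  push Not at hc
  have h1 := hc _ (U.add_mem hx hy)
  have h2 := h1.1
  have h3 := h1.2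
  rw [Φ.Q_add, (hc x hx).2, (hc y hy).2] at h3
  simp only [map_add, LinearMap.add_apply, (hc x hx).1, (hc y hy).1, Φ.symm x y] at h2
  refine hT ⟨by simpa [h] using h3, σ (Φ.B x y), by simpa using h, ?_⟩
  rw [Φ.invol]
  linear_combination h2

theorem hyp_mem {e f : V} (H : HypPair Φ e f) {U : Submodule F V} (he : e ∈ U) (hf : f ∈ U) {v : V}
    (hv : v ∈ U) : ∃ (a b : F) (w : V), w ∈ hypPerp Φ e f ∧ w ∈ U ∧ v = a • e + b • f + w := by
  obtain ⟨a, b, w, hw, rfl⟩ := H.exists_eq v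
  exact ⟨a, b, w, hw, (U.add_mem_iff_right (U.add_mem (U.smul_mem _ he) (U.smul_mem _ hf))).1 hv,
    rfl⟩

theorem hyp_nondeg {e f : V} (H : HypPair Φ e f) {U : Submodule F V} (hU : Disjoint U (Φ.perp U))
    (he : e ∈ U) (hf : f ∈ U) {x : V} (hx : x ∈ hypPerp Φ e f) (hxU : x ∈ U) (hx0 : x ≠ 0) :
    ∃ w ∈ hypPerp Φ e f, w ∈ U ∧ Φ.B x w ≠ 0 := by
  obtain ⟨u, hu, h1⟩ := Φ.exists_B_ne_zero_of_disjoint hU hxU hx0
  obtain ⟨a, b, w, hw, hwU, rfl⟩ := hyp_mem H he hf hu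
  refine ⟨w, hw, hwU, ?_⟩
  simpa [Φ.B_eq_zero_comm.1 (mem_hypPerp.1 hx).1, Φ.B_eq_zero_comm.1 (mem_hypPerp.1 hx).2] using h1

theorem hyp_exists_ne [FiniteDimensional F V] {e f : V} (H : HypPair Φ e f) {U : Submodule F V}
    (he : e ∈ U) (hf : f ∈ U) (h3 : 3 ≤ finrank F U) :
    ∃ w ∈ hypPerp Φ e f, w ∈ U ∧ w ≠ 0 := by
  by_contra hc
  push Not at hc
  have : U ≤ Submodule.span F {e} ⊔ Submodule.span F {f} := fun v hv => by
    obtain ⟨a, b, w, hw, hwU, rfl⟩ := hyp_mem H he hf hv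
    rw [hc w hw hwU, add_zero]
    exact add_mem (Submodule.mem_sup_left (Submodule.smul_mem _ _ (Submodule.mem_span_singleton_self _)))
      (Submodule.mem_sup_right (Submodule.smul_mem _ _ (Submodule.mem_span_singleton_self _)))
  have := Submodule.finrank_mono this
  rw [H.finrank_span] at this
  omega

theorem sing_add_smul {e f : V} (H : HypPair Φ e f) (hτ : Φ.τ = 0) {c : F}
    (hc : c * Φ.ε + σ c = 0) : Sing Φ (f + c • e) :=
  ⟨by simpa [H.ee, H.ef, H.fe, H.ff] using hc, by simp [Φ.Q_add_smul, H.Qe, H.Qf, hτ]⟩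

theorem exists_sing_add {e f : V} (H : HypPair Φ e f) {w : V} (hw : w ∈ hypPerp Φ e f) :
    ∃ t : F, Sing Φ (f + w + t • e) :=
  H.sing_e.exists_add (by simp [H.ef, (mem_hypPerp.1 hw).1])

theorem sing_add_iff {e f : V} (H : HypPair Φ e f) {w : V} (hw : w ∈ hypPerp Φ e f) :
    Sing Φ (f + w) ↔ Sing Φ w := by
  have h1 := mem_hypPerp.1 hw
  simp [Sing, Φ.Q_add, H.ff, H.Qf, h1.2, Φ.B_eq_zero_comm.1 h1.2]

variable [FiniteDimensional F V]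

theorem exists_third {U : Submodule F V} (hU : Disjoint U (Φ.perp U))
    (hT : 3 ≤ finrank F U ∨ Tr Φ) {e f : V} (H : HypPair Φ e f) (he : e ∈ U) (hf : f ∈ U) :
    ∃ z ∈ U, Sing Φ z ∧ Φ.B e z = 1 ∧ Φ.B f z ≠ 0 := by
  by_cases hT' : Tr Φ
  · obtain ⟨hτ, c, hc0, hc⟩ := hT'
    exact ⟨_, U.add_mem hf (U.smul_mem c he), sing_add_smul H hτ hc, by simp [H.ee, H.ef],
      by simp [H.ff, H.fe, hc0, Φ.eps_ne_zero]⟩
  obtain ⟨x, hx, hxU, hx0⟩ := hyp_exists_ne H he hf (hT.resolve_right hT')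
  obtain ⟨y, hy, hyU, hxy⟩ := hyp_nondeg H hU he hf hx hxU hx0
  obtain ⟨w, hw, hs⟩ := exists_not_sing hT' (U := hypPerp Φ e f ⊓ U) ⟨hx, hxU⟩ ⟨hy, hyU⟩ hxy
  obtain ⟨t, ht⟩ := exists_sing_add H hw.1
  have h1 := mem_hypPerp.1 hw.1
  refine ⟨_, U.add_mem (U.add_mem hf hw.2) (U.smul_mem t he), ht, by simp [H.ee, H.ef, h1.1], ?_⟩
  have : t ≠ 0 := by
    rintro rfl
    exact hs ((sing_add_iff H hw.1).1 (by simpa using ht))
  simp [H.ff, H.fe, h1.2, this, Φ.eps_ne_zero]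

theorem exists_common {U : Submodule F V} (hU : Disjoint U (Φ.perp U))
    (hT : 3 ≤ finrank F U ∨ Tr Φ) {x y : V} (hx : Sing Φ x) (hy : Sing Φ y) (hx0 : x ≠ 0)
    (hy0 : y ≠ 0) (hxU : x ∈ U) (hyU : y ∈ U) :
    ∃ z ∈ U, Sing Φ z ∧ Φ.B z x ≠ 0 ∧ Φ.B z y ≠ 0 := by
  by_cases h : Φ.B x y = 0
  · obtain ⟨a, ha, h1⟩ := Φ.exists_B_ne_zero_of_disjoint hU hxU hx0
    obtain ⟨b, hb, h2⟩ := Φ.exists_B_ne_zero_of_disjoint hU hyU hy0
    obtain ⟨w, hw, h3, h4⟩ : ∃ w ∈ U, Φ.B x w ≠ 0 ∧ Φ.B y w ≠ 0 := by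
      by_cases h3 : Φ.B y a = 0
      · by_cases h4 : Φ.B x b = 0
        · exact ⟨a + b, U.add_mem ha hb, by simpa [h4] using h1, by simpa [h3] using h2⟩
        · exact ⟨b, hb, h4, h2⟩
      · exact ⟨a, ha, h1, h3⟩
    obtain ⟨t, ht⟩ := hx.exists_add h3
    refine ⟨_, U.add_mem hw (U.smul_mem t hxU), ht, ?_, ?_⟩
    · simpa [hx.1, Φ.B_eq_zero_comm (x := w)] using h3
    · simpa [h, Φ.B_eq_zero_comm (x := w)] using h4
  · obtain ⟨z, hz, h1, h2, h3⟩ := exists_third hU hT (hypPair_of_ne hx hy h) hxU (U.smul_mem _ hyU)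
    refine ⟨z, hz, h1, ?_, ?_⟩
    · rw [Ne, Φ.B_eq_zero_comm, h2]; exact one_ne_zero
    · rw [Ne, Φ.B_eq_zero_comm]; exact fun h4 => h3 (by simp [h4])

theorem exists_trans (h : Φ.Nondeg) {U : Submodule F V} (hU : Disjoint U (Φ.perp U))
    (hT : 3 ≤ finrank F U ∨ Tr Φ) {x y : V} (hx : Sing Φ x) (hy : Sing Φ y) (hx0 : x ≠ 0)
    (hy0 : y ≠ 0) (hxU : x ∈ U) (hyU : y ∈ U) :
    ∃ g ∈ EG Φ, (∃ c : F, c ≠ 0 ∧ g.1 x = c • y) ∧ ∀ v ∈ Φ.perp U, g.1 v = v := by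
  obtain ⟨z, hz, h1, h2, h3⟩ := exists_common hU hT hx hy hx0 hy0 hxU hyU
  obtain ⟨r, hr, h4, h5⟩ := exists_Rad' h h1 hx hy h2 h3
  exact ⟨r, Rad_le_EG h1 hr, h4, fun v hv => h5 v (hv _ hz) (hv _ hxU) (hv _ hyU)⟩

theorem mem_span_of_fixed (h : Φ.Nondeg) {U : Submodule F V} (hU : Disjoint U (Φ.perp U))
    (hT : 3 ≤ finrank F U ∨ Tr Φ) {z x : V} (hz : Sing Φ z) (hz0 : z ≠ 0) (hzU : z ∈ U)
    (hxU : x ∈ U) (hx : ∀ r ∈ Rad Φ z, (∀ v ∈ Φ.perp U, r.1 v = v) → r.1 x = x) :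
    ∃ c : F, x = c • z := by
  obtain ⟨f, hf, h1, h2, h3⟩ := Φ.exists_hyp_partner_mem hU hzU hz0 hz.1 hz.2
  have H : HypPair Φ z f := ⟨hz.1, h2, h1, hz.2, h3⟩
  obtain ⟨a, b, w, hw, hwU, rfl⟩ := hyp_mem H hzU hf hxU
  have key : ∀ y ∈ U, Sing Φ y → Φ.B z y = 1 → b • (y - f) = (Φ.B (y - f) w / Φ.ε) • z :=
    fun y hyU hy hzy => by
      obtain ⟨r, hr, h4⟩ := exists_Rad h H hy hzy
      have := hx r hr fun v hv => Rad_fix hr H.ef (hv _ hzU) (by simp [h4, hv _ hyU, hv _ hf])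
      rw [map_add, map_add, map_smul, map_smul, (mem_Rad.1 hr).1,
        Rad_apply hr H.ef (mem_hypPerp.1 hw).1, h4] at this
      linear_combination (norm := module) this
  have key2 : ∀ u ∈ hypPerp Φ z f, u ∈ U → ∃ t : F, b • (u + t • z) = (Φ.B u w / Φ.ε) • z :=
    fun u hu huU => by
      obtain ⟨t, ht⟩ := exists_sing_add H hu
      have := key _ (U.add_mem (U.add_mem hf huU) (U.smul_mem t hzU)) ht
        (by simp [H.ee, H.ef, (mem_hypPerp.1 hu).1])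
      refine ⟨t, ?_⟩
      simpa [add_sub_assoc, add_assoc, (mem_hypPerp.1 hw).1] using this
  have hb : b = 0 := by
    by_contra hb
    have h4 : ∀ u ∈ hypPerp Φ z f, u ∈ U → u = 0 := fun u hu huU => by
      obtain ⟨t, ht⟩ := key2 u hu huU
      have := (H.eq_of_eq (a := b * t) (b := 0) (a' := Φ.B u w / Φ.ε) (b' := 0)
        (Submodule.smul_mem _ b hu) (zero_mem _) (by linear_combination (norm := module) ht)).2.2
      exact (smul_eq_zero.1 this).resolve_left hb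
    obtain ⟨y, hyU, hy, h5, h6⟩ := exists_third hU hT H hzU hf
    have := congrArg (Φ.B f) (key y hyU hy h5)
    simp [h4 w hw hwU, hb, h6, H.ff] at this
  have hw0 : w = 0 := by
    by_contra hw0
    obtain ⟨u, hu, huU, h4⟩ := hyp_nondeg H hU hzU hf hw hwU hw0
    obtain ⟨t, ht⟩ := key2 u hu huU
    rw [hb, zero_smul, eq_comm, smul_eq_zero] at ht
    simp [hz0, Φ.eps_ne_zero, Φ.B_eq_zero_comm (x := u), h4] at ht
  exact ⟨a, by simp [hb, hw0]⟩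

omit [FiniteDimensional F V] in
theorem mem_closure_sing {U : Submodule F V} {e f : V} (H : HypPair Φ e f) (he : e ∈ U) (hf : f ∈ U)
    {x : V} (hx : x ∈ U) : x ∈ AddSubgroup.closure {s | s ∈ U ∧ Sing Φ s ∧ s ≠ 0} := by
  have h0 : ∀ s ∈ U, Sing Φ s → s ∈ AddSubgroup.closure {s | s ∈ U ∧ Sing Φ s ∧ s ≠ 0} :=
    fun s hs hs' => by
      by_cases h : s = 0
      · simp [h]
      · exact AddSubgroup.subset_closure ⟨hs, hs', h⟩
  obtain ⟨a, b, w, hw, hwU, rfl⟩ := hyp_mem H he hf hx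
  obtain ⟨t, ht⟩ := exists_sing_add H hw
  rw [show a • e + b • f + w = (a - t) • e + (b - 1) • f + (f + w + t • e) by module]
  exact add_mem (add_mem (h0 _ (U.smul_mem _ he) (H.sing_e.smul _))
    (h0 _ (U.smul_mem _ hf) (H.sing_f.smul _)))
    (h0 _ (U.add_mem (U.add_mem hf hwU) (U.smul_mem _ he)) ht)

end H16
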