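import Mathlib
import Cfsg.Agent.H16.Polar

/-! Point stabilisers in classical groups, and their images under isomorphisms. -/

set_option autoImplicit false
set_option linter.unusedSectionVars false

namespace H16

open Module H15 H7

variable {F : Type*} [Field F] {σ : F →+* F} {V : Type*} [AddCommGroup V] [Module F V]

/-- The standing hypotheses on a form. -/
structure Good (Φ : Form σ V) : Prop where
  nd : Φ.Nondeg
  dim : 3 ≤ finrank F V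
  thick : Tr Φ ∨ 5 ≤ finrank F V
  sing : ∀ U : Submodule F V, (3 ≤ finrank F U ∨ (Tr Φ ∧ 2 ≤ finrank F U)) →
    ∃ v ∈ U, v ≠ 0 ∧ Sing Φ v

/-- The stabiliser of a subspace. -/
def St (Φ : Form σ V) (Y : Submodule F V) : Subgroup (EG Φ) := (Φ.stab Y).subgroupOf (EG Φ)

/-- The stabiliser of a point. -/
def Pt (Φ : Form σ V) (e : V) : Subgroup (EG Φ) := St Φ (Submodule.span F {e})

variable {Φ : Form σ V} [FiniteDimensional F V]

theorem mem_St {Y : Submodule F V} {g : EG Φ} : g ∈ St Φ Y ↔ ∀ x ∈ Y, g.1.1 x ∈ Y :=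
  ⟨fun h x hx => (h x).1 hx, fun h => Φ.mem_stab_of_mapsTo h⟩

theorem mem_Pt {e : V} {g : EG Φ} : g ∈ Pt Φ e ↔ ∃ c : F, g.1.1 e = c • e := by
  rw [Pt, mem_St]
  constructor
  · intro h
    obtain ⟨c, hc⟩ := Submodule.mem_span_singleton.1 (h e (Submodule.mem_span_singleton_self e))
    exact ⟨c, hc.symm⟩
  · rintro ⟨c, hc⟩ x hx
    obtain ⟨d, rfl⟩ := Submodule.mem_span_singleton.1 hx
    rw [map_smul, hc]
    exact Submodule.smul_mem _ _ (Submodule.smul_mem _ _ (Submodule.mem_span_singleton_self e))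

theorem Pt_smul {c : F} (hc : c ≠ 0) (e : V) : Pt Φ (c • e) = Pt Φ e := by
  rw [Pt, Pt, Submodule.span_singleton_smul_eq (IsUnit.mk0 c hc)]

theorem mem_Pt_of_Rad {e : V} {g : EG Φ} (h : g.1 ∈ Rad Φ e) : g ∈ Pt Φ e :=
  mem_Pt.2 ⟨1, by rw [(mem_Rad.1 h).1, one_smul]⟩

theorem conj_mem_Pt {e : V} {g k : EG Φ} : g⁻¹ * k * g ∈ Pt Φ e ↔ k ∈ Pt Φ (g.1.1 e) := by
  simp only [mem_Pt]
  refine exists_congr fun c => ?_
  change (g.1⁻¹).1 (k.1.1 (g.1.1 e)) = _ ↔ _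
  rw [Form.Isom.inv_apply_eq, map_smul, eq_comm]

theorem smul_ne_zero_of {g : Φ.Isom} {x y : V} {c : F} (hx : x ≠ 0) (h : g.1 x = c • y) : c ≠ 0 := by
  rintro rfl
  exact hx (by simpa using h)

theorem conj_mem_Rad_of_Pt {e : V} (he : e ≠ 0) {g r : EG Φ} (hg : g ∈ Pt Φ e)
    (hr : r.1 ∈ Rad Φ e) : (g * r * g⁻¹).1 ∈ Rad Φ e := by
  obtain ⟨c, hc⟩ := mem_Pt.1 hg
  have := conj_mem_Rad hr g.1
  rwa [hc, Rad_smul (smul_ne_zero_of he hc)] at this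

namespace Good

variable (hΦ : Good Φ)
include hΦ

theorem disj_top : Disjoint ⊤ (Φ.perp ⊤) := by rw [hΦ.nd.perp_top]; exact disjoint_bot_right

theorem thick_top : 3 ≤ finrank F (⊤ : Submodule F V) ∨ Tr Φ := Or.inl (by simpa using hΦ.dim)

theorem exists_sing : ∃ e, e ≠ 0 ∧ Sing Φ e := by
  obtain ⟨e, -, h⟩ := hΦ.sing ⊤ (Or.inl (by simpa using hΦ.dim))
  exact ⟨e, h⟩

theorem thick_perp {e f : V} (H : HypPair Φ e f) : 3 ≤ finrank F (hypPerp Φ e f) ∨ Tr Φ := by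
  have := H.finrank_perp hΦ.nd
  rcases hΦ.thick with h | h
  · exact Or.inr h
  · left; omega

theorem disj_perp {e f : V} (H : HypPair Φ e f) :
    Disjoint (hypPerp Φ e f) (Φ.perp (hypPerp Φ e f)) := hΦ.nd.disjoint_perp_perp H.disjoint

theorem trans {x y : V} (hx : Sing Φ x) (hy : Sing Φ y) (hx0 : x ≠ 0) (hy0 : y ≠ 0) :
    ∃ g : EG Φ, ∃ c : F, c ≠ 0 ∧ g.1.1 x = c • y := by
  obtain ⟨g, hg, h, -⟩ := exists_trans hΦ.nd hΦ.disj_top hΦ.thick_top hx hy hx0 hy0 trivial trivial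
  exact ⟨⟨g, hg⟩, h⟩

theorem fixed {z x : V} (hz : Sing Φ z) (hz0 : z ≠ 0) (hx : ∀ r ∈ Rad Φ z, r.1 x = x) :
    ∃ c : F, x = c • z :=
  mem_span_of_fixed hΦ.nd hΦ.disj_top hΦ.thick_top hz hz0 trivial trivial fun r hr _ => hx r hr

theorem mem_center_iff {g : EG Φ} :
    g ∈ Subgroup.center (EG Φ) ↔ ∃ c : F, ∀ v, g.1.1 v = c • v := by
  refine ⟨fun hg => ?_, fun ⟨c, hc⟩ => mem_center_of_scalar (EG Φ).subtype Subtype.val_injective hc⟩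
  obtain ⟨e, he0, he⟩ := hΦ.exists_sing
  obtain ⟨f, H⟩ := he.exists_hypPair hΦ.nd he0
  refine H.exists_scalar (Or.inl (H.perp_ne_bot hΦ.nd hΦ.dim)) g.1 fun v hv => ?_
  by_cases hv0 : v = 0
  · exact ⟨0, by simp [hv0]⟩
  refine hΦ.fixed hv hv0 fun r hr => ?_
  have := congrArg (fun k : EG Φ => k.1.1 v)
    (Subgroup.mem_center_iff.1 hg ⟨r, Rad_le_EG hv hr⟩)
  change r.1 (g.1.1 v) = g.1.1 (r.1 v) at this
  rw [this, (mem_Rad.1 hr).1]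

theorem center_PE (p : ℕ) [Fact p.Prime] [CharP F p] :
    ∀ z ∈ Subgroup.center (EG Φ), PE p z → z = 1 := fun z hz hp => by
  obtain ⟨c, hc⟩ := hΦ.mem_center_iff.1 hz
  exact Subtype.ext (Form.Isom.ext fun v =>
    eq_of_PE p ((hp.map (EG Φ).subtype).map Φ.Isom.subtype) (hc v))

theorem center_le_St (Y : Submodule F V) : Subgroup.center (EG Φ) ≤ St Φ Y := fun z hz => by
  obtain ⟨c, hc⟩ := hΦ.mem_center_iff.1 hz
  exact mem_St.2 fun x hx => hc x ▸ Y.smul_mem c hx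

theorem isCoatom_Pt {e : V} (he : Sing Φ e) (he0 : e ≠ 0) : IsCoatom (Pt Φ e) := by
  constructor
  · obtain ⟨f, H⟩ := he.exists_hypPair hΦ.nd he0
    obtain ⟨g, c, hc, hg⟩ := hΦ.trans he H.sing_f he0 H.f_ne_zero
    intro h
    obtain ⟨d, hd⟩ := mem_Pt.1 (h ▸ trivial : g ∈ Pt Φ e)
    have := congrArg (Φ.B e) (hg.symm.trans hd)
    simp [H.ee, H.ef, hc] at this
  intro T hT
  let O : V → Prop := fun x => ∃ g ∈ T, ∃ c : F, c ≠ 0 ∧ g.1.1 e = c • x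
  have hO1 : ∀ x, O x → Pt Φ x ≤ T := by
    rintro x ⟨g, hg, c, hc, h⟩ k hk
    rw [← Pt_smul hc, ← h, ← conj_mem_Pt] at hk
    simpa [mul_assoc] using T.mul_mem (T.mul_mem hg (hT.le hk)) (T.inv_mem hg)
  have hO2 : ∀ x y, O x → ∀ k ∈ T, ∀ c : F, c ≠ 0 → k.1.1 x = c • y → O y := by
    rintro x y ⟨g, hg, c, hc, h⟩ k hk d hd h'
    refine ⟨k * g, T.mul_mem hk hg, c * d, mul_ne_zero hc hd, ?_⟩
    change k.1.1 (g.1.1 e) = _
    rw [h, map_smul, h', smul_smul]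
  have hO3 : ∀ x y s, Sing Φ x → Sing Φ y → Sing Φ s → O x → O y → Φ.B x y ≠ 0 → Φ.B x s ≠ 0 →
      O s := fun x y s hx hy hs h1 h2 h3 h4 => by
    obtain ⟨r, hr, ⟨c, hc, h5⟩, -⟩ := exists_Rad' hΦ.nd hx hy hs h3 h4
    exact hO2 y s h2 ⟨r, Rad_le_EG hx hr⟩ (hO1 x h1 (mem_Pt_of_Rad hr)) c hc h5
  obtain ⟨x, y, hx, hy, h1, h2, h3⟩ : ∃ x y, Sing Φ x ∧ Sing Φ y ∧ O x ∧ O y ∧ Φ.B x y ≠ 0 := by
    obtain ⟨g, hg, hg'⟩ := SetLike.exists_of_lt hT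
    have h1 : O (g.1.1 e) := ⟨g, hg, 1, one_ne_zero, by simp⟩
    by_cases h2 : Φ.B e (g.1.1 e) = 0
    swap
    · exact ⟨e, _, he, he.map _, ⟨1, T.one_mem, 1, one_ne_zero, by simp⟩, h1, h2⟩
    have h3 : g.1.1 e ∉ Submodule.span F {e} := fun h => by
      obtain ⟨c, hc⟩ := Submodule.mem_span_singleton.1 h
      exact hg' (mem_Pt.2 ⟨c, hc.symm⟩)
    have hx := he.map g.1
    generalize g.1.1 e = x at h1 h2 h3 hx
    obtain ⟨w, hw1, hw2⟩ := hΦ.nd.exists_perp_eq_one h3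
    have hw3 := hw1 e (Submodule.mem_span_singleton_self e)
    obtain ⟨t, ht⟩ := hx.exists_add (x := w) (by rw [Ne, Φ.B_eq_zero_comm, hw2]; exact one_ne_zero)
    have H : HypPair Φ (w + t • x) x := ⟨ht.1, hx.1, by simp [hw2, hx.1], ht.2, hx.2⟩
    have h4 : e ∈ hypPerp Φ (w + t • x) x :=
      mem_hypPerp.2 ⟨by simp [hw3, Φ.B_eq_zero_comm.1 h2], Φ.B_eq_zero_comm.1 h2⟩
    obtain ⟨f, hf, h5, h6, h7⟩ := Φ.exists_hyp_partner_mem (hΦ.disj_perp H) h4 he0 he.1 he.2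
    have H' : HypPair Φ e f := ⟨he.1, h6, h5, he.2, h7⟩
    obtain ⟨y, hy, h8, h9, h10⟩ := exists_third (hΦ.disj_perp H') (hΦ.thick_perp H') H
      (mem_hypPerp.2 ⟨Φ.B_eq_zero_comm.1 (mem_hypPerp.1 h4).1, Φ.B_eq_zero_comm.1 (mem_hypPerp.1 hf).1⟩)
      (mem_hypPerp.2 ⟨h2, Φ.B_eq_zero_comm.1 (mem_hypPerp.1 hf).2⟩)
    obtain ⟨r, hr, h11⟩ := exists_Rad hΦ.nd H h8 h9
    refine ⟨x, y, hx, h8, h1, hO2 x y h1 ⟨r, Rad_le_EG ht hr⟩ (hT.le (mem_Pt.2 ⟨1, ?_⟩)) 1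
      one_ne_zero (by simpa using h11), h10⟩
    rw [one_smul]
    exact Rad_fix hr H.ef (mem_hypPerp.1 h4).1 (by
      simp [h11, Φ.B_eq_zero_comm.1 (mem_hypPerp.1 hy).1, (mem_hypPerp.1 h4).2])
  have hall : ∀ s, Sing Φ s → s ≠ 0 → O s := fun s hs hs0 => by
    obtain ⟨z, -, hz, h4, h5⟩ := exists_common hΦ.disj_top hΦ.thick_top hx hs
      (by rintro rfl; simp at h3) hs0 trivial trivial
    exact hO3 z x s hz hx hs (hO3 x y z hx hy hz h1 h2 h3 (by rwa [Ne, Φ.B_eq_zero_comm])) h1 h4 h5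
  refine eq_top_iff.2 fun g _ => ?_
  obtain ⟨k, hk, c, hc, h⟩ := hall (g.1.1 e) (he.map _) (by simpa using he0)
  have : g⁻¹ * k ∈ Pt Φ e := mem_Pt.2 ⟨c, by
    change (g.1⁻¹).1 (k.1.1 e) = _
    rw [h]; simp⟩
  simpa using T.mul_mem hk (T.inv_mem (hT.le this))

variable [Finite F] (p : ℕ) [Fact p.Prime] [CharP F p]
include p

theorem mem_of_invariant {z : V} (hz : Sing Φ z) (hz0 : z ≠ 0) {U X : Submodule F V}
    (hU : Disjoint U (Φ.perp U)) (hT : 3 ≤ finrank F U ∨ Tr Φ) (hzU : z ∈ U) (hX : X ⊓ U ≠ ⊥)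
    (h : ∀ r ∈ Rad Φ z, (∀ v ∈ Φ.perp U, r.1 v = v) → ∀ x ∈ X, r.1 x ∈ X) : z ∈ X := by
  have : Finite V := Module.finite_of_finite F
  obtain ⟨x, hx, hx0, h1⟩ := exists_fixed_mem p (P := (Rad Φ z ⊓ Φ.fixer (Φ.perp U) : Subgroup _))
    (isPGroup_of_PE fun g hg => Rad_PE p hΦ.nd hz hg.1)
    (Φ.Isom.subtype.comp (Subgroup.subtype _)) hX fun g x hx => ⟨h _ g.2.1 g.2.2 x hx.1, by
      have := Φ.stab_le_stab_perp _ (Φ.fixer_le_stab _ g.2.2)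
      rw [hΦ.nd.perp_perp] at this
      exact (this x).1 hx.2⟩
  obtain ⟨c, rfl⟩ := mem_span_of_fixed hΦ.nd hU hT hz hz0 hzU hx.2 fun r hr hr' => h1 ⟨r, hr, hr'⟩
  exact (X.smul_mem_iff (left_ne_zero_of_smul hx0)).1 hx.1

theorem mem_of_invariant' {z : V} (hz : Sing Φ z) (hz0 : z ≠ 0) {X : Submodule F V} (hX : X ≠ ⊥)
    (h : ∀ r ∈ Rad Φ z, ∀ x ∈ X, r.1 x ∈ X) : z ∈ X :=
  hΦ.mem_of_invariant p hz hz0 hΦ.disj_top hΦ.thick_top trivial (by simpa using hX)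
    fun r hr _ => h r hr

omit hΦ p in
instance instFiniteEG : Finite (EG Φ) :=
  have : Finite V := Module.finite_of_finite F
  have : Finite (V ≃ₗ[F] V) := DFunLike.finite _
  inferInstance

theorem isPGroup_Rad {e : V} (he : Sing Φ e) : IsPGroup p ((Rad Φ e).subgroupOf (EG Φ)) :=
  isPGroup_of_PE fun _ hg => (Rad_PE p hΦ.nd he hg).of_injective (EG Φ).subtype
    Subtype.val_injective

theorem not_dvd_index_Pt {e : V} (he : Sing Φ e) (he0 : e ≠ 0) : ¬ p ∣ (Pt Φ e).index := by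
  have : Finite V := Module.finite_of_finite F
  obtain ⟨S, hS⟩ := (hΦ.isPGroup_Rad p he).exists_le_sylow
  obtain ⟨x, -, hx0, hx⟩ := exists_fixed_mem p S.isPGroup' (X := ⊤)
    ((Φ.Isom.subtype.comp (EG Φ).subtype).comp (Subgroup.subtype _))
    (fun h => he0 (show e ∈ (⊥ : Submodule F V) from h ▸ trivial)) fun _ _ _ => trivial
  obtain ⟨c, rfl⟩ := hΦ.fixed he he0 fun r hr => hx ⟨⟨r, Rad_le_EG he hr⟩, hS hr⟩
  refine fun h => S.not_dvd_index (h.trans (Subgroup.index_dvd_of_le fun g hg => ?_))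
  rw [← Pt_smul (left_ne_zero_of_smul hx0)]
  exact mem_Pt.2 ⟨1, by simpa using hx ⟨g, hg⟩⟩

theorem mem_Rad_of_normal {e : V} (he : Sing Φ e) (he0 : e ≠ 0) {N : Subgroup (EG Φ)}
    (hN : IsPGroup p N) (h1 : N ≤ Pt Φ e) (h2 : ∀ g ∈ Pt Φ e, ∀ n ∈ N, g * n * g⁻¹ ∈ N) :
    ∀ n ∈ N, n.1 ∈ Rad Φ e := by
  have : Finite V := Module.finite_of_finite F
  have h3 : ∀ n ∈ N, n.1.1 e = e := fun n hn => by
    obtain ⟨c, hc⟩ := mem_Pt.1 (h1 hn)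
    exact eq_of_PE p (((PE.of_mem hN hn).map (EG Φ).subtype).map Φ.Isom.subtype) hc
  let X : Submodule F V :=
    { carrier := {x | ∀ n ∈ N, n.1.1 x - x ∈ Submodule.span F {e}}
      add_mem' := fun {a b} ha hb n hn => by
        rw [map_add, add_sub_add_comm]; exact add_mem (ha n hn) (hb n hn)
      zero_mem' := fun n hn => by simp
      smul_mem' := fun c a ha n hn => by
        rw [map_smul, ← smul_sub]; exact Submodule.smul_mem _ c (ha n hn) }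
  have hX : ∀ g ∈ Pt Φ e, ∀ x ∈ X, g.1.1 x ∈ X := fun g hg x hx n hn => by
    have := mem_St.1 hg _ (hx _ (h2 g⁻¹ (inv_mem hg) n hn))
    simpa using this
  have heX : e ∈ X := fun n hn => by simp [h3 n hn]
  obtain ⟨f, H⟩ := he.exists_hypPair hΦ.nd he0
  obtain ⟨x, hx1, hx2, hx3⟩ := exists_fixed_mod p hN
    ((Φ.Isom.subtype.comp (EG Φ).subtype).comp N.subtype) (X₀ := Submodule.span F {e})
    (X := Φ.perp (Submodule.span F {e})) (fun h => by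
      obtain ⟨w, hw, -, hw0⟩ := hyp_exists_ne H (U := ⊤) trivial trivial (by simpa using hΦ.dim)
      exact hw0 (Submodule.disjoint_def.1 H.disjoint w
        (Submodule.mem_sup_left (h (Φ.mem_perp_singleton.2 (mem_hypPerp.1 hw).1))) hw))
    (fun g x hx => mem_St.1 (h1 g.2) x hx)
    (fun g x hx => (Φ.stab_le_stab_perp _ (h1 g.2) x).1 hx)
  obtain ⟨a, b, w, hw, rfl⟩ := H.exists_eq x
  rw [Φ.mem_perp_singleton, H.B_e _ _ hw] at hx1
  subst hx1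
  have hwX : w ∈ X := by
    have : a • e + (0 : F) • f + w ∈ X := fun n hn => hx3 ⟨n, hn⟩
    rwa [zero_smul, add_zero, X.add_mem_iff_right (X.smul_mem a heX)] at this
  have hw0 : w ≠ 0 := by
    rintro rfl
    exact hx2 (by simpa using Submodule.smul_mem _ a (Submodule.mem_span_singleton_self e))
  have hW : hypPerp Φ e f ≤ X := by
    have h4 := H.finrank_perp hΦ.nd
    by_cases h5 : finrank F V = 3
    · rw [← Submodule.eq_of_le_of_finrank_le ((Submodule.span_singleton_le_iff_mem _ _).2 hw)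
        (by rw [finrank_span_singleton hw0]; omega)]
      exact (Submodule.span_singleton_le_iff_mem _ _).2 hwX
    obtain ⟨u, hu, hu0, hus⟩ := hΦ.sing (hypPerp Φ e f) (by
      have := hΦ.dim
      rcases hΦ.thick with h | h
      · exact Or.inr ⟨h, by omega⟩
      · left; omega)
    obtain ⟨v, hv, h6, h7, h8⟩ := Φ.exists_hyp_partner_mem (hΦ.disj_perp H) hu hu0 hus.1 hus.2
    intro y hy
    refine (AddSubgroup.closure_le X.toAddSubgroup).2 (fun z hz => ?_)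
      (mem_closure_sing ⟨hus.1, h7, h6, hus.2, h8⟩ hu hv hy)
    refine hΦ.mem_of_invariant p hz.2.1 hz.2.2 (hΦ.disj_perp H) (hΦ.thick_perp H) hz.1
      (Submodule.ne_bot_iff _ |>.2 ⟨w, ⟨hwX, hw⟩, hw0⟩) fun r hr hr' =>
        hX ⟨r, Rad_le_EG hz.2.1 hr⟩ (mem_Pt.2 ⟨1, ?_⟩)
    rw [one_smul]
    exact hr' e fun y hy => Φ.B_eq_zero_comm.1 (mem_hypPerp.1 hy).1
  refine fun n hn => ⟨fun y hy => ?_, fun y hy => ?_⟩
  · obtain ⟨c, rfl⟩ := Submodule.mem_span_singleton.1 hy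
    rw [map_smul, h3 n hn]
  · obtain ⟨a, b, w, hw, rfl⟩ := H.exists_eq y
    rw [Φ.mem_perp_singleton, H.B_e _ _ hw] at hy
    subst hy
    refine (show _ ∈ X from ?_) n hn
    rw [zero_smul, add_zero]
    exact X.add_mem (X.smul_mem a heX) (hW hw)

end Good

section Two

variable {K : Type*} [Field K] {τ : K →+* K} {W : Type*} [AddCommGroup W] [Module K W]
  {Ψ : Form τ W} [FiniteDimensional K W] [Finite F] [Finite K]

theorem exists_totSing_cor (p : ℕ) [Fact p.Prime] [CharP F p] [CharP K p] (hΦ : Good Φ)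
    (hΨ : Good Ψ)
    (α : EG Φ ⧸ Subgroup.center (EG Φ) ≃* EG Ψ ⧸ Subgroup.center (EG Ψ)) {e : V} (he : Sing Φ e)
    (he0 : e ≠ 0) : ∃ Y : Submodule K W, Y ≠ ⊥ ∧ Ψ.TotSing Y ∧
      (∀ g g', Cor α g g' → (g ∈ Pt Φ e ↔ g' ∈ St Ψ Y)) ∧
      (∀ r r', Cor α r r' → PE p r' → r.1 ∈ Rad Φ e → ∀ y ∈ Y, r'.1.1 y = y) ∧
      ∀ r' : EG Ψ, r'.1 ∈ rad Ψ Y → ∃ r : EG Φ, r.1 ∈ Rad Φ e ∧ Cor α r r' := by
  have : Finite W := Module.finite_of_finite K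
  have hc : _ ≤ Pt Φ e := hΦ.center_le_St (Submodule.span F {e})
  obtain ⟨N, hN, hN'⟩ := exists_liftP α (hΦ.isPGroup_Rad p he)
  have hNK : ∀ k ∈ corMap α (Pt Φ e), ∀ n ∈ N, k * n * k⁻¹ ∈ N := fun k hk n hn => by
    obtain ⟨g, hg, h1⟩ := mem_corMap.1 hk
    obtain ⟨h2, r, hr, h3⟩ := (hN' n).1 hn
    exact (hN' _).2 ⟨h2.conj k, _, conj_mem_Rad_of_Pt he0 hg hr, h1.conj h3⟩
  let X : Submodule K W :=
    { carrier := {x | ∀ n ∈ N, n.1.1 x = x}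
      add_mem' := fun {a b} ha hb n hn => by rw [map_add, ha n hn, hb n hn]
      zero_mem' := fun n hn => by simp
      smul_mem' := fun c a ha n hn => by rw [map_smul, ha n hn] }
  have hX : ∀ k ∈ corMap α (Pt Φ e), k ∈ St Ψ X := fun k hk => mem_St.2 fun x hx n hn => by
    have := hx _ (hNK k⁻¹ (inv_mem hk) n hn)
    rw [inv_inv] at this
    exact (Form.Isom.inv_apply_eq _).1 this |>.symm
  obtain ⟨e₂, he₂0, he₂⟩ := hΨ.exists_sing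
  obtain ⟨x, hx⟩ := exists_conj_mem_of_index (K := corMap α (Pt Φ e))
    (by rw [index_corMap hc]; exact hΦ.not_dvd_index_Pt p he he0) (hΨ.isPGroup_Rad p he₂)
  have he₃ := he₂.map x.1
  have he₃0 : x.1.1 e₂ ≠ 0 := by simpa using he₂0
  have hmem : ∀ Z : Submodule K W, Z ≠ ⊥ → (∀ k ∈ corMap α (Pt Φ e), k ∈ St Ψ Z) → x.1.1 e₂ ∈ Z :=
    fun Z hZ h => hΨ.mem_of_invariant' p he₃ he₃0 hZ fun r hr => by
      have h1 := conj_mem_Rad hr x.1⁻¹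
      rw [Form.Isom.inv_apply_apply] at h1
      have h2 := hx ⟨_, Rad_le_EG he₂ h1⟩ h1
      have h3 := mem_St.1 (h _ h2)
      simpa [mul_assoc] using h3
  have hX0 : X ≠ ⊥ := by
    obtain ⟨y, -, hy0, hy⟩ := exists_fixed_mem p hN (X := ⊤)
      ((Ψ.Isom.subtype.comp (EG Ψ).subtype).comp (Subgroup.subtype _))
      (fun h => he₂0 (show e₂ ∈ (⊥ : Submodule K W) from h ▸ trivial)) fun _ _ _ => trivial
    exact (Submodule.ne_bot_iff _).2 ⟨y, fun n hn => hy ⟨n, hn⟩, hy0⟩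
  have hX1 : Ψ.perp X ≠ ⊥ := fun h => by
    have h1 : X = ⊤ := by rw [← hΨ.nd.perp_perp X, h, Form.perp_bot]
    obtain ⟨f, H⟩ := he.exists_hypPair hΦ.nd he0
    obtain ⟨c, hc⟩ := hΦ.fixed he he0 (x := f) fun r hr => by
      have h2 : PE p (⟨r, Rad_le_EG he hr⟩ : EG Φ) := PE.of_mem (hΦ.isPGroup_Rad p he) hr
      obtain ⟨r', h3, h4⟩ := Cor.exists_PE (α := α) (hΨ.center_PE p) h2
      have h5 : r' = 1 := Subtype.ext (Form.Isom.ext fun v =>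
        (show v ∈ X from h1 ▸ trivial) r' ((hN' _).2 ⟨h4, _, hr, h3⟩))
      have h6 := hΦ.center_PE p _ (h3.center_iff.2 (h5 ▸ one_mem _)) h2
      exact congrArg (fun k : EG Φ => k.1.1 f) h6
    exact H.f_notMem (Submodule.mem_span_singleton.2 ⟨c, hc.symm⟩)
  let Y : Submodule K W :=
    { carrier := {y | y ∈ X ∧ y ∈ Ψ.perp X ∧ Ψ.Q y = 0}
      add_mem' := fun {a b} ha hb => ⟨X.add_mem ha.1 hb.1, add_mem ha.2.1 hb.2.1, by
        rw [Ψ.Q_add, ha.2.2, hb.2.2, hb.2.1 a ha.1]; simp⟩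
      zero_mem' := ⟨X.zero_mem, zero_mem _, Ψ.Q_zero⟩
      smul_mem' := fun c a ha => ⟨X.smul_mem c ha.1, Submodule.smul_mem _ c ha.2.1, by
        rw [Ψ.Q_smul, ha.2.2, mul_zero]⟩ }
  have hY : Ψ.TotSing Y := ⟨fun a ha b hb => hb.2.1 a ha.1, fun a ha => ha.2.2⟩
  have heY : x.1.1 e₂ ∈ Y :=
    ⟨hmem X hX0 hX, hmem _ hX1 fun k hk => Ψ.stab_le_stab_perp _ (hX k hk), he₃.2⟩
  have hKY : corMap α (Pt Φ e) = St Ψ Y := by
    have hle : corMap α (Pt Φ e) ≤ St Ψ Y := fun k hk => mem_St.2 fun y hy =>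
      ⟨mem_St.1 (hX k hk) y hy.1,
        (Ψ.stab_le_stab_perp _ (hX k hk) y).1 hy.2.1, (Form.Isom.map_Q _ _).trans hy.2.2⟩
    refine (((isCoatom_corMap hc (hΦ.isCoatom_Pt he he0)).le_iff_eq fun h => ?_).1 hle).symm
    obtain ⟨f, H⟩ := he₃.exists_hypPair hΨ.nd he₃0
    obtain ⟨g, c, hc, hg⟩ := hΨ.trans he₃ H.sing_f he₃0 H.f_ne_zero
    have := hY.1 _ heY _ (mem_St.1 (h ▸ trivial : g ∈ St Ψ Y) _ heY)
    simp [hg, H.ef, hc] at this
  refine ⟨Y, (Submodule.ne_bot_iff _).2 ⟨_, heY, he₃0⟩, hY, fun g g' h => hKY ▸ h.mem_iff hc,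
    fun r r' h1 h2 h3 y hy => hy.1 r' ((hN' _).2 ⟨h2, r, h3, h1⟩), fun r' hr' => ?_⟩
  have hM : IsPGroup p ((rad Ψ Y).subgroupOf (EG Ψ)) := isPGroup_of_PE fun _ hg =>
    (rad_PE p hΨ.nd hY hg).of_injective (EG Ψ).subtype Subtype.val_injective
  obtain ⟨M, hM1, hM2⟩ := exists_liftP α.symm hM
  obtain ⟨r, h1, h2⟩ := Cor.exists_PE (α := α.symm) (hΦ.center_PE p) (PE.of_mem hM (g := r') hr')
  refine ⟨r, hΦ.mem_Rad_of_normal p he he0 hM1 (fun n hn => ?_) (fun g hg n hn => ?_) r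
    ((hM2 r).2 ⟨h2, r', hr', h1⟩), h1.symm⟩
  · obtain ⟨-, n', h3, h4⟩ := (hM2 n).1 hn
    refine (h4.of_symm.mem_iff hc).2 (hKY ▸ mem_St.2 fun y hy => ?_)
    rw [show n'.1.1 y = y from h3.1 y hy]; exact hy
  · obtain ⟨h3, n', h4, h5⟩ := (hM2 n).1 hn
    obtain ⟨g', hg'⟩ := Cor.exists_right α g
    exact (hM2 _).2 ⟨h3.conj g, _, conj_mem_rad h4 (show g' ∈ St Ψ Y from hKY ▸ (hg'.mem_iff hc).1 hg),
      hg'.symm.conj h5⟩

end Two

end H16
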