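import Mathlib
import Cfsg.Agent.H15.GL
import Cfsg.Agent.H16.Polar2

/-! Semilinear similarities of a form and the automorphisms they induce. -/

set_option autoImplicit false
set_option linter.unusedSectionVars false

namespace H16

open Module H15 H7

variable {F : Type*} [Field F] {σ : F →+* F} {V : Type*} [AddCommGroup V] [Module F V]

/-- Semilinear similarities. -/
@[ext] structure SemiSim (Φ : Form σ V) where
  /-- the underlying map -/
  fn : V ≃+ V
  /-- the companion automorphism -/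
  s : F ≃+* F
  /-- the multiplier -/
  κ : Fˣ
  map_smul : ∀ (c : F) v, fn (c • v) = s c • fn v
  map_B : ∀ u v, Φ.B (fn u) (fn v) = κ * s (Φ.B u v)
  map_Q : ∀ v, Φ.Q (fn v) = κ * s (Φ.Q v)

variable {Φ : Form σ V}

namespace SemiSim

theorem symm_smul (a : SemiSim Φ) (c : F) (v : V) :
    a.fn.symm (c • v) = a.s.symm c • a.fn.symm v := a.fn.injective (by simp [a.map_smul])

instance instGroupSemiSim : Group (SemiSim Φ) where
  mul a b := ⟨b.fn.trans a.fn, b.s.trans a.s, a.κ * Units.map (a.s : F →* F) b.κ,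
    fun c v => by simp [a.map_smul, b.map_smul], fun u v => by simp [a.map_B, b.map_B, mul_assoc],
    fun v => by simp [a.map_Q, b.map_Q, mul_assoc]⟩
  one := ⟨AddEquiv.refl V, RingEquiv.refl F, 1, by simp, by simp, by simp⟩
  inv a := ⟨a.fn.symm, a.s.symm, Units.map (a.s.symm : F →* F) a.κ⁻¹, a.symm_smul,
    fun u v => a.s.injective (by
      have := a.map_B (a.fn.symm u) (a.fn.symm v)
      simp only [AddEquiv.apply_symm_apply] at this
      simp [this]),
    fun v => a.s.injective (by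
      have := a.map_Q (a.fn.symm v)
      simp only [AddEquiv.apply_symm_apply] at this
      simp [this])⟩
  mul_assoc a b c := SemiSim.ext rfl rfl (Units.ext (by
    change (a.κ * a.s b.κ) * a.s (b.s c.κ) = a.κ * a.s (b.κ * b.s c.κ)
    rw [map_mul, mul_assoc]))
  one_mul a := SemiSim.ext rfl rfl (Units.ext (one_mul _))
  mul_one a := SemiSim.ext rfl rfl (Units.ext (by
    change a.κ * a.s 1 = a.κ
    simp))
  inv_mul_cancel a := SemiSim.ext (AddEquiv.ext fun v => a.fn.symm_apply_apply v)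
    (RingEquiv.ext fun v => a.s.symm_apply_apply v) (Units.ext (by
      change a.s.symm (a.κ⁻¹ : Fˣ) * a.s.symm a.κ = 1
      rw [← map_mul]; simp))

theorem mul_fn (a b : SemiSim Φ) (v : V) : (a * b).fn v = a.fn (b.fn v) := rfl
theorem inv_fn (a : SemiSim Φ) (v : V) : (a⁻¹).fn v = a.fn.symm v := rfl

theorem sing (a : SemiSim Φ) {v : V} (h : Sing Φ v) : Sing Φ (a.fn v) :=
  ⟨by simp [a.map_B, h.1], by simp [a.map_Q, h.2]⟩

theorem ext_fn {e f : V} (H : HypPair Φ e f) {a b : SemiSim Φ} (h : ∀ v, a.fn v = b.fn v) :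
    a = b := by
  have h1 : a.s = b.s := RingEquiv.ext fun c => by
    have := h (c • e)
    rw [a.map_smul, b.map_smul, h] at this
    exact smul_left_injective F (by simpa using H.e_ne_zero) this
  refine SemiSim.ext (AddEquiv.ext h) h1 (Units.ext ?_)
  have := a.map_B e f
  rw [h, h, b.map_B, H.ef] at this
  simpa using this.symm

/-- Conjugation of an isometry. -/
def conj (a : SemiSim Φ) (g : Φ.Isom) : Φ.Isom :=
  ⟨{ toFun := fun v => a.fn (g.1 (a.fn.symm v))
     invFun := fun v => a.fn ((g⁻¹).1 (a.fn.symm v))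
     map_add' := fun u v => by simp
     map_smul' := fun c v => by simp [a.symm_smul, a.map_smul]
     left_inv := fun v => by simp
     right_inv := fun v => by simp },
    fun u v => by
      change Φ.B (a.fn _) (a.fn _) = _
      rw [a.map_B, Form.Isom.map_B, ← a.map_B]; simp,
    fun v => by
      change Φ.Q (a.fn _) = _
      rw [a.map_Q, Form.Isom.map_Q, ← a.map_Q]; simp⟩

theorem conj_apply (a : SemiSim Φ) (g : Φ.Isom) (v : V) :
    (a.conj g).1 v = a.fn (g.1 (a.fn.symm v)) := rfl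

theorem conj_mem_Rad (a : SemiSim Φ) {e : V} {r : Φ.Isom} (hr : r ∈ Rad Φ e) :
    a.conj r ∈ Rad Φ (a.fn e) := by
  rw [mem_Rad] at hr ⊢
  refine ⟨by simp [conj_apply, hr.1], fun x hx => ?_⟩
  obtain ⟨t, ht⟩ := hr.2 (a.fn.symm x) (by
    have := a.map_B e (a.fn.symm x)
    rw [AddEquiv.apply_symm_apply, hx] at this
    simpa using this.symm)
  exact ⟨a.s t, by simp [conj_apply, ht, a.map_smul]⟩

theorem conj_mul (a : SemiSim Φ) (g h : Φ.Isom) : a.conj (g * h) = a.conj g * a.conj h :=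
  Form.Isom.ext fun v => by simp [conj_apply]

theorem conj_mem_EG (a : SemiSim Φ) {g : Φ.Isom} (hg : g ∈ EG Φ) : a.conj g ∈ EG Φ := by
  let φ : Φ.Isom →* Φ.Isom := MonoidHom.mk' a.conj a.conj_mul
  exact (Subgroup.closure_le ((EG Φ).comap φ)).2
    (fun r hr => by
      obtain ⟨e, he, hr⟩ := hr
      exact Rad_le_EG (a.sing he) (a.conj_mem_Rad hr)) hg

variable (Φ) in
/-- Conjugation as an automorphism of the elementary group. -/
def conjE : SemiSim Φ →* MulAut (EG Φ) where
  toFun a :=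
    { toFun := fun g => ⟨a.conj g.1, a.conj_mem_EG g.2⟩
      invFun := fun g => ⟨a⁻¹.conj g.1, a⁻¹.conj_mem_EG g.2⟩
      left_inv := fun g => Subtype.ext (Form.Isom.ext fun v => by
        simp [conj_apply, inv_fn, show ∀ v, a⁻¹.fn.symm v = a.fn v from fun _ => rfl])
      right_inv := fun g => Subtype.ext (Form.Isom.ext fun v => by
        simp [conj_apply, inv_fn, show ∀ v, a⁻¹.fn.symm v = a.fn v from fun _ => rfl])
      map_mul' := fun g h => Subtype.ext (a.conj_mul _ _) }
  map_one' := rfl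
  map_mul' _ _ := rfl

theorem conjE_apply (a : SemiSim Φ) (g : EG Φ) (v : V) :
    (conjE Φ a g).1.1 v = a.fn (g.1.1 (a.fn.symm v)) := rfl

variable (Φ) in
/-- Isometries as semilinear similarities. -/
def ofIsom : Φ.Isom →* SemiSim Φ where
  toFun g := ⟨g.1.toAddEquiv, RingEquiv.refl F, 1, by simp, by simp [Form.Isom.map_B],
    by simp [Form.Isom.map_Q]⟩
  map_one' := rfl
  map_mul' _ _ := SemiSim.ext rfl rfl (Units.ext (one_mul _).symm)

theorem ofIsom_fn (g : Φ.Isom) (v : V) : (ofIsom Φ g).fn v = g.1 v := rfl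

variable (Φ) in
/-- The companion automorphism. -/
def sHom : SemiSim Φ →* RingAut F where
  toFun a := a.s
  map_one' := rfl
  map_mul' _ _ := rfl

variable (Φ) in
/-- The multiplier of a linear similarity. -/
def κHom : (sHom Φ).ker →* Fˣ where
  toFun a := a.1.κ
  map_one' := rfl
  map_mul' a b := Units.ext (by
    change a.1.κ * a.1.s b.1.κ = (a.1.κ : F) * b.1.κ
    rw [show a.1.s = 1 from a.2]; rfl)

theorem card_eq : Nat.card (SemiSim Φ) =
    Nat.card Φ.Isom * Nat.card (κHom Φ).range * Nat.card (sHom Φ).range := by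
  rw [card_eq_card_ker_mul_card_range (sHom Φ), card_eq_card_ker_mul_card_range (κHom Φ)]
  congr 2
  refine (Nat.card_congr (Equiv.ofBijective (fun g => ⟨⟨ofIsom Φ g, rfl⟩, rfl⟩)
    ⟨fun g h e => Form.Isom.ext fun v => congrArg (fun a : (κHom Φ).ker => a.1.1.fn v) e,
      fun ⟨⟨a, h1⟩, h2⟩ => ?_⟩)).symm
  have h3 : a.s = RingEquiv.refl F := h1
  have h4 : a.κ = 1 := h2
  exact ⟨⟨{ a.fn with map_smul' := fun c v => by simp [a.map_smul, h3] },
    fun u v => by simpa [h3, h4] using a.map_B u v, fun v => by simpa [h3, h4] using a.map_Q v⟩,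
    Subtype.ext (Subtype.ext (SemiSim.ext rfl h3.symm h4.symm))⟩

theorem mem_range_κHom {c : Fˣ} : c ∈ (κHom Φ).range ↔ ∃ g : V ≃ₗ[F] V,
    (∀ u v, Φ.B (g u) (g v) = c * Φ.B u v) ∧ ∀ v, Φ.Q (g v) = c * Φ.Q v := by
  constructor
  · rintro ⟨⟨a, h1⟩, rfl⟩
    have h3 : a.s = RingEquiv.refl F := h1
    exact ⟨{ a.fn with map_smul' := fun c v => by simp [a.map_smul, h3] },
      fun u v => (a.map_B u v).trans (by rw [h3]; rfl), fun v => (a.map_Q v).trans (by rw [h3]; rfl)⟩
  · rintro ⟨g, h1, h2⟩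
    exact ⟨⟨⟨g.toAddEquiv, RingEquiv.refl F, c, by simp, h1, h2⟩, rfl⟩, rfl⟩

end SemiSim

variable (Φ) in
/-- The automorphism of the projective group induced by a semilinear similarity. -/
def toAut : SemiSim Φ →* MulAut (EG Φ ⧸ Subgroup.center (EG Φ)) :=
  (autQuot (EG Φ)).comp (SemiSim.conjE Φ)

theorem cor_toAut (a : SemiSim Φ) (g : EG Φ) : Cor (toAut Φ a) g (SemiSim.conjE Φ a g) := rfl

theorem Q_eq_zero {e f : V} (H : HypPair Φ e f) (hτ : Φ.τ = 0) (v : V) : Φ.Q v = 0 := by
  obtain ⟨t, -, ht⟩ := Φ.adj e f v H.Qe H.ee (by rw [H.ef]; exact one_ne_zero)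
  rw [← ht, Φ.Q_add_smul, H.Qe, H.Qf, hτ]
  simp

theorem Q_smul' {e f : V} (H : HypPair Φ e f) (c : F) (v : V) :
    Φ.Q (c • v) = c * σ c * Φ.Q v := by
  by_cases hτ : Φ.τ = 0
  · simp [Q_eq_zero H hτ]
  · rw [Φ.Q_smul, mul_left_cancel₀ hτ (tau_sigma H c), sq]

variable [FiniteDimensional F V] [Finite F]

theorem card_ker_toAut (hΦ : Good Φ) : Nat.card (toAut Φ).ker = Nat.card Fˣ := by
  obtain ⟨p, hp⟩ := CharP.exists F
  have : Fact p.Prime := ⟨CharP.char_is_prime F p⟩
  obtain ⟨e, he0, he⟩ := hΦ.exists_sing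
  obtain ⟨f, H⟩ := he.exists_hypPair hΦ.nd he0
  let sc : Fˣ → SemiSim Φ := fun c => ⟨(LinearEquiv.smulOfUnit c : V ≃ₗ[F] V).toAddEquiv,
    RingEquiv.refl F, c * Units.map (σ : F →* F) c, by simp,
    fun u v => by
      change Φ.B ((c : F) • u) ((c : F) • v) = _
      simp [mul_assoc],
    fun v => Q_smul' H c v⟩
  have hsc : ∀ c v, (sc c).fn v = (c : F) • v := fun _ _ => rfl
  refine (Nat.card_congr (Equiv.ofBijective (fun c => (⟨sc c, ?_⟩ : (toAut Φ).ker))
    ⟨fun c d h => ?_, fun ⟨a, ha⟩ => ?_⟩)).symm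
  · refine eq_one_of_cor fun g => ?_
    have : SemiSim.conjE Φ (sc c) g = g := Subtype.ext (Form.Isom.ext fun v => by
      rw [SemiSim.conjE_apply, hsc, ← map_smul, ← hsc, AddEquiv.apply_symm_apply])
    simpa [this] using cor_toAut (sc c) g
  · have := congrArg (fun a : (toAut Φ).ker => a.1.fn e) h
    exact Units.ext (smul_left_injective F he0 this)
  · have h1 : ∀ x, Sing Φ x → ∃ c : F, a.fn x = c • x := fun x hx => by
      by_cases hx0 : x = 0
      · exact ⟨0, by simp [hx0]⟩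
      refine hΦ.fixed hx hx0 fun r hr => ?_
      have h2 := cor_toAut a ⟨r, Rad_le_EG hx hr⟩
      rw [MonoidHom.mem_ker.1 ha] at h2
      have h3 : PE p (⟨r, Rad_le_EG hx hr⟩ : EG Φ) := PE.of_mem (hΦ.isPGroup_Rad p hx) hr
      have h4 := h2.unique (hΦ.center_PE p) rfl (h3.map (SemiSim.conjE Φ a).toMonoidHom) h3
      have h5 := congrArg (fun k : EG Φ => k.1.1 (a.fn x)) h4
      simpa [SemiSim.conjE_apply, (mem_Rad.1 hr).1] using h5.symm
    obtain ⟨l, hl⟩ := h1 e he
    obtain ⟨m, hm⟩ := h1 f H.sing_f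
    have hl0 : l ≠ 0 := by rintro rfl; exact he0 (by simpa using hl)
    have hm0 : m ≠ 0 := by rintro rfl; exact H.f_ne_zero (by simpa using hm)
    have h2 : ∀ w ∈ hypPerp Φ e f, a.fn w ∈ hypPerp Φ e f := fun w hw => by
      have h3 := a.map_B e w
      have h4 := a.map_B f w
      rw [hl, (mem_hypPerp.1 hw).1] at h3
      rw [hm, (mem_hypPerp.1 hw).2] at h4
      exact mem_hypPerp.2 ⟨by simpa [hl0] using h3, by simpa [hm0] using h4⟩
    have h3 : ∀ (t : F), ∀ w ∈ hypPerp Φ e f, Sing Φ (t • e + f + w) →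
        a.s t * l = m * t ∧ a.fn w = m • w := fun t w hw hs => by
      obtain ⟨c, hc⟩ := h1 _ hs
      rw [map_add, map_add, a.map_smul, hl, hm, smul_smul] at hc
      have := H.eq_of_eq (a' := c * t) (b' := c) (h2 w hw) (Submodule.smul_mem _ c hw)
        (hc.trans (by module))
      rw [this.1, this.2.2, this.2.1]
      exact ⟨rfl, rfl⟩
    have h4 : ∀ w ∈ hypPerp Φ e f, a.fn w = m • w := fun w hw => by
      obtain ⟨t, ht⟩ := exists_sing_add H hw
      exact (h3 t w hw (by convert ht using 1; abel)).2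
    have h5 : ∀ c, a.s c = c := fun c => by
      obtain ⟨w, hw, -, hw0⟩ := hyp_exists_ne H (U := ⊤) trivial trivial (by simpa using hΦ.dim)
      have := h4 _ (Submodule.smul_mem _ c hw)
      rw [a.map_smul, h4 w hw, smul_comm m c] at this
      exact smul_left_injective F (smul_ne_zero hm0 hw0) this
    have h6 : l = m := by
      obtain ⟨z, -, hz, h7, h8⟩ := exists_third hΦ.disj_top hΦ.thick_top H trivial trivial
      obtain ⟨t, b, w, hw, rfl⟩ := H.exists_eq z
      rw [H.B_e _ _ hw] at h7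
      subst h7
      have := (h3 t w hw (by simpa using hz)).1
      rw [h5, mul_comm] at this
      refine mul_right_cancel₀ (fun h => h8 ?_) this
      simp [h, H.ff, (mem_hypPerp.1 hw).2]
    refine ⟨Units.mk0 m hm0, Subtype.ext (SemiSim.ext_fn H fun v => ?_)⟩
    obtain ⟨t, b, w, hw, rfl⟩ := H.exists_eq v
    rw [hsc, map_add, map_add, a.map_smul, a.map_smul, hl, hm, h4 w hw, h5, h5, h6, Units.val_mk0]
    module

theorem card_range_toAut (hΦ : Good Φ) : Nat.card Fˣ * Nat.card (toAut Φ).range =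
    Nat.card Φ.Isom * Nat.card (SemiSim.κHom Φ).range * Nat.card (SemiSim.sHom Φ).range := by
  rw [← SemiSim.card_eq, card_eq_card_ker_mul_card_range (toAut Φ), card_ker_toAut hΦ]

end H16
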