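import Mathlib
import Cfsg.Agent.H16.SemiSim

/-! Automorphisms of classical groups which preserve the point stabilisers: the point
correspondence and the coordinates on the unipotent radical. -/

set_option autoImplicit false
set_option linter.unusedSectionVars false

namespace H16

open Module H15 H7

variable {F : Type*} [Field F] {σ : F →+* F} {V : Type*} [AddCommGroup V] [Module F V]
  {Φ : Form σ V}

/-- `w` is the coordinate of the element `r` of the radical. -/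
def RW (Φ : Form σ V) (e f : V) (r : Φ.Isom) (w : V) : Prop :=
  r ∈ Rad Φ e ∧ w ∈ hypPerp Φ e f ∧ ∃ a : F, r.1 f = a • e + f + w

section RW

variable {e f : V} (H : HypPair Φ e f) {r r' : Φ.Isom} {w w' : V}
include H

theorem exists_RW_right (hr : r ∈ Rad Φ e) : ∃ w, RW Φ e f r w := by
  obtain ⟨a, b, w, hw, h⟩ := H.exists_eq (r.1 f)
  have := Rad_B hr f
  rw [h, H.B_e _ _ hw, H.ef] at this
  exact ⟨w, hr, hw, a, by simpa [this] using h⟩

theorem exists_RW_left [FiniteDimensional F V] (h : Φ.Nondeg) (hw : w ∈ hypPerp Φ e f) :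
    ∃ r, RW Φ e f r w := by
  obtain ⟨t, ht⟩ := exists_sing_add H hw
  obtain ⟨r, hr, h1⟩ := exists_Rad h H ht (by simp [H.ee, H.ef, (mem_hypPerp.1 hw).1])
  exact ⟨r, hr, hw, t, by rw [h1]; abel⟩

theorem eq_of_eq_one {a a' : F} (hw : w ∈ hypPerp Φ e f) (hw' : w' ∈ hypPerp Φ e f)
    (h : a • e + f + w = a' • e + f + w') : a = a' ∧ w = w' := by
  have := H.eq_of_eq (a := a) (b := 1) (a' := a') (b' := 1) hw hw' (by simpa using h)
  exact ⟨this.1, this.2.2⟩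

theorem RW.unique (h : RW Φ e f r w) (h' : RW Φ e f r w') : w = w' := by
  obtain ⟨-, hw, a, ha⟩ := h
  obtain ⟨-, hw', a', ha'⟩ := h'
  exact (eq_of_eq_one H hw hw' (ha.symm.trans ha')).2

theorem RW.apply (h : RW Φ e f r w) {x : V} (hx : Φ.B e x = 0) :
    r.1 x = x - (Φ.B w x / Φ.ε) • e := by
  obtain ⟨hr, -, a, ha⟩ := h
  rw [Rad_apply hr H.ef hx, ha, add_assoc, add_comm f, ← add_assoc, add_sub_cancel_right]
  simp [hx]

theorem RW.mul (h : RW Φ e f r w) (h' : RW Φ e f r' w') : RW Φ e f (r * r') (w + w') := by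
  have h1 := h.apply H (mem_hypPerp.1 h'.2.1).1
  obtain ⟨hr, hw, a, ha⟩ := h
  obtain ⟨hr', hw', a', ha'⟩ := h'
  refine ⟨mul_mem hr hr', add_mem hw hw', a + a' - Φ.B w w' / Φ.ε, ?_⟩
  rw [Form.Isom.mul_apply, ha', map_add, map_add, map_smul, (mem_Rad.1 hr).1, ha, h1]
  module

omit H in
theorem RW.one : RW Φ e f 1 0 := ⟨one_mem _, zero_mem _, 0, by simp⟩

theorem RW.inv (h : RW Φ e f r w) : RW Φ e f r⁻¹ (-w) := by
  obtain ⟨w', h'⟩ := exists_RW_right H (inv_mem h.1)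
  have := (h.mul H h').unique H (by simpa using RW.one)
  rwa [neg_eq_of_add_eq_zero_right this]

theorem RW.conj [FiniteDimensional F V] (h : RW Φ e f r w) {l : Φ.Isom} {c μ : F}
    (h1 : l.1 e = c • e) (h2 : l.1 f = μ • f) : RW Φ e f (l * r * l⁻¹) (μ⁻¹ • l.1 w) := by
  obtain ⟨hr, hw, a, ha⟩ := h
  have hc := smul_ne_zero_of H.e_ne_zero h1
  have hμ := smul_ne_zero_of H.f_ne_zero h2
  refine ⟨?_, Submodule.smul_mem _ _ (HypPair.map_mem_perp l hc hμ h1 h2 hw), μ⁻¹ * a * c, ?_⟩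
  · have := conj_mem_Rad hr l
    rwa [h1, Rad_smul hc] at this
  · have : (l⁻¹).1 f = μ⁻¹ • f := by rw [Form.Isom.inv_apply_eq, map_smul, h2, inv_smul_smul₀ hμ]
    rw [Form.Isom.mul_apply, Form.Isom.mul_apply, this, map_smul, ha, map_smul, map_add, map_add,
      map_smul, h1, h2, smul_add, smul_add, inv_smul_smul₀ hμ, smul_smul, smul_smul]

theorem RW.comm_of_zero (h : RW Φ e f r 0) {x : Φ.Isom} (hx : x.1 e = e) : x * r * x⁻¹ = r := by
  have h1 : ∀ v, Φ.B e v = 0 → r.1 v = v := fun v hv => by simpa using h.apply H hv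
  obtain ⟨hr, -, a, ha⟩ := h
  have h2 : ∀ v, r.1 v = v + (a * Φ.B e v) • e := fun v => by
    have := h1 (v - Φ.B e v • f) (by simp [H.ef])
    rw [map_sub, map_smul, ha] at this
    linear_combination (norm := module) this
  exact Form.Isom.ext fun v => by rw [Φ.conj_dil_apply x r h2, hx, h2]

theorem RW.B_comm (h : RW Φ e f r w) (h' : RW Φ e f r' w') (hc : r * r' = r' * r) :
    Φ.B w w' = Φ.B w' w := by
  have h1 := h.apply H (mem_hypPerp.1 h'.2.1).1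
  have h2 := h'.apply H (mem_hypPerp.1 h.2.1).1
  obtain ⟨hr, hw, a, ha⟩ := h
  obtain ⟨hr', hw', a', ha'⟩ := h'
  have h3 := congrArg (fun g : Φ.Isom => g.1 f) hc
  simp only [Form.Isom.mul_apply, ha, ha', map_add, map_smul, (mem_Rad.1 hr).1, (mem_Rad.1 hr').1,
    h1, h2] at h3
  have h4 : (Φ.B w w' / Φ.ε) • e = (Φ.B w' w / Φ.ε) • e := by
    linear_combination (norm := module) -h3
  exact (div_left_inj' Φ.eps_ne_zero).1 (smul_left_injective F H.e_ne_zero h4)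

theorem Rad_eq_one (hr : r ∈ Rad Φ e) {c : F} (h : r.1 f = c • f) : r = 1 := by
  have := Rad_B hr f
  rw [h, map_smul, H.ef, smul_eq_mul, mul_one] at this
  exact Rad_ext hr (one_mem _) H.ef (by simp [h, this])

end RW

variable [FiniteDimensional F V]

theorem Good.exists_sing_perp (hΦ : Good Φ) {e f : V} (H : HypPair Φ e f) (h : finrank F V ≠ 3) :
    ∃ u v, u ∈ hypPerp Φ e f ∧ v ∈ hypPerp Φ e f ∧ HypPair Φ u v := by
  have h4 := H.finrank_perp hΦ.nd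
  obtain ⟨u, hu, hu0, hus⟩ := hΦ.sing (hypPerp Φ e f) (by
    have := hΦ.dim
    rcases hΦ.thick with h | h
    · exact Or.inr ⟨h, by omega⟩
    · left; omega)
  obtain ⟨v, hv, h6, h7, h8⟩ := Φ.exists_hyp_partner_mem (hΦ.disj_perp H) hu hu0 hus.1 hus.2
  exact ⟨u, v, hu, hv, hus.1, h7, h6, hus.2, h8⟩

theorem Good.exists_smul_three (hΦ : Good Φ) {e f : V} (H : HypPair Φ e f) (h : finrank F V = 3)
    {w x : V} (hw : w ∈ hypPerp Φ e f) (hw0 : w ≠ 0) (hx : x ∈ hypPerp Φ e f) :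
    ∃ c : F, c • w = x := by
  have h4 := H.finrank_perp hΦ.nd
  rw [← Submodule.eq_of_le_of_finrank_le ((Submodule.span_singleton_le_iff_mem _ _).2 hw)
    (by rw [finrank_span_singleton hw0]; omega)] at hx
  exact Submodule.mem_span_singleton.1 hx

theorem e_mem_perp {e f : V} : e ∈ Φ.perp (hypPerp Φ e f) := fun _ hy =>
  Φ.B_eq_zero_comm.1 (mem_hypPerp.1 hy).1

theorem f_mem_perp {e f : V} : f ∈ Φ.perp (hypPerp Φ e f) := fun _ hy =>
  Φ.B_eq_zero_comm.1 (mem_hypPerp.1 hy).2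

theorem Good.span_of_fixed (hΦ : Good Φ) {e f : V} (H : HypPair Φ e f) {z x : V} (hz : Sing Φ z)
    (hz0 : z ≠ 0) (hzW : z ∈ hypPerp Φ e f) (hx : x ∈ hypPerp Φ e f)
    (h : ∀ r ∈ Rad Φ z, r.1 e = e → r.1 f = f → r.1 x = x) : ∃ c : F, x = c • z :=
  mem_span_of_fixed hΦ.nd (hΦ.disj_perp H) (hΦ.thick_perp H) hz hz0 hzW hx fun r hr h1 =>
    h r hr (h1 e e_mem_perp) (h1 f f_mem_perp)

theorem Good.exists_Rad_fix (hΦ : Good Φ) {x y : V} (hx : Sing Φ x) (hx0 : x ≠ 0)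
    (h : Φ.B x y = 0) : ∃ r ∈ Rad Φ x, r ≠ 1 ∧ r.1 y = y := by
  obtain ⟨f, H⟩ := hx.exists_hypPair hΦ.nd hx0
  rcases hΦ.thick with ⟨hτ, c, hc0, hc⟩ | h5
  · obtain ⟨r, hr, h1⟩ := exists_Rad hΦ.nd H (sing_add_smul H hτ hc) (by simp [H.ee, H.ef])
    refine ⟨r, hr, ?_, Rad_fix hr H.ef h (by simp [h1, h])⟩
    rintro rfl
    simp [hc0, hx0] at h1
  · have h1 := Φ.finrank_inf_perp_singleton (hypPerp Φ x f) y
    have h2 := H.finrank_perp hΦ.nd
    obtain ⟨w, ⟨hw, hwy⟩, hw0⟩ := Submodule.exists_mem_ne_zero_of_ne_bot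
      (p := hypPerp Φ x f ⊓ Φ.perp (Submodule.span F {y})) fun h3 => by
        rw [h3, finrank_bot] at h1; omega
    obtain ⟨r, hr⟩ := exists_RW_left H hΦ.nd hw
    refine ⟨r, hr.1, ?_, ?_⟩
    · rintro rfl
      exact hw0 (hr.unique H RW.one)
    · rw [hr.apply H h, Φ.B_eq_zero_comm.1 (Φ.mem_perp_singleton.1 hwy)]; simp

theorem exists_ne_eps_sigma (hσ : σ ≠ RingHom.id F) (ε : F) : ∃ b, b ≠ ε * σ b := by
  by_contra hc
  push Not at hc
  have h1 := hc 1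
  rw [map_one, mul_one] at h1
  exact hσ (RingHom.ext fun b => by simpa [← h1] using (hc b).symm)

variable [Finite F] (p : ℕ) [Fact p.Prime] [CharP F p]

theorem Good.Rad_PE' (hΦ : Good Φ) {e : V} (he : Sing Φ e) {r : EG Φ} (hr : r.1 ∈ Rad Φ e) :
    PE p r := PE.of_mem (hΦ.isPGroup_Rad p he) hr

theorem fix_of_PE {x : V} {g : EG Φ} (hg : PE p g) (h : g ∈ Pt Φ x) : g.1.1 x = x := by
  obtain ⟨c, hc⟩ := mem_Pt.1 h
  exact eq_of_PE p ((hg.map (EG Φ).subtype).map Φ.Isom.subtype) hc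

theorem Good.zero_of_comm (hΦ : Good Φ) (h3 : finrank F V = 3 → σ ≠ RingHom.id F) {e f : V}
    (H : HypPair Φ e f) {r : EG Φ} {w : V} (h : RW Φ e f r.1 w)
    (hc : ∀ x : EG Φ, PE p x → x ∈ Pt Φ e → x * r * x⁻¹ = r) : w = 0 := by
  by_contra hw0
  by_cases hd : finrank F V = 3
  · obtain ⟨b, hb⟩ := exists_ne_eps_sigma (h3 hd) Φ.ε
    obtain ⟨y, hy, -, h1⟩ := hyp_nondeg H hΦ.disj_top trivial trivial h.2.1 trivial hw0
    obtain ⟨x, hx⟩ := exists_RW_left H hΦ.nd (Submodule.smul_mem _ (b / Φ.B w y) hy)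
    have h2 := hc ⟨x, Rad_le_EG H.sing_e hx.1⟩ (hΦ.Rad_PE' p H.sing_e hx.1) (mem_Pt_of_Rad hx.1)
    have h4 := h.B_comm H hx (congrArg Subtype.val (mul_inv_eq_iff_eq_mul.1 h2)).symm
    rw [Φ.symm w, map_smul, smul_eq_mul, div_mul_cancel₀ _ h1] at h4
    exact hb h4
  · have key : ∀ z, Sing Φ z → z ≠ 0 → z ∈ hypPerp Φ e f → ∃ c : F, w = c • z :=
      fun z hz hz0 hzW => hΦ.span_of_fixed H hz hz0 hzW h.2.1 fun x hx h1 h2 => by
        have h4 := hc ⟨x, Rad_le_EG hz hx⟩ (hΦ.Rad_PE' p hz hx) (mem_Pt.2 ⟨1, by simpa using h1⟩)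
        have h5 := h.conj H (l := x) (c := 1) (μ := 1) (by simpa using h1) (by simpa using h2)
        rw [show x * r.1 * x⁻¹ = r.1 from congrArg Subtype.val h4] at h5
        simpa using h5.unique H h
    obtain ⟨u, v, hu, hv, H'⟩ := hΦ.exists_sing_perp H hd
    obtain ⟨c, hc⟩ := key u H'.sing_e H'.e_ne_zero hu
    obtain ⟨d, hd⟩ := key v H'.sing_f H'.f_ne_zero hv
    have := congrArg (Φ.B u) (hc.symm.trans hd)
    simp only [map_smul, H'.ee, H'.ef, smul_eq_mul, mul_zero, mul_one] at this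
    exact hw0 (by rw [hd, ← this, zero_smul])

/-- The points spanned by `x` and `x'` correspond under `α`. -/
structure PtC (α : MulAut (EG Φ ⧸ Subgroup.center (EG Φ))) (x x' : V) : Prop where
  s : Sing Φ x
  ne : x ≠ 0
  s' : Sing Φ x'
  ne' : x' ≠ 0
  iff : ∀ g g', Cor α g g' → (g ∈ Pt Φ x ↔ g' ∈ Pt Φ x')

variable {α β : MulAut (EG Φ ⧸ Subgroup.center (EG Φ))} {x x' y y' : V}

theorem ptC_toAut (hΦ : Good Φ) (a : SemiSim Φ) (hx : Sing Φ x) (hx0 : x ≠ 0) :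
    PtC (toAut Φ a) x (a.fn x) := by
  refine ⟨hx, hx0, a.sing hx, by simpa using hx0, fun g g' h => ?_⟩
  have h1 : Subgroup.center (EG Φ) ≤ Pt Φ (a.fn x) := hΦ.center_le_St _
  rw [← (Pt Φ (a.fn x)).mul_mem_cancel_right (h1 (h.mem_center (cor_toAut a g))),
    mul_inv_cancel_left, mem_Pt, mem_Pt, SemiSim.conjE_apply, AddEquiv.symm_apply_apply]
  constructor
  · rintro ⟨c, hc⟩
    exact ⟨a.s c, by rw [hc, a.map_smul]⟩
  · rintro ⟨c, hc⟩
    exact ⟨a.s.symm c, a.fn.injective (by simp [hc, a.map_smul])⟩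

namespace PtC

theorem symm (h : PtC α x x') : PtC α⁻¹ x' x :=
  ⟨h.s', h.ne', h.s, h.ne, fun g g' hg => (h.iff g' g (Cor.inv_iff.1 hg)).symm⟩

theorem trans (h : PtC α x x') (h' : PtC β x' y) : PtC (β * α) x y :=
  ⟨h.s, h.ne, h'.s', h'.ne', fun g g' hg => by
    obtain ⟨k, hk⟩ := Cor.exists_right α g
    refine (h.iff g k hk).trans (h'.iff k g' ?_)
    simpa using (Cor.inv_iff.2 hk).comp hg⟩

theorem map (h : PtC α x x') {g g' : EG Φ} (hg : Cor α g g') : PtC α (g.1.1 x) (g'.1.1 x') :=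
  ⟨h.s.map _, by simpa using h.ne, h.s'.map _, by simpa using h.ne', fun k k' hk => by
    rw [← conj_mem_Pt, ← conj_mem_Pt]
    exact h.iff _ _ ((hg.inv.mul hk).mul hg)⟩

theorem of_smul {c d : F} (h : PtC α (c • x) (d • x')) : PtC α x x' := by
  have hc := left_ne_zero_of_smul h.ne
  have hd := left_ne_zero_of_smul h.ne'
  exact ⟨by simpa [hc] using h.s.smul c⁻¹, right_ne_zero_of_smul h.ne,
    by simpa [hd] using h.s'.smul d⁻¹, right_ne_zero_of_smul h.ne',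
    by simpa only [Pt_smul hc, Pt_smul hd] using h.iff⟩

theorem total (hΦ : Good Φ) (h : PtC α x x') (hy : Sing Φ y) (hy0 : y ≠ 0) : ∃ y', PtC α y y' := by
  obtain ⟨g, c, -, hg⟩ := hΦ.trans h.s hy h.ne hy0
  obtain ⟨g', hg'⟩ := Cor.exists_right α g
  have := h.map hg'
  rw [hg, ← one_smul F (g'.1.1 x')] at this
  exact ⟨_, this.of_smul⟩

include p

theorem rad (hΦ : Good Φ) (h : PtC α x x') {r r' : EG Φ} (hr : Cor α r r') (h1 : PE p r')
    (h2 : r.1 ∈ Rad Φ x) : r'.1 ∈ Rad Φ x' := by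
  obtain ⟨N, hN, hN'⟩ := exists_liftP α (hΦ.isPGroup_Rad p h.s)
  refine hΦ.mem_Rad_of_normal p h.s' h.ne' hN (fun n hn => ?_) (fun g hg n hn => ?_) r'
    ((hN' _).2 ⟨h1, r, h2, hr⟩)
  · obtain ⟨-, m, h3, h4⟩ := (hN' n).1 hn
    exact (h.iff _ _ h4).1 (mem_Pt_of_Rad h3)
  · obtain ⟨h3, m, h4, h5⟩ := (hN' n).1 hn
    obtain ⟨k, hk⟩ := Cor.exists_left α g
    exact (hN' _).2 ⟨h3.conj g, _, conj_mem_Rad_of_Pt h.ne ((h.iff _ _ hk).2 hg) h4, hk.conj h5⟩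

theorem exists_rad (hΦ : Good Φ) (h : PtC α x x') {r : EG Φ} (hr : r.1 ∈ Rad Φ x) :
    ∃ r' : EG Φ, r'.1 ∈ Rad Φ x' ∧ Cor α r r' := by
  obtain ⟨r', h1, h2⟩ := Cor.exists_PE (α := α) (hΦ.center_PE p) (hΦ.Rad_PE' p h.s hr)
  exact ⟨r', h.rad p hΦ h1 h2 hr, h1⟩

theorem unique (hΦ : Good Φ) (h : PtC α x x') (h' : PtC α x y') : ∃ c : F, y' = c • x' :=
  hΦ.fixed h.s' h.ne' fun r hr => by
    obtain ⟨k, hk⟩ := Cor.exists_left α ⟨r, Rad_le_EG h.s' hr⟩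
    exact fix_of_PE p (hΦ.Rad_PE' p h.s' hr) ((h'.iff _ _ hk).1 ((h.iff _ _ hk).2 (mem_Pt_of_Rad hr)))

theorem perp (hΦ : Good Φ) (h : PtC α x x') (h' : PtC α y y') (hB : Φ.B x y = 0) :
    Φ.B x' y' = 0 := by
  by_contra hc
  obtain ⟨r, hr, h1, h2⟩ := hΦ.exists_Rad_fix h.s h.ne hB
  obtain ⟨r', h3, h4⟩ := h.exists_rad p hΦ (r := ⟨r, Rad_le_EG h.s hr⟩) hr
  obtain ⟨c, h5⟩ := mem_Pt.1 ((h'.iff _ _ h4).1 (mem_Pt.2 ⟨1, by simpa using h2⟩))
  have h6 := Rad_eq_one (hypPair_of_ne h.s' h'.s' hc) h3 (c := c) (by rw [map_smul, h5, smul_comm])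
  have h7 : r' = 1 := Subtype.ext h6
  exact h1 (congrArg Subtype.val (hΦ.center_PE p _ (h4.center_iff.2 (h7 ▸ one_mem _))
    (hΦ.Rad_PE' p h.s hr)))

theorem exists_norm (hΦ : Good Φ) (h : PtC α x x') {e f : V} (H : HypPair Φ e f) :
    ∃ a : SemiSim Φ, PtC (toAut Φ a * α) e e ∧ PtC (toAut Φ a * α) f f := by
  obtain ⟨e', he⟩ := h.total hΦ H.sing_e H.e_ne_zero
  obtain ⟨f', hf⟩ := h.total hΦ H.sing_f H.f_ne_zero
  have h1 : Φ.B e' f' ≠ 0 := fun h1 => by simpa [H.ef] using he.symm.perp p hΦ hf.symm h1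
  obtain ⟨g, c, hc, hg⟩ := hΦ.trans he.s' H.sing_e he.ne' H.e_ne_zero
  obtain ⟨r, hr, ⟨d, -, hd⟩, -⟩ := exists_Rad' hΦ.nd H.sing_e (hf.s'.map g.1) H.sing_f
    (fun h2 => h1 (by rw [← Form.Isom.map_B g.1, hg]; simp [h2])) (by simp [H.ef])
  refine ⟨SemiSim.ofIsom Φ (r * g.1), of_smul (c := 1) (d := c) ?_, of_smul (c := 1) (d := d) ?_⟩
  · simpa only [SemiSim.ofIsom_fn, hg, (mem_Rad.1 hr).1, Form.Isom.mul_apply, map_smul, one_smul]
      using he.trans (ptC_toAut hΦ (SemiSim.ofIsom Φ (r * g.1)) he.s' he.ne')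
  · simpa only [SemiSim.ofIsom_fn, hd, Form.Isom.mul_apply, one_smul] using
      hf.trans (ptC_toAut hΦ (SemiSim.ofIsom Φ (r * g.1)) hf.s' hf.ne')

end PtC

end H16
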