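import Mathlib
import Cfsg.Agent.H16.PolarAut

/-! Automorphisms of classical groups which preserve the point stabilisers are induced by
semilinear similarities. -/

set_option autoImplicit false
set_option linter.unusedSectionVars false

namespace H16

open Module H15 H7

variable {F : Type*} [Field F] {σ : F →+* F} {V : Type*} [AddCommGroup V] [Module F V]
  {Φ : Form σ V} [FiniteDimensional F V] [Finite F]

theorem exists_semiSim (h : Φ.Nondeg) {e f : V} (H : HypPair Φ e f) (s : F ≃+* F)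
    (hε : s Φ.ε = Φ.ε) (hτ : s Φ.τ = Φ.τ) (hσ : ∀ c, σ (s c) = s (σ c)) (θ : V → V)
    (hW : ∀ w ∈ hypPerp Φ e f, θ w ∈ hypPerp Φ e f)
    (hadd : ∀ x ∈ hypPerp Φ e f, ∀ y ∈ hypPerp Φ e f, θ (x + y) = θ x + θ y)
    (hsmul : ∀ (c : F), ∀ x ∈ hypPerp Φ e f, θ (c • x) = s c • θ x) {κ : F} (hκ0 : κ ≠ 0)
    (hκ : σ κ = κ) (hB : ∀ x ∈ hypPerp Φ e f, ∀ y ∈ hypPerp Φ e f,
      Φ.B (θ x) (θ y) = κ * s (Φ.B x y)) (hQ : ∀ x ∈ hypPerp Φ e f, Φ.Q (θ x) = κ * s (Φ.Q x)) :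
    ∃ a : SemiSim Φ, a.s = s ∧ a.κ = κ ∧ a.fn e = κ • e ∧ a.fn f = f ∧
      ∀ w ∈ hypPerp Φ e f, a.fn w = θ w := by
  have : Finite V := Module.finite_of_finite F
  let Θ : V → V := fun v => (κ * s (Φ.B f v / Φ.ε)) • e + s (Φ.B e v) • f +
    θ (v - (Φ.B f v / Φ.ε) • e - Φ.B e v • f)
  have hΘ : ∀ (a b : F), ∀ w ∈ hypPerp Φ e f,
      Θ (a • e + b • f + w) = (κ * s a) • e + s b • f + θ w := fun a b w hw => by
    have h1 : Φ.B f (a • e + b • f + w) / Φ.ε = a := by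
      simp [H.fe, H.ff, (mem_hypPerp.1 hw).2, Φ.eps_ne_zero]
    simp only [Θ, h1, H.B_e _ _ hw]
    congr 2
    abel
  have h0 : θ 0 = 0 := by simpa using hsmul 0 0 (zero_mem _)
  have h1 : ∀ u v, Θ (u + v) = Θ u + Θ v := fun u v => by
    obtain ⟨a, b, w, hw, rfl⟩ := H.exists_eq u
    obtain ⟨a', b', w', hw', rfl⟩ := H.exists_eq v
    rw [hΘ _ _ _ hw, hΘ _ _ _ hw', show a • e + b • f + w + (a' • e + b' • f + w') =
      (a + a') • e + (b + b') • f + (w + w') by module, hΘ _ _ _ (add_mem hw hw'), hadd _ hw _ hw',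
      map_add, map_add]
    module
  have h2 : ∀ u v, Φ.B (Θ u) (Θ v) = κ * s (Φ.B u v) := fun u v => by
    obtain ⟨a, b, w, hw, rfl⟩ := H.exists_eq u
    obtain ⟨a', b', w', hw', rfl⟩ := H.exists_eq v
    rw [hΘ _ _ _ hw, hΘ _ _ _ hw', hyp_B H _ _ _ _ (hW _ hw) (hW _ hw'), hyp_B H _ _ _ _ hw hw',
      hB _ hw _ hw']
    simp only [map_add, map_mul, hσ, hκ, hε]
    ring
  let Θ' : V →+ V := AddMonoidHom.mk' Θ h1
  have h3 : Function.Injective Θ' := (injective_iff_map_eq_zero _).2 fun v hv => h v fun y => by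
    have := h2 v y
    rw [show Θ v = 0 from hv] at this
    simpa [hκ0] using this.symm
  refine ⟨⟨AddEquiv.ofBijective Θ' (Finite.injective_iff_bijective.1 h3), s, Units.mk0 κ hκ0,
    fun c v => ?_, h2, fun v => ?_⟩, rfl, rfl, ?_, ?_, fun w hw => ?_⟩
  · obtain ⟨a, b, w, hw, rfl⟩ := H.exists_eq v
    change Θ _ = _ • Θ _
    rw [hΘ _ _ _ hw, show c • (a • e + b • f + w) = (c * a) • e + (c * b) • f + c • w by module,
      hΘ _ _ _ (Submodule.smul_mem _ c hw), hsmul _ _ hw, map_mul, map_mul]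
    module
  · obtain ⟨a, b, w, hw, rfl⟩ := H.exists_eq v
    change Φ.Q (Θ _) = κ * _
    rw [hΘ _ _ _ hw, H.Q_eq _ _ (hW _ hw), H.Q_eq _ _ hw, hQ _ hw]
    simp only [map_add, map_mul, hσ, hκ, hτ]
    ring
  · exact show Θ e = _ by simpa [h0] using hΘ 1 0 0 (zero_mem _)
  · exact show Θ f = _ by simpa [h0] using hΘ 0 1 0 (zero_mem _)
  · exact show Θ w = _ by simpa using hΘ 0 0 w hw

/-- The normalised situation. -/
structure Nrm (α : MulAut (EG Φ ⧸ Subgroup.center (EG Φ))) (e f : V) : Prop where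
  good : Good Φ
  h3 : finrank F V = 3 → σ ≠ RingHom.id F
  H : HypPair Φ e f
  pe : PtC α e e
  pf : PtC α f f

/-- The correspondence on the complement of the hyperbolic plane. -/
def TW (α : MulAut (EG Φ ⧸ Subgroup.center (EG Φ))) (e f w w' : V) : Prop :=
  ∃ r r' : EG Φ, RW Φ e f r.1 w ∧ RW Φ e f r'.1 w' ∧ Cor α r r'

variable (Φ) in
/-- The stabiliser of a hyperbolic pair induces enough scalars. -/
def Tor : Prop := ∀ e f u, HypPair Φ e f → u ∈ hypPerp Φ e f → u ≠ 0 →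
  (Sing Φ u ∨ finrank F V = 3) → AddSubgroup.closure
    {m : F | ∃ (l : EG Φ) (μ : F), l ∈ Pt Φ e ∧ l.1.1 f = μ • f ∧ l.1.1 u = (μ * m) • u} = ⊤

variable {α : MulAut (EG Φ ⧸ Subgroup.center (EG Φ))} {e f w w' x x' : V}

theorem TW.mem (h : TW α e f w w') : w ∈ hypPerp Φ e f := h.choose_spec.choose_spec.1.2.1

theorem TW.mem' (h : TW α e f w w') : w' ∈ hypPerp Φ e f := h.choose_spec.choose_spec.2.1.2.1

theorem TW.symm (h : TW α e f w w') : TW α⁻¹ e f w' w := by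
  obtain ⟨r, r', h1, h2, h3⟩ := h
  exact ⟨r', r, h2, h1, Cor.inv_iff.2 h3⟩

namespace Nrm

variable (N : Nrm α e f)
include N

theorem symm : Nrm α⁻¹ e f := ⟨N.good, N.h3, N.H, N.pe.symm, N.pf.symm⟩

theorem add (h : TW α e f w w') (h' : TW α e f x x') : TW α e f (w + x) (w' + x') := by
  obtain ⟨r, r', h1, h2, h3⟩ := h
  obtain ⟨k, k', h4, h5, h6⟩ := h'
  exact ⟨r * k, r' * k', h1.mul N.H h4, h2.mul N.H h5, h3.mul h6⟩

theorem neg (h : TW α e f w w') : TW α e f (-w) (-w') := by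
  obtain ⟨r, r', h1, h2, h3⟩ := h
  exact ⟨r⁻¹, r'⁻¹, h1.inv N.H, h2.inv N.H, h3.inv⟩

theorem conj (h : TW α e f w w') {l l' : EG Φ} (hl : Cor α l l') (h1 : l ∈ Pt Φ e) {μ μ' : F}
    (h2 : l.1.1 f = μ • f) (h3 : l'.1.1 f = μ' • f) :
    TW α e f (μ⁻¹ • l.1.1 w) (μ'⁻¹ • l'.1.1 w') := by
  obtain ⟨r, r', h4, h5, h6⟩ := h
  obtain ⟨c, hc⟩ := mem_Pt.1 h1
  obtain ⟨c', hc'⟩ := mem_Pt.1 ((N.pe.iff _ _ hl).1 h1)
  exact ⟨_, _, h4.conj N.H hc h2, h5.conj N.H hc' h3, hl.conj h6⟩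

theorem exists_L {l : EG Φ} {μ : F} (h2 : l.1.1 f = μ • f) :
    ∃ (l' : EG Φ) (μ' : F), Cor α l l' ∧ l'.1.1 f = μ' • f := by
  obtain ⟨l', hl⟩ := Cor.exists_right α l
  obtain ⟨μ', h⟩ := mem_Pt.1 ((N.pf.iff _ _ hl).1 (mem_Pt.2 ⟨μ, h2⟩))
  exact ⟨l', μ', hl, h⟩

variable (p : ℕ) [Fact p.Prime] [CharP F p]
include p

theorem zero (h : TW α e f 0 w') : w' = 0 := by
  obtain ⟨r, r', h1, h2, h3⟩ := h
  refine N.good.zero_of_comm p N.h3 N.H h2 fun x' hx hx' => ?_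
  obtain ⟨x, h4, h5⟩ := Cor.exists_PE (α := α.symm) (N.good.center_PE p) hx
  have h6 : x * r * x⁻¹ = r :=
    Subtype.ext (h1.comm_of_zero N.H (fix_of_PE p h5 ((N.pe.iff _ _ h4.symm).2 hx')))
  have h7 := N.good.Rad_PE' p N.H.sing_e h2.1
  exact (h6 ▸ h4.of_symm.conj h3).unique (N.good.center_PE p) h3 (h7.conj x') h7

theorem unique (h : TW α e f w w') (h' : TW α e f w x') : w' = x' :=
  add_neg_eq_zero.1 (N.zero p (by simpa using N.add h (N.neg h')))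

theorem exists_right (hw : w ∈ hypPerp Φ e f) : ∃ w', TW α e f w w' := by
  obtain ⟨r, hr⟩ := exists_RW_left N.H N.good.nd hw
  obtain ⟨r', h1, h2⟩ := N.pe.exists_rad p N.good (r := ⟨r, Rad_le_EG N.H.sing_e hr.1⟩) hr.1
  obtain ⟨w', h3⟩ := exists_RW_right N.H h1
  exact ⟨w', _, r', hr, h3, h2⟩

theorem mem_of_ptC (h : PtC α x x') (hx : x ∈ hypPerp Φ e f) : x' ∈ hypPerp Φ e f :=
  mem_hypPerp.2 ⟨N.pe.perp p N.good h (mem_hypPerp.1 hx).1, N.pf.perp p N.good h (mem_hypPerp.1 hx).2⟩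

theorem line (h : PtC α x x') (hx : x ∈ hypPerp Φ e f) {c : F} (hw : TW α e f (c • x) w') :
    ∃ d : F, w' = d • x' :=
  N.good.span_of_fixed N.H h.s' h.ne' (N.mem_of_ptC p h hx) hw.mem' fun r' hr' h1 h2 => by
    obtain ⟨r, h3, h4⟩ := h.symm.exists_rad p N.good (r := ⟨r', Rad_le_EG h.s' hr'⟩) hr'
    have h5 := Cor.inv_iff.1 h4
    have h6 := fix_of_PE p (N.good.Rad_PE' p h.s h3)
      ((N.pf.iff _ _ h5).2 (mem_Pt.2 ⟨1, by simpa using h2⟩))
    have h7 := N.conj hw h5 ((N.pe.iff _ _ h5).2 (mem_Pt.2 ⟨1, by simpa using h1⟩)) (μ := 1)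
      (μ' := 1) (by simpa using h6) (by simpa using h2)
    simp only [inv_one, one_smul, map_smul, (mem_Rad.1 h3).1] at h7
    exact N.unique p h7 hw

theorem ptC (hx : Sing Φ x) (hx0 : x ≠ 0) (h : TW α e f x x') : PtC α x x' := by
  obtain ⟨y, hy⟩ := N.pe.total N.good hx hx0
  obtain ⟨d, rfl⟩ := N.line p hy h.mem (c := 1) (by simpa using h)
  have hd : d ≠ 0 := by
    rintro rfl
    exact hx0 (N.symm.zero p (by simpa using h.symm))
  exact PtC.of_smul (c := 1) (d := d⁻¹) (by simpa [hd] using hy)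

theorem perp (hx : Sing Φ x) (hx0 : x ≠ 0) (h : TW α e f x x') (h' : TW α e f w w')
    (hB : Φ.B x w = 0) : Φ.B x' w' = 0 := by
  obtain ⟨r, r', ⟨-, -, a, ha⟩, ⟨-, -, a', ha'⟩, h3⟩ := h'
  have h1 := mem_hypPerp.1 h.mem
  have h2 := mem_hypPerp.1 h.mem'
  have := (N.ptC p hx hx0 h).perp p N.good (N.pf.map h3) (by
    simp [ha, hB, Φ.B_eq_zero_comm.1 h1.1, Φ.B_eq_zero_comm.1 h1.2])
  simpa [ha', Φ.B_eq_zero_comm.1 h2.1, Φ.B_eq_zero_comm.1 h2.2] using this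

theorem exists_semilin (hT : Tor Φ) : ∃ (θ : V → V) (s : F ≃+* F),
    (∀ w ∈ hypPerp Φ e f, TW α e f w (θ w)) ∧
      ∀ (c : F), ∀ w ∈ hypPerp Φ e f, θ (c • w) = s c • θ w := by
  choose! θ hθ using fun w (hw : w ∈ hypPerp Φ e f) => N.exists_right p hw
  have hadd : ∀ x ∈ hypPerp Φ e f, ∀ y ∈ hypPerp Φ e f, θ (x + y) = θ x + θ y := fun x hx y hy =>
    N.unique p (hθ _ (add_mem hx hy)) (N.add (hθ _ hx) (hθ _ hy))
  have hinj : ∀ x ∈ hypPerp Φ e f, θ x = 0 → x = 0 := fun x hx h =>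
    N.symm.zero p (h ▸ (hθ x hx).symm)
  let A : (V →ₗ[F] V) → (V →ₗ[F] V) → Prop := fun a a' => ∃ (l l' : EG Φ) (μ μ' : F),
    Cor α l l' ∧ l ∈ Pt Φ e ∧ l.1.1 f = μ • f ∧ l'.1.1 f = μ' • f ∧
      a = μ⁻¹ • (l.1.1 : V →ₗ[F] V) ∧ a' = μ'⁻¹ • (l'.1.1 : V →ₗ[F] V)
  have hA : ∀ a a', A a a' → ∀ x ∈ hypPerp Φ e f, θ (a x) = a' (θ x) := by
    rintro _ _ ⟨l, l', μ, μ', h1, h2, h3, h4, rfl, rfl⟩ x hx
    have := N.conj (hθ x hx) h1 h2 h3 h4
    exact N.unique p (hθ _ this.mem) this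
  have h3 : ∀ u ∈ hypPerp Φ e f, u ≠ 0 → (Sing Φ u ∨ finrank F V = 3) →
      AddSubgroup.closure {m : F | ∃ a a', A a a' ∧ a u = m • u} = ⊤ := fun u hu hu0 h =>
    eq_top_iff.2 ((hT e f u N.H hu hu0 h).ge.trans (AddSubgroup.closure_mono (by
      rintro m ⟨l, μ, h1, h2, h3⟩
      obtain ⟨l', μ', h4, h5⟩ := N.exists_L h2
      exact ⟨_, _, ⟨l, l', μ, μ', h4, h1, h2, h5, rfl, rfl⟩, by
        simp [h3, smul_smul, smul_ne_zero_of N.H.f_ne_zero h2]⟩)))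
  suffices ∃ s : F ≃+* F, ∀ (c : F), ∀ w ∈ hypPerp Φ e f, θ (c • w) = s c • θ w from
    this.elim fun s hs => ⟨θ, s, hθ, hs⟩
  by_cases hd : finrank F V = 3
  · obtain ⟨u, hu, -, hu0⟩ := hyp_exists_ne N.H (U := ⊤) trivial trivial (by simpa using N.good.dim)
    refine exists_semilinear _ θ hadd hinj A hA (hypPerp Φ e f) (fun _ h => h)
      (fun w hw => AddSubgroup.subset_closure hw) hu hu0 (fun c => ?_) (fun v hv => ?_)
      (h3 u hu hu0 (Or.inr hd))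
    · obtain ⟨d, hd⟩ := N.good.exists_smul_three N.H hd (hθ u hu).mem'
        (fun h => hu0 (hinj u hu h)) (hθ _ (Submodule.smul_mem _ c hu)).mem'
      exact ⟨d, hd.symm⟩
    · obtain ⟨d, hd⟩ := N.good.exists_smul_three N.H hd hu hu0 hv
      exact ⟨_, _, ⟨1, 1, 1, 1, .one, one_mem _, by simp, by simp, rfl, rfl⟩, d, by simp [hd]⟩
  · obtain ⟨u, v, hu, hv, H'⟩ := N.good.exists_sing_perp N.H hd
    refine exists_semilinear _ θ hadd hinj A hA _ (fun _ h => h.1)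
      (fun w hw => mem_closure_sing H' hu hv hw) hu H'.e_ne_zero (fun c => ?_) (fun z hz => ?_)
      (h3 u hu H'.e_ne_zero (Or.inl H'.sing_e))
    · exact N.line p (N.ptC p H'.sing_e H'.e_ne_zero (hθ u hu)) hu (hθ _ (Submodule.smul_mem _ c hu))
    · obtain ⟨g, hg, ⟨c, hc, h1⟩, h2⟩ := exists_trans N.good.nd (N.good.disj_perp N.H)
        (N.good.thick_perp N.H) H'.sing_e hz.2.1 H'.e_ne_zero hz.2.2 hu hz.1
      have h4 : (⟨g, hg⟩ : EG Φ).1.1 f = (1 : F) • f := by simpa using h2 f f_mem_perp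
      obtain ⟨l', μ', h5, h6⟩ := N.exists_L h4
      exact ⟨_, _, ⟨_, l', 1, μ', h5, mem_Pt.2 ⟨1, by simpa using h2 e e_mem_perp⟩, h4, h6, rfl, rfl⟩,
        c⁻¹, by simp [h1, hc]⟩

theorem exists_sim (hT : Tor Φ) (hε : ∀ s : F ≃+* F, s Φ.ε = Φ.ε) (hτ : ∀ s : F ≃+* F, s Φ.τ = Φ.τ) :
    ∃ a : SemiSim Φ, (∃ κ : F, a.fn e = κ • e) ∧ a.fn f = f ∧
      ∀ w ∈ hypPerp Φ e f, TW α e f w (a.fn w) := by
  obtain ⟨θ, s, hθ, hs⟩ := N.exists_semilin p hT
  have := Fintype.ofFinite F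
  have hσ : ∀ c, σ (s c) = s (σ c) := ringAut_comm (RingEquiv.ofBijective σ Φ.sigma_bijective) s
  have hadd : ∀ x ∈ hypPerp Φ e f, ∀ y ∈ hypPerp Φ e f, θ (x + y) = θ x + θ y := fun x hx y hy =>
    N.unique p (hθ _ (add_mem hx hy)) (N.add (hθ _ hx) (hθ _ hy))
  have h0 : θ 0 = 0 := by simpa using hs 0 0 (zero_mem _)
  have hneg : ∀ x ∈ hypPerp Φ e f, θ (-x) = -θ x := fun x hx => by simpa using hs (-1) x hx
  suffices ∃ κ : F, κ ≠ 0 ∧ σ κ = κ ∧ (∀ x ∈ hypPerp Φ e f, ∀ y ∈ hypPerp Φ e f,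
      Φ.B (θ x) (θ y) = κ * s (Φ.B x y)) ∧ ∀ x ∈ hypPerp Φ e f, Φ.Q (θ x) = κ * s (Φ.Q x) by
    obtain ⟨κ, h1, h2, h3, h4⟩ := this
    obtain ⟨a, -, -, h5, h6, h7⟩ := exists_semiSim N.good.nd N.H s (hε s) (hτ s) hσ θ
      (fun w hw => (hθ w hw).mem') hadd hs h1 h2 h3 h4
    exact ⟨a, ⟨κ, h5⟩, h6, fun w hw => (h7 w hw).symm ▸ hθ w hw⟩
  by_cases hd : finrank F V = 3
  · have hne : ∀ u ∈ hypPerp Φ e f, u ≠ 0 → Φ.B u u ≠ 0 := fun u hu hu0 h => by
      obtain ⟨y, hy, -, h1⟩ := hyp_nondeg N.H N.good.disj_top trivial trivial hu trivial hu0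
      obtain ⟨d, rfl⟩ := N.good.exists_smul_three N.H hd hu hu0 hy
      simp [h] at h1
    obtain ⟨u, hu, -, hu0⟩ := hyp_exists_ne N.H (U := ⊤) trivial trivial (by simpa using N.good.dim)
    have h1 := hne u hu hu0
    have h2 := hne _ (hθ u hu).mem' fun h => hu0 (N.symm.zero p (h ▸ (hθ u hu).symm))
    have hτ0 : Φ.τ = 0 := (N.good.thick.resolve_right (by omega)).1
    refine ⟨Φ.B (θ u) (θ u) / s (Φ.B u u), div_ne_zero h2 (by simpa using h1), ?_,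
      fun x hx y hy => ?_, fun x _ => by simp [Q_eq_zero N.H hτ0]⟩
    · conv_rhs => rw [Φ.symm u u, Φ.symm (θ u) (θ u), map_mul, hε, ← hσ,
        mul_div_mul_left _ _ Φ.eps_ne_zero, ← map_div₀]
    · obtain ⟨c, rfl⟩ := N.good.exists_smul_three N.H hd hu hu0 hx
      obtain ⟨d, rfl⟩ := N.good.exists_smul_three N.H hd hu hu0 hy
      have : s (Φ.B u u) ≠ 0 := by simpa using h1
      simp only [hs _ _ hu, map_smul, LinearMap.map_smulₛₗ, LinearMap.smul_apply, smul_eq_mul,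
        map_mul, hσ]
      field_simp
  · obtain ⟨u, v, hu, hv, H'⟩ := N.good.exists_sing_perp N.H hd
    have k1 : ∀ z ∈ hypPerp Φ e f, Sing Φ z → z ≠ 0 → ∃ k : F, ∀ y ∈ hypPerp Φ e f,
        Φ.B (θ z) (θ y) = k * s (Φ.B z y) := fun z hz hzs hz0 => by
      obtain ⟨t, ht, h1, -⟩ := Φ.exists_hyp_partner_mem (N.good.disj_perp N.H) hz hz0 hzs.1 hzs.2
      refine ⟨Φ.B (θ z) (θ t), fun y hy => ?_⟩
      have h2 := add_mem hy (Submodule.smul_mem _ (-Φ.B z y) ht)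
      have := N.perp p hzs hz0 (hθ z hz) (hθ _ h2) (by simp [h1])
      rw [hadd _ hy _ (Submodule.smul_mem _ _ ht), hs _ _ ht] at this
      simp only [map_add, map_smul, map_neg, smul_eq_mul] at this
      linear_combination this
    choose! k hk using k1
    have k2 : ∀ z ∈ hypPerp Φ e f, Sing Φ z → ∀ y ∈ hypPerp Φ e f, Sing Φ y → Φ.B z y ≠ 0 →
        k y = σ (k z) := fun z hz hzs y hy hys h => by
      have h1 := hk z hz hzs (by rintro rfl; simp at h) y hy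
      have h2 := hk y hy hys (by rintro rfl; simp at h) z hz
      rw [Φ.symm (θ z), h1, Φ.symm z, map_mul, map_mul, hε, hσ] at h2
      refine mul_right_cancel₀ (mul_ne_zero Φ.eps_ne_zero (by simpa using h : s (σ (Φ.B z y)) ≠ 0)) ?_
      linear_combination -h2
    have k3 : ∀ z ∈ hypPerp Φ e f, Sing Φ z → z ≠ 0 → k z = k u := fun z hz hzs hz0 => by
      obtain ⟨y, hy, hys, h1, h2⟩ := exists_common (N.good.disj_perp N.H) (N.good.thick_perp N.H)
        hzs H'.sing_e hz0 H'.e_ne_zero hz hu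
      rw [k2 y hy hys z hz hzs h1, k2 y hy hys u hu H'.sing_e h2]
    have hle : ∀ x ∈ AddSubgroup.closure {s | s ∈ hypPerp Φ e f ∧ Sing Φ s ∧ s ≠ 0},
        x ∈ hypPerp Φ e f := fun x hx =>
      (AddSubgroup.closure_le (hypPerp Φ e f).toAddSubgroup).2 (fun _ h => h.1) hx
    have k4 : ∀ x ∈ hypPerp Φ e f, ∀ y ∈ hypPerp Φ e f, Φ.B (θ x) (θ y) = k u * s (Φ.B x y) :=
      fun x hx y hy => by
        have hx' := mem_closure_sing H' hu hv hx
        clear hx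
        induction hx' using AddSubgroup.closure_induction with
        | mem z hz => rw [hk z hz.1 hz.2.1 hz.2.2 y hy, k3 z hz.1 hz.2.1 hz.2.2]
        | zero => simp [h0]
        | add a b ha hb iha ihb => simp [hadd _ (hle a ha) _ (hle b hb), iha, ihb, mul_add]
        | neg a ha iha => simp [hneg _ (hle a ha), iha]
    refine ⟨k u, fun h => ?_, ?_, k4, fun x hx => ?_⟩
    · have h1 := k4 u hu v hv
      rw [h, zero_mul] at h1
      simpa [H'.ef] using N.symm.perp p (N.ptC p H'.sing_e H'.e_ne_zero (hθ u hu)).s'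
        (N.ptC p H'.sing_e H'.e_ne_zero (hθ u hu)).ne' (hθ u hu).symm (hθ v hv).symm h1
    · rw [← k2 u hu H'.sing_e v hv H'.sing_f (by simp [H'.ef]), k3 v hv H'.sing_f H'.f_ne_zero]
    · have hx' := mem_closure_sing H' hu hv hx
      clear hx
      induction hx' using AddSubgroup.closure_induction with
      | mem z hz => simp [hz.2.1.2, (N.ptC p hz.2.1 hz.2.2 (hθ z hz.1)).s'.2]
      | zero => simp [h0, Φ.Q_zero]
      | add a b ha hb iha ihb =>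
        rw [hadd _ (hle a ha) _ (hle b hb), Φ.Q_add, Φ.Q_add, iha, ihb, k4 _ (hle a ha) _ (hle b hb)]
        simp only [map_add, map_mul, hτ]
        ring
      | neg a ha iha => rw [hneg _ (hle a ha), Φ.Q_neg, Φ.Q_neg, iha]

theorem eq_one (hT : Tor Φ) (hid : ∀ w w', TW α e f w w' → w' = w) : α = 1 := by
  have hΦ := N.good
  have H := N.H
  let C : Subgroup (EG Φ) :=
    { carrier := {g | Cor α g g}, one_mem' := Cor.one, mul_mem' := Cor.mul, inv_mem' := Cor.inv }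
  have hself : ∀ w ∈ hypPerp Φ e f, TW α e f w w := fun w hw => by
    obtain ⟨w', h⟩ := N.exists_right p hw
    rwa [hid _ _ h] at h
  have c1 : ∀ l ∈ Pt Φ e, ∀ μ : F, l.1.1 f = μ • f → l ∈ C := fun l hl μ hμ => by
    obtain ⟨l', μ', h1, h2⟩ := N.exists_L hμ
    obtain ⟨c, hc⟩ := mem_Pt.1 hl
    obtain ⟨c', hc'⟩ := mem_Pt.1 ((N.pe.iff _ _ h1).1 hl)
    have h3 := smul_ne_zero_of H.f_ne_zero hμ
    have h4 := smul_ne_zero_of H.f_ne_zero h2
    obtain ⟨ρ, rfl⟩ : ∃ ρ, μ' = ρ * μ := ⟨μ' / μ, by field_simp⟩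
    have h5 : ∀ w ∈ hypPerp Φ e f, l'.1.1 w = ρ • l.1.1 w := fun w hw => by
      have := hid _ _ (N.conj (hself w hw) h1 hl hμ h2)
      rw [inv_smul_eq_iff₀ h4] at this
      rw [this, smul_smul, mul_inv_cancel_right₀ h3]
    have h6 : c' = ρ * c := by
      obtain ⟨u, hu, -, hu0⟩ := hyp_exists_ne H (U := ⊤) trivial trivial (by simpa using hΦ.dim)
      obtain ⟨y, hy, -, h7⟩ := hyp_nondeg H hΦ.disj_top trivial trivial hu trivial hu0
      have e1 := Form.Isom.map_B l'.1 u y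
      have e2 := Form.Isom.map_B l.1 f e
      have e3 := Form.Isom.map_B l'.1 f e
      simp only [h5 _ hu, h5 _ hy, hc, hc', hμ, h2, map_smul, LinearMap.map_smulₛₗ, map_mul,
        LinearMap.smul_apply, smul_eq_mul, Form.Isom.map_B, H.fe] at e1 e2 e3
      have e4 : σ (ρ * μ) * Φ.ε * Φ.B u y ≠ 0 :=
        mul_ne_zero (mul_ne_zero (by simpa using h4) Φ.eps_ne_zero) h7
      refine mul_left_cancel₀ e4 ?_
      rw [map_mul]
      linear_combination Φ.B u y * e3 - c * σ μ * Φ.ε * e1 - Φ.B u y * e2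
    have h7 : l' * l⁻¹ ∈ Subgroup.center (EG Φ) := hΦ.mem_center_iff.2 ⟨ρ, fun v => by
      obtain ⟨v, rfl⟩ := l.1.1.surjective v
      obtain ⟨a, b, w, hw, rfl⟩ := H.exists_eq v
      change l'.1.1 ((l.1⁻¹).1 _) = _
      simp only [Form.Isom.inv_apply_apply, map_add, map_smul, h5 _ hw, hc', h2, h6]
      rw [hc, hμ]
      module⟩
    exact show Cor α l l by simpa using (Cor.of_center (α := α) (one_mem _) (inv_mem h7)).mul h1
  have hex : ∀ r : EG Φ, ∀ w, RW Φ e f r.1 w → ∃ r' : EG Φ, RW Φ e f r'.1 w ∧ Cor α r r' :=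
    fun r w hr => by
      obtain ⟨r', h1, h2⟩ := N.pe.exists_rad p hΦ hr.1
      obtain ⟨w', h3⟩ := exists_RW_right H h1
      exact ⟨r', hid w w' ⟨r, r', hr, h3, h2⟩ ▸ h3, h2⟩
  let K : AddSubgroup V :=
    { carrier := {w | ∃ r ∈ C, RW Φ e f r.1 w}
      zero_mem' := ⟨1, one_mem _, RW.one⟩
      add_mem' := by
        rintro a b ⟨r, h1, h2⟩ ⟨k, h3, h4⟩
        exact ⟨r * k, mul_mem h1 h3, h2.mul H h4⟩
      neg_mem' := by
        rintro a ⟨r, h1, h2⟩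
        exact ⟨r⁻¹, inv_mem h1, h2.inv H⟩ }
  have hz : ∀ z : EG Φ, RW Φ e f z.1 0 →
      ∃ a : F, z.1.1 f = a • e + f ∧ a * Φ.ε + σ a = 0 ∧ Φ.τ * a = 0 := fun z hz => by
    obtain ⟨-, -, a, ha⟩ := hz
    have h1 := H.sing_f.map z.1
    rw [add_zero] at ha
    refine ⟨a, ha, ?_, ?_⟩
    · simpa [ha, H.ee, H.ff, H.ef, H.fe, add_comm] using h1.1
    · simpa [ha, Φ.Q_add, Φ.Q_smul, H.Qe, H.Qf, H.ef, ← tau_sigma H a] using h1.2
  have c2 : (∀ z : EG Φ, RW Φ e f z.1 0 → z ∈ C) ∧ ∀ w ∈ hypPerp Φ e f, w ∈ K := by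
    by_cases hd : finrank F V = 3
    · have hτ0 : Φ.τ = 0 := (hΦ.thick.resolve_right (by omega)).1
      obtain ⟨u, hu, -, hu0⟩ := hyp_exists_ne H (U := ⊤) trivial trivial (by simpa using hΦ.dim)
      have hR : ∀ w ∈ hypPerp Φ e f, ∃ r : EG Φ, RW Φ e f r.1 w := fun w hw => by
        obtain ⟨r, hr⟩ := exists_RW_left H hΦ.nd hw
        exact ⟨⟨r, Rad_le_EG H.sing_e hr.1⟩, hr⟩
      have hcomm : ∀ (r k : EG Φ) w x, RW Φ e f r.1 w → RW Φ e f k.1 x →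
          RW Φ e f (r * k * r⁻¹ * k⁻¹).1 0 ∧
            (r * k).1.1 f = (k * r).1.1 f + ((Φ.B x w - Φ.B w x) / Φ.ε) • e := fun r k w x h1 h2 => by
        refine ⟨by simpa using ((h1.mul H h2).mul H (h1.inv H)).mul H (h2.inv H), ?_⟩
        have h3 := h1.apply H (mem_hypPerp.1 h2.2.1).1
        have h4 := h2.apply H (mem_hypPerp.1 h1.2.1).1
        obtain ⟨hr, -, a, ha⟩ := h1
        obtain ⟨hk, -, b, hb⟩ := h2
        change r.1.1 (k.1.1 f) = k.1.1 (r.1.1 f) + _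
        simp only [ha, hb, map_add, map_smul, (mem_Rad.1 hr).1, (mem_Rad.1 hk).1, h3, h4]
        module
      have hval : ∀ (r k : EG Φ) w x, RW Φ e f r.1 w → RW Φ e f k.1 x →
          (r * k * r⁻¹ * k⁻¹).1.1 f = ((Φ.B x w - Φ.B w x) / Φ.ε) • e + f := fun r k w x h1 h2 => by
        obtain ⟨h3, h4⟩ := hcomm r k w x h1 h2
        obtain ⟨a, ha, -⟩ := hz _ h3
        have h5 := fun x hx => h3.apply H (x := x) hx
        obtain ⟨-, hw, b, hb⟩ := h2.mul H h1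
        have h6 : (r * k).1.1 f = (r * k * r⁻¹ * k⁻¹).1.1 ((k * r).1.1 f) :=
          congrArg (fun g : EG Φ => g.1.1 f) (show r * k = r * k * r⁻¹ * k⁻¹ * (k * r) by group)
        rw [h4, show (k * r).1.1 f = _ from hb, map_add, map_add, map_smul, ha, h5 _ H.ee,
          h5 _ (mem_hypPerp.1 hw).1] at h6
        rw [ha]
        simp only [map_zero, LinearMap.zero_apply, zero_div, zero_smul, sub_zero] at h6
        linear_combination (norm := module) -h6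
      have c3 : ∀ z : EG Φ, RW Φ e f z.1 0 → z ∈ C := fun z h => by
        obtain ⟨a, h1, h2, -⟩ := hz z h
        obtain ⟨t, ht⟩ := exists_trace_eq_one σ (N.h3 hd) Φ.invol
        obtain ⟨y, hy, -, h3⟩ := hyp_nondeg H hΦ.disj_top trivial trivial hu trivial hu0
        obtain ⟨k, hk⟩ := hR u hu
        obtain ⟨r, hr⟩ := hR _ (Submodule.smul_mem _ (t * a * Φ.ε / Φ.B u y) hy)
        obtain ⟨k', hk', hk''⟩ := hex k _ hk
        obtain ⟨r', hr', hr''⟩ := hex r _ hr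
        have h4 := Rad_ext (hcomm _ _ _ _ hr hk).1.1 (hcomm _ _ _ _ hr' hk').1.1 H.ef
          ((hval _ _ _ _ hr hk).trans (hval _ _ _ _ hr' hk').symm)
        have h5 := Rad_ext (hcomm _ _ _ _ hr hk).1.1 h.1 H.ef (by
          rw [hval _ _ _ _ hr hk, h1, Φ.symm u, map_smul, smul_eq_mul, div_mul_cancel₀ _ h3]
          congr 2
          rw [div_eq_iff Φ.eps_ne_zero, map_mul, map_mul]
          linear_combination a * Φ.ε * ht - σ t * σ a * Φ.eps - σ t * h2)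
        have h6 := (hr''.conj hk'').mul hk''.inv
        rwa [← Subtype.ext h4, Subtype.ext h5] at h6
      refine ⟨c3, fun w hw => ?_⟩
      obtain ⟨x, hx, hx0, hxK⟩ : ∃ x ∈ hypPerp Φ e f, x ≠ 0 ∧ x ∈ K := by
        by_contra hc
        push Not at hc
        choose R hR using fun c : F => hR _ (Submodule.smul_mem _ c hu)
        choose R' h1 h2 using fun c => hex _ _ (hR c)
        have h3 : ∀ c, RW Φ e f ((R c)⁻¹ * R' c).1 0 := fun c => by
          simpa using ((hR c).inv H).mul H (h1 c)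
        choose D h4 h5 _ using fun c => hz _ (h3 c)
        have h6 : Function.Injective D := fun c d h => by
          have h7 : (R c)⁻¹ * R' c = (R d)⁻¹ * R' d :=
            Subtype.ext (Rad_ext (h3 c).1 (h3 d).1 H.ef (by rw [h4, h4, h]))
          have h8 := (h2 d).mul (h2 c).inv
          rw [show R' d * (R' c)⁻¹ = R d * (R c)⁻¹ by
            rw [inv_mul_eq_iff_eq_mul.1 h7]; group] at h8
          have h9 := (hR d).mul H ((hR c).inv H)
          by_contra hne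
          refine hc _ h9.2.1 (fun h0 => hne ?_) ⟨_, h8, h9⟩
          exact (smul_left_injective F hu0 (add_neg_eq_zero.1 h0)).symm
        obtain ⟨b, hb⟩ := exists_ne_eps_sigma (N.h3 hd) (-σ Φ.ε)
        obtain ⟨c, rfl⟩ := Finite.injective_iff_surjective.1 h6 b
        exact hb (by linear_combination σ Φ.ε * h5 c - D c * Φ.eps)
      obtain ⟨m, rfl⟩ := hΦ.exists_smul_three H hd hx hx0 hw
      clear hw
      have hm : m ∈ _ := (hT e f x H hx hx0 (Or.inr hd)).ge trivial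
      induction hm using AddSubgroup.closure_induction with
      | mem m hm =>
        obtain ⟨l, μ, h1, h2, h3⟩ := hm
        obtain ⟨r, h4, h5⟩ := hxK
        obtain ⟨c, hc⟩ := mem_Pt.1 h1
        have h6 := h5.conj H hc h2
        rw [h3, smul_smul, inv_mul_cancel_left₀ (smul_ne_zero_of H.f_ne_zero h2)] at h6
        have h7 := c1 l h1 μ h2
        exact ⟨l * r * l⁻¹, mul_mem (mul_mem h7 h4) (inv_mem h7), h6⟩
      | zero => simp
      | add a b _ _ ha hb => rw [add_smul]; exact add_mem ha hb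
      | neg a _ ha => rw [neg_smul]; exact neg_mem ha
    · have c3 : ∀ u ∈ hypPerp Φ e f, Sing Φ u → ∃ r ∈ C, r.1 ∈ Rad Φ e ∧ r.1.1 f = f + u :=
        fun u hu hus => by
          by_cases hu0 : u = 0
          · exact ⟨1, one_mem _, one_mem _, by simp [hu0]⟩
          have h0 := mem_hypPerp.1 hu
          obtain ⟨r, hr, h1⟩ := exists_Rad hΦ.nd H ((sing_add_iff H hu).2 hus) (by simp [H.ef, h0.1])
          obtain ⟨r', ⟨h2, -, a, ha⟩, h3⟩ := hex ⟨r, Rad_le_EG H.sing_e hr⟩ u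
            ⟨hr, hu, 0, by simp [h1]⟩
          obtain ⟨v, hv, h4, h5, h6⟩ :=
            Φ.exists_hyp_partner_mem (hΦ.disj_perp H) hu hu0 hus.1 hus.2
          have H' : HypPair Φ u v := ⟨hus.1, h5, h4, hus.2, h6⟩
          obtain ⟨x, hx⟩ := exists_RW_left H' hΦ.nd (w := (-σ Φ.ε) • e) (Submodule.smul_mem _ _
            (mem_hypPerp.2 ⟨e_mem_perp u hu, e_mem_perp v hv⟩))
          have h7 := hx.apply H' (f_mem_perp u hu)
          obtain ⟨x', h8, h9⟩ := (N.ptC p hus hu0 (hself u hu)).exists_rad p hΦ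
            (r := ⟨x, Rad_le_EG hus hx.1⟩) hx.1
          obtain ⟨t, ht⟩ := (mem_Rad.1 h8).2 f (f_mem_perp u hu)
          have h10 := N.pf.map h9
          simp [H.ef, Φ.invol, neg_div, Φ.eps_ne_zero] at h7
          rw [show (⟨x, _⟩ : EG Φ).1.1 f = f + u from h7, ← h1] at h10
          obtain ⟨c, hc⟩ := h10.unique p hΦ (N.pf.map h3)
          have h11 := (H.eq_of_eq (a := a) (b := 1) (a' := 0) (b' := c) hu
            (Submodule.smul_mem _ (c * t) hu) (by rw [one_smul, ← ha, hc, ht]; module)).1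
          have h12 : r' = ⟨r, Rad_le_EG H.sing_e hr⟩ :=
            Subtype.ext (Rad_ext h2 hr H.ef (by simp [ha, h1, h11]))
          exact ⟨_, h12 ▸ h3, hr, h1⟩
      obtain ⟨u, v, hu, hv, H'⟩ := hΦ.exists_sing_perp H hd
      refine ⟨fun z h => ?_, fun w hw => (AddSubgroup.closure_le K).2 (fun s hs => ?_)
        (mem_closure_sing H' hu hv hw)⟩
      · obtain ⟨a, h1, h2, h3⟩ := hz z h
        have hcv := Submodule.smul_mem _ (-(a * Φ.ε)) hv
        obtain ⟨r, h4, h5, h6⟩ := c3 u hu H'.sing_e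
        obtain ⟨k, h7, h8, h9⟩ := c3 _ hcv (H'.sing_f.smul _)
        obtain ⟨l, h10, h11, h12⟩ := c3 _ (add_mem hu hcv) ⟨by
          simp only [map_add, map_smul, LinearMap.add_apply, LinearMap.map_smulₛₗ,
            LinearMap.smul_apply, H'.ee, H'.ef, H'.fe, H'.ff, smul_eq_mul, map_neg, map_mul]
          linear_combination -h2 - σ a * Φ.eps, by
          rw [Φ.Q_add_smul, H'.Qe, H'.Qf, H'.ef]
          linear_combination -Φ.ε * h3⟩
        have h13 : RW Φ e f r.1 u := ⟨h5, hu, 0, by simp [h6]⟩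
        have h14 : l * z = r * k := Subtype.ext (Rad_ext (mul_mem h11 h.1) (mul_mem h5 h8) H.ef (by
          change l.1.1 (z.1.1 f) = r.1.1 (k.1.1 f)
          rw [h1, h9, map_add, map_add, map_smul, (mem_Rad.1 h11).1, h12, h6,
            h13.apply H (mem_hypPerp.1 hcv).1, map_smul, H'.ef, smul_eq_mul, mul_one, neg_div,
            mul_div_cancel_right₀ _ Φ.eps_ne_zero]
          module))
        exact (C.mul_mem_cancel_left h10).1 (h14 ▸ mul_mem h4 h7)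
      · obtain ⟨r, h4, h5, h6⟩ := c3 s hs.1 hs.2.1
        exact ⟨r, h4, h5, hs.1, 0, by simp [h6]⟩
  have c3 : ∀ r : EG Φ, r.1 ∈ Rad Φ e → r ∈ C := fun r hr => by
    obtain ⟨w, hw⟩ := exists_RW_right H hr
    obtain ⟨k, h1, h2⟩ := c2.2 w hw.2.1
    exact (C.mul_mem_cancel_left (inv_mem h1)).1 (c2.1 (k⁻¹ * r) (by simpa using (h2.inv H).mul H hw))
  have c4 : ∀ z, Sing Φ z → Φ.B e z ≠ 0 → ∃ r ∈ C, r ∈ Pt Φ e ∧ ∃ c : F, r.1.1 z = c • f :=
    fun z hz h => by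
      obtain ⟨r, hr, ⟨c, -, hc⟩, -⟩ := exists_Rad' hΦ.nd H.sing_e hz H.sing_f h (by simp [H.ef])
      exact ⟨⟨r, Rad_le_EG H.sing_e hr⟩, c3 _ hr, mem_Pt_of_Rad hr, c, hc⟩
  have c5 : Pt Φ e ≤ C := fun g hg => by
    obtain ⟨c, hc⟩ := mem_Pt.1 hg
    obtain ⟨r, h1, h2, d, hd⟩ := c4 _ (H.sing_f.map g.1) fun h => by
      have := Form.Isom.map_B g.1 e f
      simp [hc, h, H.ef] at this
    exact (C.mul_mem_cancel_left h1).1 (c1 (r * g) (mul_mem h2 hg) d hd)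
  obtain ⟨z, -, hz, h1, h2⟩ := exists_third hΦ.disj_top hΦ.thick_top H trivial trivial
  obtain ⟨s, hs, ⟨c, hc, h3⟩, -⟩ := exists_Rad' hΦ.nd H.sing_f H.sing_e hz
    (by simp [H.fe, Φ.eps_ne_zero]) h2
  obtain ⟨s', h4, h5⟩ := N.pf.exists_rad p hΦ (r := ⟨s, Rad_le_EG H.sing_f hs⟩) hs
  obtain ⟨r, h6, -, d, hd⟩ := c4 _ (H.sing_e.map s) (by simp [h3, h1, hc])
  have hd0 := smul_ne_zero_of (by simpa using H.e_ne_zero) hd
  have h7 := (PtC.of_smul (x := d • f) (x' := d • f) (c := d⁻¹) (d := d⁻¹)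
    (by simpa [hd0] using N.pf)).map (Cor.inv h6)
  rw [← hd, show (r⁻¹).1.1 (r.1.1 (s.1 e)) = s.1 e from Form.Isom.inv_apply_apply _ _] at h7
  obtain ⟨t, ht⟩ := h7.unique p hΦ (N.pe.map h5)
  have h8 := Rad_B h4 e
  have h9 : s' = ⟨s, Rad_le_EG H.sing_f hs⟩ := Subtype.ext (Rad_ext h4 hs (f := Φ.ε⁻¹ • e)
    (by simp [H.fe, Φ.eps_ne_zero]) (by
      rw [ht, map_smul, Rad_B hs, H.fe, smul_eq_mul, mul_eq_right₀ Φ.eps_ne_zero] at h8
      rw [map_smul, map_smul, ht, h8, one_smul]))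
  have h10 : C = ⊤ := (hΦ.isCoatom_Pt H.sing_e H.e_ne_zero).2 C (lt_of_le_of_ne c5 fun h => by
    obtain ⟨a, ha⟩ := mem_Pt.1 (h ▸ (h9 ▸ h5 : (⟨s, Rad_le_EG H.sing_f hs⟩ : EG Φ) ∈ C))
    have := congrArg (Φ.B e) (h3.symm.trans ha)
    simp [H.ee, h1, hc] at this)
  exact eq_one_of_cor fun g => (h10 ▸ trivial : g ∈ C)

end Nrm

theorem PtC.mem_range (hΦ : Good Φ) (h3 : finrank F V = 3 → σ ≠ RingHom.id F) (hT : Tor Φ)
    (hε : ∀ s : F ≃+* F, s Φ.ε = Φ.ε) (hτ : ∀ s : F ≃+* F, s Φ.τ = Φ.τ) (h : PtC α x x') :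
    α ∈ (toAut Φ).range := by
  obtain ⟨p, hp⟩ := CharP.exists F
  have : Fact p.Prime := ⟨CharP.char_is_prime F p⟩
  obtain ⟨f, H⟩ := h.s.exists_hypPair hΦ.nd h.ne
  obtain ⟨a, h1, h2⟩ := h.exists_norm p hΦ H
  have N : Nrm (toAut Φ a * α) x f := ⟨hΦ, h3, H, h1, h2⟩
  obtain ⟨b, ⟨κ, h4⟩, h5, h6⟩ := N.exists_sim p hT hε hτ
  have hκ : κ ≠ 0 := by rintro rfl; exact h.ne (by simpa using h4)
  have h7 := (ptC_toAut hΦ b h.s h.ne).symm
  have h8 := (ptC_toAut hΦ b H.sing_f H.f_ne_zero).symm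
  rw [h4, ← one_smul F x, smul_smul, mul_one] at h7
  rw [h5] at h8
  have N' : Nrm ((toAut Φ b)⁻¹ * (toAut Φ a * α)) x f :=
    ⟨hΦ, h3, H, h1.trans h7.of_smul, h2.trans h8⟩
  have := N'.eq_one p hT (by
    rintro w w' ⟨r, r', h9, ⟨h10, h11, t, ht⟩, h12⟩
    have h13 := h12.comp (cor_toAut b r')
    rw [mul_inv_cancel_left] at h13
    refine b.fn.injective (N.unique p ⟨r, _, h9, ⟨?_, (h6 _ h11).mem', b.s t * κ, ?_⟩, h13⟩
      (h6 _ h9.2.1))
    · have := b.conj_mem_Rad h10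
      rwa [h4, Rad_smul hκ] at this
    · rw [SemiSim.conjE_apply, b.fn.symm_apply_eq.2 h5.symm, ht, map_add, map_add, b.map_smul, h4,
        h5, smul_smul])
  refine ⟨a⁻¹ * b, ?_⟩
  rw [map_mul, map_inv, inv_mul_eq_one.1 this, inv_mul_cancel_left]

end H16
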