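import Mathlib
import Cfsg.Agent.H15.Parab
import Cfsg.Agent.H16.PolarAut2

/-! The image of a point stabiliser under an isomorphism of classical groups is a point stabiliser,
up to the known exceptions. -/

set_option autoImplicit false
set_option linter.unusedSectionVars false

namespace H16

open Module H15 H7

variable {F : Type*} [Field F] {σ : F →+* F} {V : Type*} [AddCommGroup V] [Module F V]
  {Φ : Form σ V} [FiniteDimensional F V]

theorem Rad_comm (hA : ∀ b, b = Φ.ε * σ b) {e f : V} (H : HypPair Φ e f) {r k : Φ.Isom}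
    (hr : r ∈ Rad Φ e) (hk : k ∈ Rad Φ e) : r * k = k * r := by
  obtain ⟨w, h1⟩ := exists_RW_right H hr
  obtain ⟨x, h2⟩ := exists_RW_right H hk
  have h3 := h1.apply H (mem_hypPerp.1 h2.2.1).1
  have h4 := h2.apply H (mem_hypPerp.1 h1.2.1).1
  obtain ⟨-, -, a, ha⟩ := h1
  obtain ⟨-, -, b, hb⟩ := h2
  refine Rad_ext (mul_mem hr hk) (mul_mem hk hr) H.ef ?_
  simp only [Form.Isom.mul_apply, ha, hb, map_add, map_smul, (mem_Rad.1 hr).1, (mem_Rad.1 hk).1,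
    h3, h4, Φ.symm w x, ← hA]
  module

theorem Good.zero_of_comm_Rad (hΦ : Good Φ) (hA : ¬ ∀ b, b = Φ.ε * σ b) {e f : V}
    (H : HypPair Φ e f) {r : Φ.Isom} {w : V} (h : RW Φ e f r w)
    (hc : ∀ x ∈ Rad Φ e, r * x = x * r) : w = 0 := by
  by_contra hw0
  refine hA fun b => ?_
  obtain ⟨y, hy, -, h1⟩ := hyp_nondeg H hΦ.disj_top trivial trivial h.2.1 trivial hw0
  obtain ⟨x, hx⟩ := exists_RW_left H hΦ.nd (Submodule.smul_mem _ (b / Φ.B w y) hy)
  have h4 := h.B_comm H hx (hc x hx.1)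
  rwa [Φ.symm w, map_smul, smul_eq_mul, div_mul_cancel₀ _ h1] at h4

theorem RW.mem_rad {y f w : V} (H : HypPair Φ y f) {r : Φ.Isom} (h : RW Φ y f r w)
    {Y : Submodule F V} (hY : Φ.TotSing Y) (hy : y ∈ Y) (hw : w ∈ Φ.perp Y) : r ∈ rad Φ Y :=
  ⟨fun x hx => by rw [h.apply H (hY.1 _ hy _ hx), Φ.B_eq_zero_comm.1 (hw x hx)]; simp,
    fun x hx => by rw [h.apply H (hx y hy)]; simpa using Y.smul_mem _ hy⟩

theorem exists_two (h : Φ.Nondeg) {Y : Submodule F V} (hY : Φ.TotSing Y) (h2 : 2 ≤ finrank F Y) :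
    ∃ y ∈ Y, ∃ z ∈ Y, z ≠ 0 ∧ ∃ f, HypPair Φ y f ∧ Φ.B z f = 0 := by
  obtain ⟨z, hz, hz0⟩ := Submodule.exists_mem_ne_zero_of_ne_bot (p := Y) (by
    rintro rfl; simp at h2)
  obtain ⟨y, hy, hyz⟩ : ∃ y ∈ Y, y ∉ Submodule.span F {z} := by
    by_contra hc
    push Not at hc
    have := Submodule.finrank_mono (show Y ≤ _ from hc)
    rw [finrank_span_singleton hz0] at this
    omega
  obtain ⟨f, h3, h4, h5, h6⟩ := h.exists_hyp_partner hyz (hY.1 _ hy _ hy) (hY.2 _ hy)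
    fun x hx => hY.1 _ ((Submodule.span_singleton_le_iff_mem _ _).2 hz hx) _ hy
  exact ⟨y, hy, z, hz, hz0, f, ⟨hY.1 _ hy _ hy, h5, h4, hY.2 _ hy, h6⟩,
    h3 z (Submodule.mem_span_singleton_self z)⟩

theorem exists_not_comm (h : Φ.Nondeg) {Y : Submodule F V} (hY : Φ.TotSing Y)
    (h2 : 2 ≤ finrank F Y) (hne : Φ.perp Y ≠ Y) :
    ∃ r k : EG Φ, r.1 ∈ rad Φ Y ∧ k.1 ∈ rad Φ Y ∧ r * k ≠ k * r := by
  obtain ⟨y, hy, z, hz, hz0, f, H, hzf⟩ := exists_two h hY h2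
  obtain ⟨g, H'⟩ := Sing.exists_hypPair h ⟨hY.1 _ hz _ hz, hY.2 _ hz⟩ hz0
  obtain ⟨w, hw, x, hx, hB⟩ : ∃ w ∈ Φ.perp Y, ∃ x ∈ Φ.perp Y, Φ.B x w ≠ 0 := by
    by_contra hc
    push Not at hc
    exact hne (le_antisymm (fun w hw => h.perp_perp Y ▸ fun x hx => hc w hw x hx) hY.le_perp)
  have h3 := H.proj_mem w
  have h4 := H'.proj_mem x
  rw [hw y hy, zero_smul, sub_zero] at h3
  rw [hx z hz, zero_smul, sub_zero] at h4
  have h5 := sub_mem hw (Submodule.smul_mem _ (Φ.B f w / Φ.ε) (hY.le_perp hy))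
  have h6 := sub_mem hx (Submodule.smul_mem _ (Φ.B g x / Φ.ε) (hY.le_perp hz))
  have h7 : Φ.B (x - (Φ.B g x / Φ.ε) • z) (w - (Φ.B f w / Φ.ε) • y) ≠ 0 := by
    simpa [hw z hz, hY.1 _ hz _ hy, Φ.B_eq_zero_comm.1 (hx y hy)] using hB
  generalize w - (Φ.B f w / Φ.ε) • y = w at h3 h5 h7
  generalize x - (Φ.B g x / Φ.ε) • z = x at h4 h6 h7
  obtain ⟨r, hr⟩ := exists_RW_left H h h3
  obtain ⟨k, hk⟩ := exists_RW_left H' h h4
  have h8 := hr.mem_rad H hY hy h5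
  have h9 := hk.mem_rad H' hY hz h6
  refine ⟨⟨r, Rad_le_EG H.sing_e hr.1⟩, ⟨k, Rad_le_EG H'.sing_e hk.1⟩, h8, h9, fun hc => ?_⟩
  have h10 : r.1 (k.1 f) = k.1 (r.1 f) := congrArg (fun g : EG Φ => g.1.1 f) hc
  obtain ⟨-, -, a, ha⟩ := hr
  simp only [hk.apply H' hzf, hk.apply H' (h5 z hz), map_sub, map_add, map_smul, ha, h8.1 z hz,
    h9.1 y hy] at h10
  have h11 : (Φ.B x w / Φ.ε) • z = 0 := by linear_combination (norm := module) h10
  simp [hz0, h7, Φ.eps_ne_zero] at h11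

theorem fixer_le_EG (h : Φ.Nondeg) {Y : Submodule F V} (hY : Φ.TotSing Y) (hp : Φ.perp Y = Y) :
    Φ.fixer Y ≤ EG Φ := by
  classical
  obtain ⟨e, f, H, he⟩ := h.exists_hyp_of_totSing hY rfl
  have hd := h.finrank_perp Y
  rw [hp] at hd
  have heY : ∀ i, e i ∈ Y := fun i => he ▸ Submodule.subset_span ⟨i, rfl⟩
  have key : ∀ s : Finset (Fin (finrank F Y)), ∀ g ∈ Φ.fixer Y, (∀ i ∉ s, g.1 (f i) = f i) →
      g ∈ EG Φ := fun s => by
    induction s using Finset.induction_on with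
    | empty =>
      intro g hg h1
      rw [show g = 1 from Subtype.ext (LinearEquiv.toLinearMap_injective
        ((H.basis (by simp; omega)).ext fun i => by
          rcases i with i | i
          · simpa using hg _ (heY i)
          · simpa using h1 i (by simp)))]
      exact one_mem _
    | insert a s ha ih =>
      intro g hg h1
      have H' : HypPair Φ (e a) (f a) := ⟨H.ee _ _, H.ff _ _, by simp [H.ef], H.Qe _, H.Qf _⟩
      have h2 : ∀ y ∈ Y, ∀ v, Φ.B y (g.1 v) = Φ.B y v := fun y hy v => by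
        rw [← Form.Isom.map_B g y v, hg y hy]
      obtain ⟨r, hr, h3⟩ := exists_Rad h H' (H'.sing_f.map g) (by rw [h2 _ (heY a), H'.ef])
      have h4 : r ∈ Φ.fixer Y := fun y hy => Rad_fix hr H'.ef (hY.1 _ (heY a) _ hy) (by
        rw [Φ.B_eq_zero_comm, h3, map_sub, h2 y hy, sub_self])
      refine ((EG Φ).mul_mem_cancel_left (inv_mem (Rad_le_EG H'.sing_e hr))).1
        (ih _ (mul_mem (inv_mem h4) hg) fun i hi => ?_)
      rw [Form.Isom.mul_apply, Form.Isom.inv_apply_eq]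
      by_cases hia : i = a
      · rw [hia, h3]
      · have h5 := h1 i (by simp [hia, hi])
        rw [h5]
        refine Rad_fix hr H'.ef (by simp [H.ef, Ne.symm hia]) ?_
        rw [h3, map_sub, LinearMap.sub_apply, ← h5, Form.Isom.map_B, h5, sub_self]
  exact fun g hg => key Finset.univ g hg (by simp)

theorem card_fixer_max [Fintype F] (h : Φ.Nondeg) {N : ℕ}
    (hN : ∀ w : V, Nat.card {c : F // c * Φ.ε + σ c + Φ.B w w = 0 ∧
      Φ.τ * c * Φ.ε + Φ.Q w = 0} = N) {Y : Submodule F V} (hY : Φ.TotSing Y) (hp : Φ.perp Y = Y) :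
    ∃ n, 2 * n + finrank F Y = finrank F Y ^ 2 ∧
      Nat.card (Φ.fixer Y) = N ^ finrank F Y * Fintype.card F ^ n := by
  obtain ⟨e, f, H, he⟩ := h.exists_hyp_of_totSing hY rfl
  have hd := h.finrank_perp Y
  have h1 := h.finrank_perp (Submodule.span F (Set.range (Sum.elim e f)))
  have h2 := H.card_fixer h hN
  rw [hp] at hd
  rw [H.finrank_span, Fintype.card_fin] at h1
  have : Subsingleton (Φ.perp (Submodule.span F (Set.range (Sum.elim e f)))) :=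
    (finrank_zero_iff (R := F)).1 (by omega)
  rw [he, card_isom_of_subsingleton, one_mul, Fintype.card_fin] at h2
  refine ⟨_, ?_, h2⟩
  have := Form.sum_range_sub (finrank F V) (finrank F Y) (by omega)
  rw [← hd] at this ⊢
  nlinarith

theorem card_Rad_le [Fintype F] (h : Φ.Nondeg) {e f : V} (H : HypPair Φ e f) :
    Nat.card (Rad Φ e) ≤ Fintype.card F ^ (finrank F V - 1) ∧
      (Φ.τ ≠ 0 → Nat.card (Rad Φ e) ≤ Fintype.card F ^ (finrank F V - 2)) := by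
  have : Finite V := Module.finite_of_finite F
  have h1 := H.finrank_perp h
  have h2 := card_eq_pow (F := F) (V := hypPerp Φ e f) (n := finrank F V - 2) (by omega)
  choose w hw using fun r : Rad Φ e => exists_RW_right H r.2
  choose a ha using fun r => (hw r).2.2
  constructor
  · have := Nat.card_le_card_of_injective
      (fun r : Rad Φ e => (a r, (⟨w r, (hw r).2.1⟩ : hypPerp Φ e f))) fun r k hrk =>
        Subtype.ext (Rad_ext r.2 k.2 H.ef (by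
          rw [ha, ha, show a r = a k from congrArg Prod.fst hrk,
            show w r = w k from congrArg (fun x => x.2.1) hrk]))
    rwa [Nat.card_prod, h2, Nat.card_eq_fintype_card (α := F), ← pow_succ',
      show finrank F V - 2 + 1 = finrank F V - 1 by omega] at this
  · intro hτ
    rw [← h2]
    refine Nat.card_le_card_of_injective (fun r => ⟨w r, (hw r).2.1⟩) fun r k hrk => ?_
    have h3 : w r = w k := congrArg Subtype.val hrk
    have h4 : ∀ r, Φ.τ * a r + Φ.Q (w r) = 0 := fun r => by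
      have := (H.sing_f.map r.1).2
      rwa [ha, ← one_smul F f, H.Q_eq _ _ (hw r).2.1, mul_one, tau_sigma H] at this
    refine Subtype.ext (Rad_ext r.2 k.2 H.ef ?_)
    rw [ha, ha, h3, mul_left_cancel₀ hτ (show Φ.τ * a r = Φ.τ * a k by
      linear_combination h4 r - h4 k - congrArg Φ.Q h3)]

section Two

variable {K : Type*} [Field K] {τ : K →+* K} {W : Type*} [AddCommGroup W] [Module K W]
  {Ψ : Form τ W} [FiniteDimensional K W] [Finite F] [Finite K]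

theorem exists_max_of_comm (p : ℕ) [Fact p.Prime] [CharP F p] [CharP K p] (hΦ : Good Φ)
    (hΨ : Good Ψ) (hA : ∀ b, b = Φ.ε * σ b)
    (α : EG Φ ⧸ Subgroup.center (EG Φ) ≃* EG Ψ ⧸ Subgroup.center (EG Ψ)) {e : V} (he : Sing Φ e)
    (he0 : e ≠ 0) : ∃ Y : Submodule K W, Ψ.TotSing Y ∧
      (∀ g g', Cor α g g' → (g ∈ Pt Φ e ↔ g' ∈ St Ψ Y)) ∧
      ((finrank K Y = 1 ∧ ∀ b, b = Ψ.ε * τ b) ∨
        (Ψ.perp Y = Y ∧ Nat.card (Ψ.fixer Y) ≤ Nat.card (Rad Φ e))) := by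
  obtain ⟨Y, h0, hY, h1, -, h3⟩ := exists_totSing_cor p hΦ hΨ α he he0
  obtain ⟨f, H⟩ := he.exists_hypPair hΦ.nd he0
  have hP : ∀ r : EG Ψ, r.1 ∈ rad Ψ Y → PE p r := fun r hr =>
    (rad_PE p hΨ.nd hY hr).of_injective (EG Ψ).subtype Subtype.val_injective
  have h4 : ∀ r k : EG Ψ, r.1 ∈ rad Ψ Y → k.1 ∈ rad Ψ Y → r * k = k * r := fun r k hr hk => by
    obtain ⟨r', h5, h6⟩ := h3 r hr
    obtain ⟨k', h7, h8⟩ := h3 k hk
    have h9 := h6.conj h8
    rw [show r' * k' = k' * r' from Subtype.ext (Rad_comm hA H h5 h7), mul_inv_cancel_right] at h9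
    exact mul_inv_eq_iff_eq_mul.1 (h9.unique (hΨ.center_PE p) h8 ((hP k hk).conj r) (hP k hk))
  refine ⟨Y, hY, h1, ?_⟩
  by_cases hd : 2 ≤ finrank K Y
  · have h5 : Ψ.perp Y = Y := by
      by_contra hne
      obtain ⟨r, k, hr, hk, h⟩ := exists_not_comm hΨ.nd hY hd hne
      exact h (h4 r k hr hk)
    have h6 : ∀ g : Ψ.fixer Y, g.1 ∈ rad Ψ Y := fun g =>
      ⟨g.2, fun x hx => by rw [g.2 x (h5 ▸ hx), sub_self]; exact zero_mem _⟩
    choose R h7 h8 using fun g : Ψ.fixer Y => h3 ⟨g.1, fixer_le_EG hΨ.nd hY h5 g.2⟩ (h6 g)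
    have : Finite V := Module.finite_of_finite F
    have : Finite (V ≃ₗ[F] V) := DFunLike.finite _
    refine Or.inr ⟨h5, Nat.card_le_card_of_injective (fun g => ⟨_, h7 g⟩) fun g k h => ?_⟩
    have h9 : R g = R k := Subtype.ext (congrArg (fun x : Rad Φ e => x.1) h)
    have h10 := (h8 g).unique (hΨ.center_PE p) (h9 ▸ h8 k) (hP _ (h6 g)) (hP _ (h6 k))
    exact Subtype.ext (congrArg (fun x : EG Ψ => x.1) h10)
  · have h5 : finrank K Y = 1 := by
      have := Submodule.finrank_eq_zero.not.2 h0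
      omega
    refine Or.inl ⟨h5, by_contra fun hc => ?_⟩
    obtain ⟨y, hy, hy0⟩ := Submodule.exists_mem_ne_zero_of_ne_bot h0
    obtain rfl : Submodule.span K {y} = Y := Submodule.eq_of_le_of_finrank_eq
      ((Submodule.span_singleton_le_iff_mem _ _).2 hy) (by rw [finrank_span_singleton hy0, h5])
    have hs : Sing Ψ y := ⟨hY.1 _ hy _ hy, hY.2 _ hy⟩
    obtain ⟨g, H'⟩ := hs.exists_hypPair hΨ.nd hy0
    obtain ⟨w, hw, -, hw0⟩ := hyp_exists_ne H' (U := ⊤) trivial trivial (by simpa using hΨ.dim)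
    obtain ⟨r, hr⟩ := exists_RW_left H' hΨ.nd hw
    exact hw0 (hΨ.zero_of_comm_Rad hc H' hr fun x hx => congrArg Subtype.val
      (h4 ⟨r, Rad_le_EG hs hr.1⟩ ⟨x, Rad_le_EG hs hx⟩ hr.1 hx))

end Two

variable [Finite F]

theorem ptC_of_finrank {α : MulAut (EG Φ ⧸ Subgroup.center (EG Φ))} {e : V} (he : Sing Φ e)
    (he0 : e ≠ 0) {Y : Submodule F V} (hY : Φ.TotSing Y) (h1 : finrank F Y = 1)
    (h : ∀ g g', Cor α g g' → (g ∈ Pt Φ e ↔ g' ∈ St Φ Y)) : ∃ e', PtC α e e' := by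
  obtain ⟨y, hy, hy0⟩ := Submodule.exists_mem_ne_zero_of_ne_bot (p := Y) (by rintro rfl; simp at h1)
  obtain rfl : Submodule.span F {y} = Y := Submodule.eq_of_le_of_finrank_eq
    ((Submodule.span_singleton_le_iff_mem _ _).2 hy) (by rw [finrank_span_singleton hy0, h1])
  exact ⟨y, he, he0, ⟨hY.1 _ hy _ hy, hY.2 _ hy⟩, hy0, h⟩

theorem Good.exists_ptC (hΦ : Good Φ) (hT : Tr Φ) (hA : ¬ ∀ b, b = Φ.ε * σ b)
    (α : MulAut (EG Φ ⧸ Subgroup.center (EG Φ))) {e : V} (he : Sing Φ e) (he0 : e ≠ 0) :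
    ∃ e', PtC α e e' := by
  obtain ⟨p, hp⟩ := CharP.exists F
  have : Fact p.Prime := ⟨CharP.char_is_prime F p⟩
  obtain ⟨Y, h0, hY, h1, h2, h3⟩ := exists_totSing_cor p hΦ hΦ α he he0
  refine ptC_of_finrank he he0 hY (by_contra fun hd => ?_) h1
  obtain ⟨f, H⟩ := he.exists_hypPair hΦ.nd he0
  have key : ∀ y ∈ Y, ∀ c : {c : F // c * Φ.ε + σ c = 0}, ∃ (t r : EG Φ)
      (a : {c : F // c * Φ.ε + σ c = 0}), (∀ v, t.1.1 v = v + (c.1 * Φ.B y v) • y) ∧ PE p t ∧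
        r.1 ∈ Rad Φ e ∧ Cor α r t ∧ r.1.1 f = a.1 • e + f := fun y hy c => by
    have hs : Sing Φ y := ⟨hY.1 _ hy _ hy, hY.2 _ hy⟩
    have hc : Φ.DilOK y c.1 := ⟨by simp [c.2, hs.1], by simp [hs.2, hT.1]⟩
    have h4 := Φ.dilIsom_apply hΦ.nd y c.1 hc
    generalize Φ.dilIsom hΦ.nd y c.1 hc = t at h4
    have h5 : t ∈ Rad Φ y := mem_Rad.2 ⟨by simp [h4, hs.1], fun x hx => ⟨_, h4 x⟩⟩
    have h6 : PE p (⟨t, Rad_le_EG hs h5⟩ : EG Φ) := hΦ.Rad_PE' p hs h5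
    obtain ⟨r, hr, h7⟩ := h3 ⟨t, Rad_le_EG hs h5⟩
      ⟨fun x hx => by simp [h4, hY.1 _ hy _ hx], fun x hx => by simp [h4, hx y hy]⟩
    obtain ⟨w, hw⟩ := exists_RW_right H hr
    obtain rfl := hΦ.zero_of_comm_Rad hA H hw fun x hx => by
      have h8 := hΦ.Rad_PE' p he (r := ⟨x, Rad_le_EG he hx⟩) hx
      obtain ⟨x', h9, h10⟩ := Cor.exists_PE (α := α) (hΦ.center_PE p) h8
      have h11 := h9.conj h7
      rw [show x' * ⟨t, _⟩ * x'⁻¹ = ⟨t, Rad_le_EG hs h5⟩ from Subtype.ext (Form.Isom.ext fun v => by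
        exact (Φ.conj_dil_apply x'.1 t h4 v).trans (by rw [h2 _ _ h9 h10 hx y hy, h4]))] at h11
      have h12 := hΦ.Rad_PE' p he hr
      exact (congrArg Subtype.val (mul_inv_eq_iff_eq_mul.1
        (h11.symm.unique (hΦ.center_PE p) h7.symm (h12.conj _) h12))).symm
    obtain ⟨-, -, a, ha⟩ := hw
    refine ⟨_, r, ⟨a, ?_⟩, h4, h6, hr, h7, by simpa using ha⟩
    simpa [ha, H.ee, H.ff, H.ef, H.fe, add_comm] using (H.sing_f.map r.1).1
  obtain ⟨y, hy, z, hz, hz0, g, H', hzg⟩ := exists_two hΦ.nd hY (by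
    have := Submodule.finrank_eq_zero.not.2 h0
    omega)
  have key2 : ∀ {t t' r r' : EG Φ}, PE p t → PE p t' → r.1 ∈ Rad Φ e → r'.1 ∈ Rad Φ e →
      Cor α r t → Cor α r' t' → r.1.1 f = r'.1.1 f → t = t' := fun h4 h5 h6 h7 h8 h9 h10 =>
    h8.unique (hΦ.center_PE p) (Subtype.ext (Rad_ext h6 h7 H.ef h10) ▸ h9) h4 h5
  choose t r a h4 h5 h6 h7 h8 using key z hz
  obtain ⟨g', H''⟩ := Sing.exists_hypPair hΦ.nd ⟨hY.1 _ hz _ hz, hY.2 _ hz⟩ hz0
  have h9 : Function.Injective a := fun c d h => by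
    have := congrArg (fun k : EG Φ => k.1.1 g')
      (key2 (h5 c) (h5 d) (h6 c) (h6 d) (h7 c) (h7 d) (by rw [h8, h8, h]))
    simp only [h4, H''.ef, mul_one, add_right_inj] at this
    exact Subtype.ext (smul_left_injective F hz0 this)
  obtain ⟨-, c, hc0, hc⟩ := hT
  obtain ⟨t', r', a', h10, h11, h12, h13, h14⟩ := key y hy ⟨c, hc⟩
  obtain ⟨d, rfl⟩ := Finite.injective_iff_surjective.1 h9 a'
  have := congrArg (fun k : EG Φ => k.1.1 g)
    (key2 (h5 d) h11 (h6 d) h12 (h7 d) h13 (by rw [h8, h14]))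
  simp [h4, h10, hzg, H'.ef, hc0, H'.e_ne_zero] at this

/-- The automorphisms whose coset is determined by a maximal totally singular subspace. -/
theorem mem_of_St (hΦ : Good Φ) (h3 : finrank F V = 3 → σ ≠ RingHom.id F) (hT : Tor Φ)
    (hε : ∀ s : F ≃+* F, s Φ.ε = Φ.ε) (hτ : ∀ s : F ≃+* F, s Φ.τ = Φ.τ)
    {α γ : MulAut (EG Φ ⧸ Subgroup.center (EG Φ))} {e : V} (he : Sing Φ e) (he0 : e ≠ 0)
    {Y Y' : Submodule F V} (h1 : ∀ g g', Cor α g g' → (g ∈ Pt Φ e ↔ g' ∈ St Φ Y))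
    (h2 : ∀ g g', Cor γ g g' → (g ∈ Pt Φ e ↔ g' ∈ St Φ Y')) (k : EG Φ)
    (hk : ∀ x, x ∈ Y' ↔ k.1.1 x ∈ Y) : γ⁻¹ * α ∈ (toAut Φ).range := by
  obtain ⟨l, hl⟩ := Cor.exists_left γ k
  refine PtC.mem_range (x := e) (x' := l.1.1 e) hΦ h3 hT hε hτ
    ⟨he, he0, he.map _, by simpa using he0, fun g g' h => ?_⟩
  obtain ⟨m, hm⟩ := Cor.exists_right γ g'
  rw [h1 g m (by simpa using h.comp hm), ← conj_mem_Pt, h2 _ _ ((hl.inv.mul hm).mul hl), mem_St,
    mem_St]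
  refine ⟨fun h x hx => (hk _).2 ?_, fun h x hx => ?_⟩
  · exact show k.1.1 ((k.1⁻¹).1 _) ∈ Y by simpa using h _ ((hk x).1 hx)
  · obtain ⟨x, rfl⟩ := k.1.1.surjective x
    exact show _ ∈ Y by simpa using (hk _).1 (h x ((hk x).2 hx))

end H16
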