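import Mathlib
import Cfsg.Agent.H16.Excl

/-! The automorphism group of `PSU_n(q)`. -/

set_option autoImplicit false
set_option linter.unusedSectionVars false

namespace H16

open Module H15 H7

section Gen

variable {F : Type*} [Field F] {σ : F →+* F} {V : Type*} [AddCommGroup V] [Module F V]
  {Φ : Form σ V} [FiniteDimensional F V]

theorem card_mulAut_congr {G H : Type*} [Group G] [Group H] (e : G ≃* H) :
    Nat.card (MulAut G) = Nat.card (MulAut H) := Nat.card_congr (MulAut.congr e).toEquiv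

theorem closure_transvSet_le_EG (hQ : ∀ x, Φ.Q x = 0) : Subgroup.closure Φ.transvSet ≤ EG Φ :=
  (Subgroup.closure_le _).2 fun g ⟨p, c, hp, hg⟩ =>
    Rad_le_EG ⟨hp, hQ p⟩ (mem_Rad.2 ⟨by simp [hg, hp], fun x _ => ⟨_, hg x⟩⟩)

theorem EG_le_det_ker [Finite F] (h : Φ.Nondeg) : EG Φ ≤ Φ.det.ker := by
  obtain ⟨p, hp⟩ := CharP.exists F
  have : Fact p.Prime := ⟨CharP.char_is_prime F p⟩
  refine (Subgroup.closure_le _).2 fun g ⟨e, he, hg⟩ => ?_
  obtain ⟨k, hk⟩ := (Rad_PE p h he hg).map Φ.det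
  have h1 : ((Φ.det g : F) - 1) ^ p ^ k = 0 := by
    rw [sub_pow_char_pow, one_pow, ← Units.val_pow_eq_pow_val, hk, Units.val_one, sub_self]
  exact Units.ext (sub_eq_zero.1 (pow_eq_zero_iff (pow_pos (Fact.out : p.Prime).pos k).ne' |>.1 h1))

theorem card_aut_eq [Finite F] (hΦ : Good Φ) :
    Nat.card Fˣ * Nat.card (MulAut (EG Φ ⧸ Subgroup.center (EG Φ))) = (toAut Φ).range.index *
      (Nat.card Φ.Isom * Nat.card (SemiSim.κHom Φ).range * Nat.card (SemiSim.sHom Φ).range) := by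
  rw [← card_range_toAut hΦ, ← (toAut Φ).range.index_mul_card, mul_left_comm]

/-- Applying a field automorphism to all coordinates. -/
def piMap {ι : Type*} (s : F ≃+* F) : (ι → F) ≃+ (ι → F) := AddEquiv.piCongrRight fun _ => s

theorem piMap_apply {ι : Type*} (s : F ≃+* F) (v : ι → F) (i : ι) : piMap s v i = s (v i) := rfl

theorem piMap_smul {ι : Type*} (s : F ≃+* F) (c : F) (v : ι → F) :
    piMap s (c • v) = s c • piMap s v := funext fun i => by simp [piMap_apply]

end Gen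

variable {F : Type*} [Field F] [Fintype F] {q : ℕ} (hF : Fintype.card F = q ^ 2)
  {V : Type*} [AddCommGroup V] [Module F V] [FiniteDimensional F V] {Φ : Form (frob hF) V}

theorem herm_tr (h : Φ.Nondeg) (hH : Φ.IsHerm) (hn : 3 ≤ finrank F V) : Tr Φ := by
  have : Nontrivial V := finrank_pos_iff.1 (show 0 < finrank F V by omega)
  obtain ⟨x, hx⟩ := exists_ne (0 : V)
  obtain ⟨c, hc0, hc⟩ := exists_trace_zero (frob hF) (frob_ne_id hF) (frob_frob hF)
  exact ⟨h.tau_eq_zero hH.2.2 hx, c, hc0, by rw [hH.2.1, mul_one, hc]⟩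

theorem herm_good (h : Φ.Nondeg) (hH : Φ.IsHerm) (hn : 3 ≤ finrank F V) : Good Φ :=
  ⟨h, hn, Or.inl (herm_tr hF h hH hn), fun U hU => by
    obtain ⟨v, hv, h0, h1⟩ := hH.exists_isotropic (U := U) (by omega)
    exact ⟨v, hv, h0, h1, hH.2.2 v⟩⟩

theorem herm_EG (h : Φ.Nondeg) (hH : Φ.IsHerm) (hn : Φ.NotSU32) : EG Φ = Φ.det.ker :=
  le_antisymm (EG_le_det_ker h) (hH.closure_transvSet h hn ▸ closure_transvSet_le_EG hH.2.2)

theorem closure_frob_sq_div (hq : q ≠ 2) {M : Set F}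
    (hM : ∀ b : F, b ≠ 0 → frob hF b ^ 2 / b ∈ M) : AddSubgroup.closure M = ⊤ := by
  have h2 := two_le_of_card_sq hF
  obtain ⟨b, hb⟩ : ∃ b : Fˣ, b ^ (3 * (q - 1)) ≠ 1 := by
    by_contra hc
    push Not at hc
    have h1 := (FiniteField.forall_pow_eq_one_iff F _).1 hc
    rw [hF, show q ^ 2 - 1 = (q + 1) * (q - 1) from by simpa using Nat.sq_sub_sq q 1] at h1
    have := Nat.le_of_dvd three_pos (Nat.dvd_of_mul_dvd_mul_right (by omega) h1)
    omega
  have h3 : ∀ β : F, frob hF β = β → ∀ b : F, b ≠ 0 →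
      β * (frob hF b ^ 2 / b) ∈ AddSubgroup.closure M := fun β hβ b hb => by
    by_cases h0 : β = 0
    · simp [h0]
    · refine AddSubgroup.subset_closure ?_
      convert hM (β * b) (mul_ne_zero h0 hb) using 1
      rw [map_mul, hβ]
      field_simp
  obtain ⟨m, hm⟩ : ∃ m, m = frob hF b ^ 2 / b := ⟨_, rfl⟩
  have h4 : m - frob hF m ≠ 0 := fun h => hb (Units.ext (by
    have h5 : frob hF b ≠ 0 := by simp
    rw [hm, map_div₀, map_pow, frob_frob, sub_eq_zero, div_eq_div_iff b.ne_zero h5] at h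
    refine mul_right_cancel₀ (pow_ne_zero 3 b.ne_zero) ?_
    rw [Units.val_pow_eq_pow_val, ← pow_add, ← mul_add_one, Nat.sub_add_cancel (by omega),
      mul_comm, pow_mul, ← frob_apply hF, Units.val_one]
    linear_combination h))
  refine eq_top_iff.2 fun x _ => ?_
  have h5 : frob hF ((x - frob hF x) / (m - frob hF m)) = (x - frob hF x) / (m - frob hF m) := by
    rw [map_div₀, map_sub, map_sub, frob_frob, frob_frob, ← neg_div_neg_eq, neg_sub, neg_sub]
  have h6 := h3 (x - (x - frob hF x) / (m - frob hF m) * m) (by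
    rw [map_sub, map_mul, h5]
    field_simp
    ring) 1 one_ne_zero
  have h7 := h3 _ h5 b b.ne_zero
  simpa [← hm] using add_mem h6 h7

theorem herm_tor (h : Φ.Nondeg) (hH : Φ.IsHerm) (hn : Φ.NotSU32) (hq : finrank F V = 3 → q ≠ 2) :
    Tor Φ := fun e f u H hu hu0 hs => by
  have h0 := mem_hypPerp.1 hu
  have hE := herm_EG hF h hH hn
  have hfe : Φ.B f e = 1 := by rw [H.fe, hH.2.1]
  by_cases hs' : Sing Φ u
  · obtain ⟨v, hv, h4, h5, -⟩ := Φ.exists_hyp_partner_mem (h.disjoint_perp_perp H.disjoint) hu hu0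
      hs'.1 hs'.2
    refine closure_eq_top_of_sq fun a ha => ?_
    have ha' : frob hF a ≠ 0 := by simpa using ha
    obtain ⟨g, h1, h2⟩ := hH.exists_hyp_scale h hs'.1 h5 h4 ha
    obtain ⟨k, h6, h7⟩ := hH.exists_hyp_scale h H.ee H.ff H.ef ha'
    refine ⟨⟨g * k, hE ▸ Units.ext (by simp [h1, h6, frob_frob, ha])⟩, a⁻¹,
      mem_Pt.2 ⟨frob hF a, ?_⟩, ?_, ?_⟩
    · simp [h2, h7, hfe, H.ee, sub_smul, e_mem_perp u hu, e_mem_perp v hv]
    · simp [h2, h7, H.ef, H.ff, sub_smul, f_mem_perp u hu, f_mem_perp v hv, frob_frob]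
    · simp [h2, h7, h0.1, h0.2, hs'.1, Φ.B_symm_one h4, hH.2.1, sub_smul, sq, ha]
  · refine closure_frob_sq_div hF (hq (hs.resolve_left hs')) fun b hb => ?_
    have hb' : frob hF b ≠ 0 := by simpa using hb
    have h1 : Φ.B u u ≠ 0 := fun h1 => hs' ⟨h1, hH.2.2 u⟩
    obtain ⟨k, h6, h7⟩ := hH.exists_hyp_scale h H.ee H.ff H.ef hb
    obtain ⟨g, h2⟩ := hH.exists_dil h u (c := (frob hF b / b - 1) / Φ.B u u) (by
      rw [map_div₀, hH.symm, map_sub, map_div₀, frob_frob, map_one]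
      field_simp
      ring)
    refine ⟨⟨g * k, hE ▸ Units.ext (by
      simp only [map_mul, Units.val_mul, Φ.det_of_dil h2, h6, Units.val_one]
      field_simp
      ring)⟩, (frob hF b)⁻¹, mem_Pt.2 ⟨b, ?_⟩, ?_, ?_⟩
    · simp [h2, h7, hfe, H.ee, sub_smul, e_mem_perp u hu]
    · simp [h2, h7, H.ef, H.ff, sub_smul, f_mem_perp u hu]
    · simp only [Form.Isom.mul_apply, h2, h7, h0.1, h0.2, mul_zero, zero_smul, add_zero]
      rw [div_mul_cancel₀ _ h1, show (frob hF b)⁻¹ * (frob hF b ^ 2 / b) = frob hF b / b by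
        field_simp]
      module

theorem herm_card_κ (h : Φ.Nondeg) (hH : Φ.IsHerm) (hn : 3 ≤ finrank F V) :
    Nat.card (SemiSim.κHom Φ).range + 1 = q := by
  classical
  have h1 : ∀ c : Fˣ, c ∈ (SemiSim.κHom Φ).range ↔ (c : F) ^ q = c := fun c => by
    rw [SemiSim.mem_range_κHom, ← frob_apply hF]
    constructor
    · rintro ⟨g, h1, -⟩
      obtain ⟨v, -, hv⟩ := hH.exists_unit (U := ⊤) (by rw [h.perp_top]; exact disjoint_bot_right)
        fun h2 => by
          have := finrank_top F V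
          rw [h2, finrank_bot] at this
          omega
      have := h1 v v
      rw [hv, mul_one] at this
      rw [← this, hH.symm]
    · intro hc
      obtain ⟨x, hx⟩ := norm_surj _ (frob_ne_id hF) (frob_frob hF) hc
      have hx0 : x ≠ 0 := by rintro rfl; exact c.ne_zero (by simpa using hx.symm)
      refine ⟨LinearEquiv.smulOfNeZero F V x hx0, fun u v => ?_, fun v => by simp [hH.2.2]⟩
      simp [← hx, mul_assoc]
  refine Eq.trans ?_ ((card_ne_zero_and (fun x : F => x ^ q = x)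
    (zero_pow (by have := two_le_of_card_sq hF; omega))).trans (card_fixed hF))
  congr 1
  exact Nat.card_congr ⟨fun c => ⟨c.1, c.1.ne_zero, (h1 _).1 c.2⟩,
    fun x => ⟨Units.mk0 x.1 x.2.1, (h1 _).2 x.2.2⟩, fun c => by simp, fun x => rfl⟩

include hF in
theorem card_aut_psu (p f : ℕ) [Fact p.Prime] (hq : q = p ^ f) (n : ℕ) (hn : 3 ≤ n)
    (h32 : ¬ (n = 3 ∧ q = 2)) : Nat.card (MulAut (Cfsg.PSU n F q)) =
      Nat.gcd n (q + 1) * (2 * f) * Nat.card (Cfsg.PSU n F q) := by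
  have h := unForm_nondeg hF n
  have hH := unForm_isHerm hF n
  have hd : finrank F (Fin n → F) = n := by simp
  have hΦ := herm_good hF h hH (by omega)
  have h1 := card_aut_eq hΦ
  have h2 : (toAut (unForm hF n)).range = ⊤ := eq_top_iff.2 fun α _ => by
    obtain ⟨e, he0, he⟩ := hΦ.exists_sing
    obtain ⟨e', h3⟩ := hΦ.exists_ptC (herm_tr hF h hH (by omega))
      (by simpa using exists_ne_eps_sigma hH.1 _) α he he0
    exact h3.mem_range hΦ (fun _ => hH.1)
      (herm_tor hF h hH (notSU32 hF n hn h32) fun h4 h5 => h32 ⟨by omega, h5⟩)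
      (fun s => map_one s) fun s => map_zero s
  have h3 : (SemiSim.sHom (unForm hF n)).range = ⊤ := eq_top_iff.2 fun s _ =>
    ⟨⟨piMap s, s, 1, piMap_smul s, fun u v => by simp [unForm_B', piMap_apply, frob_apply],
      fun v => by simp⟩, rfl⟩
  have h4 := herm_card_κ hF h hH (by omega)
  rw [h2, h3, Subgroup.index_top, Subgroup.card_top, card_ringAut p (2 * f) (by
    rw [hF, hq, ← pow_mul, mul_comm]), card_units_sq hF, card_isom_herm hF n _ _ h hH hd,
    ← card_psu hF n (by omega), Nat.eq_sub_of_add_eq h4] at h1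
  rw [card_mulAut_congr (quotCenterCongr ((suEquiv hF n).trans
    (MulEquiv.subgroupCongr (herm_EG hF h hH (notSU32 hF n hn h32)).symm)))]
  have := two_le_of_card_sq hF
  refine Nat.eq_of_mul_eq_mul_left (show 0 < (q + 1) * (q - 1) from Nat.mul_pos (by omega) (by omega)) ?_
  rw [h1]
  ring

end H16
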