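import Mathlib
import Cfsg.Agent.H7.SL
import Cfsg.Agent.H16.AutSU

/-! The special linear group as the elementary group of the zero form; stabilisers of points and
hyperplanes under automorphisms. -/

set_option autoImplicit false
set_option linter.unusedSectionVars false

namespace H16

open Module H15 H7

section SC

variable {F : Type*} [Field F] {σ : F →+* F} {V : Type*} [AddCommGroup V] [Module F V]
  {Φ : Form σ V} [FiniteDimensional F V]

/-- The stabilisers of `X` and `X'` correspond. -/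
def SC (α : MulAut (EG Φ ⧸ Subgroup.center (EG Φ))) (X X' : Submodule F V) : Prop :=
  ∀ g g', Cor α g g' → (g ∈ St Φ X ↔ g' ∈ St Φ X')

variable {α β : MulAut (EG Φ ⧸ Subgroup.center (EG Φ))} {X X' Y Y' : Submodule F V}

theorem SC.symm (h : SC α X X') : SC α⁻¹ X' X := fun g g' hg => (h g' g (Cor.inv_iff.1 hg)).symm

theorem SC.trans (h : SC α X X') (h' : SC β X' Y) : SC (β * α) X Y := fun g g' hg => by
  obtain ⟨k, hk⟩ := Cor.exists_right α g
  refine (h g k hk).trans (h' k g' ?_)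
  simpa using (Cor.inv_iff.2 hk).comp hg

theorem conj_mem_St {k g : EG Φ} (h : ∀ x, x ∈ X ↔ k.1.1 x ∈ Y) :
    k⁻¹ * g * k ∈ St Φ X ↔ g ∈ St Φ Y := by
  rw [mem_St, mem_St]
  refine ⟨fun h1 y hy => ?_, fun h1 x hx => (h _).2 ?_⟩
  · obtain ⟨x, rfl⟩ := k.1.1.surjective y
    exact show _ ∈ Y by simpa using (h _).1 (h1 x ((h x).2 hy))
  · exact show k.1.1 ((k.1⁻¹).1 _) ∈ Y by simpa using h1 _ ((h x).1 hx)

theorem SC.map (h : SC α X X') {k k' : EG Φ} (hk : Cor α k k') (h1 : ∀ x, x ∈ X ↔ k.1.1 x ∈ Y)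
    (h2 : ∀ x, x ∈ X' ↔ k'.1.1 x ∈ Y') : SC α Y Y' := fun g g' hg => by
  rw [← conj_mem_St h1, ← conj_mem_St h2]
  exact h _ _ ((hk.inv.mul hg).mul hk)

theorem SC.eq (h : SC α X Y) (h' : SC α X' Y) : St Φ X = St Φ X' := Subgroup.ext fun g => by
  obtain ⟨k, hk⟩ := Cor.exists_right α g
  rw [h g k hk, h' g k hk]

theorem sc_toAut (hZ : Subgroup.center (EG Φ) ≤ St Φ Y) (a : SemiSim Φ)
    (h : ∀ x, x ∈ X ↔ a.fn x ∈ Y) : SC (toAut Φ a) X Y := fun g g' hg => by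
  rw [← (St Φ Y).mul_mem_cancel_right (hZ (hg.mem_center (cor_toAut a g))),
    mul_inv_cancel_left, mem_St, mem_St]
  refine ⟨fun h1 y hy => ?_, fun h1 x hx => (h _).2 ?_⟩
  · obtain ⟨x, rfl⟩ := a.fn.surjective y
    simpa [SemiSim.conjE_apply] using (h _).1 (h1 x ((h x).2 hy))
  · simpa [SemiSim.conjE_apply] using h1 _ ((h x).1 hx)

theorem mem_span_iff_add (a : V ≃+ V) (s : F ≃+* F) (h : ∀ (c : F) v, a (c • v) = s c • a v)
    (e x : V) : x ∈ Submodule.span F {e} ↔ a x ∈ Submodule.span F {a e} := by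
  simp only [Submodule.mem_span_singleton]
  exact ⟨fun ⟨c, hc⟩ => ⟨s c, by rw [← hc, h]⟩,
    fun ⟨c, hc⟩ => ⟨s.symm c, a.injective (by rw [h, ← hc]; simp)⟩⟩

theorem mem_span_iff (g : Φ.Isom) (e x : V) :
    x ∈ Submodule.span F {e} ↔ g.1 x ∈ Submodule.span F {g.1 e} :=
  mem_span_iff_add g.1.toAddEquiv (RingEquiv.refl F) (by simp) e x

end SC

/-- The zero form. -/
def zf (F V : Type*) [Field F] [AddCommGroup V] [Module F V] : Form (RingHom.id F) V where
  B := 0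
  Q := 0
  ε := 1
  τ := 0
  invol _ := rfl
  eps := by simp
  symm := by simp
  Q_add := by simp
  Q_smul := by simp
  adj := by simp

variable {F : Type*} [Field F] {V : Type*} [AddCommGroup V] [Module F V] [FiniteDimensional F V]

/-- A linear automorphism is an isometry of the zero form. -/
def zI (g : V ≃ₗ[F] V) : (zf F V).Isom := ⟨g, fun _ _ => rfl, fun _ => rfl⟩

theorem mem_rad_zf {X : Submodule F V} {g : (zf F V).Isom} :
    g ∈ rad (zf F V) X ↔ (∀ y ∈ X, g.1 y = y) ∧ ∀ x, g.1 x - x ∈ X :=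
  ⟨fun h => ⟨h.1, fun x => h.2 x fun _ _ => rfl⟩, fun h => ⟨h.1, fun x _ => h.2 x⟩⟩

/-- A transvection. -/
def tv (φ : Dual F V) (v : V) (h : φ v = 0) : EG (zf F V) :=
  ⟨zI (LinearEquiv.transvection h), Rad_le_EG (e := v) ⟨rfl, rfl⟩ (mem_Rad.2
    ⟨by simp [zI, LinearMap.transvection.apply, h], fun x _ => ⟨φ x, rfl⟩⟩)⟩

theorem tv_apply (φ : Dual F V) (v : V) (h : φ v = 0) (x : V) :
    (tv φ v h).1.1 x = x + φ x • v := rfl

theorem tv_mem_St {φ : Dual F V} {v : V} (h : φ v = 0) {X : Submodule F V} (hv : v ∈ X) :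
    tv φ v h ∈ St (zf F V) X := mem_St.2 fun x hx => add_mem hx (X.smul_mem _ hv)

theorem exists_dual_one {W : Submodule F V} {u : V} (hu : u ∉ W) :
    ∃ φ : Dual F V, (∀ x ∈ W, φ x = 0) ∧ φ u = 1 :=
  (exists_dual_two hu hu).imp fun _ h => ⟨h.1, h.2.1⟩

theorem exists_tv_pt {U : Submodule F V} {x y : V} (hx : x ≠ 0) (hy : y ≠ 0) (hxU : x ∈ U)
    (hyU : y ∈ U) : ∃ l : EG (zf F V), (∀ v, l.1.1 v - v ∈ U) ∧ ∃ c : F, y = c • l.1.1 x := by
  obtain ⟨φ, -, h1, h2⟩ := exists_dual_two (F := F) (W := ⊥) hx hy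
  refine ⟨tv φ ((φ y)⁻¹ • y - x) (by simp [h1, h2]), fun v => ?_, φ y, by simp [tv_apply, h1, h2]⟩
  simpa [tv_apply] using U.smul_mem _ (sub_mem (U.smul_mem _ hyU) hxU)

theorem exists_tv_dual {U : Submodule F V} {φ ψ : Dual F V} (h1 : ∃ u ∈ U, φ u ≠ 0)
    (h2 : ∃ u ∈ U, ψ u ≠ 0) :
    ∃ l : EG (zf F V), (∀ v, l.1.1 v - v ∈ U) ∧ ∀ x, φ x = 0 ↔ ψ (l.1.1 x) = 0 := by
  obtain ⟨v, hv, h3, h4⟩ : ∃ v ∈ U, φ v ≠ 0 ∧ ψ v ≠ 0 := by
    obtain ⟨a, ha, h1⟩ := h1
    obtain ⟨b, hb, h2⟩ := h2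
    by_cases h3 : ψ a = 0
    · by_cases h4 : φ b = 0
      · exact ⟨a + b, U.add_mem ha hb, by simpa [h4] using h1, by simpa [h3] using h2⟩
      · exact ⟨b, hb, h4, h2⟩
    · exact ⟨a, ha, h1, h3⟩
  refine ⟨tv ((φ v)⁻¹ • φ - (ψ v)⁻¹ • ψ) v (by simp [h3, h4]), fun x => ?_, fun x => ?_⟩
  · simpa [tv_apply] using U.smul_mem _ hv
  · have : ψ (x + ((φ v)⁻¹ * φ x - (ψ v)⁻¹ * ψ x) • v) = ψ v / φ v * φ x := by
      simp only [map_add, map_smul, smul_eq_mul]
      field_simp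
      ring
    simp [-map_add, tv_apply, this, h3, h4]

theorem mem_span_of_tv {x y : V} (hy : y ≠ 0)
    (h : ∀ φ hφ, tv φ x hφ ∈ Pt (zf F V) y) : x ∈ Submodule.span F {y} := by
  by_cases h1 : y ∈ Submodule.span F {x}
  · obtain ⟨c, rfl⟩ := Submodule.mem_span_singleton.1 h1
    exact Submodule.mem_span_singleton.2 ⟨c⁻¹, by simp [left_ne_zero_of_smul hy]⟩
  · obtain ⟨φ, h2, h3⟩ := exists_dual_one h1
    obtain ⟨c, hc⟩ := mem_Pt.1 (h φ (h2 x (Submodule.mem_span_singleton_self x)))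
    rw [tv_apply, h3, one_smul] at hc
    exact Submodule.mem_span_singleton.2 ⟨c - 1, by rw [sub_smul, ← hc]; simp⟩

theorem le_span_of_St {X : Submodule F V} {y : V} (hy : y ≠ 0) (h : St (zf F V) X ≤ Pt (zf F V) y) :
    X ≤ Submodule.span F {y} := fun _ hx => mem_span_of_tv hy fun _ hφ => h (tv_mem_St hφ hx)

theorem exists_not_mem_span (h2 : 2 ≤ finrank F V) (x : V) : ∃ y, y ∉ Submodule.span F {x} := by
  by_contra hc
  push Not at hc
  have h1 := Submodule.finrank_mono (show ⊤ ≤ _ from fun y _ => hc y)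
  have h3 : finrank F (Submodule.span F {x}) ≤ 1 := by simpa using finrank_span_le_card {x}
  rw [finrank_top] at h1
  omega

theorem exists_scalar_add (h2 : 2 ≤ finrank F V) (a : V →+ V)
    (h : ∀ x, a x ∈ Submodule.span F {x}) : ∃ c : F, ∀ x, a x = c • x := by
  choose l hl using fun x => Submodule.mem_span_singleton.1 (h x)
  have h1 : ∀ x y, x ≠ 0 → y ∉ Submodule.span F {x} → l x = l y := fun x y hx hy => by
    have h3 := hl (x + y)
    rw [map_add, ← hl, ← hl] at h3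
    obtain ⟨φ, h4, h5⟩ := exists_dual_one hy
    have h6 := congrArg φ h3
    simp only [map_smul, map_add, h4 x (Submodule.mem_span_singleton_self x), h5, smul_eq_mul,
      zero_add, mul_zero, mul_one] at h6
    rw [h6, smul_add, add_left_inj] at h3
    exact (smul_left_injective F hx h3).symm
  obtain ⟨x, hx⟩ := exists_not_mem_span h2 0
  have hx0 : x ≠ 0 := by simpa using hx
  obtain ⟨y, hy⟩ := exists_not_mem_span h2 x
  refine ⟨l x, fun z => ?_⟩
  by_cases hz : z ∈ Submodule.span F {x}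
  · by_cases hz0 : z = 0
    · simp [hz0]
    rw [← hl, h1 x y hx0 hy, h1 z y hz0 fun h => hy ((Submodule.span_singleton_le_iff_mem _ _).2 hz h)]
  · rw [← hl, h1 x z hx0 hz]

theorem mem_span_of_comm (a : V ≃+ V) (s : F ≃+* F) (h : ∀ (c : F) v, a (c • v) = s c • a v)
    (h2 : 2 ≤ finrank F V)
    (hc : ∀ (φ : Dual F V) v hv x, a ((tv φ v hv).1.1 x) = (tv φ v hv).1.1 (a x)) (x : V) :
    a x ∈ Submodule.span F {x} := by
  obtain ⟨y, hy⟩ := exists_not_mem_span h2 x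
  obtain ⟨φ, h3, h4⟩ := exists_dual_one hy
  have := hc φ x (h3 x (Submodule.mem_span_singleton_self x)) y
  rw [tv_apply, tv_apply, h4, one_smul, map_add, add_right_inj] at this
  exact Submodule.mem_span_singleton.2 ⟨_, this.symm⟩

theorem zf_center (h2 : 2 ≤ finrank F V) {g : EG (zf F V)} :
    g ∈ Subgroup.center (EG (zf F V)) ↔ ∃ c : F, ∀ v, g.1.1 v = c • v :=
  ⟨fun hg => exists_scalar_add h2 g.1.1.toAddEquiv.toAddMonoidHom
    (mem_span_of_comm g.1.1.toAddEquiv (RingEquiv.refl F) (by simp) h2 fun φ v hv x =>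
      (congrArg (fun k : EG (zf F V) => k.1.1 x) (Subgroup.mem_center_iff.1 hg (tv φ v hv))).symm),
    fun ⟨_, hc⟩ => mem_center_of_scalar (EG _).subtype Subtype.val_injective hc⟩

theorem zf_center_le (h2 : 2 ≤ finrank F V) (Y : Submodule F V) :
    Subgroup.center (EG (zf F V)) ≤ St (zf F V) Y := fun z hz => by
  obtain ⟨c, hc⟩ := (zf_center h2).1 hz
  exact mem_St.2 fun x hx => hc x ▸ Y.smul_mem c hx

theorem St_ne_top {X : Submodule F V} (h0 : X ≠ ⊥) (h1 : X ≠ ⊤) : St (zf F V) X ≠ ⊤ := fun h => by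
  obtain ⟨x, hx, hx0⟩ := Submodule.exists_mem_ne_zero_of_ne_bot h0
  refine h1 (eq_top_iff.2 fun y _ => ?_)
  by_cases hy : y = 0
  · simp [hy]
  obtain ⟨l, -, c, rfl⟩ := exists_tv_pt (F := F) (U := ⊤) hx0 hy trivial trivial
  exact X.smul_mem _ (mem_St.1 (h.ge trivial) x hx)

theorem finrank_ker {φ : Dual F V} {f : V} (hf : φ f = 1) :
    finrank F (LinearMap.ker φ) + 1 = finrank F V :=
  Module.Dual.finrank_ker_add_one_of_ne_zero (by rintro rfl; simp at hf)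

theorem exists_mem_ker (h2 : 2 ≤ finrank F V) {φ : Dual F V} {f : V} (hf : φ f = 1) :
    ∃ h, φ h = 0 ∧ h ≠ 0 := Submodule.exists_mem_ne_zero_of_ne_bot (p := LinearMap.ker φ) fun h => by
  have := finrank_ker hf
  rw [h, finrank_bot] at this
  omega

theorem isCoatom_ker (h2 : 2 ≤ finrank F V) {φ : Dual F V} {f : V} (hf : φ f = 1) :
    IsCoatom (St (zf F V) (LinearMap.ker φ)) := by
  refine ⟨St_ne_top ((Submodule.ne_bot_iff _).2 (exists_mem_ker h2 hf)) fun h => by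
    simpa [hf] using (h.ge trivial : f ∈ _), fun T hT => eq_top_iff.2 fun k _ => ?_⟩
  obtain ⟨g, hg, hg'⟩ := SetLike.exists_of_lt hT
  by_cases hk : k ∈ St (zf F V) (LinearMap.ker φ)
  · exact hT.le hk
  simp only [mem_St, LinearMap.mem_ker, not_forall] at hg' hk
  obtain ⟨l, h3, h4⟩ := exists_tv_dual (U := LinearMap.ker φ) (φ := φ ∘ₗ k.1.1) (ψ := φ ∘ₗ g.1.1)
    (by simpa using hk) (by simpa using hg')
  have h5 : l ∈ T := hT.le (mem_St.2 fun x hx => by simpa using add_mem (h3 x) hx)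
  have h6 : g * l * k⁻¹ ∈ T := hT.le (mem_St.2 fun x hx => (h4 ((k.1⁻¹).1 x)).1 (by simpa using hx))
  simpa [mul_assoc] using T.mul_mem (T.inv_mem h6) (T.mul_mem hg h5)

theorem exists_mul_of_St {φ : Dual F V} {f : V} (hf : φ f = 1) {g : EG (zf F V)}
    (hg : g ∈ St (zf F V) (LinearMap.ker φ)) : ∃ μ : F, μ ≠ 0 ∧ ∀ x, φ (g.1.1 x) = μ * φ x := by
  have h1 : ∀ x, φ (g.1.1 x) = φ (g.1.1 f) * φ x := fun x => by
    have := mem_St.1 hg (x - φ x • f) (by simp [hf])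
    simpa [sub_eq_zero, mul_comm] using this
  exact ⟨_, fun h => by simpa [h, hf] using h1 ((g.1⁻¹).1 f), h1⟩

variable (p : ℕ) [Fact p.Prime] [CharP F p]

theorem rad_zf_PE {X : Submodule F V} {g : EG (zf F V)} (hg : g.1 ∈ rad (zf F V) X) : PE p g :=
  ⟨1, Subtype.ext (Form.Isom.ext fun x => by
    rw [pow_one]; exact pow_char_apply p g.1.1 (hg.1 _ ((mem_rad_zf.1 hg).2 x)))⟩

theorem tv_PE (φ : Dual F V) (v : V) (h : φ v = 0) : PE p (tv φ v h) :=
  rad_zf_PE p (X := LinearMap.ker φ) (mem_rad_zf.2 ⟨fun y hy => by simp [tv_apply, LinearMap.mem_ker.1 hy],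
    fun x => by simp [tv_apply, h]⟩)

theorem zf_center_PE (h2 : 2 ≤ finrank F V) :
    ∀ z ∈ Subgroup.center (EG (zf F V)), PE p z → z = 1 := fun z hz hp => by
  obtain ⟨c, hc⟩ := (zf_center h2).1 hz
  exact Subtype.ext (Form.Isom.ext fun v =>
    eq_of_PE p ((hp.map (EG _).subtype).map (zf F V).Isom.subtype) (hc v))

variable [Finite F]

theorem mem_rad_of_normal (h2 : 2 ≤ finrank F V) {φ : Dual F V} {f : V} (hf : φ f = 1)
    {N : Subgroup (EG (zf F V))} (hN : IsPGroup p N) (h1 : N ≤ St (zf F V) (LinearMap.ker φ))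
    (h3 : ∀ g ∈ St (zf F V) (LinearMap.ker φ), ∀ n ∈ N, g * n * g⁻¹ ∈ N) :
    ∀ n ∈ N, n.1 ∈ rad (zf F V) (LinearMap.ker φ) := fun n hn => by
  have : Finite V := Module.finite_of_finite F
  obtain ⟨x, hx, hx0, h4⟩ := exists_fixed_mem p hN
    (((zf F V).Isom.subtype.comp (EG _).subtype).comp N.subtype)
    ((Submodule.ne_bot_iff _).2 (exists_mem_ker h2 hf)) fun g => mem_St.1 (h1 g.2)
  refine mem_rad_zf.2 ⟨fun y hy => ?_, fun y => ?_⟩
  · by_cases hy0 : y = 0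
    · simp [hy0]
    obtain ⟨l, h5, c, rfl⟩ := exists_tv_pt hx0 hy0 hx hy
    have h6 := h4 ⟨_, h3 l⁻¹ (inv_mem (mem_St.2 fun x hx => by simpa using add_mem (h5 x) hx)) n hn⟩
    rw [map_smul]
    exact congrArg _ ((Form.Isom.inv_apply_eq _).1 (show (l.1⁻¹).1 _ = x by simpa using h6)).symm
  · obtain ⟨μ, -, h5⟩ := exists_mul_of_St hf (h1 hn)
    obtain ⟨k, hk⟩ := PE.of_mem hN hn
    have h6 : ∀ m : ℕ, φ ((n ^ m).1.1 f) = μ ^ m := fun m => by
      induction m with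
      | zero => simpa using hf
      | succ m ih => rw [pow_succ', pow_succ', ← ih, ← h5]; rfl
    have h7 : (μ - 1) ^ p ^ k = 0 := by rw [sub_pow_char_pow, one_pow, ← h6, hk]; simp [hf]
    simp [h5, sub_eq_zero.1 (pow_eq_zero_iff (pow_pos (Fact.out : p.Prime).pos k).ne' |>.1 h7)]

theorem isPGroup_rad_zf (X : Submodule F V) :
    IsPGroup p ((rad (zf F V) X).subgroupOf (EG (zf F V))) := isPGroup_of_PE fun _ => rad_zf_PE p

variable {α : MulAut (EG (zf F V) ⧸ Subgroup.center (EG (zf F V)))}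

include p in
theorem SC.exists_rad (h2 : 2 ≤ finrank F V) {X : Submodule F V} {φ : Dual F V} {f : V}
    (hf : φ f = 1) (h : SC α X (LinearMap.ker φ)) {r : EG (zf F V)} (hr : r.1 ∈ rad (zf F V) X) :
    ∃ r' : EG (zf F V), r'.1 ∈ rad (zf F V) (LinearMap.ker φ) ∧ Cor α r r' := by
  obtain ⟨N, hN, hN'⟩ := exists_liftP α (isPGroup_rad_zf p X)
  obtain ⟨r', h3, h4⟩ := Cor.exists_PE (α := α) (zf_center_PE p h2) (rad_zf_PE p hr)
  refine ⟨r', mem_rad_of_normal p h2 hf hN (fun n hn => ?_) (fun g hg n hn => ?_) r'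
    ((hN' _).2 ⟨h4, r, hr, h3⟩), h3⟩
  · obtain ⟨-, m, h5, h6⟩ := (hN' n).1 hn
    exact (h _ _ h6).1 (mem_St.2 fun x hx => (show m.1.1 x = x from h5.1 x hx).symm ▸ hx)
  · obtain ⟨h5, m, h6, h7⟩ := (hN' n).1 hn
    obtain ⟨k, hk⟩ := Cor.exists_left α g
    exact (hN' _).2 ⟨h5.conj g, _, conj_mem_rad h6 ((h _ _ hk).2 hg), hk.conj h7⟩

theorem det_eq_one_of_PE {g : (zf F V).Isom} (hg : PE p g) : (zf F V).det g = 1 := by
  obtain ⟨k, hk⟩ := hg.map (zf F V).det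
  have h1 : (((zf F V).det g : F) - 1) ^ p ^ k = 0 := by
    rw [sub_pow_char_pow, one_pow, ← Units.val_pow_eq_pow_val, hk, Units.val_one, sub_self]
  exact Units.ext (sub_eq_zero.1 (pow_eq_zero_iff (pow_pos (Fact.out : p.Prime).pos k).ne' |>.1 h1))

include p in
variable (α) in
theorem exists_SC (hE : (zf F V).det.ker ≤ EG (zf F V)) (h2 : 2 ≤ finrank F V) {φ : Dual F V}
    {f : V} (hf : φ f = 1) :
    ∃ X, SC α (LinearMap.ker φ) X ∧ (finrank F X = 1 ∨ finrank F X + 1 = finrank F V) := by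
  have : Finite V := Module.finite_of_finite F
  have hc := zf_center_le h2 (LinearMap.ker φ)
  obtain ⟨N, hN, hN'⟩ := exists_liftP α (isPGroup_rad_zf p (LinearMap.ker φ))
  let X : Submodule F V :=
    { carrier := {x | ∀ n ∈ N, n.1.1 x = x}
      add_mem' := fun {a b} ha hb n hn => by rw [map_add, ha n hn, hb n hn]
      zero_mem' := fun n hn => by simp
      smul_mem' := fun c a ha n hn => by rw [map_smul, ha n hn] }
  obtain ⟨h, hh, hh0⟩ := exists_mem_ker h2 hf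
  have hX0 : X ≠ ⊥ := by
    obtain ⟨y, -, hy0, hy⟩ := exists_fixed_mem p hN (X := ⊤)
      (((zf F V).Isom.subtype.comp (EG _).subtype).comp (Subgroup.subtype _))
      (fun h => hh0 (h.le trivial)) fun _ _ _ => trivial
    exact (Submodule.ne_bot_iff _).2 ⟨y, fun n hn => hy ⟨n, hn⟩, hy0⟩
  have hX1 : X ≠ ⊤ := fun h1 => by
    obtain ⟨r', h3, h4⟩ := Cor.exists_PE (α := α) (zf_center_PE p h2) (tv_PE p φ h hh)
    have h5 : r' = 1 := Subtype.ext (Form.Isom.ext fun v => (h1.ge trivial : v ∈ X) r'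
      ((hN' _).2 ⟨h4, _, mem_rad_zf.2 ⟨fun y hy => by simp [tv_apply, LinearMap.mem_ker.1 hy],
        fun x => by simp [tv_apply, hh]⟩, h3⟩))
    have h6 := zf_center_PE p h2 _ (h3.center_iff.2 (h5 ▸ one_mem _)) (tv_PE p φ h hh)
    simpa [tv_apply, hf, hh0] using congrArg (fun k : EG (zf F V) => k.1.1 f) h6
  have hK : corMap α (St (zf F V) (LinearMap.ker φ)) = St (zf F V) X :=
    (((isCoatom_corMap hc (isCoatom_ker h2 hf)).le_iff_eq (St_ne_top hX0 hX1)).1 fun k hk =>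
      mem_St.2 fun x hx n hn => by
        obtain ⟨g, hg, h1⟩ := mem_corMap.1 (inv_mem hk)
        obtain ⟨h2, r, hr, h3⟩ := (hN' n).1 hn
        have := hx _ ((hN' _).2 ⟨h2.conj k⁻¹, _, conj_mem_rad hr hg, h1.conj h3⟩)
        rw [inv_inv] at this
        exact (Form.Isom.inv_apply_eq _).1 this |>.symm).symm
  have hS : SC α (LinearMap.ker φ) X := fun g g' h => hK ▸ h.mem_iff hc
  refine ⟨X, hS, ?_⟩
  have h3 : ∀ ψ : V ⧸ X →ₗ[F] X, ∃ r : EG (zf F V), r.1 ∈ rad (zf F V) X ∧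
      ∀ x, r.1.1 x = x + ψ (X.mkQ x) := fun ψ => by
    have h4 : ∀ y ∈ X, X.mkQ y = 0 := fun y hy => (Submodule.Quotient.mk_eq_zero _).2 hy
    let g := LinearEquiv.ofInjectiveEndo (LinearMap.id + X.subtype ∘ₗ ψ ∘ₗ X.mkQ)
      ((injective_iff_map_eq_zero _).2 fun x hx => by
        have h5 : x = -(ψ (X.mkQ x) : V) := eq_neg_of_add_eq_zero_left hx
        rw [h5, h4 x (h5 ▸ neg_mem (ψ _).2)]; simp)
    have h5 : ∀ x, (zI g).1 x = x + ψ (X.mkQ x) := fun _ => rfl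
    have h6 : zI g ∈ rad (zf F V) X :=
      mem_rad_zf.2 ⟨fun y hy => by simp [h5, -Submodule.mkQ_apply, h4 y hy], fun x => by simp [h5]⟩
    exact ⟨⟨zI g, hE (det_eq_one_of_PE p ⟨1, Form.Isom.ext fun x => by
      rw [pow_one]; exact pow_char_apply p g (h6.1 _ ((mem_rad_zf.1 h6).2 x))⟩)⟩, h6, h5⟩
  choose r h4 h5 using h3
  choose r' h6 h7 using fun ψ => hS.symm.exists_rad p h2 hf (h4 ψ)
  have := Fintype.ofFinite F
  have h8 := Nat.card_le_card_of_injective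
    (fun ψ => (⟨_, (mem_rad_zf.1 (h6 ψ)).2 f⟩ : LinearMap.ker φ)) fun ψ χ h => by
      have h8 : r' ψ = r' χ := Subtype.ext (Form.Isom.ext fun v => by
        have h9 := fun ψ => (h6 ψ).1 (v - φ v • f) (by simp [hf])
        have h10 : (r' ψ).1.1 f = (r' χ).1.1 f := sub_left_injective (congrArg Subtype.val h)
        simp only [map_sub, map_smul, sub_eq_iff_eq_add] at h9
        rw [h9, h9, h10])
      have h9 := (Cor.inv_iff.1 (h7 ψ)).unique (zf_center_PE p h2) (h8 ▸ Cor.inv_iff.1 (h7 χ))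
        (rad_zf_PE p (h4 ψ)) (rad_zf_PE p (h4 χ))
      refine X.linearMap_qext (LinearMap.ext fun x => Subtype.ext ?_)
      simpa [h5] using congrArg (fun k : EG (zf F V) => k.1.1 x) h9
  rw [card_eq_pow (F := F) rfl, card_eq_pow (F := F) rfl, Nat.pow_le_pow_iff_right Fintype.one_lt_card,
    Module.finrank_linearMap] at h8
  have h9 := finrank_ker hf
  have h10 := X.finrank_quotient_add_finrank
  have h11 := Submodule.finrank_eq_zero.not.2 hX0
  have h12 := Submodule.finrank_lt hX1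
  obtain ⟨a, ha⟩ : ∃ a, finrank F X = a + 1 := ⟨finrank F X - 1, by omega⟩
  obtain ⟨b, hb⟩ : ∃ b, finrank F (V ⧸ X) = b + 1 := ⟨finrank F (V ⧸ X) - 1, by omega⟩
  rw [ha, hb] at h8
  have h13 : b * a = 0 := by nlinarith
  rcases mul_eq_zero.1 h13 with h | h <;> omega

omit [Fact p.Prime] [CharP F p] in
theorem exists_dualAut (hE : EG (zf F V) = (zf F V).det.ker) (h2 : 2 ≤ finrank F V) :
    ∃ τ : MulAut (EG (zf F V) ⧸ Subgroup.center (EG (zf F V))), ∀ e : V, e ≠ 0 →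
      ∃ (φ : Dual F V) (f : V), φ f = 1 ∧ SC τ (Submodule.span F {e}) (LinearMap.ker φ) := by
  let D := (finBasis F V).toDualEquiv
  let t : EG (zf F V) → EG (zf F V) := fun g =>
    ⟨zI ((D.trans (g.1⁻¹).1.dualMap).trans D.symm), hE.ge (Units.ext (by
      have h1 := congrArg Units.val (hE.le (inv_mem g.2))
      rw [Form.coe_det] at h1 ⊢
      refine Eq.trans ?_ ((LinearMap.det_conj _ D.symm).trans ((LinearMap.det_dualMap _).trans h1))
      rfl))⟩
  have h1 : ∀ g x y, D ((t g).1.1 x) y = D x ((g.1⁻¹).1 y) := fun g x y =>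
    congrArg (fun φ : Dual F V => φ y) (D.apply_symm_apply _)
  have h3 : ∀ {x y : V}, (∀ φ : Dual F V, φ x = φ y) → x = y := fun h =>
    sub_eq_zero.1 ((Module.forall_dual_apply_eq_zero_iff F _).1 fun φ => by simp [h φ])
  let τ := MonoidHom.mk' t fun a b => Subtype.ext (Form.Isom.ext fun v =>
    D.injective (LinearMap.ext fun y => by
      change _ = D ((t a).1.1 ((t b).1.1 v)) y
      rw [h1, h1, h1]; rfl))
  have h4 : Function.Injective τ := (injective_iff_map_eq_one _).2 fun g hg =>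
    inv_eq_one.1 (Subtype.ext (Form.Isom.ext fun v => h3 fun φ => by
      obtain ⟨x, rfl⟩ := D.surjective φ
      exact (h1 g x v).symm.trans (by rw [show t g = 1 from hg]; rfl)))
  refine ⟨autQuot _ (MulEquiv.ofBijective τ (Finite.injective_iff_bijective.1 h4)), fun e he => ?_⟩
  obtain ⟨ψ, -, hψ⟩ := exists_dual_one (W := ⊥) (F := F) he
  refine ⟨(D : V →ₗ[F] Dual F V).flip e, D.symm ψ, by simpa using hψ, fun g g' hg => ?_⟩
  rw [← (St _ (LinearMap.ker _)).mul_mem_cancel_right (zf_center_le h2 _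
    (hg.mem_center (cor_autQuot _ g))), mul_inv_cancel_left, ← inv_mem_iff]
  refine mem_Pt.trans (Iff.trans ?_ mem_St.symm)
  refine ⟨fun ⟨c, hc⟩ x hx => (h1 g x e).trans ?_, fun h => ?_⟩
  · rw [show (g.1⁻¹).1 e = c • e from hc, map_smul, show D x e = 0 from hx, smul_zero]
  · by_contra hc
    obtain ⟨φ, h5, h6⟩ := exists_dual_one (u := (g.1⁻¹).1 e) (W := Submodule.span F {e}) fun h =>
      hc ((Submodule.mem_span_singleton.1 h).imp fun _ h => h.symm)
    obtain ⟨x, rfl⟩ := D.surjective φ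
    exact one_ne_zero (h6.symm.trans ((h1 g x e).symm.trans
      (h x (h5 e (Submodule.mem_span_singleton_self e)))))

end H16
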