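import Mathlib
import Cfsg.Agent.H16.AutSL

/-! The automorphism group of `PSL_n(q)`. -/

set_option autoImplicit false
set_option linter.unusedSectionVars false

namespace H16

open Module H15 H7

section Gen

variable {F : Type*} [Field F] {V : Type*} [AddCommGroup V] [Module F V] [FiniteDimensional F V]

theorem eg_ext {g h : EG (zf F V)} (e : ∀ v, g.1.1 v = h.1.1 v) : g = h :=
  Subtype.ext (Form.Isom.ext e)

theorem tv_mul {φ : Dual F V} {h k : V} (hh : φ h = 0) (hk : φ k = 0) :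
    tv φ h hh * tv φ k hk = tv φ (h + k) (by simp [hh, hk]) := eg_ext fun v => by
  change (tv φ h hh).1.1 ((tv φ k hk).1.1 v) = _
  simp [tv_apply, hk, add_assoc, add_comm (φ v • h)]

theorem tv_conj {φ : Dual F V} {h : V} (hh : φ h = 0) {l : EG (zf F V)} {μ : F} (h0 : μ ≠ 0)
    (hl : ∀ x, φ (l.1.1 x) = μ * φ x) :
    l * tv φ h hh * l⁻¹ = tv φ (μ⁻¹ • l.1.1 h) (by simp [hl, hh]) :=
  mul_inv_eq_iff_eq_mul.2 (eg_ext fun v => by
    change l.1.1 (v + φ v • h) = l.1.1 v + φ (l.1.1 v) • μ⁻¹ • l.1.1 h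
    rw [map_add, map_smul, hl, smul_smul, mul_right_comm, mul_inv_cancel₀ h0, one_mul])

theorem tv_mem_rad {φ : Dual F V} {h : V} (hh : φ h = 0) :
    (tv φ h hh).1 ∈ rad (zf F V) (LinearMap.ker φ) :=
  mem_rad_zf.2 ⟨fun y hy => by simp [tv_apply, LinearMap.mem_ker.1 hy],
    fun x => by simp [tv_apply, hh]⟩

theorem eq_tv {φ : Dual F V} {f : V} (hf : φ f = 1) {r : EG (zf F V)}
    (hr : r.1 ∈ rad (zf F V) (LinearMap.ker φ)) : ∃ h hh, r = tv φ h hh :=
  ⟨_, LinearMap.mem_ker.1 ((mem_rad_zf.1 hr).2 f), eg_ext fun v => by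
    have := hr.1 (v - φ v • f) (by simp [hf])
    rw [map_sub, map_smul, sub_eq_iff_eq_add] at this
    rw [this, tv_apply, smul_sub]
    abel⟩

theorem span_eq_of_mem {x y : V} (hx : x ≠ 0) (h : x ∈ Submodule.span F {y}) :
    Submodule.span F {x} = Submodule.span F {y} := by
  obtain ⟨c, rfl⟩ := Submodule.mem_span_singleton.1 h
  exact Submodule.span_singleton_smul_eq (IsUnit.mk0 c (left_ne_zero_of_smul hx)) y

theorem exists_eq_ker {X : Submodule F V} (h : finrank F X + 1 = finrank F V) :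
    ∃ (ψ : Dual F V) (u : V), ψ u = 1 ∧ X = LinearMap.ker ψ := by
  obtain ⟨u, -, hu⟩ := SetLike.exists_of_lt (show X < ⊤ from lt_top_iff_ne_top.2 fun e => by
    rw [e, finrank_top] at h; omega)
  obtain ⟨ψ, h1, h2⟩ := exists_dual_one hu
  exact ⟨ψ, u, h2, Submodule.eq_of_le_of_finrank_eq h1 (by have := finrank_ker h2; omega)⟩

theorem exists_eq_span {X : Submodule F V} (h : finrank F X = 1) :
    ∃ e : V, e ≠ 0 ∧ X = Submodule.span F {e} := by
  obtain ⟨e, he, h0⟩ := Submodule.exists_mem_ne_zero_of_ne_bot (p := X) fun e => by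
    rw [e, finrank_bot] at h; omega
  exact ⟨e, h0, (Submodule.eq_of_le_of_finrank_eq ((Submodule.span_singleton_le_iff_mem _ _).2 he)
    (by rw [finrank_span_singleton h0, h])).symm⟩

variable {α : MulAut (EG (zf F V) ⧸ Subgroup.center (EG (zf F V)))} {φ ψ : Dual F V}
  {e e' f f' u u' w w' : V}

theorem SC.map_pt (h : SC α (Submodule.span F {e}) (Submodule.span F {e'})) {k k' : EG (zf F V)}
    (hk : Cor α k k') : SC α (Submodule.span F {k.1.1 e}) (Submodule.span F {k'.1.1 e'}) :=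
  h.map hk (mem_span_iff k.1 e) (mem_span_iff k'.1 e')

theorem SC.total (h : SC α (Submodule.span F {e}) (Submodule.span F {e'})) (he : e ≠ 0)
    (he' : e' ≠ 0) {x : V} (hx : x ≠ 0) :
    ∃ x', x' ≠ 0 ∧ SC α (Submodule.span F {x}) (Submodule.span F {x'}) := by
  obtain ⟨l, -, c, rfl⟩ := exists_tv_pt (F := F) (U := ⊤) he hx trivial trivial
  obtain ⟨l', hl⟩ := Cor.exists_right α l
  refine ⟨l'.1.1 e', by simpa using he', ?_⟩
  rw [span_eq_of_mem hx (Submodule.mem_span_singleton.2 ⟨c, rfl⟩)]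
  exact h.map_pt hl

theorem finrank_le_two_of_St (hf : φ f = 1) (he : e ≠ 0)
    (h : St (zf F V) (LinearMap.ker φ) = St (zf F V) (Submodule.span F {e})) : finrank F V ≤ 2 := by
  have h1 := Submodule.finrank_mono (le_span_of_St he h.le)
  have := finrank_ker hf
  rw [finrank_span_singleton he] at h1
  omega

/-- Corresponding transvections. -/
def TZ (α : MulAut (EG (zf F V) ⧸ Subgroup.center (EG (zf F V)))) (φ ψ : Dual F V) (u u' : V) :
    Prop := ∃ hu hu', Cor α (tv φ u hu) (tv ψ u' hu')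

theorem TZ.symm (h : TZ α φ ψ u u') : TZ α⁻¹ ψ φ u' u := by
  obtain ⟨h1, h2, h3⟩ := h
  exact ⟨h2, h1, Cor.inv_iff.2 h3⟩

theorem TZ.add (h : TZ α φ ψ u u') (h' : TZ α φ ψ w w') : TZ α φ ψ (u + w) (u' + w') := by
  obtain ⟨h1, h2, h3⟩ := h
  obtain ⟨h4, h5, h6⟩ := h'
  exact ⟨_, _, by simpa only [tv_mul] using h3.mul h6⟩

theorem TZ.conj (h : TZ α φ ψ u u') {l l' : EG (zf F V)} (hl : Cor α l l') {μ μ' : F} (h0 : μ ≠ 0)
    (h0' : μ' ≠ 0) (h1 : ∀ x, φ (l.1.1 x) = μ * φ x) (h2 : ∀ x, ψ (l'.1.1 x) = μ' * ψ x) :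
    TZ α φ ψ (μ⁻¹ • l.1.1 u) (μ'⁻¹ • l'.1.1 u') := by
  obtain ⟨h3, h4, h5⟩ := h
  exact ⟨_, _, by simpa only [tv_conj h3 h0 h1, tv_conj h4 h0' h2] using hl.conj h5⟩

/-- A point and a hyperplane not through it go to such a pair. -/
structure NZ (α : MulAut (EG (zf F V) ⧸ Subgroup.center (EG (zf F V)))) (φ ψ : Dual F V)
    (f f' : V) : Prop where
  h2 : 2 ≤ finrank F V
  hf : φ f = 1
  hf' : ψ f' = 1
  sH : SC α (LinearMap.ker φ) (LinearMap.ker ψ)
  pf : SC α (Submodule.span F {f}) (Submodule.span F {f'})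

theorem ne_zero_of_eq_one (hf : φ f = 1) : f ≠ 0 := by
  rintro rfl
  simp at hf

variable [Finite F] (p : ℕ) [Fact p.Prime] [CharP F p]

namespace NZ

variable (N : NZ α φ ψ f f')
include N

theorem symm : NZ α⁻¹ ψ φ f' f := ⟨N.h2, N.hf', N.hf, N.sH.symm, N.pf.symm⟩

theorem exists_L {l : EG (zf F V)} {μ : F} (h1 : ∀ x, φ (l.1.1 x) = μ * φ x) :
    ∃ (l' : EG (zf F V)) (μ' : F), Cor α l l' ∧ μ' ≠ 0 ∧ ∀ x, ψ (l'.1.1 x) = μ' * ψ x := by
  obtain ⟨l', hl⟩ := Cor.exists_right α l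
  obtain ⟨μ', h⟩ := exists_mul_of_St N.hf' ((N.sH _ _ hl).1 (mem_St.2 fun x hx => by
    simp [h1, LinearMap.mem_ker.1 hx]))
  exact ⟨l', μ', hl, h⟩

include p

theorem unique (h : TZ α φ ψ u u') (h' : TZ α φ ψ u w') : u' = w' := by
  obtain ⟨h1, h2, h3⟩ := h
  obtain ⟨_, h5, h6⟩ := h'
  simpa [tv_apply, N.hf'] using congrArg (fun k : EG (zf F V) => k.1.1 f')
    (h3.unique (zf_center_PE p N.h2) h6 (tv_PE p _ _ _) (tv_PE p _ _ _))

theorem exists_right (hu : φ u = 0) : ∃ u', TZ α φ ψ u u' := by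
  obtain ⟨r', h1, h2⟩ := N.sH.exists_rad p N.h2 N.hf' (tv_mem_rad hu)
  obtain ⟨u', hu', rfl⟩ := eq_tv N.hf' h1
  exact ⟨u', hu, hu', h2⟩

theorem fix (h : TZ α φ ψ u u') (χ : Dual F V) (hχ : χ u' = 0) : ∃ (l : EG (zf F V)) (μ : F),
    Cor α l (tv χ u' hχ) ∧ μ⁻¹ • l.1.1 u = u ∧ l ∈ Pt (zf F V) u ∧
      ∀ w w', TZ α φ ψ w w' → TZ α φ ψ (μ⁻¹ • l.1.1 w) (w' + χ w' • u') := by
  have h1 : ∀ x, ψ ((tv χ u' hχ).1.1 x) = 1 * ψ x := fun x => by simp [tv_apply, h.2.1]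
  obtain ⟨l, μ, h2, h3, h4⟩ := N.symm.exists_L h1
  have h5 : ∀ w w', TZ α φ ψ w w' → TZ α φ ψ (μ⁻¹ • l.1.1 w) (w' + χ w' • u') := fun w w' hw => by
    simpa [tv_apply] using hw.conj (Cor.inv_iff.1 h2) h3 one_ne_zero h4 h1
  have h6 := N.symm.unique p (by simpa [hχ] using (h5 u u' h).symm) h.symm
  exact ⟨l, μ, Cor.inv_iff.1 h2, h6, mem_Pt.2 ⟨μ, (inv_smul_eq_iff₀ h3).1 h6⟩, h5⟩

theorem exists_semiSim : ∃ a : SemiSim (zf F V), a.fn f = f' ∧ ∀ u, φ u = 0 → TZ α φ ψ u (a.fn u) := by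
  have : Finite V := Module.finite_of_finite F
  choose! θ hθ using fun u (hu : φ u = 0) => N.exists_right p hu
  have hadd : ∀ x, φ x = 0 → ∀ y, φ y = 0 → θ (x + y) = θ x + θ y := fun x hx y hy =>
    N.unique p (hθ _ (by simp [hx, hy])) ((hθ _ hx).add (hθ _ hy))
  have h0 : θ 0 = 0 := by simpa using hadd 0 (by simp) 0 (by simp)
  have hinj : ∀ x, φ x = 0 → θ x = 0 → x = 0 := fun x hx h =>
    N.symm.unique p (h ▸ (hθ x hx).symm) (by simpa only [h0] using (hθ 0 (by simp)).symm)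
  let A : (V →ₗ[F] V) → (V →ₗ[F] V) → Prop := fun a a' => ∃ (l l' : EG (zf F V)) (μ μ' : F),
    Cor α l l' ∧ μ ≠ 0 ∧ μ' ≠ 0 ∧ (∀ x, φ (l.1.1 x) = μ * φ x) ∧ (∀ x, ψ (l'.1.1 x) = μ' * ψ x) ∧
      a = μ⁻¹ • (l.1.1 : V →ₗ[F] V) ∧ a' = μ'⁻¹ • (l'.1.1 : V →ₗ[F] V)
  obtain ⟨u, hu, hu0⟩ := exists_mem_ker N.h2 N.hf
  obtain ⟨s, hs⟩ := exists_semilinear (LinearMap.ker φ) θ hadd hinj A (by
      rintro _ _ ⟨l, l', μ, μ', h1, h2, h3, h4, h5, rfl, rfl⟩ x hx
      have := (hθ x hx).conj h1 h2 h3 h4 h5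
      exact N.unique p (hθ _ this.1) this)
    {v | φ v = 0 ∧ v ≠ 0} (fun _ h => h.1) (fun w hw => by
      by_cases h : w = 0
      · simp [h]
      · exact AddSubgroup.subset_closure ⟨hw, h⟩) hu hu0 (fun c => by
      by_contra hc
      obtain ⟨χ, h1, h2⟩ := exists_dual_one (W := Submodule.span F {θ u}) (u := θ (c • u)) fun h =>
        hc ((Submodule.mem_span_singleton.1 h).imp fun _ h => h.symm)
      obtain ⟨l, μ, -, h3, -, h4⟩ := N.fix p (hθ u hu) χ (h1 _ (Submodule.mem_span_singleton_self _))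
      have h5 := h4 _ _ (hθ (c • u) (by simp [hu]))
      rw [map_smul, smul_comm, h3, h2, one_smul] at h5
      exact hu0 (hinj u hu (by simpa using N.unique p h5 (hθ (c • u) (by simp [hu])))))
    (fun v hv => by
      obtain ⟨l, h1, c, hc⟩ := exists_tv_pt (U := LinearMap.ker φ) hu0 hv.2 hu hv.1
      have h2 : ∀ x, φ (l.1.1 x) = 1 * φ x := fun x => by simpa [sub_eq_zero] using h1 x
      obtain ⟨l', μ', h3, h4, h5⟩ := N.exists_L h2
      exact ⟨_, _, ⟨l, l', 1, μ', h3, one_ne_zero, h4, h2, h5, rfl, rfl⟩, c, by simpa using hc⟩)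
    (closure_eq_top_of_sq fun a ha => by
      obtain ⟨χ₀, -, h1⟩ := exists_dual_one (W := ⊥) (F := F) hu0
      obtain ⟨χ, h2, h3⟩ : ∃ χ : Dual F V, χ u = 1 ∧ χ f = 0 :=
        ⟨χ₀ - χ₀ f • φ, by simp [h1, hu], by simp [N.hf]⟩
      let l := tv χ (-a⁻¹ • f) (by simp [h3]) * tv φ ((a - 1) • u) (by simp [hu]) * tv χ f h3
      have h4 : ∀ x, l.1.1 x = (tv χ (-a⁻¹ • f) (by simp [h3])).1.1
        ((tv φ ((a - 1) • u) (by simp [hu])).1.1 ((tv χ f h3).1.1 x)) := fun _ => rfl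
      have h5 : ∀ x, φ (l.1.1 x) = a⁻¹ * φ x := fun x => by
        simp only [h4, tv_apply, map_add, map_smul, h2, h3, hu, N.hf, smul_eq_mul]
        field_simp
        ring
      obtain ⟨l', μ', h6, h7, h8⟩ := N.exists_L h5
      refine ⟨_, _, ⟨l, l', _, μ', h6, inv_ne_zero ha, h7, h5, h8, rfl, rfl⟩, ?_⟩
      change a⁻¹⁻¹ • l.1.1 u = _
      simp only [h4, tv_apply, map_add, map_smul, h2, h3, hu, N.hf, smul_eq_mul]
      match_scalars <;> field_simp <;> ring)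
  have h1 : ∀ v, φ (v - φ v • f) = 0 := fun v => by simp [N.hf]
  let Θ : V →+ V := AddMonoidHom.mk' (fun v => s (φ v) • f' + θ (v - φ v • f)) fun v w => by
    rw [show v + w - φ (v + w) • f = (v - φ v • f) + (w - φ w • f) by rw [map_add]; module,
      hadd _ (h1 v) _ (h1 w), map_add, map_add]
    module
  have h2 : ∀ v, Θ v = s (φ v) • f' + θ (v - φ v • f) := fun _ => rfl
  have h3 : Function.Injective Θ := (injective_iff_map_eq_zero _).2 fun v hv => by
    have h4 : φ v = 0 := by simpa [h2, N.hf', (hθ _ (h1 v)).2.1] using congrArg ψ hv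
    exact hinj v h4 (by simpa [h2, h4] using hv)
  refine ⟨⟨AddEquiv.ofBijective Θ (Finite.injective_iff_bijective.1 h3), s, 1, fun c v => ?_,
    fun _ _ => by simp [zf], fun _ => by simp [zf]⟩, ?_, fun v hv => ?_⟩
  · change Θ _ = _ • Θ _
    rw [h2, h2, show c • v - φ (c • v) • f = c • (v - φ v • f) by rw [map_smul, smul_eq_mul]; module,
      hs c _ (h1 v), map_smul, smul_eq_mul, map_mul]
    module
  · change Θ _ = _
    simp [h2, N.hf, h0]
  · change TZ α φ ψ v (Θ v)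
    simpa [h2, hv] using hθ v hv

theorem mem_range : α ∈ (toAut (zf F V)).range := by
  obtain ⟨a, h1, h2⟩ := N.exists_semiSim p
  have h3 : ∀ x, x ≠ 0 → SC α (Submodule.span F {x}) (Submodule.span F {a.fn x}) := fun x hx => by
    by_cases h4 : φ x = 0
    · obtain ⟨x', h5, h6⟩ := N.pf.total (ne_zero_of_eq_one N.hf) (ne_zero_of_eq_one N.hf') hx
      rwa [span_eq_of_mem (x := a.fn x) (by simpa using hx) (mem_span_of_tv h5 fun χ hχ => ?_)]
      obtain ⟨l, μ, h7, -, h8, -⟩ := N.fix p (h2 x h4) χ hχ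
      exact (h6 _ _ h7).1 h8
    · obtain ⟨h5, h6, h7⟩ := h2 ((φ x)⁻¹ • x - f) (by simp [h4, N.hf])
      have h8 := N.pf.map_pt h7
      rw [tv_apply, tv_apply, N.hf, N.hf', one_smul, one_smul, map_sub, h1, add_sub_cancel,
        add_sub_cancel, a.map_smul] at h8
      rwa [Submodule.span_singleton_smul_eq (IsUnit.mk0 _ (by simpa using h4)),
        Submodule.span_singleton_smul_eq (IsUnit.mk0 _ (by simpa using h4))] at h8
  refine ⟨a, MulEquiv.ext fun x => ?_⟩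
  obtain ⟨g, rfl⟩ := QuotientGroup.mk_surjective x
  obtain ⟨g', hg⟩ := Cor.exists_right α g
  refine Eq.trans (cor_toAut a g) (Eq.trans (QuotientGroup.eq.2 ((zf_center N.h2).2 ?_)) (Eq.symm hg))
  refine exists_scalar_add N.h2 ((SemiSim.conjE _ a g)⁻¹ * g').1.1.toAddEquiv.toAddMonoidHom
    fun y => ?_
  obtain ⟨x, rfl⟩ := a.fn.surjective y
  by_cases hx : x = 0
  · simp [hx]
  have h4 := le_span_of_St (y := a.fn (g.1.1 x)) (by simpa using hx)
    (((h3 x hx).map_pt hg).symm.eq (h3 (g.1.1 x) (by simpa using hx)).symm).le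
    (Submodule.mem_span_singleton_self _)
  refine (mem_span_iff (SemiSim.conjE _ a g).1 _ _).2 ?_
  simpa [SemiSim.conjE_apply] using h4

end NZ

include p

theorem SC.mem_range (hE : (zf F V).det.ker ≤ EG (zf F V)) (h2 : 2 ≤ finrank F V)
    (h : SC α (Submodule.span F {e}) (Submodule.span F {e'})) (he : e ≠ 0) (he' : e' ≠ 0) :
    α ∈ (toAut (zf F V)).range := by
  obtain ⟨φ, -, hφ⟩ := exists_dual_one (W := ⊥) (F := F) he
  obtain ⟨X, h1, h3⟩ := exists_SC p α hE h2 hφ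
  obtain ⟨ψ, u, hu, rfl⟩ := exists_eq_ker (X := X) (h3.elim (fun h3 => by
    obtain ⟨y, hy, rfl⟩ := exists_eq_span h3
    obtain ⟨x, h4, h5⟩ := h.symm.total he' he hy
    have := finrank_le_two_of_St hφ h4 (h1.eq (by simpa using h5.symm))
    omega) id)
  have h4 : ψ e' ≠ 0 := fun h4 => by
    obtain ⟨v, hv, hv0⟩ := exists_mem_ker h2 hφ
    obtain ⟨r', h5, h6⟩ := h1.exists_rad p h2 hu (tv_mem_rad hv)
    obtain ⟨c, hc⟩ := mem_Pt.1 ((h _ _ h6).2 (mem_Pt.2 ⟨1, by simpa using h5.1 e' h4⟩))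
    have h7 := congrArg φ hc
    simp only [tv_apply, hφ, one_smul, map_add, hv, map_smul, smul_eq_mul, add_zero, mul_one] at hc h7
    exact hv0 (by simpa [← h7] using hc)
  refine NZ.mem_range p (φ := φ) (ψ := ψ) (f := e) (f' := (ψ e')⁻¹ • e') ⟨h2, hφ, by simp [h4], h1, ?_⟩
  rwa [Submodule.span_singleton_smul_eq (IsUnit.mk0 _ (by simpa using h4))]

theorem card_ker_toAut_zf (h2 : 2 ≤ finrank F V) :
    Nat.card (toAut (zf F V)).ker = Nat.card Fˣ * Nat.card Fˣ := by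
  obtain ⟨e, he⟩ := exists_not_mem_span h2 0
  have he0 : e ≠ 0 := by simpa using he
  let sc : Fˣ × Fˣ → SemiSim (zf F V) := fun c =>
    ⟨(LinearEquiv.smulOfUnit c.1 : V ≃ₗ[F] V).toAddEquiv, RingEquiv.refl F, c.2, by simp,
      fun _ _ => by simp [zf], fun _ => by simp [zf]⟩
  have hsc : ∀ c v, (sc c).fn v = (c.1 : F) • v := fun _ _ => rfl
  rw [← Nat.card_prod]
  refine (Nat.card_congr (Equiv.ofBijective (fun c => (⟨sc c, ?_⟩ : (toAut _).ker))
    ⟨fun c d h => ?_, fun ⟨a, ha⟩ => ?_⟩)).symm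
  · refine eq_one_of_cor fun g => ?_
    have : SemiSim.conjE _ (sc c) g = g := eg_ext fun v => by
      rw [SemiSim.conjE_apply, hsc, ← map_smul, ← hsc, AddEquiv.apply_symm_apply]
    simpa [this] using cor_toAut (sc c) g
  · exact Prod.ext (Units.ext (smul_left_injective F he0
      (congrArg (fun a : (toAut _).ker => a.1.fn e) h))) (congrArg (fun a : (toAut _).ker => a.1.κ) h)
  · obtain ⟨c, hc⟩ := exists_scalar_add h2 a.fn.toAddMonoidHom
      (mem_span_of_comm a.fn a.s a.map_smul h2 fun φ v hv x => by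
        have h3 := cor_toAut a (tv φ v hv)
        rw [MonoidHom.mem_ker.1 ha] at h3
        have h4 := h3.unique (zf_center_PE p h2) rfl
          ((tv_PE p φ v hv).map (SemiSim.conjE _ a).toMonoidHom) (tv_PE p φ v hv)
        simpa [SemiSim.conjE_apply] using congrArg (fun k : EG (zf F V) => k.1.1 (a.fn x)) h4)
    replace hc : ∀ x, a.fn x = c • x := hc
    have hc0 : c ≠ 0 := by rintro rfl; exact he0 (by simpa using hc e)
    refine ⟨(Units.mk0 c hc0, a.κ), Subtype.ext (SemiSim.ext (AddEquiv.ext fun v => (hc v).symm)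
      (RingEquiv.ext fun d => ?_) rfl)⟩
    have := a.map_smul d e
    rw [hc, hc, smul_comm] at this
    exact smul_left_injective F (smul_ne_zero hc0 he0) this

theorem index_toAut_zf (hE : EG (zf F V) = (zf F V).det.ker) (h2 : 2 ≤ finrank F V) :
    (toAut (zf F V)).range.index = if finrank F V = 2 then 1 else 2 := by
  obtain ⟨τ, hτ⟩ := exists_dualAut hE h2
  obtain ⟨e, he⟩ := exists_not_mem_span h2 0
  replace he : e ≠ 0 := by simpa using he
  obtain ⟨φ, f, hf, h1⟩ := hτ e he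
  have h3 : ∀ α, ∃ X, SC α (Submodule.span F {e}) X ∧
      (finrank F X = 1 ∨ finrank F X + 1 = finrank F V) := fun α => by
    obtain ⟨X, h3, h4⟩ := exists_SC p (α * τ⁻¹) hE.ge h2 hf
    exact ⟨X, by simpa using h1.trans h3, h4⟩
  have h4 : ∀ α X, SC α (Submodule.span F {e}) X → finrank F X = 1 →
      α ∈ (toAut (zf F V)).range := fun α X h h' => by
    obtain ⟨y, hy, rfl⟩ := exists_eq_span h'
    exact h.mem_range p hE.ge h2 he hy
  split_ifs with h
  · refine Subgroup.index_eq_one.2 (eq_top_iff.2 fun α _ => ?_)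
    obtain ⟨X, h5, h6⟩ := h3 α
    exact h4 α X h5 (by omega)
  · refine Subgroup.index_eq_two_iff'.2 ⟨τ⁻¹, fun α => ?_⟩
    have h7 : ¬ (τ⁻¹ * α ∈ (toAut (zf F V)).range ∧ α ∈ (toAut (zf F V)).range) := fun h7 => by
      obtain ⟨a, ha⟩ := mul_mem h7.2 (inv_mem h7.1)
      have h8 := sc_toAut (zf_center_le h2 _) a (mem_span_iff_add a.fn a.s a.map_smul e)
      rw [ha, mul_inv_rev, inv_inv, mul_inv_cancel_left] at h8
      have := finrank_le_two_of_St hf (e := a.fn e) (by simpa using he) (h1.symm.eq h8.symm)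
      omega
    suffices τ⁻¹ * α ∈ (toAut (zf F V)).range ∨ α ∈ (toAut (zf F V)).range by tauto
    obtain ⟨X, h5, h6 | h6⟩ := h3 α
    · exact Or.inr (h4 α X h5 h6)
    · obtain ⟨ψ, u, hu, rfl⟩ := exists_eq_ker h6
      obtain ⟨l', -, h8⟩ := exists_tv_dual (U := ⊤) (φ := φ) (ψ := ψ) ⟨f, trivial, by simp [hf]⟩
        ⟨u, trivial, by simp [hu]⟩
      obtain ⟨l, hl⟩ := Cor.exists_left τ l'
      exact Or.inl (h4 _ _ (h5.trans (h1.map (Y' := LinearMap.ker ψ) hl (mem_span_iff l.1 e) h8).symm)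
        (finrank_span_singleton (by simpa using he)))

end Gen

variable {ι : Type} [Fintype ι] [DecidableEq ι] {F : Type*} [Field F]

variable (ι F) in
/-- The action of `SL` on column vectors. -/
def slHom : Matrix.SpecialLinearGroup ι F →* (zf F (ι → F)).Isom :=
  Matrix.SpecialLinearGroup.toLin'.codRestrict _ fun g => (zI g.toLin').2

theorem slHom_apply (g : Matrix.SpecialLinearGroup ι F) (v : ι → F) :
    (slHom ι F g).1 v = g.1.mulVec v := rfl

theorem slHom_mem (g : Matrix.SpecialLinearGroup ι F) : slHom ι F g ∈ EG (zf F (ι → F)) :=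
  sl_transvection_induction (fun g => slHom ι F g ∈ EG _) (by simp) (fun i j h c => by
    convert (tv (c • LinearMap.proj j) (Pi.single i (1 : F) : ι → F) (by simp [h.symm])).2
    exact Form.Isom.ext fun v => transvection_mulVec i j c v)
    (fun A B hA hB => map_mul (slHom ι F) A B ▸ mul_mem hA hB) g

theorem exists_slHom {g : (zf F (ι → F)).Isom} (hg : g ∈ (zf F (ι → F)).det.ker) :
    ∃ a, slHom ι F a = g :=
  ⟨⟨((glEquiv ι F).symm g.1 : GL ι F), by
    rw [← Matrix.GeneralLinearGroup.val_det_apply, ← det_glEquiv, MulEquiv.apply_symm_apply]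
    exact congrArg Units.val hg⟩, Form.Isom.ext fun v => glEquiv_symm_mulVec g.1 v⟩

variable [Finite F]

variable (ι F) in
theorem EG_zf : EG (zf F (ι → F)) = (zf F (ι → F)).det.ker := by
  obtain ⟨p, hp⟩ := CharP.exists F
  have : Fact p.Prime := ⟨CharP.char_is_prime F p⟩
  refine le_antisymm ((Subgroup.closure_le _).2 fun g ⟨e, he, hg⟩ => det_eq_one_of_PE p
    ((rad_zf_PE p (g := ⟨g, Rad_le_EG he hg⟩) hg).map (EG _).subtype)) fun g hg => ?_
  obtain ⟨a, rfl⟩ := exists_slHom hg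
  exact slHom_mem a

variable (ι F) in
/-- `SL` as the elementary group of the zero form. -/
noncomputable def slEG : Matrix.SpecialLinearGroup ι F ≃* EG (zf F (ι → F)) :=
  MulEquiv.ofBijective ((slHom ι F).codRestrict _ slHom_mem)
    ⟨fun _ _ h => Matrix.SpecialLinearGroup.toLin'_injective (congrArg (fun g => g.1.1) h),
      fun g => (exists_slHom ((EG_zf ι F).le g.2)).imp fun _ h => Subtype.ext h⟩

theorem slEG_apply (g : Matrix.SpecialLinearGroup ι F) (v : ι → F) :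
    (slEG ι F g).1.1 v = g.1.mulVec v := rfl

omit [Finite F] in
theorem card_aut_psl [Fintype F] (p f : ℕ) [Fact p.Prime] (hF : Fintype.card F = p ^ f)
    (hn : 2 ≤ Fintype.card ι) : Nat.card (MulAut (Matrix.ProjectiveSpecialLinearGroup ι F)) =
      (if Fintype.card ι = 2 then 1 else 2) * f * Nat.card (Matrix.ProjGenLinGroup ι F) := by
  obtain ⟨r, hr⟩ := CharP.exists F
  have : Fact r.Prime := ⟨CharP.char_is_prime F r⟩
  have : Nonempty ι := Fintype.card_pos_iff.1 (by omega)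
  have hd : finrank F (ι → F) = Fintype.card ι := by simp
  have h1 := SemiSim.card_eq (Φ := zf F (ι → F))
  have h2 : (SemiSim.κHom (zf F (ι → F))).range = ⊤ := eq_top_iff.2 fun c _ =>
    SemiSim.mem_range_κHom.2 ⟨1, fun _ _ => by simp [zf], fun _ => by simp [zf]⟩
  have h3 : (SemiSim.sHom (zf F (ι → F))).range = ⊤ := eq_top_iff.2 fun s _ =>
    ⟨⟨piMap s, s, 1, piMap_smul s, fun _ _ => by simp [zf], fun _ => by simp [zf]⟩, rfl⟩
  have h4 : Nat.card (zf F (ι → F)).Isom = Nat.card (GL ι F) := by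
    rw [show (zf F (ι → F)).Isom = ⊤ from eq_top_iff.2 fun g _ => (zI g).2, Subgroup.card_top,
      Nat.card_congr (glEquiv ι F).toEquiv]
  rw [card_eq_card_ker_mul_card_range (toAut _), card_ker_toAut_zf r (hd ▸ hn), h2, h3, h4,
    Subgroup.card_top, Subgroup.card_top, card_ringAut p f hF, ← card_units_mul_card_sl] at h1
  rw [card_mulAut_congr (quotCenterCongr (slEG ι F)), ← (toAut _).range.index_mul_card,
    index_toAut_zf r (EG_zf ι F) (hd ▸ hn), hd, card_pgl_eq_card_sl, mul_assoc]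
  congr 1
  refine Nat.eq_of_mul_eq_mul_left (Nat.mul_pos (Nat.card_pos (α := Fˣ)) (Nat.card_pos (α := Fˣ))) ?_
  rw [h1]
  ring

end H16
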