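import Mathlib
import Cfsg.Agent.H16.PSL2Inv

/-! Tori of involutions in `PGL₂(q)`, `q` odd. -/

set_option autoImplicit false
set_option linter.unusedSectionVars false

namespace H16

open MulAction Matrix
open scoped MatrixGroups

section Abs

variable {H : Type*} [Group H]

/-- The pointwise stabiliser of the fixed points of `ω`. -/
def tor (X : Type*) [MulAction H X] (ω : H) : Subgroup H := fixingSubgroup H (fixedBy X ω)

variable {p : ℕ} {K : Type*} [Field K] {X : Type*} [MulAction H X] {ω g h y : H}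

theorem mem_tor : y ∈ tor X ω ↔ ∀ x : X, ω • x = x → y • x = x := mem_fixingSubgroup_iff _

theorem self_mem_tor : ω ∈ tor X ω := mem_tor.2 fun _ h => h

theorem chi_two {x : X} (χ : stabilizer H x →* Kˣ) (g : stabilizer H x) (hg : g.1 * g.1 = 1) :
    χ g = 1 ∨ χ g = -1 :=
  (mul_self_eq_one_iff.1 (show (χ g : K) * χ g = 1 by
    rw [← Units.val_mul, ← map_mul, show g * g = 1 from Subtype.ext hg]; simp)).imp
    (fun h => Units.ext h) fun h => Units.ext h

theorem pow_odd_of_sq {n : ℕ} (hn : Odd n) (h : g * g = 1) : g ^ n = g := by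
  obtain ⟨k, rfl⟩ := hn
  rw [pow_succ, pow_mul, sq, h, one_pow, one_mul]

namespace LineAct

variable (L : LineAct p K H X)
include L

theorem fix_two (hω : ω ^ p ≠ 1) : ∃ x y : X, x ≠ y ∧ (∀ z, ω • z = z ↔ z = x ∨ z = y) ∧
    (∀ g, g ∈ tor X ω ↔ g • x = x ∧ g • y = y) ∧
      ∀ g, g * ω = ω * g → g ∉ tor X ω → g • x = y ∧ g • y = x := by
  obtain ⟨x, hx⟩ := L.exists_fixed ω
  obtain ⟨y, h1, hy, h2⟩ := L.semi ω x hω hx
  have h3 : ∀ g, g ∈ tor X ω ↔ g • x = x ∧ g • y = y := fun g =>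
    mem_tor.trans ⟨fun h => ⟨h x hx, h y hy⟩, fun h z hz => by
      rcases h2 z hz with rfl | rfl
      exacts [h.1, h.2]⟩
  refine ⟨x, y, h1.symm, fun z => ⟨h2 z, by rintro (rfl | rfl) <;> assumption⟩, h3,
    fun g hg hn => ?_⟩
  have h4 : ∀ z : X, ω • z = z → g • z = x ∨ g • z = y := fun z hz =>
    h2 _ (by rw [← mul_smul, ← hg, mul_smul, hz])
  have h5 : g • x ≠ g • y := fun h => h1 (smul_left_cancel g h).symm
  rw [h3] at hn
  rcases h4 x hx with a | a <;> rcases h4 y hy with b | b <;> simp_all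

theorem tor_sq (hω : ω ^ p ≠ 1) (hg : g * ω = ω * g) (hn : g ∉ tor X ω) : g * g = 1 := by
  obtain ⟨x, y, h1, -, -, h2⟩ := L.fix_two hω
  obtain ⟨h3, h4⟩ := h2 g hg hn
  obtain ⟨z, hz⟩ := L.exists_fixed g
  refine L.eq_one_of_three _ h1 (z := z) ?_ ?_ ?_ ?_ ?_
  · rintro rfl; exact h1 (hz.symm.trans h3)
  · rintro rfl; exact h1 (h4.symm.trans hz)
  all_goals simp [mul_smul, *]

theorem tor_mul (hω : ω ^ p ≠ 1) (hg : g * ω = ω * g) (hn : g ∉ tor X ω) (hh : h * ω = ω * h)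
    (hn' : h ∉ tor X ω) : g * h ∈ tor X ω := by
  obtain ⟨x, y, -, -, h1, h2⟩ := L.fix_two hω
  simp [h1, mul_smul, h2 g hg hn, h2 h hh hn']

theorem tor_pow_ne (hω : ω ^ p ≠ 1) (hy : y ∈ tor X ω) (h1 : y ≠ 1) : y ^ p ≠ 1 := fun h => by
  obtain ⟨a, b, h2, -, h3, -⟩ := L.fix_two hω
  exact h2 (L.unip y b a h h1 ((h3 y).1 hy).2 ((h3 y).1 hy).1)

theorem fix_iff (hω : ω ^ p ≠ 1) (hy : y ∈ tor X ω) (h1 : y ≠ 1) (x : X) :
    y • x = x ↔ ω • x = x := by
  refine ⟨fun h => ?_, mem_tor.1 hy x⟩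
  obtain ⟨a, b, h2, h3, h4, -⟩ := L.fix_two hω
  by_contra h5
  rw [h3, not_or] at h5
  exact h1 (L.eq_one_of_three y h2 (Ne.symm h5.1) (Ne.symm h5.2) ((h4 y).1 hy).1 ((h4 y).1 hy).2 h)

theorem tor_eq (hω : ω ^ p ≠ 1) (hy : y ∈ tor X ω) (h1 : y ≠ 1) : tor X y = tor X ω :=
  Subgroup.ext fun g => by simp only [mem_tor, L.fix_iff hω hy h1]

variable [Finite H]

theorem tor_cyc (hω : ω ^ p ≠ 1) : IsCyclic (tor X ω) := by
  obtain ⟨x, hx⟩ := L.exists_fixed ω
  obtain ⟨χ, hχ⟩ := L.chi x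
  refine isCyclic_of_injective_ringHom ((Units.coeHom K).comp (χ.comp (Subgroup.inclusion
    (show tor X ω ≤ stabilizer H x from fun g hg => mem_tor.1 hg x hx))))
    ((injective_iff_map_eq_one _).2 fun g hg => Subtype.ext ?_)
  by_contra h
  exact L.tor_pow_ne hω g.2 h ((hχ _).1 (Units.ext hg))

theorem tor_comm (hω : ω ^ p ≠ 1) (hg : g ∈ tor X ω) (hh : h ∈ tor X ω) : g * h = h * g :=
  have := L.tor_cyc hω
  congrArg Subtype.val (mul_comm' (⟨g, hg⟩ : tor X ω) ⟨h, hh⟩)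

theorem tor_inv (hω : ω ^ p ≠ 1) (hg : g * ω = ω * g) (hn : g ∉ tor X ω) (hy : y ∈ tor X ω) :
    g * y * g⁻¹ = y⁻¹ := by
  have h1 := L.tor_sq hω (g := g * y) (by
    rw [mul_assoc, L.tor_comm hω hy self_mem_tor, ← mul_assoc, hg, mul_assoc])
    fun h => hn (((tor X ω).mul_mem_cancel_right hy).1 h)
  rw [inv_eq_of_mul_eq_one_right (L.tor_sq hω hg hn), eq_inv_iff_mul_eq_one, mul_assoc, h1]

theorem tor_cent (hω : ω ^ p ≠ 1) (hy : y ∈ tor X ω) (h1 : y * y ≠ 1) (hg : g * y = y * g) :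
    g ∈ tor X ω := by
  have h2 : y ≠ 1 := by rintro rfl; simp at h1
  by_contra h3
  have := L.tor_inv (L.tor_pow_ne hω hy h2) hg (L.tor_eq hω hy h2 ▸ h3) self_mem_tor
  rw [hg, mul_inv_cancel_right] at this
  exact h1 (eq_inv_iff_mul_eq_one.1 this)

theorem tor_two (hω : ω ^ p ≠ 1) (h2 : ω * ω = 1) (hy : y ∈ tor X ω) (h1 : y * y = 1) :
    y = 1 ∨ y = ω := by
  obtain ⟨x, hx⟩ := L.exists_fixed ω
  obtain ⟨χ, hχ⟩ := L.chi x
  have h3 : ∀ g : stabilizer H x, g.1 ∈ tor X ω → χ g = 1 → g.1 = 1 := fun g hg h => by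
    by_contra h4
    exact L.tor_pow_ne hω hg h4 ((hχ _).1 h)
  have h4 := chi_two χ
  refine (h4 ⟨y, mem_tor.1 hy x hx⟩ h1).imp (h3 _ hy) fun h5 => ?_
  have h6 := (h4 ⟨ω, hx⟩ h2).resolve_left fun h => hω ((hχ _).1 h)
  have := h3 (⟨y, mem_tor.1 hy x hx⟩ * ⟨ω, hx⟩) (mul_mem hy self_mem_tor) (by simp [h5, h6])
  exact (eq_inv_of_mul_eq_one_left this).trans (inv_eq_of_mul_eq_one_right h2)

theorem mem_tor_iff (hω : ω ^ p ≠ 1) (h2 : ω * ω = 1) :
    y ∈ tor X ω ↔ y * ω = ω * y ∧ (y * y = 1 → y = 1 ∨ y = ω) := by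
  refine ⟨fun h => ⟨L.tor_comm hω h self_mem_tor, L.tor_two hω h2 h⟩, fun h => by_contra fun h1 => ?_⟩
  rcases h.2 (L.tor_sq hω h.1 h1) with rfl | rfl
  exacts [h1 (one_mem _), h1 self_mem_tor]

variable [hp : Fact p.Prime] [CharP K p]

theorem fixed_of_odd (h : Odd (Nat.card H)) : ∃ x : X, ∀ g : H, g • x = x := by
  have h0 : ∀ {Y : Type} [Group Y], Even (Nat.card Y) → ¬ Nonempty (H ≃* Y) := fun hY ⟨e⟩ =>
    Nat.not_odd_iff_even.2 hY (Nat.card_congr e.toEquiv ▸ h)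
  have h1 : ∀ k, ¬ Nonempty (H ≃* DihedralGroup k) := fun k =>
    h0 (by rw [DihedralGroup.nat_card]; exact even_two_mul k)
  by_cases hu : ∀ x, Nat.card (L.U x) = 1
  · rcases L.regular hu with ⟨⟨g, hg⟩, -⟩ | ⟨k, -, e⟩ | e | e | e
    · obtain ⟨x, hx⟩ := L.exists_fixed g
      exact ⟨x, fun k => (Subgroup.zpowers_le_of_mem (show g ∈ stabilizer H x from hx)) (hg k)⟩
    · exact (h1 k e).elim
    · exact (h0 (by rw [nat_card_alternatingGroup]; simp; decide) e).elim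
    · exact (h0 (by rw [Nat.card_perm]; simp; decide) e).elim
    · exact (h0 (by rw [nat_card_alternatingGroup]; simp; decide) e).elim
  · push Not at hu
    obtain ⟨x, hx⟩ := hu
    have := Nat.card_pos (α := L.U x)
    rcases L.irregular x (by omega) with h2 | ⟨-, k, -, e⟩ | ⟨-, h2, -⟩ | ⟨-, h2, -⟩
    · have := (Nat.card_eq_one_iff_unique.1 h2).1
      exact ⟨x, fun g => congrArg Subtype.val (Subsingleton.elim (⟨_, mem_orbit x g⟩ : orbit H x)
        ⟨x, mem_orbit_self x⟩)⟩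
    · exact (h1 k e).elim
    · have h3 := h.of_dvd_nat (L.U x).card_subgroup_dvd_card
      have h4 := h.of_dvd_nat (Dvd.intro _ (card_orbit_mul_card_stabilizer x))
      rw [h2] at h4
      exact (Nat.not_odd_iff_even.2 h3.add_one h4).elim
    · rw [h2] at h
      exact absurd h (by decide)

omit [CharP K p] in
theorem ncard_inv_fix (hp2 : p ≠ 2) (x : X) :
    {t : H | t * t = 1 ∧ t ≠ 1 ∧ t • x = x}.ncard ≤ Nat.card (L.U x) := by
  rcases Set.eq_empty_or_nonempty {t : H | t * t = 1 ∧ t ≠ 1 ∧ t • x = x} with h | ⟨s, hs⟩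
  · simp [h]
  obtain ⟨χ, hχ⟩ := L.chi x
  have h4 : ∀ t (ht : t * t = 1 ∧ t ≠ 1 ∧ t • x = x), χ ⟨t, ht.2.2⟩ = -1 := fun t ht =>
    (chi_two χ _ ht.1).resolve_left fun h => ht.2.1
      ((pow_odd_of_sq (hp.out.odd_of_ne_two hp2) ht.1).symm.trans ((hχ _).1 h))
  refine Set.ncard_le_ncard_of_injOn (t := (L.U x : Set H)) (s * ·) (fun t ht => ⟨?_, ?_⟩)
    fun _ _ _ _ h => mul_left_cancel h
  · rw [mul_smul, ht.2.2, hs.2.2]
  · exact (hχ (⟨s, hs.2.2⟩ * ⟨t, ht.2.2⟩)).1 (by rw [map_mul, h4 s hs, h4 t ht]; simp)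

end LineAct

end Abs

variable {F : Type*} [Field F]

variable (F) in
/-- The image of `PSL₂` in `PGL₂`. -/
def PB : Subgroup PGL(2, F) := (ProjectiveSpecialLinearGroup.toPGL (n := Fin 2) (R := F)).range

theorem mem_PB (g : GL (Fin 2) F) : ProjGenLinGroup.mk g ∈ PB F ↔ IsSquare g.1.det := by
  refine ⟨fun ⟨k, hk⟩ => ?_, mk_mem_range_toPGL g⟩
  induction k using QuotientGroup.induction_on with | H k =>
  obtain ⟨c, -, h⟩ := exists_smul_of_pgl_mk_eq hk
  exact ⟨c, by simp [h, sq]⟩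

theorem mul_mem_PB [Finite F] {a b : PGL(2, F)} (ha : a ∉ PB F) (hb : b ∉ PB F) : a * b ∈ PB F := by
  induction a using ProjGenLinGroup.induction_on with | mk a =>
  induction b using ProjGenLinGroup.induction_on with | mk b =>
  rw [← map_mul, mem_PB, Units.val_mul, det_mul]
  exact isSquare_mul_of_not (mt (mem_PB a).2 ha) (mt (mem_PB b).2 hb)

/-- The invariant `tr² / det`. -/
noncomputable def tau (g : PGL(2, F)) : F :=
  (ProjGenLinGroup.mk_surjective g).choose.1.trace ^ 2 / (ProjGenLinGroup.mk_surjective g).choose.1.det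

theorem tau_mk (g : GL (Fin 2) F) : tau (ProjGenLinGroup.mk g) = g.1.trace ^ 2 / g.1.det := by
  obtain ⟨c, hc, h⟩ := exists_smul_of_pgl_mk_eq
    (ProjGenLinGroup.mk_surjective (ProjGenLinGroup.mk g)).choose_spec
  unfold tau
  rw [h]
  simp [mul_pow, mul_div_mul_left _ _ (pow_ne_zero 2 hc)]

theorem tau_conj (c g : PGL(2, F)) : tau (c * g * c⁻¹) = tau g := by
  induction c using ProjGenLinGroup.induction_on with | mk c =>
  induction g using ProjGenLinGroup.induction_on with | mk g =>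
  rw [← map_inv, ← map_mul, ← map_mul, tau_mk, tau_mk, Units.val_mul, Units.val_mul,
    trace_units_conj, det_units_conj]

theorem tau_map (s : F →+* F) (g : PGL(2, F)) : tau (ProjGenLinGroup.map s g) = s (tau g) := by
  induction g using ProjGenLinGroup.induction_on with | mk g =>
  rw [ProjGenLinGroup.map_mk, tau_mk, tau_mk]
  simp [det_fin_two, trace_fin_two]

theorem exists_traceless {ω : PGL(2, F)} (h1 : ω * ω = 1) (h2 : ω ≠ 1) :
    ∃ g : GL (Fin 2) F, ProjGenLinGroup.mk g = ω ∧ g 1 1 = -g 0 0 := by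
  induction ω using ProjGenLinGroup.induction_on with | mk g =>
  refine ⟨g, rfl, by_contra fun h => h2 ?_⟩
  rw [← map_mul, pgl2_mk_eq_one_iff] at h1
  simp only [Units.val_mul, mul_apply, Fin.sum_univ_two] at h1
  have h3 : g 1 1 + g 0 0 ≠ 0 := fun e => h (eq_neg_of_add_eq_zero_left e)
  exact (pgl2_mk_eq_one_iff g).2 ⟨mul_left_cancel₀ h3 (by linear_combination h1.1),
    mul_left_cancel₀ h3 (by linear_combination h1.2.1),
    mul_left_cancel₀ h3 (by linear_combination h1.2.2)⟩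

section Mat

variable {g h : GL (Fin 2) F} (hg : g 1 1 = -g 0 0)
include hg

theorem det_add_smul (a b : F) :
    (a • (1 : Matrix (Fin 2) (Fin 2) F) + b • g.1).det = a ^ 2 + b ^ 2 * g.1.det := by
  simp [det_fin_two, hg]
  ring

theorem trace_add_smul (a b : F) :
    (a • (1 : Matrix (Fin 2) (Fin 2) F) + b • g.1).trace = 2 * a := by
  simp [trace_fin_two, hg]
  ring

theorem add_smul_mul (a b c d : F) :
    (a • (1 : Matrix (Fin 2) (Fin 2) F) + b • g.1) * (c • 1 + d • g.1) =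
      (a * c - b * d * g.1.det) • 1 + (a * d + b * c) • g.1 := by
  ext i j
  fin_cases i <;> fin_cases j <;>
    simp [mul_apply, Fin.sum_univ_two, det_fin_two, hg, one_apply] <;> ring

theorem mk_mul_self : ProjGenLinGroup.mk g * ProjGenLinGroup.mk g = 1 := by
  rw [← map_mul, pgl2_mk_eq_one_iff]
  simp [mul_apply, Fin.sum_univ_two, hg, mul_comm, add_comm]

variable (h2 : (2 : F) ≠ 0)
include h2

theorem add_smul_inj {a b c d : F}
    (h : a • (1 : Matrix (Fin 2) (Fin 2) F) + b • g.1 = c • 1 + d • g.1) : a = c ∧ b = d := by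
  have h1 := congrArg trace h
  rw [trace_add_smul hg, trace_add_smul hg] at h1
  obtain rfl := mul_left_cancel₀ h2 h1
  exact ⟨rfl, smul_left_injective F g.ne_zero (add_left_cancel h)⟩

theorem mk_eq_one_of_add {a b : F} (hh : h.1 = a • 1 + b • g.1) :
    ProjGenLinGroup.mk h = 1 ↔ b = 0 := by
  rw [pgl_mk_eq_one_iff, hh]
  exact ⟨fun ⟨c, hc⟩ => (add_smul_inj hg h2 (a := c) (by simpa [smul_one_eq_diagonal] using hc)).2.symm,
    fun h => ⟨a, by simp [h, smul_one_eq_diagonal]⟩⟩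

theorem mk_ne_one : ProjGenLinGroup.mk g ≠ 1 := fun h =>
  one_ne_zero ((mk_eq_one_of_add hg h2 (a := 0) (b := 1) (by simp)).1 h)

theorem exists_add_of_comm (hc : g.1 * h.1 = h.1 * g.1) : ∃ a b : F, h.1 = a • 1 + b • g.1 := by
  have e := fun i j => congrFun (congrFun hc i) j
  simp only [mul_apply, Fin.sum_univ_two] at e
  have e0 := e 0 0
  have e1 := e 0 1
  have e2 := e 1 0
  rw [hg] at e1 e2
  have key : (2 * g.1.det) • h.1 = (g.1.det * h.1.trace) • 1 + (-(g.1 * h.1).trace) • g.1 := by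
    ext i j
    fin_cases i <;> fin_cases j <;>
      simp [mul_apply, Fin.sum_univ_two, det_fin_two, trace_fin_two, hg]
    · linear_combination (-g 0 1) * e2 - g 0 0 * e0
    · linear_combination (-g 0 0) * e1 + g 0 1 * e0
    · linear_combination g 0 0 * e2 - g 1 0 * e0
    · linear_combination g 0 1 * e2 + g 0 0 * e0
  exact ⟨(2 * g.1.det)⁻¹ * (g.1.det * h.1.trace), (2 * g.1.det)⁻¹ * (-(g.1 * h.1).trace), by
    rw [mul_smul _ (_ * _), mul_smul _ (-_), ← smul_add, ← key, inv_smul_smul₀ (mul_ne_zero h2 g.det_ne_zero)]⟩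

theorem traceless_of_anti (hc : g.1 * h.1 = -(h.1 * g.1)) : h 1 1 = -h 0 0 := by
  have e := fun i j => congrFun (congrFun hc i) j
  simp only [mul_apply, Fin.sum_univ_two, Matrix.neg_apply] at e
  have e0 := e 0 0
  have e1 := e 0 1
  have e3 := e 1 1
  have h1 := gl2_det_ne g
  rw [hg] at e1 e3 h1
  refine mul_left_cancel₀ (mul_ne_zero h2 h1) ?_
  linear_combination (-g 0 0) * e0 + g 0 0 * e3 - 2 * g 1 0 * e1

omit h2 in
theorem exists_anti : ∃ h : GL (Fin 2) F, g.1 * h.1 = -(h.1 * g.1) := by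
  by_cases h1 : g 1 0 = 0
  · by_cases h2 : g 0 1 = 0
    · refine ⟨gl2 0 1 1 0 (by simp), ?_⟩
      ext i j
      fin_cases i <;> fin_cases j <;> simp [mul_apply, Fin.sum_univ_two, vecMul, dotProduct, hg, h1, h2]
    · refine ⟨gl2 (g 0 1) 0 (-2 * g 0 0) (-g 0 1) (by simp [h2]), ?_⟩
      ext i j
      fin_cases i <;> fin_cases j <;>
        simp [mul_apply, Fin.sum_univ_two, vecMul, dotProduct, hg] <;> ring
  · refine ⟨gl2 (-g 1 0) (2 * g 0 0) 0 (g 1 0) (by simp [h1]), ?_⟩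
    ext i j
    fin_cases i <;> fin_cases j <;>
        simp [mul_apply, Fin.sum_univ_two, vecMul, dotProduct, hg] <;> ring

variable [Finite F]

theorem mk_pow_ne : ProjGenLinGroup.mk g ^ ringChar F ≠ 1 := by
  have := Fact.mk (CharP.char_is_prime F (ringChar F))
  rw [pow_odd_of_sq ((Fact.out : (ringChar F).Prime).odd_of_ne_two fun h => h2 (by
    simpa [h] using ringChar.Nat.cast_ringChar (R := F))) (mk_mul_self hg)]
  exact mk_ne_one hg h2

theorem not_mem_tor_of_anti (hc : g.1 * h.1 = -(h.1 * g.1)) :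
    ProjGenLinGroup.mk h ∉ tor (PLine F) (ProjGenLinGroup.mk g) := fun h1 => by
  have := Fact.mk (CharP.char_is_prime F (ringChar F))
  have h3 := traceless_of_anti hg h2 hc
  rcases (lineAct_PLine (ringChar F)).tor_two (mk_pow_ne hg h2) (mk_mul_self hg) h1
    (mk_mul_self h3) with h4 | h4
  · exact mk_ne_one h3 h2 h4
  · obtain ⟨c, -, h5⟩ := exists_smul_of_pgl_mk_eq h4
    have h6 : (2 : F) • (h * g).1 = 0 := by
      rw [two_smul, Units.val_mul, ← eq_neg_iff_add_eq_zero, ← hc, h5, smul_mul_assoc, mul_smul_comm]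
    exact (h * g).ne_zero ((smul_eq_zero.1 h6).resolve_left h2)

theorem mk_mem_tor : ProjGenLinGroup.mk h ∈ tor (PLine F) (ProjGenLinGroup.mk g) ↔
    ∃ a b : F, h.1 = a • 1 + b • g.1 := by
  have := Fact.mk (CharP.char_is_prime F (ringChar F))
  have L := lineAct_PLine (F := F) (ringChar F)
  refine ⟨fun h1 => ?_, fun ⟨a, b, h1⟩ => (L.mem_tor_iff (mk_pow_ne hg h2) (mk_mul_self hg)).2
    ⟨?_, fun h3 => ?_⟩⟩
  · have h3 := L.tor_comm (mk_pow_ne hg h2) h1 self_mem_tor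
    rw [← map_mul, ← map_mul] at h3
    obtain ⟨c, -, h4⟩ := exists_smul_of_pgl_mk_eq h3
    have h5 := congrArg det h4
    simp only [Units.val_mul, det_mul, det_smul, Fintype.card_fin] at h4 h5
    rcases sq_eq_one_iff.1 (mul_right_cancel₀ (mul_ne_zero h.det_ne_zero g.det_ne_zero)
      (show c ^ 2 * _ = 1 * _ by rw [← h5]; ring)) with rfl | rfl
    · exact exists_add_of_comm hg h2 (by simpa using h4)
    · exact (not_mem_tor_of_anti hg h2 (by simpa using h4) h1).elim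
  · rw [← map_mul, ← map_mul]
    exact congrArg _ (Units.ext (by simp [h1, mul_add, add_mul]))
  · rw [← map_mul, mk_eq_one_of_add hg h2 (by rw [Units.val_mul, h1, add_smul_mul hg])] at h3
    rcases mul_eq_zero.1 (mul_left_cancel₀ h2 (show 2 * (b * a) = 2 * 0 by
      linear_combination h3)) with h4 | h4
    · exact Or.inl ((mk_eq_one_of_add hg h2 h1).2 h4)
    · exact Or.inr (pgl_mk_eq_of_smul g h b (fun h5 => h.ne_zero (by simp [h1, h4, h5]))
        (by simp [h1, h4])).symm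

theorem card_tor : Nat.card (tor (PLine F) (ProjGenLinGroup.mk g)) +
    Nat.card {a : F // a ^ 2 = -g.1.det} = Nat.card F + 1 := by
  classical
  let k : {a : F // ¬ a ^ 2 = -g.1.det} → GL (Fin 2) F := fun a =>
    GeneralLinearGroup.mkOfDetNeZero (a.1 • 1 + (1 : F) • g.1) (by
      rw [det_add_smul hg, one_pow, one_mul]
      exact fun h => a.2 (eq_neg_of_add_eq_zero_left h))
  have hk : ∀ a, (k a).1 = a.1 • 1 + (1 : F) • g.1 := fun _ => rfl
  let f : Option {a : F // ¬ a ^ 2 = -g.1.det} → tor (PLine F) (ProjGenLinGroup.mk g) := fun o =>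
    o.elim 1 fun a => ⟨ProjGenLinGroup.mk (k a), (mk_mem_tor hg h2).2 ⟨_, _, hk a⟩⟩
  have h1 : ∀ a, f (some a) ≠ f none := fun a h =>
    one_ne_zero ((mk_eq_one_of_add hg h2 (hk a)).1 (congrArg Subtype.val h))
  have hf : Function.Bijective f := by
    refine ⟨?_, fun ⟨y, hy⟩ => ?_⟩
    · rintro (_ | a) (_ | b) h
      · rfl
      · exact (h1 b h.symm).elim
      · exact (h1 a h).elim
      · obtain ⟨c, -, h3⟩ := exists_smul_of_pgl_mk_eq (congrArg Subtype.val h)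
        rw [hk, hk, smul_add, smul_smul, smul_smul] at h3
        obtain ⟨h4, h5⟩ := add_smul_inj hg h2 h3
        rw [mul_one] at h5
        exact congrArg _ (Subtype.ext (by rw [h4, ← h5, one_mul]))
    · induction y using ProjGenLinGroup.induction_on with | mk h =>
      obtain ⟨a, b, h3⟩ := (mk_mem_tor hg h2).1 hy
      by_cases hb : b = 0
      · exact ⟨none, Subtype.ext ((mk_eq_one_of_add hg h2 h3).2 hb).symm⟩
      · refine ⟨some ⟨a / b, fun h4 => h.det_ne_zero ?_⟩, Subtype.ext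
          (pgl_mk_eq_of_smul _ _ b hb (by rw [hk, h3, smul_add, smul_smul, smul_smul]; simp [mul_div_cancel₀ _ hb]))⟩
        rw [h3, det_add_smul hg]
        field_simp at h4
        linear_combination h4
  have := Fintype.ofFinite F
  rw [← Nat.card_congr (Equiv.ofBijective f hf), Nat.card_eq_fintype_card, Fintype.card_option,
    Fintype.card_subtype_compl, Nat.card_eq_fintype_card, Nat.card_eq_fintype_card]
  have := Fintype.card_subtype_le fun a : F => a ^ 2 = -g.1.det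
  omega

theorem exists_tor_not_PB : ∃ y ∈ tor (PLine F) (ProjGenLinGroup.mk g), y ∉ PB F := by
  have := Fintype.ofFinite F
  have h3 : ringChar F ≠ 2 := fun h => h2 (by simpa [h] using ringChar.Nat.cast_ringChar (R := F))
  obtain ⟨c, hc⟩ := FiniteField.exists_nonsquare h3
  obtain ⟨a, b, h1⟩ := FiniteField.exists_root_sum_quadratic (R := F)
    (f := Polynomial.X ^ 2 - Polynomial.C c) (g := Polynomial.C g.1.det * Polynomial.X ^ 2)
    (Polynomial.degree_X_pow_sub_C two_pos c) (Polynomial.degree_C_mul_X_pow 2 g.det_ne_zero)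
    (FiniteField.odd_card_of_char_ne_two h3)
  have h4 : (a • (1 : Matrix (Fin 2) (Fin 2) F) + b • g.1).det = c := by
    simp only [Polynomial.eval_sub, Polynomial.eval_pow, Polynomial.eval_X, Polynomial.eval_C,
      Polynomial.eval_mul] at h1
    rw [det_add_smul hg]
    linear_combination h1
  refine ⟨ProjGenLinGroup.mk (GeneralLinearGroup.mkOfDetNeZero (a • 1 + b • g.1) ?_),
    (mk_mem_tor hg h2).2 ⟨a, b, rfl⟩, fun h => hc (h4 ▸ (mem_PB _).1 h)⟩
  rw [h4]
  rintro rfl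
  exact hc ⟨0, by simp⟩

theorem eq_of_tau_eq {y y' : PGL(2, F)} (hy : y ∈ tor (PLine F) (ProjGenLinGroup.mk g))
    (hy' : y' ∈ tor (PLine F) (ProjGenLinGroup.mk g)) (h : tau y = tau y') : y' = y ∨ y' = y⁻¹ := by
  have key : ∀ (h h' : GL (Fin 2) F) (a b c d : F), h.1 = a • 1 + b • g.1 → h'.1 = c • 1 + d • g.1 →
      a * d + b * c = 0 → ProjGenLinGroup.mk h' = (ProjGenLinGroup.mk h)⁻¹ :=
    fun h h' a b c d e1 e2 e => eq_inv_of_mul_eq_one_right (by
      rwa [← map_mul, mk_eq_one_of_add hg h2 (by rw [Units.val_mul, e1, e2, add_smul_mul hg])])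
  induction y using ProjGenLinGroup.induction_on with | mk k =>
  induction y' using ProjGenLinGroup.induction_on with | mk k' =>
  obtain ⟨a, b, h3⟩ := (mk_mem_tor hg h2).1 hy
  obtain ⟨c, d, h4⟩ := (mk_mem_tor hg h2).1 hy'
  have h5 := k.det_ne_zero
  rw [tau_mk, tau_mk, div_eq_div_iff h5 k'.det_ne_zero, h3, h4] at h
  simp only [det_add_smul hg, trace_add_smul hg] at h
  rcases mul_eq_zero.1 (mul_left_cancel₀ (mul_ne_zero (pow_ne_zero 2 h2) g.det_ne_zero)
    (show _ * ((a * d - b * c) * (a * d + b * c)) = _ * 0 by linear_combination h)) with h6 | h6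
  · let k₁ := GeneralLinearGroup.mkOfDetNeZero (a • 1 + (-b) • g.1) (by
      simpa only [h3, det_add_smul hg, neg_sq] using h5)
    exact Or.inl ((key k₁ k' a (-b) c d rfl h4 (by linear_combination h6)).trans
      (key k₁ k a (-b) a b rfl h3 (by ring)).symm)
  · exact Or.inr (key k k' a b c d h3 h4 h6)

end Mat

theorem two_mul_card_inf {G : Type*} [Group G] {A B : Subgroup G} {a : G} (ha : a ∈ B)
    (ha' : a ∉ A) (h : ∀ x ∈ B, ∀ y ∈ B, x ∉ A → y ∉ A → x * y ∈ A) :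
    2 * Nat.card ↥(B ⊓ A) = Nat.card B := by
  have h1 : A.relIndex B = 2 := Subgroup.relIndex_eq_two_iff.2 ⟨a, ha, fun b hb => by
    by_cases h2 : b ∈ A
    · exact Or.inr ⟨h2, fun h3 => ha' ((A.mul_mem_cancel_left h2).1 h3)⟩
    · exact Or.inl ⟨h b hb a ha h2 ha', h2⟩⟩
  rw [← (A.subgroupOf B).index_mul_card, ← h1, ← Subgroup.inf_subgroupOf_left,
    Nat.card_congr (Subgroup.subgroupOfEquivOfLe inf_le_left).toEquiv]
  simp [Subgroup.relIndex]

variable [Finite F] (h2 : (2 : F) ≠ 0) {ω : PGL(2, F)} (h1 : ω * ω = 1) (h0 : ω ≠ 1)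
include h2

theorem ringChar_ne_two : ringChar F ≠ 2 := fun h =>
  h2 (by simpa [h] using ringChar.Nat.cast_ringChar (R := F))

theorem card_sq_eq {c : F} (hc : c ≠ 0) :
    (IsSquare c → Nat.card {a : F // a ^ 2 = c} = 2) ∧
      (¬ IsSquare c → Nat.card {a : F // a ^ 2 = c} = 0) := by
  refine ⟨fun ⟨r, hr⟩ => Nat.card_eq_two_iff.2 ⟨⟨r, by rw [hr, sq]⟩, ⟨-r, by rw [hr]; ring⟩,
    fun h => hc ?_, Set.eq_univ_of_forall fun a => ?_⟩, fun h => ?_⟩
  · rw [hr, mul_left_cancel₀ h2 (show 2 * r = 2 * 0 by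
      linear_combination congrArg Subtype.val h), mul_zero]
  · simpa [Subtype.ext_iff] using sq_eq_sq_iff_eq_or_eq_neg.1 (a.2.trans (hr.trans (sq r).symm))
  · have : IsEmpty {a : F // a ^ 2 = c} := ⟨fun a => h ⟨a, a.2.symm.trans (sq _)⟩⟩
    exact Nat.card_of_isEmpty

include h1 h0

theorem inv_pow_ne : ω ^ ringChar F ≠ 1 := by
  obtain ⟨g, rfl, hg⟩ := exists_traceless h1 h0
  exact mk_pow_ne hg h2

theorem exists_swap : ∃ s ∈ PB F, s * ω = ω * s ∧ s ∉ tor (PLine F) ω := by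
  have := Fact.mk (CharP.char_is_prime F (ringChar F))
  have h3 := inv_pow_ne h2 h1 h0
  obtain ⟨g, rfl, hg⟩ := exists_traceless h1 h0
  obtain ⟨h, hh⟩ := exists_anti hg
  obtain ⟨y, h4, h5⟩ := exists_tor_not_PB hg h2
  have h6 := not_mem_tor_of_anti hg h2 hh
  have h7 : ProjGenLinGroup.mk h * ProjGenLinGroup.mk g = ProjGenLinGroup.mk g * ProjGenLinGroup.mk h := by
    rw [← map_mul, ← map_mul]
    exact pgl_mk_eq_of_smul _ _ (-1) (by simp) (by simpa using hh)
  by_cases h8 : ProjGenLinGroup.mk h ∈ PB F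
  · exact ⟨_, h8, h7, h6⟩
  · refine ⟨_, mul_mem_PB h8 h5, ?_, fun h => h6 ((Subgroup.mul_mem_cancel_right _ h4).1 h)⟩
    rw [mul_assoc, (lineAct_PLine (ringChar F)).tor_comm h3 h4 self_mem_tor, ← mul_assoc, h7,
      mul_assoc]

theorem tor_tau {y y' : PGL(2, F)} (hy : y ∈ tor (PLine F) ω) (hy' : y' ∈ tor (PLine F) ω)
    (h : tau y = tau y') : y' = y ∨ y' = y⁻¹ := by
  obtain ⟨g, rfl, hg⟩ := exists_traceless h1 h0
  exact eq_of_tau_eq hg h2 hy hy' h

theorem card_tor_inf : ((IsSquare (-1 : F) ↔ ω ∈ PB F) →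
    2 * Nat.card ↥(tor (PLine F) ω ⊓ PB F) + 1 = Nat.card F) ∧ (¬ (IsSquare (-1 : F) ↔ ω ∈ PB F) →
      2 * Nat.card ↥(tor (PLine F) ω ⊓ PB F) = Nat.card F + 1) := by
  obtain ⟨g, rfl, hg⟩ := exists_traceless h1 h0
  obtain ⟨y, h4, h5⟩ := exists_tor_not_PB hg h2
  have h3 := card_tor hg h2
  obtain ⟨h6, h7⟩ := card_sq_eq h2 (neg_ne_zero.2 g.det_ne_zero)
  rw [two_mul_card_inf h4 h5 fun _ _ _ _ => mul_mem_PB, mem_PB]
  have a := fun (a : IsSquare (-1 : F)) (b : IsSquare g.1.det) => a.mul b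
  have b := isSquare_mul_of_not (a := -1) (b := g.1.det)
  have c := fun (a : IsSquare (-1 : F)) (b : IsSquare (-g.1.det)) => a.mul b
  have d := fun (a : IsSquare (-g.1.det)) (b : IsSquare g.1.det) => a.div b
  simp only [neg_mul, one_mul, neg_neg, neg_div, div_self g.det_ne_zero] at a b c d
  exact ⟨fun h => by have := h6 (by tauto); omega, fun h => by have := h7 (by tauto); omega⟩

theorem ncard_inv (h3 : ω ∈ PB F) : {t | t ∈ PB F ∧ t * t = 1 ∧ t ≠ 1}.ncard *
    (4 * Nat.card ↥(tor (PLine F) ω ⊓ PB F)) = Nat.card F * (Nat.card F ^ 2 - 1) := by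
  have := Fact.mk (CharP.char_is_prime F (ringChar F))
  have := Fintype.ofFinite F
  have hi := ProjectiveSpecialLinearGroup.toPGL_injective (n := Fin 2) (R := F)
  obtain ⟨s, h4, h5, h6⟩ := exists_swap h2 h1 h0
  have L := lineAct_PLine (F := F) (ringChar F)
  have h7 := two_mul_card_inf (A := tor (PLine F) ω) (B := PB F ⊓ Subgroup.centralizer {ω})
    ⟨h4, Subgroup.mem_centralizer_singleton_iff.2 h5⟩ h6 fun x hx y hy a b =>
      L.tor_mul (inv_pow_ne h2 h1 h0) (Subgroup.mem_centralizer_singleton_iff.1 hx.2) a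
        (Subgroup.mem_centralizer_singleton_iff.1 hy.2) b
  rw [inf_assoc, inf_eq_right (a := Subgroup.centralizer {ω}).2 fun y hy =>
    Subgroup.mem_centralizer_singleton_iff.2
    (L.tor_comm (inv_pow_ne h2 h1 h0) hy self_mem_tor), inf_comm] at h7
  obtain ⟨w, rfl⟩ := h3
  have h8 : (Subgroup.centralizer {w}).map ProjectiveSpecialLinearGroup.toPGL =
      PB F ⊓ Subgroup.centralizer {ProjectiveSpecialLinearGroup.toPGL w} := by
    ext x
    simp only [Subgroup.mem_map, Subgroup.mem_inf, Subgroup.mem_centralizer_singleton_iff]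
    exact ⟨fun ⟨y, a, b⟩ => ⟨⟨y, b⟩, by rw [← b, ← map_mul, a, map_mul]⟩,
      fun ⟨⟨y, b⟩, a⟩ => ⟨y, hi (by rwa [map_mul, map_mul, b]), b⟩⟩
  have h9 : {t | t ∈ PB F ∧ t * t = 1 ∧ t ≠ 1} =
      ProjectiveSpecialLinearGroup.toPGL '' orbit (ConjAct PSL(2, F)) w := by
    ext t
    simp only [Set.mem_ofPred_eq, Set.mem_image, ConjAct.mem_orbit_conjAct]
    refine ⟨fun ⟨⟨y, b⟩, c, d⟩ => ⟨y, psl2_involutions_conj h2 _ _ (fun h => d (by simp [← b, h]))
      (hi (by simpa [b] using c)) (fun h => h0 (by simp [h])) (hi (by simpa using h1)), b⟩, ?_⟩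
    rintro ⟨y, hy, rfl⟩
    obtain ⟨c, rfl⟩ := isConj_iff.1 hy.symm
    exact ⟨⟨_, rfl⟩, by rw [map_mul, map_mul, map_inv, conj_mul, h1, mul_one, mul_inv_cancel],
      by simpa using h0⟩
  have h10 := card_psl_two' (F := F)
  rcases two_cases (F := F) rfl with ⟨h, -⟩ | ⟨-, -, h⟩
  · exact (h2 h).elim
  rw [Nat.card_eq_fintype_card (α := F), h, ← Nat.card_eq_fintype_card,
    ← (Subgroup.centralizer {w}).index_mul_card] at h10
  rw [h9, Set.ncard_image_of_injective _ hi, ← index_stabilizer, ← h10,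
    ← Subgroup.card_map_of_injective hi, h8, ← h7, ConjAct.stabilizer_eq_centralizer]
  change (Subgroup.centralizer {w}).index * _ = _
  ring

theorem ncard_odd_pairs {z : PGL(2, F)} (hz : z ∈ tor (PLine F) ω) (hz1 : z ≠ 1) :
    {t | t * t = 1 ∧ t ≠ 1 ∧ ∃ z' ∈ tor (PLine F) t, z' ≠ 1 ∧
      Odd (Nat.card (Subgroup.closure {z, z'}))}.ncard ≤ 2 * Nat.card F := by
  have hp := Fact.mk (CharP.char_is_prime F (ringChar F))
  have L := lineAct_PLine (F := F) (ringChar F)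
  obtain ⟨x, y, -, h3, -⟩ := L.fix_two (inv_pow_ne h2 h1 h0)
  have h4 : ∀ x : PLine F, {t : PGL(2, F) | t * t = 1 ∧ t ≠ 1 ∧ t • x = x}.ncard ≤ Nat.card F :=
    fun x => (L.ncard_inv_fix (ringChar_ne_two h2) x).trans (by
      obtain ⟨k, hk⟩ := (L.isPGroup_U x).exists_card_eq
      have := Fintype.ofFinite F
      obtain ⟨n, -, hn⟩ := FiniteField.card F (ringChar F)
      have h5 := (L.U x).card_subgroup_dvd_card
      rw [card_pgl_two, hk] at h5
      refine Nat.le_of_dvd Nat.card_pos (hk ▸ Nat.Coprime.dvd_of_dvd_mul_right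
        (Nat.Coprime.pow_left _ ?_) h5)
      refine (Nat.Prime.coprime_iff_not_dvd hp.out).2 fun h => hp.out.not_dvd_one ?_
      have h6 : ringChar F ∣ Nat.card F ^ 2 := by
        rw [Nat.card_eq_fintype_card, hn, ← pow_mul]
        exact dvd_pow_self _ (by simp)
      simpa only [Nat.sub_sub_self (Nat.one_le_pow 2 _ Nat.card_pos)] using Nat.dvd_sub h6 h)
  refine (Set.ncard_le_ncard (t := _ ∪ _) ?_).trans ((Set.ncard_union_le _ _).trans
    ((add_le_add (h4 x) (h4 y)).trans_eq (two_mul _).symm))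
  rintro t ⟨h5, h6, z', h7, h8, h9⟩
  obtain ⟨v, hv⟩ := (L.subgroup _).fixed_of_odd h9
  have h10 := (L.fix_iff (inv_pow_ne h2 h5 h6) h7 h8 v).1
    (hv ⟨z', Subgroup.subset_closure (by simp)⟩)
  rcases (h3 v).1 ((L.fix_iff (inv_pow_ne h2 h1 h0) hz hz1 v).1
    (hv ⟨z, Subgroup.subset_closure (by simp)⟩)) with rfl | rfl
  exacts [Or.inl ⟨h5, h6, h10⟩, Or.inr ⟨h5, h6, h10⟩]

end H16
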