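import Mathlib
import Cfsg.Agent.H16.AutSL2
import Cfsg.Agent.H16.Tori

/-! The group `PΓL₂(q) = Aut PSL₂(q)`. -/

set_option autoImplicit false
set_option linter.unusedSectionVars false

namespace H16

open MulAction Matrix SemidirectProduct OnePoint
open scoped MatrixGroups commutatorElement

theorem cyc_fix {H : Type*} [Group H] [Finite H] (φ : MulAut H) {g : H} {r : ℕ} (hr : r.Prime)
    (hr2 : r ≠ 2) (h1 : φ g ∈ Subgroup.zpowers g) (h2 : (φ ^ r) g = g)
    (h3 : ∀ y ∈ Subgroup.zpowers g, ¬ r ∣ orderOf y → φ y = y) : φ (g ^ r) = g ^ r := by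
  obtain ⟨a, ha⟩ := Subgroup.mem_zpowers_iff.1 h1
  have h4 : ∀ n : ℕ, (φ ^ n) g = g ^ a ^ n := fun n => by
    induction n with
    | zero => simp
    | succ n ih => rw [pow_succ', MulAut.mul_apply, ih, map_zpow, ← ha, ← _root_.zpow_mul, pow_succ']
  have h5 : (orderOf g : ℤ) ∣ a ^ r - 1 ^ r := by
    rw [orderOf_dvd_sub_iff_zpow_eq_zpow, ← h4, h2]; simp
  obtain ⟨k, m, hm, h6⟩ := Nat.exists_eq_pow_mul_and_not_dvd (orderOf_pos g).ne' r hr.ne_one
  have h7 := h3 (g ^ r ^ k) (pow_mem (Subgroup.mem_zpowers g) _) fun h => hm (h.trans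
    (orderOf_dvd_of_pow_eq_one (by rw [← pow_mul, ← h6, pow_orderOf_eq_one])))
  rw [map_pow, ← ha, ← zpow_natCast, ← zpow_natCast, ← _root_.zpow_mul,
    ← orderOf_dvd_sub_iff_zpow_eq_zpow] at h7 ⊢
  rw [h6, Nat.cast_mul] at h5 h7 ⊢
  rw [← sub_one_mul] at h7 ⊢
  rw [mul_comm] at h7
  have hp := Nat.prime_iff_prime_int.1 hr
  refine IsCoprime.mul_dvd (Nat.isCoprime_iff_coprime.2 (((Nat.Prime.coprime_iff_not_dvd hr).2
    hm).pow_left k)) ?_ ((Int.dvd_of_mul_dvd_mul_right (by simp [hr.ne_zero]) h7).mul_right _)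
  rcases k with - | k
  · simp
  replace h5 := (dvd_mul_right _ _).trans h5
  rw [Nat.cast_pow] at h5 ⊢
  have h8 : (r : ℤ) ∣ a - 1 := by
    simpa using dvd_sub ((dvd_pow_self _ k.succ_ne_zero).trans h5) (Int.prime_dvd_pow_self_sub hr a)
  rw [pow_dvd_iff_le_emultiplicity] at h5 ⊢
  rwa [emultiplicity_mul hp, Int.natCast_emultiplicity, ← Int.emultiplicity_pow_sub_pow hr
    (hr.odd_of_ne_two hr2) h8 fun h => hp.not_dvd_one (by simpa using dvd_sub h h8)]

theorem pow_le_num {q r m : ℕ} (hq : 3 ≤ q) (hr : 3 ≤ r) (h : q ^ r ≤ 2 * m + 1)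
    (hm : m ≤ r * (2 * q)) : q = 3 ∧ r = 3 := by
  obtain ⟨k, rfl⟩ := Nat.exists_eq_add_of_le' hr
  have h1 : ∀ k, 5 * (k + 4) ≤ 3 ^ (k + 3) := fun k => by
    induction k with
    | zero => norm_num
    | succ k ih => rw [show k + 1 + 3 = k + 3 + 1 by ring, pow_succ]; omega
  rcases k with - | k
  · refine ⟨by_contra fun h2 => ?_, rfl⟩
    have : 4 * 4 * q ≤ q * q * q := by gcongr <;> omega
    rw [zero_add, pow_three'] at h
    omega
  · have h2 := (h1 k).trans (Nat.pow_le_pow_left hq _)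
    rw [show k + 1 + 3 = k + 3 + 1 by ring, pow_succ] at h
    nlinarith

variable {F : Type*} [Field F]

variable (F) in
/-- Field automorphisms of `PGL₂`. -/
noncomputable def fldAut : RingAut F →* MulAut PGL(2, F) where
  toFun s := pglCongr s
  map_one' := MulEquiv.ext fun g => by
    induction g using ProjGenLinGroup.induction_on with | mk g => rfl
  map_mul' _ _ := MulEquiv.ext fun g => by
    induction g using ProjGenLinGroup.induction_on with | mk g => rfl

theorem fldAut_apply (s : RingAut F) (g : PGL(2, F)) :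
    fldAut F s g = ProjGenLinGroup.map (s : F →+* F) g := rfl

variable (F) in
/-- The group `PΓL₂`. -/
abbrev PGa : Type _ := PGL(2, F) ⋊[fldAut F] RingAut F

/-- The action of `PΓL₂` on `PGL₂`. -/
noncomputable def gaAct : PGa F →* MulAut PGL(2, F) :=
  SemidirectProduct.lift MulAut.conj (fldAut F) fun _ => by ext; simp

theorem gaAct_apply (x : PGa F) (y : PGL(2, F)) :
    gaAct x y = x.left * fldAut F x.right y * x.left⁻¹ := rfl

theorem conj_inl (x : PGa F) (y : PGL(2, F)) : x * inl y * x⁻¹ = inl (gaAct x y) := by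
  ext <;> simp [gaAct_apply]

theorem conj_mem_PB (c : PGL(2, F)) {y : PGL(2, F)} (hy : y ∈ PB F) : c * y * c⁻¹ ∈ PB F := by
  induction c using ProjGenLinGroup.induction_on with | mk c =>
  induction y using ProjGenLinGroup.induction_on with | mk g =>
  rwa [← map_inv, ← map_mul, ← map_mul, mem_PB, Units.val_mul, Units.val_mul, det_units_conj,
    ← mem_PB]

theorem gaAct_mem_PB (x : PGa F) {y : PGL(2, F)} (hy : y ∈ PB F) : gaAct x y ∈ PB F := by
  obtain ⟨y, rfl⟩ := hy
  exact conj_mem_PB _ ⟨_, toPGL_pslMap _ y⟩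

theorem tau_gaAct (x : PGa F) (y : PGL(2, F)) : tau (gaAct x y) = x.right (tau y) := by
  rw [gaAct_apply, tau_conj, fldAut_apply, tau_map]; rfl

variable (F) in
/-- The image of `PSL₂` in `PΓL₂`. -/
noncomputable def PH : Subgroup (PGa F) := (PB F).map inl

instance instNormalPH : (PH F).Normal :=
  ⟨fun _ ⟨_, hy, e⟩ x => ⟨_, gaAct_mem_PB x hy, e ▸ (conj_inl x _).symm⟩⟩

theorem inl_mem_PH {y : PGL(2, F)} : inl y ∈ PH F ↔ y ∈ PB F :=
  Subgroup.mem_map_iff_mem inl_injective

theorem eq_inl {x : PGa F} (h : x.right = 1) : x = inl x.left := by ext <;> simp [h]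

variable [Finite F]

instance instFinitePGa : Finite (PGa F) :=
  have : Finite (RingAut F) := DFunLike.finite _
  Finite.of_equiv _ equivProd.symm

theorem eq_one_of_gaAct {x : PGa F} (h : ∀ y ∈ PB F, gaAct x y = y) : x = 1 := by
  classical
  have h1 : ∀ a : F, x.right (a ^ 2) = a ^ 2 := fun a => by
    have := tau_gaAct x (ProjGenLinGroup.mk (gl2 a (-1) 1 0 (by simp)))
    rw [h _ ((mem_PB _).2 (by simp [det_fin_two])), tau_mk] at this
    simpa [det_fin_two, trace_fin_two] using this.symm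
  have h2 : x.right = 1 := RingEquiv.ext fun c => by
    obtain ⟨a, b, rfl⟩ := exists_sq_add_sq' c
    rw [map_add, h1, h1]; rfl
  simp only [gaAct_apply, h2, map_one, MulAut.one_apply, mul_inv_eq_iff_eq_mul] at h
  have h3 : x.left • (∞ : OnePoint F) = ∞ := by
    have := congrArg (· • (∞ : OnePoint F)) (h (transl 1) ⟨_, toPGL_sl2_transl 1⟩)
    simp only [mul_smul, transl_smul_infty] at this
    induction h4 : x.left • (∞ : OnePoint F) using OnePoint.rec with
    | infty => rfl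
    | coe t => simp [h4, transl_smul_coe] at this
  have h4 : ∀ z : OnePoint F, x.left • z = z := fun z => by
    obtain ⟨k, rfl⟩ := exists_smul_eq PSL(2, F) ∞ z
    rw [psl_smul_def, ← mul_smul, h _ ⟨k, rfl⟩, mul_smul, h3]
  rw [eq_inl h2, pgl2_eq_one_of_three x.left (x := ∞) (y := (0 : F)) (z := (1 : F)) (by simp)
    (by simp) (by simp) (h4 _) (h4 _) (h4 _), map_one]

variable (F) in
/-- `PSL₂` inside `PΓL₂`. -/
noncomputable def pslPH : PSL(2, F) ≃* PH F :=
  (MonoidHom.ofInjective ProjectiveSpecialLinearGroup.toPGL_injective).trans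
    ((PB F).equivMapOfInjective _ inl_injective)

theorem conjNormal_bijective :
    Function.Bijective (MulAut.conjNormal : PGa F →* MulAut (PH F)) := by
  have := Fintype.ofFinite F
  have := Fact.mk (CharP.char_is_prime F (ringChar F))
  obtain ⟨n, -, hn⟩ := FiniteField.card F (ringChar F)
  refine (Nat.bijective_iff_injective_and_card _).2 ⟨(injective_iff_map_eq_one _).2 fun x hx =>
    eq_one_of_gaAct fun y hy => inl_injective (φ := fldAut F) ?_, ?_⟩
  · rw [← conj_inl]
    exact congrArg (fun a : MulAut (PH F) => (a ⟨inl y, inl_mem_PH.2 hy⟩).1) hx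
  · rw [SemidirectProduct.card, card_ringAut _ _ hn, ← card_mulAut_congr (pslPH F),
      card_aut_psl _ _ hn (by simp)]
    simp [mul_comm]

theorem commutator_mem_PH (a b : PGa F) : ⁅a, b⁆ ∈ PH F := by
  have := Fintype.ofFinite F
  have h1 : ∀ (x : PGa F) (c : PGL(2, F)), Commute (QuotientGroup.mk' (PH F) x)
      (QuotientGroup.mk' (PH F) (inl c)) := fun x c => by
    rw [← commutatorElement_eq_one_iff_commute, ← map_commutatorElement, QuotientGroup.mk'_apply,
      QuotientGroup.eq_one_iff, commutatorElement_def, conj_inl, ← map_inv, ← map_mul, inl_mem_PH]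
    by_cases hc : c ∈ PB F
    · exact mul_mem (gaAct_mem_PB x hc) (inv_mem hc)
    · exact mul_mem_PB (fun h => hc (by simpa using gaAct_mem_PB x⁻¹ h)) (by simpa using hc)
  rw [← QuotientGroup.eq_one_iff, ← QuotientGroup.mk'_apply, map_commutatorElement,
    commutatorElement_eq_one_iff_commute, ← inl_left_mul_inr_right b, map_mul]
  refine (h1 _ _).mul_right ?_
  rw [← inl_left_mul_inr_right a, map_mul]
  exact (h1 _ _).symm.mul_left ((Commute.map (RingEquiv.ext fun x =>
    ringAut_comm a.right b.right x) inr).map _)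

variable (h2 : (2 : F) ≠ 0)
include h2

theorem exists_four_of_fld {w : PGa F} (hw : w * w = 1) (h : w.right ≠ 1) :
    ∃ t ∈ PB F, ∃ s ∈ PB F, t * t = 1 ∧ t ≠ 1 ∧ s * s = 1 ∧ s ≠ 1 ∧ s ≠ t ∧ s * t = t * s ∧
      gaAct w t = t ∧ gaAct w s = s := by
  obtain ⟨c, σ⟩ := w
  induction c using ProjGenLinGroup.induction_on with | mk g =>
  have hσ : ∀ x, (σ : F →+* F) ((σ : F →+* F) x) = x := fun x =>
    congrArg (fun s : PGa F => s.right x) hw
  have hσ1 : (σ : F →+* F) ≠ RingHom.id F := fun e => h (RingEquiv.ext fun x => congrArg (· x) e)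
  have h1 : ProjGenLinGroup.mk (g * GeneralLinearGroup.map (σ : F →+* F) g) = 1 :=
    congrArg SemidirectProduct.left hw
  obtain ⟨l, hl⟩ := (pgl_mk_eq_one_iff _).1 h1
  have h3 : g.1 * g.1.map σ = l • 1 := by simpa [smul_one_eq_diagonal] using hl.symm
  have h4 : σ l = l := by
    have h5 := congrArg trace h3
    have h6 := congrArg σ h5
    simp only [trace_fin_two, mul_apply, Fin.sum_univ_two, map_apply, map_add, map_mul,
      Matrix.smul_apply, one_apply_eq, smul_eq_mul, mul_one] at h5 h6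
    simp only [RingHom.coe_coe] at hσ
    simp only [hσ] at h6
    exact mul_left_cancel₀ h2 (by linear_combination h5 - h6)
  obtain ⟨μ, hμ⟩ := H15.norm_surj _ hσ1 hσ h4
  obtain ⟨i, hi0, hi⟩ := H15.exists_trace_zero _ hσ1 hσ
  simp only [RingHom.coe_coe] at hσ hμ hi
  have hμ0 : μ ≠ 0 := by
    rintro rfl
    have := congrArg det hl
    rw [← hμ] at this
    exact (g * GeneralLinearGroup.map (σ : F →+* F) g).det_ne_zero (by simpa using this.symm)
  obtain ⟨b, hb⟩ : ∃ b, ((b * μ) • (1 : Matrix (Fin 2) (Fin 2) F) + σ b • g.1).det ≠ 0 := by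
    by_contra hc
    push Not at hc
    have e1 := hc 1
    have e2 := hc i
    have e3 := hc (1 + i)
    simp [det_fin_two, eq_neg_of_add_eq_zero_right hi] at e1 e2 e3
    refine mul_ne_zero (pow_ne_zero 2 h2) (mul_ne_zero (pow_ne_zero 3 hi0) (pow_ne_zero 2 hμ0)) ?_
    linear_combination i ^ 2 * e3 - (1 - i) * i ^ 2 * (1 + 0 * i) * e1 + (1 - i) * i * e2
  let B := GeneralLinearGroup.mkOfDetNeZero _ hb
  have hB : ProjGenLinGroup.mk g * fldAut F σ (ProjGenLinGroup.mk B) = ProjGenLinGroup.mk B := by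
    refine (pgl_mk_eq_of_smul B (g * GeneralLinearGroup.map (σ : F →+* F) B) (σ μ)
      (by simpa using hμ0) ?_).symm
    have : (GeneralLinearGroup.map (σ : F →+* F) B).1 = (σ b * σ μ) • 1 + b • g.1.map σ := by
      ext i j
      simp [B, one_apply, hσ, apply_ite σ]
    rw [Units.val_mul, this, mul_add, mul_smul_comm, mul_smul_comm, h3, ← hμ]
    change _ = σ μ • ((b * μ) • 1 + σ b • g.1)
    rw [mul_one]
    module
  have h5 : ∀ y, fldAut F σ y = y → gaAct (⟨ProjGenLinGroup.mk g, σ⟩ : PGa F)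
      (ProjGenLinGroup.mk B * y * (ProjGenLinGroup.mk B)⁻¹) =
        ProjGenLinGroup.mk B * y * (ProjGenLinGroup.mk B)⁻¹ := fun y hy => by
    rw [gaAct_apply, map_mul, map_mul, hy]
    conv_rhs => rw [← hB]
    simp [mul_assoc]
  have := Fact.mk (CharP.char_is_prime F (ringChar F))
  obtain ⟨u, v, huv⟩ := CharP.sq_add_sq F (ringChar F) (-1)
  have h6 : (u : F) * -u - v * v = 1 := by push_cast at huv; linear_combination -huv
  let t := gl2 (0 : F) (-1) 1 0 (by simp)
  let s := gl2 (u : F) v v (-u) (h6.trans_ne one_ne_zero)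
  have ht : t 1 1 = -t 0 0 := by simp [t]
  have hs : s 1 1 = -s 0 0 := rfl
  have h7 : t.1 * s.1 = -(s.1 * t.1) := by simp [t, s]
  refine ⟨_, conj_mem_PB _ ((mem_PB t).2 (by simp [t])), _,
    conj_mem_PB _ ((mem_PB s).2 (by simp [s, -mul_neg, h6])), ?_, ?_, ?_, ?_, fun e => ?_, ?_,
    h5 _ (congrArg ProjGenLinGroup.mk (Units.ext ?_)),
    h5 _ (congrArg ProjGenLinGroup.mk (Units.ext ?_))⟩
  · simp [mk_mul_self ht]
  · simpa using mk_ne_one ht h2
  · simp [mk_mul_self hs]
  · simpa using mk_ne_one hs h2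
  · exact not_mem_tor_of_anti ht h2 h7 (conj_injective e ▸ self_mem_tor)
  · rw [conj_mul, conj_mul, ← map_mul _ s t, ← map_mul _ t s,
      pgl_mk_eq_of_smul (s * t) (t * s) (-1) (by simp) (by simpa using h7)]
  all_goals
    ext i j
    fin_cases i <;> fin_cases j <;> simp [t, s]

theorem gaAct_mem_tor {x : PGa F} {t y : PGL(2, F)} (h1 : t * t = 1) (h0 : t ≠ 1)
    (hy : y ∈ tor (PLine F) t) : gaAct x y ∈ tor (PLine F) (gaAct x t) := by
  have := Fact.mk (CharP.char_is_prime F (ringChar F))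
  have L := lineAct_PLine (F := F) (ringChar F)
  have h3 : gaAct x t * gaAct x t = 1 := by rw [← map_mul, h1, map_one]
  rw [L.mem_tor_iff (inv_pow_ne h2 h3 (by simpa using h0)) h3]
  simpa only [← map_mul, EmbeddingLike.apply_eq_iff_eq, EmbeddingLike.map_eq_one_iff] using
    (L.mem_tor_iff (inv_pow_ne h2 h1 h0) h1).1 hy

theorem mem_tor_of_odd {c t : PGL(2, F)} (h1 : t * t = 1) (h0 : t ≠ 1) {n : ℕ} (hn : Odd n)
    (hc : c ^ n = 1) (h : c * t = t * c) : c ∈ tor (PLine F) t ⊓ PB F := by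
  have := Fact.mk (CharP.char_is_prime F (ringChar F))
  obtain ⟨k, rfl⟩ := hn
  rw [pow_succ, pow_mul, sq] at hc
  rw [eq_inv_of_mul_eq_one_right hc]
  refine inv_mem (pow_mem (Subgroup.mem_inf.2
    ⟨by_contra fun h3 => h3 ?_, by_contra fun h3 => h3 ?_⟩) _)
  · rw [(lineAct_PLine (ringChar F)).tor_sq (inv_pow_ne h2 h1 h0) h fun a => h3 (mul_mem a a)]
    exact one_mem _
  · exact mul_mem_PB (fun a => h3 (mul_mem a a)) fun a => h3 (mul_mem a a)

theorem right_eq_one {r : ℕ} (hr : r.Prime) (hr2 : r ≠ 2) {t : PGL(2, F)} (h1 : t * t = 1)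
    (h0 : t ≠ 1) (k : ℕ) {x : PGa F} (hx : x ^ r ^ k = 1) (h : gaAct x t = t)
    (h' : ∀ y ∈ tor (PLine F) t ⊓ PB F, ¬ r ∣ orderOf y → gaAct x y = y) : x.right = 1 := by
  classical
  induction k generalizing x with
  | zero => rw [show x = 1 by simpa using hx]; rfl
  | succ k ih =>
  have hp := Fact.mk (CharP.char_is_prime F (ringChar F))
  have L := lineAct_PLine (F := F) (ringChar F)
  have hf : ∀ y, gaAct x y = y → gaAct (x ^ r) y = y := fun y hy => by
    rw [map_pow]; exact pow_mem (show gaAct x ∈ stabilizer (MulAut PGL(2, F)) y from hy) r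
  rw [pow_succ', pow_mul] at hx
  have h3 := ih hx (hf t h) fun y hy hy' => hf y (h' y hy hy')
  have h4 : ∀ y, gaAct (x ^ r) y = (x ^ r).left * y * (x ^ r).left⁻¹ := fun y => by
    rw [gaAct_apply, h3, map_one, MulAut.one_apply]
  have h5 := (mem_tor_of_odd h2 h1 h0 (c := (x ^ r).left) (hr.odd_of_ne_two hr2).pow
    (inl_injective (φ := fldAut F) (by rw [map_pow, ← eq_inl h3, hx, map_one]))
    (mul_inv_eq_iff_eq_mul.1 ((h4 t).symm.trans (hf t h)))).1
  have := L.tor_cyc (inv_pow_ne h2 h1 h0)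
  obtain ⟨g, hg⟩ := (Subgroup.isCyclic_iff_exists_zpowers_eq_top _).1
    (Subgroup.isCyclic_of_le (inf_le_left : tor (PLine F) t ⊓ PB F ≤ _))
  have hg' : g ∈ tor (PLine F) t ⊓ PB F := hg ▸ Subgroup.mem_zpowers g
  have h6 := cyc_fix (gaAct x) hr hr2 (hg ▸ ⟨h ▸ gaAct_mem_tor h2 h1 h0 hg'.1, gaAct_mem_PB x hg'.2⟩)
    (by rw [← map_pow, h4, L.tor_comm (inv_pow_ne h2 h1 h0) h5 hg'.1, mul_inv_cancel_right])
    (hg ▸ h')
  by_contra hσ
  have := Fintype.ofFinite F
  have : Finite (RingAut F) := DFunLike.finite _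
  have := Fintype.ofFinite (Subgroup.zpowers x.right)
  let K := FixedPoints.subfield (Subgroup.zpowers x.right) F
  have h7 : Nat.card F = Nat.card K ^ r := by
    rw [Module.natCard_eq_pow_finrank (K := K), FixedPoints.finrank_eq_card, ← Nat.card_eq_fintype_card,
      Nat.card_zpowers,
      orderOf_eq_prime (x := x.right) (hp := ⟨hr⟩) ((map_pow rightHom x r).symm.trans h3) hσ]
  have h8 : ∀ y ∈ tor (PLine F) t, gaAct x y = y → orderOf y ≤ 2 * Nat.card K := fun y hy e => by
    have := Fintype.ofFinite K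
    have := Fintype.ofFinite (Subgroup.zpowers y)
    have h9 : ∀ z : Subgroup.zpowers y, tau z.1 ∈ K := fun z s => by
      have h10 : x.right ∈ stabilizer (RingAut F) (tau z.1) := by
        obtain ⟨_, n, rfl⟩ := z
        exact (tau_gaAct x _).symm.trans (by simp [e])
      exact (Subgroup.zpowers_le.2 h10) s.2
    rw [← Nat.card_zpowers, Nat.card_eq_fintype_card, Nat.card_eq_fintype_card]
    refine Finset.card_le_mul_card_image_of_maps_to (f := fun z => (⟨_, h9 z⟩ : K))
      (fun _ _ => Finset.mem_univ _) 2 fun b _ => ?_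
    rcases Finset.eq_empty_or_nonempty (Finset.univ.filter fun a => (⟨_, h9 a⟩ : K) = b) with
      e | ⟨z, hz⟩
    · rw [e]; simp
    · refine (Finset.card_le_card (t := {z, z⁻¹}) fun w hw => ?_).trans Finset.card_le_two
      simpa only [Finset.mem_insert, Finset.mem_singleton, Subtype.ext_iff,
        Subgroup.coe_inv] using tor_tau h2 h1 h0 (Subgroup.zpowers_le.2 hy z.2)
        (Subgroup.zpowers_le.2 hy w.2) (congrArg Subtype.val
          ((Finset.mem_filter.1 hz).2.trans (Finset.mem_filter.1 hw).2.symm))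
  have h9 : 2 * orderOf g + 1 = Nat.card F ∨ 2 * orderOf g = Nat.card F + 1 := by
    rw [← Nat.card_zpowers, hg]
    exact (em _).imp (card_tor_inf h2 h1 h0).1 (card_tor_inf h2 h1 h0).2
  have h10 : 3 ≤ Nat.card K := by
    have h11 := FiniteField.odd_card_of_char_ne_two (ringChar_ne_two h2)
    rw [← Nat.card_eq_fintype_card, h7, ← Nat.odd_iff, Nat.odd_pow_iff hr.ne_zero, Nat.odd_iff] at h11
    have : 1 < Nat.card K := Finite.one_lt_card
    omega
  have h11 : 3 ≤ r := by have := hr.two_le; omega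
  obtain ⟨h12, rfl⟩ := pow_le_num h10 h11 (m := orderOf g) (by omega) ((Nat.le_of_dvd
    (Nat.mul_pos hr.pos (orderOf_pos _)) (orderOf_dvd_of_pow_eq_one (by
      rw [pow_mul, pow_orderOf_eq_one]))).trans
    (Nat.mul_le_mul_left _ (h8 _ (pow_mem hg'.1 r) h6)))
  rw [h12] at h7 h8
  have := h8 g hg'.1 (h' g hg' (by omega))
  omega

end H16
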