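import Mathlib
import Cfsg.Agent.H13.DihBasic
import Cfsg.Agent.H16.PGamma

/-! The normaliser of a quasisimple subgroup of type `L₂(q)` mapped into `PΓL₂(q)`. -/

set_option autoImplicit false
set_option linter.unusedSectionVars false

namespace H16.KL

open H24 H13.Dih Cfsg Subgroup SemidirectProduct
open scoped MatrixGroups commutatorElement

variable {G : Type*} [Group G] [Finite G] {E D : Subgroup G}

/-- A morphism defined on an overgroup of `E` whose kernel is `C(E)`. -/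
structure Lift (E : Subgroup G) {D : Subgroup G} {Q : Type*} [Group Q] (f : D →* Q) : Prop where
  qs : QS E
  le : E ≤ D
  ker : ∀ a ∈ D, ap f a = 1 ↔ a ∈ C[E]

namespace Lift

variable {Q : Type*} [Group Q] {f : D →* Q} (L : Lift E f) {a b c : G}
include L

theorem eq_one (hc : c ∈ C[E]) (h : c * c = 1) : c = 1 :=
  eq_one_of_odd_of_sq (odd_orderOf L.qs.oddC hc) h

theorem eq_iff (ha : a ∈ D) (hb : b ∈ D) : ap f a = ap f b ↔ a⁻¹ * b ∈ C[E] := by
  rw [← L.ker _ (mul_mem (inv_mem ha) hb), ap_mul f (inv_mem ha) hb, ap_inv f ha, inv_mul_eq_one]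

theorem inv_eq (ha : a ∈ D) (hb : b ∈ D) (h : a ∈ E ∨ a * b = b * a) (h1 : a * a = 1)
    (h2 : b * b = 1) (e : ap f a = ap f b) : a = b := by
  have h3 := (L.eq_iff ha hb).1 e
  rw [inv_eq_of_mul_eq_one_right h1] at h3
  have h4 : a * b = b * a := h.elim (fun h => by
    have := mem_C.1 h3 a h
    rw [← mul_assoc, h1, one_mul] at this
    rw [← mul_left_cancel_iff (a := a), ← mul_assoc, h1, one_mul, ← mul_assoc, ← this]) id
  refine (eq_inv_of_mul_eq_one_left (L.eq_one h3 ?_)).trans (inv_eq_of_mul_eq_one_right h2)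
  rw [mul_assoc, ← mul_assoc b, ← h4, mul_assoc, h2, mul_one, h1]

theorem lift (ha : a ∈ E) (h : ap f a * ap f a = 1) : ∃ t ∈ E, t * t = 1 ∧ ap f t = ap f a := by
  have h1 := L.le ha
  have h2 := odd_orderOf L.qs.oddC ((L.ker _ (mul_mem h1 h1)).1 (by rwa [ap_mul f h1 h1]))
  refine ⟨a ^ orderOf (a * a), pow_mem ha _, ?_, by rw [ap_pow f h1, pow_odd_of_sq h2 h]⟩
  rw [← (Commute.refl a).mul_pow, pow_orderOf_eq_one]

theorem ap_sq (ha : a ∈ D) (h : orderOf a = 2) : ap f a * ap f a = 1 ∧ ap f a ≠ 1 :=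
  ⟨by rw [← ap_mul f ha ha, sq_of h, ap_one],
    fun e => ne_one_of h (L.eq_one ((L.ker a ha).1 e) (sq_of h))⟩

end Lift

variable {F : Type*} [Field F] [Finite F]

theorem exists_rho (hE : QS E) (e : E ⧸ oddCore E ≃* PSL(2, F)) : ∃ ρ : N[E] →* PGa F,
    Lift E ρ ∧ (∀ x ∈ E, ap ρ x ∈ PH F) ∧ ∀ y ∈ PB F, ∃ x ∈ E, ap ρ x = inl y := by
  have hZ : ∀ x : E, x ∈ center E ↔ x.1 ∈ C[E] := fun x => by
    simp [mem_center_iff, mem_C, Subtype.ext_iff]
  have hO : center E = oddCore E := by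
    refine le_antisymm (H2.le_pPrimeCore inferInstance (Nat.coprime_two_right.2 ?_)) fun x hx => ?_
    · rw [← card_map_of_injective E.subtype_injective]
      exact odd_of_le hE.oddC (map_le_iff_le_comap.2 fun x hx => (hZ x).1 hx)
    · rcases hE.nml _ (nml_map_subtype (oddCore E)) with h | h
      · exact (hZ x).2 (h ⟨x, hx, rfl⟩)
      · obtain ⟨t, h1, h2⟩ := hE.exInv
        refine (not_mem_of_odd ?_ h2 (h.ge h1)).elim
        rw [card_map_of_injective E.subtype_injective]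
        exact Nat.coprime_two_right.1 (H2.pPrimeCore_coprime 2 E)
  let e' := ((QuotientGroup.quotientMulEquivOfEq hO).trans e).trans (pslPH F)
  let c := MulEquiv.ofBijective _ (conjNormal_bijective (F := F))
  let ρ := c.symm.toMonoidHom.comp ((MulAut.congr e').toMonoidHom.comp
    ((autQuot E).comp E.normalizerMonoidHom))
  have key : ∀ (n : N[E]) (x : E), ρ n * e' x * (ρ n)⁻¹ = e' (E.normalizerMonoidHom n x) :=
    fun n x => by
      have := congrArg (fun a : MulAut (PH F) => (a (e' x)).1) (c.apply_symm_apply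
        (MulAut.congr e' (autQuot E (E.normalizerMonoidHom n))))
      simp only [MulAut.congr_apply, MulEquiv.trans_apply, MulEquiv.symm_apply_apply] at this
      exact this
  have h1 : ∀ x : E, ap ρ x = e' x := fun x => by
    rw [ap_of_mem ρ (norm_self E x.2)]
    refine (conjNormal_bijective (F := F)).1 (MulEquiv.ext fun y => Subtype.ext ?_)
    obtain ⟨z, rfl⟩ := e'.surjective y
    obtain ⟨z, rfl⟩ := QuotientGroup.mk_surjective z
    refine (key _ z).trans ?_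
    rw [show E.normalizerMonoidHom ⟨x, norm_self E x.2⟩ z = x * z * x⁻¹ from rfl]
    simp
  refine ⟨ρ, ⟨hE, norm_self E, fun a ha => ?_⟩, fun x hx => h1 ⟨x, hx⟩ ▸ (e' _).2, fun y hy => ?_⟩
  · rw [← mem_subgroupOf (h := ⟨a, ha⟩), ← normalizerMonoidHom_ker, ap_of_mem ρ ha]
    refine ⟨fun h => ?_, fun h => by
      simp only [ρ, MonoidHom.comp_apply, MonoidHom.mem_ker.1 h, map_one]⟩
    have h2 : ⁅⁅E, ρ.ker.map N[E].subtype⁆, E⁆ = ⊥ := comm_eq_bot.2 (commutator_le.2 (by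
      rintro z hz _ ⟨b, hb, rfl⟩
      have h3 := key b (⟨z, hz⟩ : E)⁻¹
      rw [MonoidHom.mem_ker.1 hb, one_mul, inv_one, mul_one] at h3
      simpa [commutatorElement_def, mul_assoc] using
        (hZ _).1 (QuotientGroup.eq.1 (e'.injective (Subtype.ext h3)))))
    have h3 := three_subgroup h2 (by rwa [commC (Subgroup.map _ _) E])
    rw [hE.perfect, comm_eq_bot'] at h3
    rw [normalizerMonoidHom_ker]
    exact h3 ⟨_, h, rfl⟩
  · obtain ⟨z, hz⟩ := e'.surjective ⟨inl y, inl_mem_PH.2 hy⟩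
    obtain ⟨z, rfl⟩ := QuotientGroup.mk_surjective z
    exact ⟨z, z.2, (h1 z).trans (congrArg Subtype.val hz)⟩

/-- The subgroup of `N(E)` inducing inner-diagonal automorphisms, mapped to `PGL₂(q)`. -/
structure Psi (E : Subgroup G) {D : Subgroup G} (ψ : D →* PGL(2, F)) : Prop extends Lift E ψ where
  two : (2 : F) ≠ 0
  leN : D ≤ N[E]
  leC : C[E] ≤ D
  mem : ∀ x ∈ E, ap ψ x ∈ PB F
  surj : ∀ y ∈ PB F, ∃ x ∈ E, ap ψ x = y
  inv : ∀ w ∈ N[E], orderOf w = 2 → w ∈ D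
  comm : ⁅N[E], N[E]⁆ ≤ E ⊔ C[E]
  k5 : ∀ t ∈ E, orderOf t = 2 → ∀ r : ℕ, r.Prime → r ≠ 2 → ∀ x ∈ N[E], PiElt {r} x →
    x * t = t * x → (∀ y ∈ tor (PLine F) (ap ψ t) ⊓ PB F, ¬ r ∣ orderOf y →
      ∃ z ∈ E, ap ψ z = y ∧ x * z = z * x) → x ∈ D

theorem exists_psi (hG : CD G) (hE : QS E) (h2 : (2 : F) ≠ 0) (e : E ⧸ oddCore E ≃* PSL(2, F)) :
    ∃ (D : Subgroup G) (ψ : D →* PGL(2, F)), Psi E ψ := by
  obtain ⟨ρ, L, h1, h3⟩ := exists_rho hE e
  let D := pre ρ rightHom.ker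
  have hD : ∀ {x}, x ∈ D ↔ x ∈ N[E] ∧ (ap ρ x).right = 1 := mem_pre
  let ψ : D →* PGL(2, F) := MonoidHom.mk' (fun x => (ap ρ x).left) fun a b => by
    simp [ap_mul ρ (hD.1 a.2).1 (hD.1 b.2).1, (hD.1 a.2).2]
  have hψ : ∀ x ∈ D, ap ρ x = inl (ap ψ x) := fun x hx => by
    rw [ap_of_mem ψ hx]; exact eq_inl (hD.1 hx).2
  have hED : E ≤ D := fun x hx => hD.2 ⟨norm_self E hx, by
    obtain ⟨y, -, hy⟩ := h1 x hx
    rw [← hy]; rfl⟩
  have h4 : ∀ x ∈ N[E], ∀ z ∈ E, x * z = z * x → gaAct (ap ρ x) (ap ψ z) = ap ψ z :=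
    fun x hx z hz h => inl_injective (φ := fldAut F) (by
      rw [← conj_inl, ← hψ z (hED hz), ← ap_conj ρ hx (norm_self E hz), h, mul_inv_cancel_right])
  refine ⟨D, ψ, ⟨hE, hED, fun a ha => ?_⟩, h2, pre_le _ _, fun a ha => hD.2 ⟨C_le_N E ha, ?_⟩,
    fun x hx => inl_mem_PH.1 (hψ x (hED hx) ▸ h1 x hx), fun y hy => ?_,
    fun w hw hw2 => hD.2 ⟨hw, by_contra fun h => ?_⟩, commutator_le.2 fun a ha b hb => ?_,
    fun t ht ht2 r hr hr2 x hx hx' hxt h => hD.2 ⟨hx, ?_⟩⟩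
  · rw [← L.ker a (hD.1 ha).1, hψ a ha, map_eq_one_iff _ inl_injective]
  · rw [(L.ker a (C_le_N E ha)).2 ha]; rfl
  · obtain ⟨x, hx, h⟩ := h3 y hy
    exact ⟨x, hx, inl_injective ((hψ x (hED hx)).symm.trans h)⟩
  · have h5 : ∀ y ∈ PB F, y * y = 1 → gaAct (ap ρ w) y = y →
        ∃ t ∈ E, t * t = 1 ∧ ap ρ t = inl y ∧ w ∈ C{t} := fun y hy a b => by
      obtain ⟨x, hx, h⟩ := h3 y hy
      obtain ⟨t, h6, h7, h8⟩ := L.lift hx (by rw [h, ← map_mul, a, map_one])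
      refine ⟨t, h6, h7, h8.trans h, mem_C1_iff_conj.2 (L.inv_eq (norm_self E (conj_mem hw h6))
        (norm_self E h6) (Or.inl (conj_mem hw h6)) (by simp [h7]) h7 ?_)⟩
      rw [ap_conj ρ hw (norm_self E h6), h8, h, conj_inl, b]
    obtain ⟨t, a1, s, a2, a3, a4, a5, a6, a7, a8, a9, a10⟩ :=
      exists_four_of_fld h2 (L.ap_sq hw hw2).1 h
    obtain ⟨t', b1, b2, b3, b4⟩ := h5 t a1 a3 a9
    obtain ⟨s', c1, c2, c3, c4⟩ := h5 s a2 a5 a10
    have hf : Four t' s' := ⟨two_of b2 fun e => a4 (inl_injective (b3.symm.trans (by simp [e]))),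
      two_of c2 fun e => a6 (inl_injective (c3.symm.trans (by simp [e]))),
      fun e => a7 (inl_injective (c3.symm.trans (e ▸ b3))),
      mul_inv_eq_iff_eq_mul.1 (L.inv_eq (norm_self E (conj_mem (norm_self E c1) b1))
        (norm_self E b1) (Or.inl (conj_mem (norm_self E c1) b1)) (by simp [b2]) b2 (by
          rw [ap_conj ρ (norm_self E c1) (norm_self E b1), b3, c3, ← map_mul, a8]; simp))⟩
    exact h (hD.1 (hED (Four.V_le.2 ⟨b1, c1⟩ (hG.mem_V hf (pi_two hw2) b4 c4)))).2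
  · obtain ⟨y, hy, h⟩ := commutator_mem_PH (ap ρ a) (ap ρ b)
    obtain ⟨x, hx, h5⟩ := h3 y hy
    rw [← mul_inv_cancel_left x ⁅a, b⁆]
    refine mul_mem (mem_sup_left hx) (mem_sup_right ((L.eq_iff (norm_self E hx)
      (der1_le _ (commutator_mem_commutator ha hb))).1 ?_))
    rw [ap_commutator ρ ha hb, h5, h]
  · obtain ⟨k, hk⟩ := hx'.exists_pow hr
    have h5 := L.ap_sq (norm_self E ht) ht2
    rw [hψ t (hED ht), ← map_mul, Ne, map_eq_one_iff _ inl_injective,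
      map_eq_one_iff _ inl_injective] at h5
    refine right_eq_one h2 hr hr2 h5.1 h5.2 k
      (by rw [← ap_pow ρ hx, ← hk, pow_orderOf_eq_one, ap_one]) (h4 x hx t ht hxt) fun y a b => ?_
    obtain ⟨z, h6, rfl, h7⟩ := h y a b
    exact h4 x hx z h6 h7

end H16.KL
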