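import Mathlib
import Cfsg.Agent.H16.KL2a

/-! The tori of involutions normalising a quasisimple subgroup of type `L₂(q)`. -/

set_option autoImplicit false
set_option linter.unusedSectionVars false

namespace H16.KL

open H24 H13.Dih Cfsg Subgroup
open scoped MatrixGroups commutatorElement

variable {G : Type*} [Group G] [Finite G] {E D : Subgroup G}

/-- The elements of the torus of `w`. -/
def SS (E : Subgroup G) (w : G) : Set G := {x | x ∈ E ∧ x * w = w * x ∧ (x * x = 1 → x = 1 ∨ x = w) ∧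
  ∀ w' ∈ N[E], orderOf w' = 2 → w' ≠ w → w' * w = w * w' → w' * x * w'⁻¹ = x⁻¹}

/-- The torus of `w`. -/
def TT (E : Subgroup G) (w : G) : Subgroup G := closure (SS E w)

theorem conj_mem_SS {g w x : G} (hg : g ∈ N[E]) (hx : x ∈ SS E w) :
    g * x * g⁻¹ ∈ SS E (g * w * g⁻¹) := by
  refine ⟨conj_mem hg hx.1, by simp [hx.2.1], by simpa using hx.2.2.1, fun v h1 h2 h3 h4 => ?_⟩
  obtain ⟨v, rfl⟩ := (MulAut.conj g).surjective v
  simp only [MulAut.conj_apply] at *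
  have := hx.2.2.2 v (by simpa [mul_assoc] using mul_mem (mul_mem (inv_mem hg) h1) hg)
    (by rwa [orderOf_conj] at h2) (by simpa using h3) (by simpa using h4)
  rw [conj_mul, conj_inv, conj_mul, this, conj_inv]

theorem TT_cj {g : G} (hg : g ∈ N[E]) (w : G) : TT E (g * w * g⁻¹) = cj g (TT E w) := by
  rw [cj_def, TT, TT, MonoidHom.map_closure]
  congr 1
  refine Set.ext fun x => ⟨fun hx => ⟨g⁻¹ * x * g⁻¹⁻¹, ?_, by simp [mul_assoc]⟩, ?_⟩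
  · simpa [mul_assoc] using conj_mem_SS (inv_mem hg) hx
  · rintro ⟨x, hx, rfl⟩
    exact conj_mem_SS hg hx

theorem conj_mem_tor {H X : Type*} [Group H] [MulAction H X] {g ω y : H} (h : g * ω = ω * g)
    (hy : y ∈ tor X ω) : g * y * g⁻¹ ∈ tor X ω := mem_tor.2 fun x hx => by
  rw [mul_smul, mul_smul, mem_tor.1 hy _ (by
    rw [eq_inv_smul_iff, ← mul_smul, h, mul_smul, smul_inv_smul, hx]), smul_inv_smul]

theorem exists_mm {q : ℕ} (hq : 3 < q) (P : Prop) (h : P ↔ q % 4 ≠ 3) (h2 : q % 2 = 1) :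
    ∃ m m' : ℕ, Even m ∧ Odd m' ∧ (m' = m + 1 ∨ m = m' + 1) ∧ 3 ≤ m' ∧ m + m' = q ∧
      ∀ (c : ℕ) (Q : Prop), ((P ↔ Q) → 2 * c + 1 = q) ∧ (¬ (P ↔ Q) → 2 * c = q + 1) →
        (Q → c = m) ∧ (¬ Q → c = m') := by
  by_cases hP : P
  · have := h.1 hP
    exact ⟨q / 2, q / 2 + 1, Nat.even_iff.2 (by omega), Nat.odd_iff.2 (by omega), by omega, by omega,
      by omega, fun c Q hc => ⟨fun a => by have := hc.1 (by tauto); omega,
        fun a => by have := hc.2 (by tauto); omega⟩⟩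
  · have := not_not.1 (mt h.2 hP)
    exact ⟨q / 2 + 1, q / 2, Nat.even_iff.2 (by omega), Nat.odd_iff.2 (by omega), by omega, by omega,
      by omega, fun c Q hc => ⟨fun a => by have := hc.2 (by tauto); omega,
        fun a => by have := hc.1 (by tauto); omega⟩⟩

variable {F : Type*} [Field F] [Finite F] {ψ : D →* PGL(2, F)}

instance instFactRingChar : Fact (ringChar F).Prime := ⟨CharP.char_is_prime F (ringChar F)⟩

namespace Psi

variable (P : Psi E ψ) {w x y : G} (hw : w ∈ N[E]) (hw2 : orderOf w = 2)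
include P

theorem ap_comm (hx : x ∈ D) (hy : y ∈ D) (h : x * y = y * x) :
    ap ψ x * ap ψ y = ap ψ y * ap ψ x := by rw [← ap_mul ψ hx hy, h, ap_mul ψ hy hx]

include hw hw2

theorem pow_ne : ap ψ w ^ ringChar F ≠ 1 :=
  inv_pow_ne P.two (P.ap_sq (P.inv w hw hw2) hw2).1 (P.ap_sq (P.inv w hw hw2) hw2).2

theorem mem_E (h : ap ψ w ∈ PB F) : w ∈ E := by
  obtain ⟨x, hx, e⟩ := P.surj _ h
  obtain ⟨t, h1, h2, h3⟩ := P.lift hx (e ▸ (P.ap_sq (P.inv w hw hw2) hw2).1)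
  exact P.inv_eq (P.le h1) (P.inv w hw hw2) (Or.inl h1) h2 (sq_of hw2) (h3.trans e) ▸ h1

theorem not_mem_tor {v : G} (hv : v ∈ N[E]) (hv2 : orderOf v = 2) (h : v ≠ w) (hc : v * w = w * v) :
    ap ψ v ∉ tor (PLine F) (ap ψ w) := fun h1 => by
  have h2 := P.ap_sq (P.inv v hv hv2) hv2
  rcases (lineAct_PLine _).tor_two (P.pow_ne hw hw2) (P.ap_sq (P.inv w hw hw2) hw2).1 h1 h2.1
    with e | e
  · exact h2.2 e
  · exact h (P.inv_eq (P.inv v hv hv2) (P.inv w hw hw2) (Or.inr hc) (sq_of hv2) (sq_of hw2) e)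

theorem comm_of_tor (hx : x ∈ E) (hy : y ∈ E) (h1 : ap ψ x ∈ tor (PLine F) (ap ψ w))
    (h2 : ap ψ y ∈ tor (PLine F) (ap ψ w)) : x * y = y * x := by
  have := (lineAct_PLine _).tor_cyc (P.pow_ne hw hw2)
  obtain ⟨g, hg⟩ := (Subgroup.isCyclic_iff_exists_zpowers_eq_top _).1 (Subgroup.isCyclic_of_le
    (inf_le_left : tor (PLine F) (ap ψ w) ⊓ PB F ≤ _))
  obtain ⟨g, h3, rfl⟩ := P.surj g (hg.le (mem_zpowers g)).2
  have h4 : ∀ z ∈ E, ap ψ z ∈ tor (PLine F) (ap ψ w) → ∃ (n : ℤ), ∃ c ∈ C[E], z = g ^ n * c :=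
    fun z a b => by
      obtain ⟨n, hn⟩ := mem_zpowers_iff.1 (hg.ge ⟨b, P.mem z a⟩)
      exact ⟨n, _, (P.eq_iff (P.le (zpow_mem h3 n)) (P.le a)).1 (by rw [ap_zpow ψ (P.le h3), hn]),
        (mul_inv_cancel_left _ _).symm⟩
  obtain ⟨n, c, hc, e⟩ := h4 x hx h1
  obtain ⟨k, d, hd, e'⟩ := h4 y hy h2
  have h5 : Commute (g ^ n) y := e' ▸ (Commute.zpow_zpow_self g n k).mul_right
    (mem_C.1 hd _ (zpow_mem h3 n))
  exact e ▸ h5.mul_left (mem_C'.1 hc y hy)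

theorem exists_s : ∃ s ∈ E, orderOf s = 2 ∧ s ≠ w ∧ s * w = w * s ∧
    (∀ x, x ∈ TT E w ↔ x ∈ SS E w) ∧
    ∀ x, x ∈ TT E w ↔ x ∈ E ∧ ap ψ x ∈ tor (PLine F) (ap ψ w) ∧ s * x * s⁻¹ = x⁻¹ := by
  have L := lineAct_PLine (F := F) (ringChar F)
  have hp := P.pow_ne hw hw2
  have hD := P.inv w hw hw2
  obtain ⟨h1, h0⟩ := P.ap_sq hD hw2
  obtain ⟨σ, a1, a2, a3⟩ := exists_swap P.two h1 h0
  obtain ⟨s, a4, rfl⟩ := P.surj σ a1
  obtain ⟨s, hs, b1, b2⟩ := P.lift a4 (L.tor_sq hp a2 a3)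
  rw [← b2] at a2 a3
  have b3 : orderOf s = 2 := two_of b1 fun e => a3 (by simp [e])
  have b4 : s ≠ w := fun e => a3 (e ▸ self_mem_tor)
  have b5 : s * w = w * s := (mul_inv_eq_iff_eq_mul.1 (P.inv_eq (P.le (conj_mem hw hs)) (P.le hs)
    (Or.inl (conj_mem hw hs)) (by simp [b1]) b1 (by
      rw [ap_conj ψ hD (P.le hs), ← a2, mul_inv_cancel_right]))).symm
  let T : Subgroup G :=
    { carrier := {x | x ∈ E ∧ ap ψ x ∈ tor (PLine F) (ap ψ w) ∧ s * x * s⁻¹ = x⁻¹}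
      one_mem' := by simp
      mul_mem' := fun {a b} ha hb => ⟨mul_mem ha.1 hb.1,
        ap_mul ψ (P.le ha.1) (P.le hb.1) ▸ mul_mem ha.2.1 hb.2.1, by
          rw [← conj_mul, ha.2.2, hb.2.2, ← mul_inv_rev, P.comm_of_tor hw hw2 ha.1 hb.1 ha.2.1 hb.2.1]⟩
      inv_mem' := fun {a} ha => ⟨inv_mem ha.1, ap_inv ψ (P.le ha.1) ▸ inv_mem ha.2.1, by
        rw [← conj_inv, ha.2.2]⟩ }
  have c1 : ∀ x ∈ T, ap ψ x = 1 → x = 1 := fun x hx e => by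
    have := hx.2.2
    rw [mem_C.1 ((P.ker x (P.le hx.1)).1 e) s hs, mul_inv_cancel_right] at this
    exact P.eq_one ((P.ker x (P.le hx.1)).1 e) (eq_inv_iff_mul_eq_one.1 this)
  have c2 : ∀ g ∈ D, g * w = w * g → ∀ x ∈ T, g * x * g⁻¹ ∈ T := fun g hg e x hx => by
    have e' := P.ap_comm hg hD e
    refine ⟨conj_mem (P.leN hg) hx.1, ap_conj ψ hg (P.le hx.1) ▸ conj_mem_tor e' hx.2.1, ?_⟩
    have d1 := conj_mem' (P.leN hg) hs
    have d2 := P.comm_of_tor hw hw2 (mul_mem hs d1) hx.1 (by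
      rw [ap_mul ψ (P.le hs) (P.le d1)]
      refine L.tor_mul hp a2 a3 (P.ap_comm (P.le d1) hD ?_) fun h => a3 ?_
      · rw [mul_assoc, e, ← mul_assoc, mul_assoc _ s, b5, ← mul_assoc,
          show g⁻¹ * w = w * g⁻¹ by rw [inv_mul_eq_iff_eq_mul, ← mul_assoc, e]; simp]
        simp [mul_assoc]
      · have := conj_mem_tor e' h
        rw [← ap_conj ψ hg (P.le d1)] at this
        simpa [mul_assoc] using this) hx.2.1
    have d3 := hx.2.2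
    rw [← inv_of b3] at d2
    calc s * (g * x * g⁻¹) * s⁻¹ = g * s * (s⁻¹ * (g⁻¹ * s * g) * x) * (s * g)⁻¹ := by group
      _ = g * (s * x * s⁻¹) * g⁻¹ := by rw [inv_of b3] at d2 ⊢; rw [d2]; group
      _ = _ := by rw [d3]; group
  have c3 : ∀ x, x ∈ SS E w ↔ x ∈ T := fun x => by
    refine ⟨fun h => ?_, fun h => ⟨h.1, ?_, fun e => ?_, fun v d1 d2 d3 d4 => ?_⟩⟩
    · have d1 := h.2.2.2 s (norm_self E hs) b3 b4 b5
      refine ⟨h.1, by_contra fun d2 => ?_, d1⟩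
      have d3 := (P.ker _ (P.le (mul_mem h.1 h.1))).1 (by
        rw [ap_mul ψ (P.le h.1) (P.le h.1), L.tor_sq hp (P.ap_comm (P.le h.1) hD h.2.1) d2])
      have d4 := conj_eq_of_mem_C (mem_C_iff_le_C1.1 d3 |> fun h' =>
        (C_zpowers (x * x)).symm ▸ h' hs) (mem_zpowers (x * x))
      rw [← conj_mul, d1, ← mul_inv_rev] at d4
      rcases h.2.2.1 (P.eq_one d3 (inv_eq_iff_mul_eq_one.1 d4)) with rfl | rfl
      · exact d2 (by simp)
      · exact d2 self_mem_tor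
    · have := c1 _ (mul_mem (c2 w hD rfl x h) (inv_mem h)) (by
        rw [ap_mul ψ (P.le (c2 w hD rfl x h).1) (inv_mem (P.le h.1)), ap_conj ψ hD (P.le h.1),
          ap_inv ψ (P.le h.1), ← L.tor_comm hp h.2.1 self_mem_tor]; simp)
      rw [mul_inv_eq_one, mul_inv_eq_iff_eq_mul] at this
      exact this.symm
    · exact (L.tor_two hp h1 h.2.1 (by rw [← ap_mul ψ (P.le h.1) (P.le h.1), e, ap_one])).imp
        (c1 x h) (P.inv_eq (P.le h.1) hD (Or.inl h.1) e (sq_of hw2))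
    · have d5 := P.inv v d1 d2
      exact eq_inv_of_mul_eq_one_left (c1 _ (mul_mem (c2 v d5 d4 x h) h) (by
        rw [ap_mul ψ (P.le (c2 v d5 d4 x h).1) (P.le h.1), ap_conj ψ d5 (P.le h.1), L.tor_inv hp
          (P.ap_comm d5 hD d4) (P.not_mem_tor hw hw2 d1 d2 d3 d4) h.2.1, inv_mul_cancel]))
  have c4 : TT E w = T := by rw [TT, show SS E w = T from Set.ext c3, closure_eq]
  exact ⟨s, hs, b3, b4, b5, fun x => c4 ▸ (c3 x).symm, fun x => c4 ▸ Iff.rfl⟩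

theorem T_le : TT E w ≤ E ⊓ C{w} := fun x hx => by
  obtain ⟨-, -, -, -, -, h, -⟩ := P.exists_s hw hw2
  exact ⟨((h x).1 hx).1, mem_C1.2 ((h x).1 hx).2.1⟩

theorem T_inf : TT E w ⊓ C[E] = ⊥ := eq_bot_iff.2 fun x hx => by
  obtain ⟨s, hs, -, -, -, -, h⟩ := P.exists_s hw hw2
  have := ((h x).1 hx.1).2.2
  rw [mem_C.1 hx.2 s hs, mul_inv_cancel_right] at this
  exact P.eq_one hx.2 (eq_inv_iff_mul_eq_one.1 this)

theorem img_T : img ψ (TT E w) = tor (PLine F) (ap ψ w) ⊓ PB F := by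
  obtain ⟨s, hs, h1, h2, h3, -, h⟩ := P.exists_s hw hw2
  refine Subgroup.ext fun y => (mem_img_of_le fun x hx => P.le ((h x).1 hx).1).trans
    ⟨?_, fun hy => ?_⟩
  · rintro ⟨x, hx, rfl⟩
    exact ⟨((h x).1 hx).2.1, P.mem x ((h x).1 hx).1⟩
  obtain ⟨e, he, rfl⟩ := P.surj y hy.2
  have h4 := conj_mem (norm_self E hs) he
  have h5 := (P.ker _ (P.le (mul_mem h4 he))).1 (by
    rw [ap_mul ψ (P.le h4) (P.le he), ap_conj ψ (P.le hs) (P.le he), (lineAct_PLine _).tor_inv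
      (P.pow_ne hw hw2) (P.ap_comm (P.le hs) (P.inv w hw hw2) h3)
      (P.not_mem_tor hw hw2 (norm_self E hs) h1 h2 h3) hy.1, inv_mul_cancel])
  obtain ⟨k, hk⟩ := mem_zpowers_iff.1 (mem_zpowers_sq (odd_orderOf P.qs.oddC h5))
  rw [(Commute.refl _).mul_zpow] at hk
  obtain ⟨u, hu⟩ : ∃ u, u = (s * e * s⁻¹ * e) ^ k := ⟨_, rfl⟩
  have h6 : u ∈ C[E] := hu ▸ zpow_mem h5 k
  have h7 : ap ψ (e * u⁻¹) = ap ψ e := by
    rw [ap_mul ψ (P.le he) (P.leC (inv_mem h6)), (P.ker _ (P.leC (inv_mem h6))).2 (inv_mem h6),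
      mul_one]
  refine ⟨_, (h _).2 ⟨mul_mem he (inv_mem (hu ▸ zpow_mem (mul_mem h4 he) k)), h7 ▸ hy.1, ?_⟩, h7⟩
  rw [← hu] at hk
  rw [← conj_mul, mem_C.1 (inv_mem h6) s hs, mul_inv_cancel_right, eq_mul_inv_of_mul_eq hk.symm,
    mul_assoc, mem_C.1 (inv_mem h6) _ (inv_mem he)]
  group

theorem equiv_T : Nonempty (TT E w ≃* ↥(tor (PLine F) (ap ψ w) ⊓ PB F)) :=
  ⟨(imgEquiv ψ (fun _ hx => P.le (P.T_le hw hw2 hx).1) (eq_bot_iff.2 fun x hx =>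
    (P.T_inf hw hw2).le ⟨hx.2, (P.ker x (mem_pre_bot.1 hx.1).1).1 (mem_pre_bot.1 hx.1).2⟩)).trans
    (MulEquiv.subgroupCongr (P.img_T hw hw2))⟩

theorem mem_sup_iff : x ∈ TT E w ⊔ C[E] ↔ x ∈ D ∧ ap ψ x ∈ tor (PLine F) (ap ψ w) ⊓ PB F := by
  rw [← mem_pre, ← P.img_T hw hw2, pre_img ψ fun _ hx => P.le (P.T_le hw hw2 hx).1,
    show pre ψ ⊥ = C[E] from Subgroup.ext fun x => mem_pre_bot.trans
      ⟨fun h => (P.ker x h.1).1 h.2, fun h => ⟨P.leC h, (P.ker x (P.leC h)).2 h⟩⟩]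

theorem orderOf_ap (hx : x ∈ TT E w) : orderOf (ap ψ x) = orderOf x := by
  have h1 := P.le (P.T_le hw hw2 hx).1
  refine Nat.dvd_antisymm (orderOf_ap_dvd ψ h1) (orderOf_dvd_of_pow_eq_one ?_)
  exact (P.T_inf hw hw2).le ⟨pow_mem hx _, (P.ker _ (pow_mem h1 _)).1 (by
    rw [ap_pow ψ h1, pow_orderOf_eq_one])⟩

omit hw hw2 in
theorem injOn_J : Set.InjOn (ap ψ) (J E) := fun _ ha _ hb =>
  P.inv_eq (P.le ha.1) (P.le hb.1) (Or.inl ha.1) (sq_of ha.2) (sq_of hb.2)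

end Psi

theorem Psi.kl2 (P : Psi E ψ) (h3 : 3 < Nat.card F) :
    ∃ (m m' : ℕ) (T : G → Subgroup G), KL2 E m m' T := by
  have := Fintype.ofFinite F
  have L := lineAct_PLine (F := F) (ringChar F)
  obtain ⟨m, m', a1, a2, a3, a4, a5, a6⟩ := exists_mm h3 (IsSquare (-1 : F))
    (by rw [FiniteField.isSquare_neg_one_iff, Nat.card_eq_fintype_card])
    (by rw [Nat.card_eq_fintype_card, FiniteField.odd_card_of_char_ne_two (ringChar_ne_two P.two)])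
  have hc : ∀ w ∈ N[E], orderOf w = 2 → (ap ψ w ∈ PB F → ♯(TT E w) = m) ∧
      (ap ψ w ∉ PB F → ♯(TT E w) = m') := fun w hw hw2 => by
    rw [Nat.card_congr (P.equiv_T hw hw2).some.toEquiv]
    exact a6 _ _ (card_tor_inf P.two (P.ap_sq (P.inv w hw hw2) hw2).1
      (P.ap_sq (P.inv w hw hw2) hw2).2)
  refine ⟨m, m', TT E, a1, a2, a3, a4, fun w => P.T_le, fun w hw hw2 => ?_, fun w => P.T_inf,
    fun w hw hw2 => subset_closure ⟨hw, rfl, fun _ => Or.inr rfl, fun v _ _ _ h => by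
      rw [h, mul_inv_cancel_right, inv_of hw2]⟩,
    fun w hw hw2 => (hc w (norm_self E hw) hw2).1 (P.mem w hw),
    fun w hw h hw2 => (hc w hw hw2).2 fun e => h (P.mem_E hw hw2 e),
    fun g hg w _ _ => TT_cj hg w, fun w hw hw2 y hy h v hv => ?_, fun w hw hw2 => ?_,
    fun w hw v hv hw2 hv2 h1 h2 y hy => ?_, fun t ht ht2 w hw v hv h1 h2 hw2 hv2 h4 h5 => ?_, P.comm,
    fun t ht ht2 r hr hr2 x hx h1 h2 h4 => ?_, ?_, fun t ht ht2 z hz h1 h2 => ?_⟩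
  · have := L.tor_cyc (P.pow_ne hw hw2)
    have := Subgroup.isCyclic_of_le (inf_le_left : tor (PLine F) (ap ψ w) ⊓ PB F ≤ _)
    exact isCyclic_of_surjective _ (P.equiv_T hw hw2).some.symm.surjective
  · rw [P.mem_sup_iff hw hw2] at hy ⊢
    exact ⟨P.le hv.1, L.tor_cent (P.pow_ne hw hw2) hy.2.1 (fun e => h ((P.ker _ (mul_mem hy.1 hy.1)).1
      (by rwa [ap_mul ψ hy.1 hy.1]))) (P.ap_comm (P.le hv.1) hy.1 (mem_C1.1 hv.2)), P.mem v hv.1⟩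
  · obtain ⟨s, hs, h1, h2, h4, -⟩ := P.exists_s hw hw2
    have h5 := P.not_mem_tor hw hw2 (norm_self E hs) h1 h2 h4
    refine ⟨s, hs, h1, h2, h4, fun h => h5 ((P.mem_sup_iff hw hw2).1 h).2.1, fun v hv => ?_⟩
    simp only [P.mem_sup_iff hw hw2]
    refine (em (ap ψ v ∈ tor (PLine F) (ap ψ w))).imp (fun h => ⟨P.le hv.1, h, P.mem v hv.1⟩)
      fun h => ⟨P.le (mul_mem hs hv.1), ?_, P.mem _ (mul_mem hs hv.1)⟩
    rw [ap_mul ψ (P.le hs) (P.le hv.1)]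
    exact L.tor_mul (P.pow_ne hw hw2) (P.ap_comm (P.le hs) (P.inv w hw hw2) h4) h5
      (P.ap_comm (P.le hv.1) (P.inv w hw hw2) (mem_C1.1 hv.2)) h
  · obtain ⟨-, -, -, -, -, h, -⟩ := P.exists_s hw hw2
    exact ((h y).1 hy).2.2.2 v hv hv2 h1 h2
  · have hn := norm_self E ht
    have b1 := P.inv w hw hw2
    have b2 := P.inv v hv hv2
    rw [P.mem_sup_iff hn ht2, ap_mul ψ b1 b2]
    exact ⟨mul_mem b1 b2, L.tor_mul (P.pow_ne hn ht2) (P.ap_comm b1 (P.le ht) h4)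
      (P.not_mem_tor hn ht2 hw hw2 (fun e => h1 (e ▸ ht)) h4) (P.ap_comm b2 (P.le ht) h5)
      (P.not_mem_tor hn ht2 hv hv2 (fun e => h2 (e ▸ ht)) h5),
      mul_mem_PB (mt (P.mem_E hw hw2) h1) (mt (P.mem_E hv hv2) h2)⟩
  · have hn := norm_self E ht
    have b1 := P.k5 t ht ht2 r hr hr2 x hx h1 h2 fun y hy b => by
      obtain ⟨z, hz, -, rfl⟩ := mem_img.1 ((P.img_T hn ht2).ge hy)
      exact ⟨z, (P.T_le hn ht2 hz).1, rfl, h4 z hz (P.orderOf_ap hn ht2 hz ▸ b)⟩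
    obtain ⟨k, hk⟩ := h1.exists_pow hr
    exact (P.mem_sup_iff hn ht2).2 ⟨b1, mem_tor_of_odd P.two (P.ap_sq (P.le ht) ht2).1
      (P.ap_sq (P.le ht) ht2).2 (hr.odd_of_ne_two hr2).pow
      (by rw [← ap_pow ψ b1, ← hk, pow_orderOf_eq_one, ap_one]) (P.ap_comm b1 (P.le ht) h2)⟩
  · obtain ⟨t, ht, ht2⟩ := P.qs.exInv
    have b1 := ncard_inv P.two (P.ap_sq (P.le ht) ht2).1 (P.ap_sq (P.le ht) ht2).2 (P.mem t ht)
    have b2 : ap ψ '' J E = {t | t ∈ PB F ∧ t * t = 1 ∧ t ≠ 1} := by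
      refine Set.ext fun y => ⟨?_, fun hy => ?_⟩
      · rintro ⟨x, hx, rfl⟩
        exact ⟨P.mem x hx.1, P.ap_sq (P.le hx.1) hx.2⟩
      · obtain ⟨x, hx, rfl⟩ := P.surj y hy.1
        obtain ⟨v, c1, c2, c3⟩ := P.lift hx hy.2.1
        exact ⟨v, ⟨c1, two_of c2 fun e => hy.2.2 (by simp [← c3, e])⟩, c3⟩
    rw [← b2, Set.InjOn.ncard_image P.injOn_J, ← Nat.card_congr (P.equiv_T (norm_self E ht)
      ht2).some.toEquiv, (hc t (norm_self E ht) ht2).1 (P.mem t ht), ← a5,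
      show (m + m') ^ 2 - 1 = m' * (4 * m) from Nat.sub_eq_of_eq_add (by
        rcases a3 with rfl | rfl <;> ring)] at b1
    exact Nat.eq_of_mul_eq_mul_right (by omega) (b1.trans (mul_assoc _ _ _).symm)
  · have hn := norm_self E ht
    have b1 : ∀ t ∈ J E, ∀ z ∈ TT E t, (orderOf z).Prime →
        ap ψ z ∈ tor (PLine F) (ap ψ t) ∧ ap ψ z ≠ 1 := fun t ht z hz h => by
      have hn := norm_self E ht.1
      exact ⟨((P.mem_sup_iff hn ht.2).1 (mem_sup_left hz)).2.1, fun e => h.ne_one (by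
        rw [← P.orderOf_ap hn ht.2 hz, e, orderOf_one])⟩
    refine (Set.ncard_le_ncard_of_injOn (ap ψ) ?_ (P.injOn_J.mono fun _ h => h.1)).trans
      ((ncard_odd_pairs P.two (P.ap_sq (P.le ht) ht2).1 (P.ap_sq (P.le ht) ht2).2
        (b1 t ⟨ht, ht2⟩ z hz h1).1 (b1 t ⟨ht, ht2⟩ z hz h1).2).trans (by omega))
    rintro v ⟨hv, y, hy, h4, h5⟩
    refine ⟨(P.ap_sq (P.le hv.1) hv.2).1, (P.ap_sq (P.le hv.1) hv.2).2, ap ψ y,
      (b1 v hv y hy (h4 ▸ h1)).1, (b1 v hv y hy (h4 ▸ h1)).2,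
      odd_of_le (h5.of_dvd_nat (card_img_dvd ψ _)) ((closure_le _).2 ?_)⟩
    rintro _ (rfl | rfl)
    · exact ap_mem_img ψ (subset_closure (by simp)) (P.le (P.T_le hn ht2 hz).1)
    · exact ap_mem_img ψ (subset_closure (by simp)) (P.le (P.T_le (norm_self E hv.1) hv.2 hy).1)

end H16.KL
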