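import Mathlib
import Cfsg.Agent.H7.LowDim2
import Cfsg.Agent.H16.MatBasic

/-! Involutions of `PSL(3,q)`, `q` odd, and their centralizers. -/

set_option autoImplicit false

namespace H16

open Matrix H7
open scoped MatrixGroups

variable {F : Type*} [Field F]

theorem rank_ne_zero {n : Type*} [Fintype n] [DecidableEq n] {A : Matrix n n F} (h : A ≠ 0) :
    A.rank ≠ 0 := fun h0 => by
  rw [Matrix.rank, Submodule.finrank_eq_zero, LinearMap.range_eq_bot] at h0
  exact h (Matrix.toLin'.map_eq_zero_iff.1 h0)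

/-- The standard involution of `SL₃`. -/
def inv3 : SL(3, F) := ⟨!![-1, 0, 0; 0, -1, 0; 0, 0, 1], by simp [det_fin_three]⟩

theorem sl3_isConj_inv3 (h2 : (2 : F) ≠ 0) (h : SL(3, F)) (hh : h * h = 1) (h1 : h ≠ 1) :
    IsConj inv3 h := by
  have hh' : h.1 * h.1 = 1 := congrArg Subtype.val hh
  have hm : h.1 - 1 ≠ 0 := fun h0 => h1 (Subtype.ext (sub_eq_zero.1 h0))
  have hp : h.1 + 1 ≠ 0 := fun h0 => by
    have := h.2
    rw [eq_neg_of_add_eq_zero_left h0, det_neg] at this
    norm_num at this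
    exact h2 (by linear_combination -this)
  have hr : (h.1 - 1).rank ≠ 1 := fun hr => by
    obtain ⟨a, b, ha, hb, hab⟩ := exists_vecMulVec_of_rank_eq_one _ hr
    have h3 : h.1 = 1 + vecMulVec a b := by rw [← hab]; abel
    have h4 := h.2
    rw [h3, det_fin_three] at h4
    simp [vecMulVec_apply, one_apply] at h4
    have h5 : b ⬝ᵥ a = 0 := by
      simp only [dotProduct, Fin.sum_univ_three]
      linear_combination h4
    rw [h3, add_mul, mul_add, mul_add, vecMulVec_mul_vecMulVec, h5] at hh'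
    simp only [one_mul, mul_one, zero_smul, vecMulVec_zero, add_zero, add_assoc, add_eq_left,
      ← two_smul F, smul_eq_zero, h2, false_or] at hh'
    exact hm (hab.trans hh')
  have hr' : (h.1 + 1).rank = 1 := by
    have h3 := Matrix.rank_add_rank_le_card_of_mul_eq_zero (A := h.1 + 1) (B := h.1 - 1) (by
      rw [add_mul, mul_sub, hh']; simp)
    have := rank_ne_zero hm
    have := rank_ne_zero hp
    simp at h3
    omega
  obtain ⟨a, b, ha, hb, hab⟩ := exists_vecMulVec_of_rank_eq_one _ hr'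
  obtain ⟨g, c, hc, hg⟩ := exists_SL_mulVec_eq_smul a (Pi.single 2 1) ha (by simp)
  refine IsConj.trans ?_ (isConj_iff.2 ⟨g, rfl⟩).symm
  have h3 : (g * h * g⁻¹).1 = vecMulVec (Pi.single 2 1) (c • vecMul b (g⁻¹).1) - 1 := by
    rw [sl_coe_mul, sl_coe_mul, eq_sub_of_add_eq hab, mul_sub, sub_mul, mul_one, sl_coe_mul_inv,
      mul_vecMulVec, vecMulVec_mul, hg, smul_vecMulVec, vecMulVec_smul]
  generalize g * h * g⁻¹ = k at h3
  generalize c • vecMul b (g⁻¹).1 = d at h3
  have h4 := k.2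
  rw [h3, det_fin_three] at h4
  simp [vecMulVec_apply, one_apply] at h4
  refine isConj_iff.2 ⟨⟨!![1, 0, 0; 0, 1, 0; -d 0 / 2, -d 1 / 2, 1], by simp [det_fin_three]⟩,
    mul_inv_eq_iff_eq_mul.2 (Subtype.ext ?_)⟩
  change _ * _ = k.1 * _
  rw [h3]
  ext i j
  fin_cases i <;> fin_cases j <;>
    simp [inv3, Matrix.mul_apply, Fin.sum_univ_three, vecMulVec_apply, Matrix.one_apply, h4] <;>
    field_simp <;> ring

/-- The embedding of `GL₂` into `SL₃`. -/
def gl2ToSL3 : GL (Fin 2) F →* SL(3, F) where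
  toFun A := ⟨!![A 0 0, A 0 1, 0; A 1 0, A 1 1, 0; 0, 0, ((GeneralLinearGroup.det A)⁻¹ : Fˣ)], by
    have := Units.mul_inv (GeneralLinearGroup.det A)
    rw [GeneralLinearGroup.val_det_apply, det_fin_two] at this
    rw [det_fin_three]
    simp only [of_apply, cons_val', cons_val_zero, cons_val_fin_one, cons_val_one, cons_val,
      mul_zero, sub_zero, zero_mul, add_zero]
    linear_combination this⟩
  map_one' := Subtype.ext (by simp [one_fin_three])
  map_mul' A B := Subtype.ext (by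
    change _ = _ * _
    ext i j
    fin_cases i <;> fin_cases j <;>
      simp [Matrix.mul_apply, Fin.sum_univ_three, Fin.sum_univ_two, mul_comm])

theorem gl2ToSL3_val (A : GL (Fin 2) F) : (gl2ToSL3 A).1 =
    !![A 0 0, A 0 1, 0; A 1 0, A 1 1, 0; 0, 0, ((GeneralLinearGroup.det A)⁻¹ : Fˣ)] := rfl

theorem inv3_val : (inv3 : SL(3, F)).1 = !![-1, 0, 0; 0, -1, 0; 0, 0, 1] := rfl

theorem gl2ToSL3_injective : Function.Injective (gl2ToSL3 (F := F)) := fun A B h => by
  have h1 := fun i j => congrArg (fun g : SL(3, F) => g.1 i j) h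
  ext i j
  fin_cases i <;> fin_cases j
  exacts [h1 0 0, h1 0 1, h1 1 0, h1 1 1]

theorem mem_range_gl2ToSL3 (h2 : (2 : F) ≠ 0) (k : SL(3, F)) :
    k ∈ gl2ToSL3.range ↔ inv3 * k = k * inv3 := by
  constructor
  · rintro ⟨A, rfl⟩
    apply Subtype.ext
    rw [sl_coe_mul, sl_coe_mul, gl2ToSL3_val, inv3_val]
    simp
  · intro h
    have h0 : inv3.1 * k.1 = k.1 * inv3.1 := congrArg Subtype.val h
    have h1 := fun i j => congrFun (congrFun h0 i) j
    have hz : ∀ x : F, -x = x → x = 0 := fun x hx =>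
      (mul_eq_zero.1 (show 2 * x = 0 by linear_combination -hx)).resolve_left h2
    simp only [inv3_val, Matrix.mul_apply, Fin.sum_univ_three] at h1
    have e1 : k.1 0 2 = 0 := hz _ (by simpa using h1 0 2)
    have e2 : k.1 1 2 = 0 := hz _ (by simpa using h1 1 2)
    have e3 : k.1 2 0 = 0 := hz _ (by simpa using (h1 2 0).symm)
    have e4 : k.1 2 1 = 0 := hz _ (by simpa using (h1 2 1).symm)
    have hd := k.2
    rw [det_fin_three, e1, e2, e3, e4] at hd
    have hd' : (!![k.1 0 0, k.1 0 1; k.1 1 0, k.1 1 1] : Matrix (Fin 2) (Fin 2) F).det * k.1 2 2 = 1 := by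
      rw [det_fin_two_of]; linear_combination hd
    refine ⟨GeneralLinearGroup.mkOfDetNeZero _ (left_ne_zero_of_mul_eq_one hd'), Subtype.ext ?_⟩
    rw [gl2ToSL3_val]
    ext i j
    fin_cases i <;> fin_cases j <;> simp [e1, e2, e3, e4]
    exact (eq_inv_of_mul_eq_one_right (by linear_combination hd)).symm

theorem psl3_centralizer_involution [Fintype F] (hF : Odd (Fintype.card F)) (t : PSL(3, F))
    (ht : orderOf t = 2) : ∃ (Z : Subgroup (GL (Fin 2) F)) (_ : Z.Normal),
      Z ≤ Subgroup.center (GL (Fin 2) F) ∧ Nat.card Z = Nat.gcd (Fintype.card F - 1) 3 ∧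
      Nonempty (Subgroup.centralizer ({t} : Set PSL(3, F)) ≃* GL (Fin 2) F ⧸ Z) := by
  have h2 : (2 : F) ≠ 0 := H15.card_odd_iff.1 hF
  have hZ3 : ∀ z ∈ Subgroup.center SL(3, F), z ^ 3 = 1 := fun z hz => by
    obtain ⟨r, hr, h⟩ := sl_center_smul hz
    apply Subtype.ext
    change z.1 ^ 3 = 1
    rw [h, smul_pow, one_pow, ← Fintype.card_fin 3, hr, one_smul]
  obtain ⟨g, rfl⟩ := QuotientGroup.mk_surjective t
  have hx2 : (g : PSL(3, F)) ^ 2 = 1 := by rw [← ht, pow_orderOf_eq_one]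
  have hx3 : ((g ^ 3 : SL(3, F)) : PSL(3, F)) = g := by
    rw [QuotientGroup.mk_pow, pow_succ, hx2, one_mul]
  have h6 : g ^ 3 * g ^ 3 = 1 := by
    rw [← QuotientGroup.mk_pow, QuotientGroup.eq_one_iff] at hx2
    rw [← sq, ← pow_mul, mul_comm, pow_mul, hZ3 _ hx2]
  obtain ⟨c, hc⟩ := isConj_iff.1 (sl3_isConj_inv3 h2 _ h6 fun h => by simp [← hx3, h] at ht)
  let φ := (QuotientGroup.mk' (Subgroup.center SL(3, F))).comp gl2ToSL3
  have hker : ∀ A, A ∈ φ.ker ↔ gl2ToSL3 A ∈ Subgroup.center SL(3, F) := fun A =>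
    QuotientGroup.eq_one_iff _
  have hinv : (inv3 : SL(3, F)) * inv3 = 1 := Subtype.ext (by
    change _ * _ = _
    simp [inv3, one_fin_three])
  have hr : φ.range = Subgroup.centralizer {((inv3 : SL(3, F)) : PSL(3, F))} := by
    ext x
    obtain ⟨k, rfl⟩ := QuotientGroup.mk_surjective x
    rw [Subgroup.mem_centralizer_singleton_iff]
    constructor
    · rintro ⟨A, hA⟩
      rw [← hA]
      exact congrArg (QuotientGroup.mk' _) ((mem_range_gl2ToSL3 h2 _).1 ⟨A, rfl⟩).symm
    · intro h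
      rw [← QuotientGroup.mk_mul, ← QuotientGroup.mk_mul, QuotientGroup.eq] at h
      have h3 := hZ3 _ h
      have h4 := Subgroup.mem_center_iff.1 h
      obtain ⟨A, hA⟩ := (mem_range_gl2ToSL3 h2 k).2 (by
        generalize hz : (k * inv3)⁻¹ * (inv3 * k) = z at h3 h4
        have h5 : k⁻¹ * inv3 * k = inv3 * z := by rw [← hz]; group
        have h6 : z * z = 1 := by
          calc z * z = (inv3 * z) * (inv3 * z) := by
                rw [mul_assoc, ← mul_assoc z inv3, ← h4 inv3, ← mul_assoc, ← mul_assoc, hinv, one_mul]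
            _ = k⁻¹ * (inv3 * inv3) * k := by rw [← h5]; group
            _ = 1 := by rw [hinv]; group
        rw [pow_succ, sq, h6, one_mul] at h3
        rw [h3, inv_mul_eq_one] at hz
        exact hz.symm)
      exact ⟨A, congrArg (QuotientGroup.mk' _) hA⟩
  refine ⟨φ.ker, inferInstance, fun A hA => Subgroup.mem_center_iff.2 fun B =>
    gl2ToSL3_injective ?_, ?_, ⟨MulEquiv.trans ?_ ((MulEquiv.subgroupCongr hr.symm).trans
      (QuotientGroup.quotientKerEquivRange φ).symm)⟩⟩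
  · rw [map_mul, map_mul, Subgroup.mem_center_iff.1 ((hker A).1 hA)]
  · rw [Nat.gcd_comm, ← card_center_sl rfl 3 (by norm_num)]
    refine Nat.card_congr (Equiv.ofBijective (fun A => ⟨gl2ToSL3 A.1, (hker _).1 A.2⟩)
      ⟨fun A B h => Subtype.ext (gl2ToSL3_injective (congrArg Subtype.val h)), fun z => ?_⟩)
    obtain ⟨A, hA⟩ := (mem_range_gl2ToSL3 h2 z.1).2 (Subgroup.mem_center_iff.1 z.2 _)
    exact ⟨⟨A, (hker _).2 (hA ▸ z.2)⟩, Subtype.ext hA⟩
  · refine (H15.subgroupEquivOfMem (MulAut.conj (c : PSL(3, F))) _ _ fun x => ?_).symm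
    rw [← hx3, ← hc, Subgroup.mem_centralizer_singleton_iff, Subgroup.mem_centralizer_singleton_iff]
    rw [QuotientGroup.mk_mul, QuotientGroup.mk_mul, QuotientGroup.mk_inv, ← MulAut.conj_apply,
      ← map_mul, ← map_mul, (MulAut.conj (c : PSL(3, F))).injective.eq_iff]

end H16
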