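import Mathlib
import Cfsg.Prelude.Def_Quasithin

/-!
Vocabulary of the facts about known simple groups used for the quasithin preliminaries.
-/

set_option autoImplicit false

namespace H16.QT

open Subgroup Cfsg
open scoped commutatorElement

section Defs

/-- `K` contains an elementary abelian subgroup of order `p ^ 2`. -/
def NC (p : ℕ) (K : Type*) [Group K] : Prop :=
  ∃ x y : K, x ^ p = 1 ∧ y ^ p = 1 ∧ Commute x y ∧ x ≠ 1 ∧ y ∉ zpowers x

/-- `x` is conjugate to its inverse. -/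
def Rl {K : Type*} [Group K] (x : K) : Prop := ∃ g : K, g * x * g⁻¹ = x⁻¹

/-- Three commuting independent real elements of odd prime order. -/
def G3 (K : Type*) [Group K] : Prop :=
  ∃ p : ℕ, p.Prime ∧ p ≠ 2 ∧ ∃ x y z : K, x ^ p = 1 ∧ y ^ p = 1 ∧ z ^ p = 1 ∧
    Commute x y ∧ Commute x z ∧ Commute y z ∧ Rl x ∧ Rl y ∧ Rl z ∧
    ∀ a b c : ℕ, x ^ a * y ^ b * z ^ c = 1 → p ∣ a ∧ p ∣ b ∧ p ∣ c

/-- Perfect groups of automorphisms are inner. -/
def SCH (K : Type*) [Group K] : Prop :=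
  ∀ D : Subgroup (MulAut K), ⁅D, D⁆ = D → D ≤ (MulAut.conj : K →* MulAut K).range

/-- Coprime `p`-groups of automorphisms are cyclic. -/
def CYCP (K : Type*) [Group K] : Prop :=
  ∀ (p : ℕ) (P : Subgroup (MulAut K)), p.Prime → ¬ p ∣ Nat.card K → IsPGroup p P → IsCyclic P

/-- The derived group of `Aut K` has no element of order prime to `|K|`. -/
def DER (K : Type*) [Group K] : Prop :=
  ∀ a ∈ commutator (MulAut K), (orderOf a).Coprime (Nat.card K) → a = 1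

/-- The order of the Suzuki group `Sz(2 ^ (2 m + 1))`. -/
def szOrd (m : ℕ) : ℕ := (2 ^ (2 * m + 1)) ^ 2 * ((2 ^ (2 * m + 1)) ^ 2 + 1) * (2 ^ (2 * m + 1) - 1)

/-- The numerical condition that excludes coprime automorphisms. -/
def N1 (n : ℕ) : Prop :=
  ∀ r p : ℕ, r.Prime → p.Prime → r ≠ 2 → p ≠ 2 → r ∣ n →
    (p ∣ r - 1 ∨ (r ^ 2 ∣ n ∧ p ∣ r + 1)) → p ∣ n

/-- The condition that excludes a Suzuki section of outer automorphisms. -/
def NoSz (K : Type*) [Group K] : Prop :=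
  ∀ m : ℕ, 1 ≤ m → ∃ p : ℕ, p.Prime ∧ p ∣ szOrd m ∧ (¬ p ∣ Nat.card K ∨ (p ≠ 2 ∧ NC p K))

def NUM (K : Type*) [Group K] : Prop := N1 (Nat.card K) ∧ NC 3 K ∧ NoSz K

/-- The subgroup generated by the squares of `S`. -/
def sqs {K : Type*} [Group K] (S : Subgroup K) : Subgroup K := closure {y | ∃ s ∈ S, y = s ^ 2}

/-- A torus `H` acting on a Sylow 2-subgroup `S` with small weight spaces on `S / Φ(S)`, and no
coprime automorphism centralises `S`. -/
def TOR0 {K : Type*} [Group K] (S : Subgroup K) : Prop :=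
  (∃ (H : Subgroup K) (Γ : Set K), H ≤ normalizer (S : Set K) ∧ IsMulCommutative H ∧
    Odd (Nat.card H) ∧ closure Γ = S ∧
    ∀ x ∈ Γ, ∃ h ∈ H, Commute h x ∧ ∀ y ∈ S, Commute h y →
      y ∈ sqs S ∨ ∃ k ∈ H, y⁻¹ * (k * x * k⁻¹) ∈ sqs S) ∧
  ∀ a : MulAut K, (orderOf a).Coprime (Nat.card K) → (∀ s ∈ S, a s = s) → a = 1

def TOR (K : Type*) [Group K] : Prop :=
  ∃ S : Sylow 2 K, TOR0 (S : Subgroup K) ∧
    (NC 3 K ∨ ∀ p : ℕ, p.Prime → p ≠ 2 → ¬ NC p (normalizer ((S : Subgroup K) : Set K)))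

/-- some odd Sylow subgroup is not cyclic -/
def NCO (K : Type*) [Group K] : Prop := ∃ p : ℕ, p.Prime ∧ p ≠ 2 ∧ NC p K

def KF (K : Type*) [Group K] : Prop :=
  G3 K ∨ (SCH K ∧ CYCP K ∧ NCO K) ∨ (SCH K ∧ DER K) ∨ NUM K ∨ Nat.card K = 175560 ∨ TOR K

/-- The list of groups with two conjugate components. -/
def LST (K : Type*) [Group K] : Prop :=
  (∃ (F : Type) (_ : Field F) (_ : Fintype F), CharP F 2 ∧
      Nonempty (K ≃* Matrix.ProjectiveSpecialLinearGroup (Fin 2) F)) ∨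
    Cfsg.Lie.IsoSuzuki K ∨
    (∃ (F : Type) (_ : Field F) (_ : Fintype F), (Fintype.card F).Prime ∧ Fintype.card F ≠ 2 ∧
      Nonempty (K ≃* Matrix.ProjectiveSpecialLinearGroup (Fin 2) F)) ∨
    Cfsg.Spor.IsoJ1 K

/-- Everything that is needed about a known simple group. -/
def KA (K : Type*) [Group K] : Prop :=
  KF K ∧ (LST K ∨ NCO K) ∧ (Cfsg.Lie.IsoSuzuki K ∨ 3 ∣ Nat.card K)

end Defs

section Basic

variable {K : Type*} [Group K] {K' : Type*} [Group K']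

theorem NC.map {p : ℕ} (h : NC p K) (f : K →* K') (hf : Function.Injective f) : NC p K' := by
  obtain ⟨x, y, hx, hy, hc, h1, h2⟩ := h
  refine ⟨f x, f y, by rw [← map_pow, hx, map_one], by rw [← map_pow, hy, map_one], hc.map f,
    fun e => h1 (hf (by rw [e, map_one])), ?_⟩
  rintro ⟨k, hk⟩
  exact h2 ⟨k, hf (by simpa using hk)⟩

theorem NC.of_equiv {p : ℕ} (e : K ≃* K') (h : NC p K') : NC p K :=
  h.map e.symm.toMonoidHom e.symm.injective

theorem NC.of_subgroup {p : ℕ} (H : Subgroup K) (h : NC p H) : NC p K :=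
  h.map H.subtype H.subtype_injective

theorem NC.dvd_card [Finite K] {p : ℕ} (hp : p.Prime) (h : NC p K) : p ∣ Nat.card K := by
  obtain ⟨x, -, hx, -, -, h1, -⟩ := h
  haveI := Fact.mk hp
  rw [← orderOf_eq_prime hx h1]
  exact orderOf_dvd_natCard x

theorem eq_one_of_sq_of_odd {p : ℕ} (hp : p.Prime) (hp2 : p ≠ 2) {u : K} (h1 : u ^ p = 1)
    (h2 : u = u⁻¹) : u = 1 := by
  have h3 : u ^ 2 = 1 := by rw [pow_two]; nth_rewrite 1 [h2]; exact inv_mul_cancel u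
  have := Nat.dvd_gcd (orderOf_dvd_of_pow_eq_one h1) (orderOf_dvd_of_pow_eq_one h3)
  rw [(Nat.coprime_primes hp Nat.prime_two).2 hp2] at this
  exact orderOf_eq_one_iff.1 (Nat.dvd_one.1 this)

/-- `g` inverts `x` and centralises `y`. -/
theorem NC.of_sep {p : ℕ} (hp : p.Prime) (hp2 : p ≠ 2) {x y g : K} (hx : x ^ p = 1)
    (hy : y ^ p = 1) (hc : Commute x y) (h1 : x ≠ 1) (h2 : y ≠ 1) (hg : g * x * g⁻¹ = x⁻¹)
    (hgy : Commute g y) : NC p K := by
  refine ⟨x, y, hx, hy, hc, h1, ?_⟩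
  rintro ⟨k, rfl⟩
  apply h2
  refine eq_one_of_sq_of_odd hp hp2 hy ?_
  have e1 : g * x ^ k * g⁻¹ = x ^ k := by
    rw [hgy.eq, mul_inv_cancel_right]
  have e2 : g * x ^ k * g⁻¹ = (x ^ k)⁻¹ := by
    rw [← conj_zpow, hg, inv_zpow]
  simpa [e1] using e2

theorem Rl.map {x : K} (h : Rl x) (f : K →* K') : Rl (f x) := by
  obtain ⟨g, hg⟩ := h
  exact ⟨f g, by rw [← map_inv, ← map_mul, ← map_mul, hg, map_inv]⟩

theorem G3.map (h : G3 K) (f : K →* K') (hf : Function.Injective f) : G3 K' := by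
  obtain ⟨p, hp, hp2, x, y, z, hx, hy, hz, c1, c2, c3, r1, r2, r3, hi⟩ := h
  refine ⟨p, hp, hp2, f x, f y, f z, by rw [← map_pow, hx, map_one],
    by rw [← map_pow, hy, map_one], by rw [← map_pow, hz, map_one], c1.map f, c2.map f, c3.map f,
    r1.map f, r2.map f, r3.map f, fun a b c e => hi a b c (hf ?_)⟩
  simpa using e

theorem G3.of_equiv (e : K ≃* K') (h : G3 K') : G3 K := h.map e.symm.toMonoidHom e.symm.injective

theorem G3.of_subgroup (H : Subgroup K) (h : G3 H) : G3 K := h.map H.subtype H.subtype_injective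

theorem dvd_of_sep {p : ℕ} (hp : p.Prime) (hp2 : p ≠ 2) {x w g : K} (hx : x ^ p = 1) (h1 : x ≠ 1)
    (hg : g * x * g⁻¹ = x⁻¹) (hw : Commute g w) {a : ℕ} (e : x ^ a * w = 1) : p ∣ a := by
  haveI := Fact.mk hp
  have e0 : w = (x ^ a)⁻¹ := eq_inv_of_mul_eq_one_right e
  have e1 : g * x ^ a * g⁻¹ = x ^ a := by
    have : Commute g (x ^ a) := by
      have := hw.inv_right
      rwa [e0, inv_inv] at this
    rw [this.eq, mul_inv_cancel_right]
  have e2 : g * x ^ a * g⁻¹ = (x ^ a)⁻¹ := by rw [← conj_pow, hg, inv_pow]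
  have : x ^ a = 1 := eq_one_of_sq_of_odd hp hp2 (by rw [← pow_mul, mul_comm, pow_mul, hx, one_pow])
    (by rw [← e2, e1])
  rw [← orderOf_eq_prime hx h1]
  exact orderOf_dvd_of_pow_eq_one this

/-- `g₁` inverts `x` and centralises `y, z`, and so on. -/
theorem G3.of_sep {p : ℕ} (hp : p.Prime) (hp2 : p ≠ 2) {x y z g₁ g₂ g₃ : K} (hx : x ^ p = 1)
    (hy : y ^ p = 1) (hz : z ^ p = 1) (c1 : Commute x y) (c2 : Commute x z) (c3 : Commute y z)
    (h1 : x ≠ 1) (h2 : y ≠ 1) (h3 : z ≠ 1) (i1 : g₁ * x * g₁⁻¹ = x⁻¹) (i2 : g₂ * y * g₂⁻¹ = y⁻¹)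
    (i3 : g₃ * z * g₃⁻¹ = z⁻¹) (a1 : Commute g₁ y) (a2 : Commute g₁ z) (b2 : Commute g₂ z) :
    G3 K := by
  refine ⟨p, hp, hp2, x, y, z, hx, hy, hz, c1, c2, c3, ⟨g₁, i1⟩, ⟨g₂, i2⟩, ⟨g₃, i3⟩, ?_⟩
  intro a b c e
  haveI := Fact.mk hp
  have ha : p ∣ a := dvd_of_sep hp hp2 hx h1 i1 ((a1.pow_right b).mul_right (a2.pow_right c))
    (by rw [← mul_assoc]; exact e)
  obtain ⟨a', rfl⟩ := ha
  rw [pow_mul, hx, one_pow, one_mul] at e
  have hb : p ∣ b := dvd_of_sep hp hp2 hy h2 i2 (b2.pow_right c) e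
  obtain ⟨b', rfl⟩ := hb
  rw [pow_mul, hy, one_pow, one_mul] at e
  refine ⟨dvd_mul_right _ _, dvd_mul_right _ _, ?_⟩
  rw [← orderOf_eq_prime hz h3]
  exact orderOf_dvd_of_pow_eq_one e

/-- two involutions with product of order dividing three -/
theorem s3_inv {a b : K} (ha : a * a = 1) (hb : b * b = 1) :
    a * (a * b) * a⁻¹ = (a * b)⁻¹ := by
  have ha' : a⁻¹ = a := inv_eq_of_mul_eq_one_right ha
  have hb' : b⁻¹ = b := inv_eq_of_mul_eq_one_right hb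
  rw [← mul_assoc, ha, one_mul, mul_inv_rev, ha', hb']

/-- two commuting copies of a dihedral group of order `2 p` -/
theorem NC.of_dih {p : ℕ} (hp : p.Prime) (hp2 : p ≠ 2) {a b c d : K} (ha : a * a = 1)
    (hb : b * b = 1) (hab : (a * b) ^ p = 1) (hcd : (c * d) ^ p = 1) (n1 : a ≠ b) (n2 : c ≠ d)
    (hd : d * d = 1) (ac : Commute a c) (ad : Commute a d) (bc : Commute b c) (bd : Commute b d) :
    NC p K := by
  refine NC.of_sep hp hp2 hab hcd ((ac.mul_right ad).mul_left (bc.mul_right bd)) ?_ ?_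
    (s3_inv ha hb) (ac.mul_right ad)
  · intro e; exact n1 (by rw [eq_inv_of_mul_eq_one_left e, inv_eq_of_mul_eq_one_right hb])
  · intro e; exact n2 (by rw [eq_inv_of_mul_eq_one_left e, inv_eq_of_mul_eq_one_right hd])

/-- three pairwise commuting copies of a dihedral group of order `2 p` -/
theorem G3.of_dih {p : ℕ} (hp : p.Prime) (hp2 : p ≠ 2) {a b c d e f : K} (ha : a * a = 1)
    (hb : b * b = 1) (hc : c * c = 1) (hd : d * d = 1) (he : e * e = 1) (hf : f * f = 1)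
    (hab : (a * b) ^ p = 1) (hcd : (c * d) ^ p = 1) (hef : (e * f) ^ p = 1)
    (n1 : a ≠ b) (n2 : c ≠ d) (n3 : e ≠ f)
    (ac : Commute a c) (ad : Commute a d) (bc : Commute b c) (bd : Commute b d)
    (ae : Commute a e) (af : Commute a f) (be : Commute b e) (bf : Commute b f)
    (ce : Commute c e) (cf : Commute c f) (de : Commute d e) (df : Commute d f) : G3 K := by
  refine G3.of_sep hp hp2 hab hcd hef ((ac.mul_right ad).mul_left (bc.mul_right bd))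
    ((ae.mul_right af).mul_left (be.mul_right bf)) ((ce.mul_right cf).mul_left (de.mul_right df))
    ?_ ?_ ?_ (s3_inv ha hb) (s3_inv hc hd) (s3_inv he hf) (ac.mul_right ad) (ae.mul_right af)
    (ce.mul_right cf)
  · intro e; exact n1 (by rw [eq_inv_of_mul_eq_one_left e, inv_eq_of_mul_eq_one_right hb])
  · intro e; exact n2 (by rw [eq_inv_of_mul_eq_one_left e, inv_eq_of_mul_eq_one_right hd])
  · intro e; exact n3 (by rw [eq_inv_of_mul_eq_one_left e, inv_eq_of_mul_eq_one_right hf])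

theorem G3.nco (h : G3 K) : NCO K := by
  obtain ⟨p, hp, hp2, x, y, z, hx, hy, hz, c1, c2, c3, r1, r2, r3, hi⟩ := h
  refine ⟨p, hp, hp2, x, y, hx, hy, c1, ?_, ?_⟩
  · intro e
    have := (hi 1 0 0 (by simp [e])).1
    exact hp.one_lt.ne' (Nat.dvd_one.1 this)
  · intro hm
    have hfin : IsOfFinOrder x := isOfFinOrder_iff_pow_eq_one.2 ⟨p, hp.pos, hx⟩
    obtain ⟨k, hk⟩ := (hfin.mem_powers_iff_mem_zpowers).2 (inv_mem hm)
    have := (hi k 1 0 (by simp only at hk; simp [hk])).2.1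
    exact hp.one_lt.ne' (Nat.dvd_one.1 this)

theorem NoSz.of_five (h : NC 5 K) : NoSz K := by
  intro m _
  refine ⟨5, by norm_num, ?_, Or.inr ⟨by norm_num, h⟩⟩
  unfold szOrd
  refine Dvd.dvd.mul_right (Dvd.dvd.mul_left ?_ _) _
  have : (2 ^ (2 * m + 1)) ^ 2 + 1 ≡ 0 [MOD 5] := by
    have e : (2 ^ (2 * m + 1)) ^ 2 = 16 ^ m * 4 := by
      rw [← pow_mul, show (2 * m + 1) * 2 = 4 * m + 2 by ring, pow_add, pow_mul]; norm_num
    rw [e]
    have : 16 ^ m ≡ 1 ^ m [MOD 5] := Nat.ModEq.pow m (by decide)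
    rw [one_pow] at this
    exact ((this.mul_right 4).add_right 1).trans (by decide)
  exact (Nat.modEq_zero_iff_dvd).1 this

theorem mem_of_prime_dvd {n k : ℕ} {l : List ℕ} (hl : n ∣ l.prod ^ k) (hp : ∀ r ∈ l, r.Prime)
    {r : ℕ} (hr : r.Prime) (h : r ∣ n) : r ∈ l := by
  have := (Prime.dvd_prod_iff hr.prime).1 (hr.dvd_of_dvd_pow (h.trans hl))
  obtain ⟨a, ha, hra⟩ := this
  rwa [(Nat.prime_dvd_prime_iff_eq hr (hp a ha)).1 hra]

/-- `l` is the list of primes of `n`; the hypotheses are decidable. -/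
theorem N1.of_list {n : ℕ} (l : List ℕ) (hl : n ∣ l.prod ^ 50) (hp : ∀ r ∈ l, r.Prime)
    (h : ∀ r ∈ l, r - 1 ∣ n ^ 8 ∧ (r ^ 2 ∣ n → r + 1 ∣ n ^ 8)) : N1 n := by
  intro r p hr hp' _ _ hrn hd
  obtain ⟨h1, h2⟩ := h r (mem_of_prime_dvd hl hp hr hrn)
  rcases hd with hd | ⟨h3, hd⟩
  · exact hp'.dvd_of_dvd_pow (hd.trans h1)
  · exact hp'.dvd_of_dvd_pow (hd.trans (h2 h3))

theorem exists_prime_four_pow {k : ℕ} (hk : 2 ≤ k) :
    ∃ r : ℕ, r.Prime ∧ r ≠ 5 ∧ r ∣ 4 ^ k + 1 := by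
  by_contra hcon
  push Not at hcon
  have h5 : ∀ {d : ℕ}, d.Prime → d ∣ 4 ^ k + 1 → d = 5 := fun hd h => by
    by_contra h'; exact hcon _ hd h' h
  have e := Nat.eq_prime_pow_of_unique_prime_dvd (by positivity) h5
  set j := (4 ^ k + 1).primeFactorsList.length
  obtain ⟨k', rfl⟩ := Nat.exists_eq_add_of_le hk
  have m3 : 4 ^ (2 + k') + 1 ≡ 2 [MOD 3] := by
    have : 4 ^ (2 + k') ≡ 1 ^ (2 + k') [MOD 3] := Nat.ModEq.pow _ (by decide)
    rw [one_pow] at this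
    exact this.add_right 1
  have m8 : 4 ^ (2 + k') + 1 ≡ 1 [MOD 8] := by
    have : 4 ^ (2 + k') ≡ 0 [MOD 8] := by
      rw [Nat.modEq_zero_iff_dvd, pow_add]; exact Dvd.dvd.mul_right (by norm_num) _
    exact this.add_right 1
  rw [e] at m3 m8
  rcases Nat.even_or_odd' j with ⟨i, hi | hi⟩
  · rw [hi, pow_mul] at m3
    have : (5 ^ 2) ^ i ≡ 1 ^ i [MOD 3] := Nat.ModEq.pow _ (by decide)
    rw [one_pow] at this
    exact absurd (this.symm.trans m3) (by decide)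
  · rw [hi, pow_succ, pow_mul] at m8
    have : (5 ^ 2) ^ i ≡ 1 ^ i [MOD 8] := Nat.ModEq.pow _ (by decide)
    rw [one_pow] at this
    exact absurd ((this.mul_right 5).symm.trans m8) (by decide)

theorem exists_prime_not_dvd {a n e : ℕ} (ha : 0 < a) (hae : a ≤ 2 ^ e) (h : ¬ a ∣ n ^ e)
    (hn : n ≠ 0) : ∃ s : ℕ, s.Prime ∧ s ∣ a ∧ ¬ s ∣ n := by
  by_contra hcon
  push Not at hcon
  apply h
  refine (Nat.factorization_prime_le_iff_dvd ha.ne' (pow_ne_zero _ hn)).1 fun s hs => ?_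
  by_cases hsa : s ∣ a
  · rw [Nat.factorization_pow]
    have h1 : 1 ≤ n.factorization s := (hs.dvd_iff_one_le_factorization hn).1 (hcon s hs hsa)
    have h2 : a.factorization s ≤ e := by
      by_contra h3
      push Not at h3
      have h4 : s ^ a.factorization s ≤ a := Nat.le_of_dvd ha (Nat.ordProj_dvd a s)
      have h5 : 2 ^ a.factorization s ≤ s ^ a.factorization s := Nat.pow_le_pow_left hs.two_le _
      have h6 : 2 ^ e < 2 ^ a.factorization s := Nat.pow_lt_pow_right (by norm_num) h3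
      omega
    simp only [Finsupp.smul_apply, smul_eq_mul]
    nlinarith
  · rw [Nat.factorization_eq_zero_of_not_dvd hsa]; exact Nat.zero_le _

/-- `l` is the list of primes of `n = |K|`; the hypotheses are decidable. -/
theorem NoSz.of_list [Finite K] {n : ℕ} (hn : Nat.card K = n) (l : List ℕ) (hl : n ∣ l.prod ^ 50)
    (hp : ∀ r ∈ l, r.Prime)
    (h : ∀ r ∈ l, r ≠ 5 → ∀ k < r - 1, k % 2 = 1 → (4 ^ k + 1) % r = 0 →
      ¬ 2 ^ (Nat.gcd k (r - 1)) - 1 ∣ n ^ r) : NoSz K := by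
  intro m hm
  obtain ⟨r, hr, hr5, hd⟩ := exists_prime_four_pow (k := 2 * m + 1) (by omega)
  have e4 : (2 ^ (2 * m + 1)) ^ 2 = 4 ^ (2 * m + 1) := by
    rw [← pow_mul, mul_comm, pow_mul]; norm_num
  have hn0 : n ≠ 0 := hn ▸ Nat.card_pos.ne'
  by_cases hrn : r ∣ n
  swap
  · refine ⟨r, hr, ?_, Or.inl (hn ▸ hrn)⟩
    unfold szOrd
    rw [e4]
    exact (hd.mul_left _).mul_right _
  have hr2 : r ≠ 2 := by
    rintro rfl
    have : 2 ∣ 4 ^ (2 * m + 1) := by rw [pow_succ]; exact Dvd.dvd.mul_left (by norm_num) _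
    omega
  have hrodd := hr.odd_of_ne_two hr2
  have h3 : 3 ≤ r := by have := hr.two_le; omega
  set k := (2 * m + 1) % (r - 1) with hk
  have hk1 : k < r - 1 := Nat.mod_lt _ (by omega)
  have hk2 : k % 2 = 1 := by
    have : 2 ∣ r - 1 := by obtain ⟨t, ht⟩ := hrodd; omega
    rw [hk, Nat.mod_mod_of_dvd _ this]; omega
  have hcop : Nat.Coprime 4 r := by
    have : Nat.Coprime 2 r := (Nat.coprime_primes Nat.prime_two hr).2 hr2.symm
    exact this.pow_left 2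
  have hf : 4 ^ (r - 1) ≡ 1 [MOD r] := by
    have := Nat.ModEq.pow_totient hcop
    rwa [Nat.totient_prime hr] at this
  have hk3 : 4 ^ (2 * m + 1) ≡ 4 ^ k [MOD r] := by
    conv_lhs => rw [← Nat.mod_add_div (2 * m + 1) (r - 1), pow_add, pow_mul]
    have := (hf.pow ((2 * m + 1) / (r - 1))).mul_left (4 ^ k)
    rwa [one_pow, mul_one] at this
  have hk4 : (4 ^ k + 1) % r = 0 := by
    have := (hk3.add_right 1).symm.trans ((Nat.modEq_zero_iff_dvd).2 hd)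
    exact Nat.mod_eq_zero_of_dvd ((Nat.modEq_zero_iff_dvd).1 this)
  have h5 := h r (mem_of_prime_dvd hl hp hr hrn) hr5 k hk1 hk2 hk4
  have hg0 : 0 < Nat.gcd k (r - 1) := Nat.gcd_pos_of_pos_right _ (by omega)
  have hgle : Nat.gcd k (r - 1) ≤ r := (Nat.gcd_le_right _ (by omega)).trans (by omega)
  obtain ⟨s, hs, hs1, hs2⟩ := exists_prime_not_dvd (a := 2 ^ Nat.gcd k (r - 1) - 1) (e := r)
    (by have := Nat.one_lt_two_pow hg0.ne'; omega)
    ((Nat.sub_le _ _).trans (Nat.pow_le_pow_right (by norm_num) hgle)) h5 hn0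
  refine ⟨s, hs, ?_, Or.inl (hn ▸ hs2)⟩
  unfold szOrd
  refine Dvd.dvd.mul_left (hs1.trans ?_) _
  have hg : Nat.gcd k (r - 1) ∣ 2 * m + 1 := by
    rw [← Nat.mod_add_div (2 * m + 1) (r - 1)]
    exact dvd_add (Nat.gcd_dvd_left _ _) ((Nat.gcd_dvd_right _ _).mul_right _)
  obtain ⟨t, ht⟩ := hg
  rw [ht, pow_mul]
  simpa using Nat.sub_dvd_pow_sub_pow (2 ^ Nat.gcd k (r - 1)) 1 t

theorem NUM.of_equiv (e : K ≃* K') (h : NUM K') : NUM K := by
  have hc : Nat.card K = Nat.card K' := Nat.card_congr e.toEquiv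
  refine ⟨hc ▸ h.1, h.2.1.of_equiv e, fun m hm => ?_⟩
  obtain ⟨p, hp, h1, h2⟩ := h.2.2 m hm
  exact ⟨p, hp, h1, h2.imp (fun h3 => hc ▸ h3) fun h3 => ⟨h3.1, h3.2.of_equiv e⟩⟩

theorem KA.of_G3 (h : G3 K) (h3 : 3 ∣ Nat.card K) : KA K :=
  ⟨Or.inl h, Or.inr h.nco, Or.inr h3⟩

theorem KA.of_NUM [Finite K] (h : NUM K) : KA K :=
  ⟨Or.inr (Or.inr (Or.inr (Or.inl h))), Or.inr ⟨3, by norm_num, by norm_num, h.2.1⟩,
    Or.inr (h.2.1.dvd_card (by norm_num))⟩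

theorem KA.of_TOR0 [Finite K] (S : Sylow 2 K) (h : TOR0 (S : Subgroup K)) (h3 : NC 3 K) : KA K :=
  ⟨Or.inr (Or.inr (Or.inr (Or.inr (Or.inr ⟨S, h, Or.inl h3⟩)))),
    Or.inr ⟨3, by norm_num, by norm_num, h3⟩, Or.inr (h3.dvd_card (by norm_num))⟩

theorem KA.of_AUT (h1 : SCH K) (h2 : CYCP K) (h3 : NCO K) (h4 : 3 ∣ Nat.card K) : KA K :=
  ⟨Or.inr (Or.inl ⟨h1, h2, h3⟩), Or.inr h3, Or.inr h4⟩

theorem three_dvd_card [Finite K] {x : K} (h : x ^ 3 = 1) (h1 : x ≠ 1) : 3 ∣ Nat.card K := by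
  haveI : Fact (Nat.Prime 3) := ⟨by norm_num⟩
  rw [← orderOf_eq_prime h h1]
  exact orderOf_dvd_natCard x

end Basic

end H16.QT
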