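import Mathlib
import Cfsg.Agent.H16.KG0

/-!
The facts of `KG0` are invariant under isomorphism.
-/

set_option autoImplicit false

namespace H16.QT

open Subgroup Cfsg
open scoped commutatorElement

variable {K : Type*} [Group K] {K' : Type*} [Group K']

theorem congr_conj (e : K ≃* K') (g : K) :
    MulAut.congr e (MulAut.conj g) = MulAut.conj (e g) := by
  ext x; simp

theorem SCH.of_equiv (e : K ≃* K') (h : SCH K') : SCH K := by
  intro D hD a ha
  have h1 := h (D.map (MulAut.congr e).toMonoidHom) (by rw [← map_commutator, hD])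
    (mem_map_of_mem _ ha)
  obtain ⟨g, hg⟩ := h1
  refine ⟨e.symm g, (MulAut.congr e).injective ?_⟩
  rw [congr_conj, e.apply_symm_apply, hg]; rfl

theorem CYCP.of_equiv (e : K ≃* K') (h : CYCP K') : CYCP K := by
  intro p P hp hd hP
  have h1 := h p (P.map (MulAut.congr e).toMonoidHom) hp
    (by rwa [← Nat.card_congr e.toEquiv]) (hP.map _)
  exact isCyclic_of_surjective (P.equivMapOfInjective (MulAut.congr e).toMonoidHom (MulAut.congr e).injective).symm
    (MulEquiv.surjective _)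

theorem DER.of_equiv (e : K ≃* K') (h : DER K') : DER K := by
  intro a ha hc
  apply (MulAut.congr e).injective
  rw [map_one]
  refine h _ ?_ ?_
  · have : (commutator (MulAut K)).map (MulAut.congr e).toMonoidHom ≤ commutator (MulAut K') := by
      rw [_root_.commutator_def, map_commutator]
      exact commutator_mono le_top le_top
    exact this (mem_map_of_mem _ ha)
  · rwa [MulEquiv.orderOf_eq, ← Nat.card_congr e.toEquiv]

theorem NCO.of_equiv (e : K ≃* K') (h : NCO K') : NCO K := by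
  obtain ⟨p, hp, hp2, h⟩ := h
  exact ⟨p, hp, hp2, h.of_equiv e⟩

theorem map_sqs (f : K →* K') (S : Subgroup K) : (sqs S).map f = sqs (S.map f) := by
  unfold sqs
  rw [MonoidHom.map_closure]
  congr 1
  ext y
  constructor
  · rintro ⟨_, ⟨s, hs, rfl⟩, rfl⟩
    exact ⟨f s, mem_map_of_mem f hs, map_pow f s 2⟩
  · rintro ⟨_, ⟨s, hs, rfl⟩, rfl⟩
    exact ⟨s ^ 2, ⟨s, hs, rfl⟩, map_pow f s 2⟩

theorem TOR0.map (e : K ≃* K') {S : Subgroup K} (h : TOR0 S) : TOR0 (S.map e.toMonoidHom) := by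
  obtain ⟨⟨H, Γ, h1, h2, h3, h4, h5⟩, h6⟩ := h
  refine ⟨⟨H.map e.toMonoidHom, e '' Γ, ?_, inferInstance, ?_, ?_, ?_⟩, ?_⟩
  · exact (map_mono h1).trans (le_normalizer_map _)
  · rwa [card_map_of_injective e.injective]
  · rw [← h4, MonoidHom.map_closure]; rfl
  · rintro _ ⟨x, hx, rfl⟩
    obtain ⟨h, hh, hc, h7⟩ := h5 x hx
    refine ⟨e h, mem_map_of_mem _ hh, hc.map e, ?_⟩
    rintro _ ⟨y, hy, rfl⟩ hc'
    have hc'' : Commute h y := e.injective (by simpa using hc'.eq)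
    rw [← map_sqs]
    rcases h7 y hy hc'' with h8 | ⟨k, hk, h8⟩
    · exact Or.inl (mem_map_of_mem _ h8)
    · exact Or.inr ⟨e k, mem_map_of_mem _ hk, by simpa using mem_map_of_mem e.toMonoidHom h8⟩
  · intro a ha hs
    apply (MulAut.congr e.symm).injective
    rw [map_one]
    refine h6 _ ?_ fun s hs' => ?_
    · rwa [MulEquiv.orderOf_eq, Nat.card_congr e.toEquiv]
    · have := hs (e s) (mem_map_of_mem e.toMonoidHom hs')
      simp [this]

theorem TOR.of_equiv [Finite K] (e : K ≃* K') (h : TOR K') : TOR K := by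
  haveI : Fact (Nat.Prime 2) := ⟨Nat.prime_two⟩
  haveI : Finite K' := Finite.of_equiv _ e.toEquiv
  obtain ⟨S, h1, h2⟩ := h
  refine ⟨S.mapSurjective (f := e.symm.toMonoidHom) e.symm.surjective, h1.map e.symm, ?_⟩
  refine h2.imp (fun h3 => h3.of_equiv e) fun h3 p hp hp2 h4 => h3 p hp hp2 ?_
  change NC p (normalizer (((S : Subgroup K').map e.symm.toMonoidHom : Subgroup K) : Set K)) at h4
  rw [← map_equiv_normalizer_eq] at h4
  exact h4.of_equiv (equivMapOfInjective _ _ e.symm.injective)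

theorem KF.of_equiv [Finite K] (e : K ≃* K') (h : KF K') : KF K := by
  rcases h with h | ⟨h1, h2, h3⟩ | ⟨h1, h2⟩ | h | h | h
  · exact Or.inl (h.of_equiv e)
  · exact Or.inr (Or.inl ⟨h1.of_equiv e, h2.of_equiv e, h3.of_equiv e⟩)
  · exact Or.inr (Or.inr (Or.inl ⟨h1.of_equiv e, h2.of_equiv e⟩))
  · exact Or.inr (Or.inr (Or.inr (Or.inl (h.of_equiv e))))
  · exact Or.inr (Or.inr (Or.inr (Or.inr (Or.inl ((Nat.card_congr e.toEquiv).trans h)))))
  · exact Or.inr (Or.inr (Or.inr (Or.inr (Or.inr (h.of_equiv e)))))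

theorem isoSuzuki_of_equiv (e : K ≃* K') (h : Lie.IsoSuzuki K') : Lie.IsoSuzuki K := by
  obtain ⟨F, i1, i2, m, h1, h2, ⟨f⟩⟩ := h
  exact ⟨F, i1, i2, m, h1, h2, ⟨e.trans f⟩⟩

theorem LST.of_equiv (e : K ≃* K') (h : LST K') : LST K := by
  rcases h with ⟨F, i1, i2, h1, ⟨f⟩⟩ | h | ⟨F, i1, i2, h1, h2, ⟨f⟩⟩ | ⟨⟨f⟩⟩
  · exact Or.inl ⟨F, i1, i2, h1, ⟨e.trans f⟩⟩
  · exact Or.inr (Or.inl (isoSuzuki_of_equiv e h))
  · exact Or.inr (Or.inr (Or.inl ⟨F, i1, i2, h1, h2, ⟨e.trans f⟩⟩))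
  · exact Or.inr (Or.inr (Or.inr ⟨e.trans f⟩))

theorem KA.of_equiv [Finite K] (e : K ≃* K') (h : KA K') : KA K :=
  ⟨h.1.of_equiv e, h.2.1.imp (·.of_equiv e) (·.of_equiv e),
    h.2.2.imp (isoSuzuki_of_equiv e) fun h3 => (Nat.card_congr e.toEquiv) ▸ h3⟩

end H16.QT
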