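import Mathlib
import Cfsg.Agent.H7.QuadClass
import Cfsg.Agent.H15.Disc
import Cfsg.Agent.H16.AutSU

/-! The automorphism groups of the orthogonal groups. -/

set_option autoImplicit false
set_option linter.unusedSectionVars false

namespace H16

open Module H15 H7

section Gen

variable {F : Type*} [Field F] {σ : F →+* F} {V : Type*} [AddCommGroup V] [Module F V]
  {Φ : Form σ V} [FiniteDimensional F V]

theorem exists_hypScale (h : Φ.Nondeg) {u v : V} (H : HypPair Φ u v) {a : F} (ha : a ≠ 0) :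
    ∃ g : Φ.Isom, g.1 u = a • u ∧ g.1 v = (σ a)⁻¹ • v ∧ ∀ w ∈ hypPerp Φ u v, g.1 w = w := by
  let L : V →ₗ[F] V := LinearMap.id + (((a - 1) / Φ.ε) • Φ.B v).smulRight u +
    (((σ a)⁻¹ - 1) • Φ.B u).smulRight v
  have hL : ∀ (x y : F), ∀ w ∈ hypPerp Φ u v,
      L (x • u + y • v + w) = (a * x) • u + ((σ a)⁻¹ * y) • v + w := fun x y w hw => by
    have h1 := mem_hypPerp.1 hw
    simp only [L, LinearMap.add_apply, LinearMap.id_apply, LinearMap.smulRight_apply,
      LinearMap.smul_apply, map_add, map_smul, H.ee, H.ef, H.ff, H.fe, h1.1, h1.2, smul_eq_mul,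
      div_mul_cancel₀ _ Φ.eps_ne_zero]
    module
  have ha' : σ a ≠ 0 := by simpa using ha
  refine ⟨Φ.mkIsom h L (fun x y => ?_) fun x => ?_, by simpa using hL 1 0 0 (zero_mem _),
    by simpa using hL 0 1 0 (zero_mem _), fun w hw => by simpa using hL 0 0 w hw⟩
  · obtain ⟨b, c, w, hw, rfl⟩ := H.exists_eq x
    obtain ⟨b', c', w', hw', rfl⟩ := H.exists_eq y
    rw [hL _ _ _ hw, hL _ _ _ hw', hyp_B H _ _ _ _ hw hw', hyp_B H _ _ _ _ hw hw']
    simp only [map_mul, map_inv₀, Φ.invol]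
    field_simp
  · obtain ⟨b, c, w, hw, rfl⟩ := H.exists_eq x
    rw [hL _ _ _ hw, H.Q_eq _ _ hw, H.Q_eq _ _ hw, map_mul]
    field_simp

end Gen

variable {F : Type*} [Field F] [Fintype F] {V : Type*} [AddCommGroup V] [Module F V]
  [FiniteDimensional F V] {Q : QuadraticForm F V}

theorem quad_good (h : (ofQuad Q).Nondeg) (hn : 5 ≤ finrank F V) : Good (ofQuad Q) :=
  ⟨h, by omega, Or.inr hn, fun U hU => by
    obtain ⟨v, hv, h0, h1⟩ := exists_singular Q (U := U) (hU.resolve_right fun h => by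
      simpa using h.1.1)
    exact ⟨v, hv, h0, sing_ofQuad.2 h1⟩⟩

theorem eich_mem_Rad {u v : V} (hu : Q u = 0) (hv : pol Q u v = 0) :
    eich Q u v hu hv ∈ Rad (ofQuad Q) u :=
  mem_Rad.2 ⟨by rw [eich_apply, pol_comm Q v, hv, pol_self, hu]; simp,
    fun x hx => ⟨pol Q v x, by rw [eich_apply, show pol Q u x = 0 from hx]; simp⟩⟩

theorem quad_EG (h : (ofQuad Q).Nondeg) (hn : 5 ≤ finrank F V) :
    EG (ofQuad Q) = commutator (ofQuad Q).Isom := by
  have h24 : NotTwoFour F V := Or.inr (by omega)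
  refine le_antisymm ((Subgroup.closure_le _).2 fun r ⟨e, he, hr⟩ => ?_) ?_
  · by_cases he0 : e = 0
    · rw [show r = 1 from Form.Isom.ext fun x => by
        simpa [he0] using (mem_Rad.1 hr).2 x (by simp [he0])]
      exact one_mem _
    obtain ⟨f, H⟩ := he.exists_hypPair h he0
    obtain ⟨v, hv, h1⟩ := exists_eich_apply_eq he.2 (Form.Isom.map_quad r f).symm
      (Rad_B hr f).symm (show (ofQuad Q).B e f ≠ 0 by simp only [H.ef]; exact one_ne_zero)
    rw [← Rad_ext (eich_mem_Rad _ hv) hr H.ef h1]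
    exact eich_mem_commutator h h24 _ _
  · rw [commutator_eq_closure_eichSet h h24 (by omega)]
    refine (Subgroup.closure_le _).2 ?_
    rintro _ ⟨u, v, hu, hv, rfl⟩
    exact Rad_le_EG (sing_ofQuad.2 hu) (eich_mem_Rad hu hv)

theorem quad_tor (h : (ofQuad Q).Nondeg) (hn : 5 ≤ finrank F V) : Tor (ofQuad Q) :=
  fun e f u H hu hu0 hs => by
    have h24 : NotTwoFour F V := Or.inr (by omega)
    have hs' := hs.resolve_right (by omega)
    obtain ⟨v, hv, h4, h5, h6⟩ := (ofQuad Q).exists_hyp_partner_mem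
      (h.disjoint_perp_perp H.disjoint) hu hu0 hs'.1 hs'.2
    refine closure_eq_top_of_sq fun a ha => ?_
    obtain ⟨g, h1, -, h2⟩ := exists_hypScale h ⟨hs'.1, h5, h4, hs'.2, h6⟩ ha
    obtain ⟨D, hD⟩ := exists_dickson h h24
    obtain ⟨S, hS⟩ := exists_spinor h h24
    have h7 := h2 e (mem_hypPerp.2 ⟨e_mem_perp u hu, e_mem_perp v hv⟩)
    have h8 := h2 f (mem_hypPerp.2 ⟨f_mem_perp u hu, f_mem_perp v hv⟩)
    exact ⟨⟨g * g, quad_EG h hn ▸ (mem_commutator_iff_hom h h24 D S hD hS _).2 (by simp)⟩, 1,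
      mem_Pt.2 ⟨1, by simp [h7]⟩, by simp [h8], by simp [h1, smul_smul, sq]⟩

theorem quad_card_fixer (h : (ofQuad Q).Nondeg) {Y : Submodule F V} (hY : (ofQuad Q).TotSing Y)
    (hp : (ofQuad Q).perp Y = Y) : ∃ n, 2 * n + finrank F Y = finrank F Y ^ 2 ∧
      Nat.card ((ofQuad Q).fixer Y) = Fintype.card F ^ n := by
  simpa using card_fixer_max (N := 1) h (fun w => Nat.card_eq_one_iff_exists.2
    ⟨⟨-Q w, by simp [pol_self, two_mul], by simp⟩, fun c => Subtype.ext (by
      simpa [add_eq_zero_iff_eq_neg] using c.2.2)⟩) hY hp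

theorem quad_mem_or (h : (ofQuad Q).Nondeg) (hn : 7 ≤ finrank F V)
    (α : MulAut (EG (ofQuad Q) ⧸ Subgroup.center (EG (ofQuad Q)))) {e : V}
    (he : Sing (ofQuad Q) e) (he0 : e ≠ 0) : α ∈ (toAut (ofQuad Q)).range ∨
      (finrank F V = 8 ∧ ∃ Y, (ofQuad Q).TotSing Y ∧ finrank F Y = 4 ∧
        ∀ g g', Cor α g g' → (g ∈ Pt (ofQuad Q) e ↔ g' ∈ St (ofQuad Q) Y)) := by
  obtain ⟨p, hp⟩ := CharP.exists F
  have : Fact p.Prime := ⟨CharP.char_is_prime F p⟩
  have hΦ := quad_good h (by omega)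
  obtain ⟨Y, hY, h1, h2 | ⟨h2, h3⟩⟩ := exists_max_of_comm p hΦ hΦ (by simp) α he he0
  · obtain ⟨e', h3⟩ := ptC_of_finrank he he0 hY h2.1 h1
    exact Or.inl (h3.mem_range hΦ (by omega) (quad_tor h (by omega)) (fun s => map_one s)
      fun s => map_one s)
  · obtain ⟨f, H⟩ := he.exists_hypPair h he0
    obtain ⟨n, h4, h5⟩ := quad_card_fixer h hY h2
    have h6 := h3.trans ((card_Rad_le h H).2 one_ne_zero)
    rw [h5, Nat.pow_le_pow_iff_right Fintype.one_lt_card] at h6
    have h7 := h.finrank_perp Y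
    rw [h2] at h7
    have h8 : finrank F Y = 4 := by
      obtain ⟨k, hk⟩ : ∃ k, finrank F Y = k + 4 := ⟨finrank F Y - 4, by omega⟩
      rw [← h7, hk, show k + 4 + (k + 4) - 2 = 2 * k + 6 by omega] at h6
      rw [hk] at h4 ⊢
      nlinarith
    exact Or.inr ⟨by omega, Y, hY, h8, h1⟩

theorem quad_range_eq_top (h : (ofQuad Q).Nondeg) (hn : 7 ≤ finrank F V)
    (h8 : finrank F V = 8 → ∀ Y, (ofQuad Q).TotSing Y → finrank F Y ≠ 4) :
    (toAut (ofQuad Q)).range = ⊤ := eq_top_iff.2 fun α _ => by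
  obtain ⟨e, he0, he⟩ := (quad_good h (by omega)).exists_sing
  exact (quad_mem_or h hn α he he0).resolve_right fun ⟨h1, Y, h2, h3, _⟩ => h8 h1 Y h2 h3

theorem mem_range_κ_quad {c : Fˣ} : c ∈ (SemiSim.κHom (ofQuad Q)).range ↔
    ∃ g : V ≃ₗ[F] V, ∀ v, Q (g v) = c * Q v := by
  rw [SemiSim.mem_range_κHom]
  refine exists_congr fun g => ⟨fun h => h.2, fun h => ⟨fun u v => ?_, h⟩⟩
  simp only [ofQuad_B, QuadraticMap.polar, ← map_add, h]
  ring

theorem quad_κ_even (h : (ofQuad Q).Nondeg) {m : ℕ} (hm : finrank F V = 2 * m) :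
    (SemiSim.κHom (ofQuad Q)).range = ⊤ := eq_top_iff.2 fun c _ => mem_range_κ_quad.2
  (exists_equiv_of_nz_eq m V V ((c : F) • Q) Q (fun x hx => h x fun y => by
      have := hx y
      simp only [ofQuad_B, QuadraticMap.polar, _root_.smul_apply, smul_eq_mul] at this ⊢
      exact mul_left_cancel₀ c.ne_zero (by linear_combination this)) h hm hm
    (by simp [nz]))

theorem quad_κ_odd (h : (ofQuad Q).Nondeg) (h2 : (2 : F) ≠ 0) (hm : Odd (finrank F V)) :
    2 * Nat.card (SemiSim.κHom (ofQuad Q)).range = Nat.card Fˣ := by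
  have h1 : (SemiSim.κHom (ofQuad Q)).range = (powMonoidHom 2 : Fˣ →* Fˣ).range := by
    ext c
    constructor
    · intro hc
      obtain ⟨g, hg, -⟩ := SemiSim.mem_range_κHom.1 hc
      let b := Module.finBasis F V
      have h3 := (ofQuad Q).det_gram_basis b (g ∘ b)
      rw [show (ofQuad Q).gram (g ∘ b) = (c : F) • (ofQuad Q).gram b from
        Matrix.ext fun i j => hg _ _, Matrix.det_smul, Fintype.card_fin] at h3
      have h4 := mul_right_cancel₀ (h.det_gram_ne_zero b) h3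
      obtain ⟨k, hk⟩ := hm
      have h5 : b.det (g ∘ b) ≠ 0 := fun h5 => by simp [h5] at h4
      refine ⟨Units.mk0 _ h5 / c ^ k, Units.ext ?_⟩
      simp only [powMonoidHom_apply, Units.val_pow_eq_pow_val, Units.val_div_eq_div_val,
        Units.val_mk0]
      have h6 := (congrArg ((c : F) ^ ·) hk).symm.trans h4
      rw [RingHom.id_apply] at h6
      field_simp
      linear_combination -h6
    · rintro ⟨d, rfl⟩
      exact mem_range_κ_quad.2 ⟨LinearEquiv.smulOfUnit d, fun v => quad_smul Q d v⟩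
  have h3 : Nat.card (powMonoidHom 2 : Fˣ →* Fˣ).ker = 2 := by
    rw [Nat.card_eq_two_iff]
    refine ⟨1, ⟨-1, by simp⟩, fun h => h2 ?_, Set.eq_univ_of_forall fun x => ?_⟩
    · have : (1 : F) = -1 := congrArg (fun x : (powMonoidHom 2 : Fˣ →* Fˣ).ker => (x.1 : F)) h
      linear_combination this
    · have : (x.1 : F) ^ 2 = 1 := congrArg Units.val x.2
      exact (sq_eq_one_iff.1 this).imp (fun h => Subtype.ext (Units.ext h))
        fun h => Subtype.ext (Units.ext h)
  rw [h1, card_eq_card_ker_mul_card_range (powMonoidHom 2 : Fˣ →* Fˣ), h3]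

theorem quad_s_top (h : ∀ s : F ≃+* F, ∃ g : V ≃+ V, (∀ (c : F) v, g (c • v) = s c • g v) ∧
    ∀ v, Q (g v) = s (Q v)) : (SemiSim.sHom (ofQuad Q)).range = ⊤ := eq_top_iff.2 fun s _ => by
  obtain ⟨g, h1, h2⟩ := h s
  exact ⟨⟨g, s, 1, h1, fun u v => by simp [QuadraticMap.polar, ← map_add, h2],
    fun v => by simp [h2]⟩, rfl⟩

theorem card_aut_pOmega {ι : Type} [Fintype ι] [DecidableEq ι] {Q : QuadraticForm F (ι → F)}
    (h : (ofQuad Q).Nondeg) (hn : 5 ≤ finrank F (ι → F)) (p f : ℕ) [Fact p.Prime]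
    (hF : Fintype.card F = p ^ f) (hs : (SemiSim.sHom (ofQuad Q)).range = ⊤) :
    Nat.card Fˣ * Nat.card (MulAut (Cfsg.POmega F Q)) = (toAut (ofQuad Q)).range.index *
      (Nat.card (ofQuad Q).Isom * Nat.card (SemiSim.κHom (ofQuad Q)).range * f) := by
  rw [card_mulAut_congr (quotCenterCongr ((omegaEquiv Q).trans
    (MulEquiv.subgroupCongr (quad_EG h hn).symm))), card_aut_eq (quad_good h hn), hs,
    Subgroup.card_top, card_ringAut p f hF]

theorem two_ne_zero_iff (p f : ℕ) [hp : Fact p.Prime] (hF : Fintype.card F = p ^ f) :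
    (2 : F) = 0 ↔ p = 2 := by
  have : CharP F p := charP_of_card_eq_prime_pow hF
  rw [← Nat.cast_ofNat, CharP.cast_eq_zero_iff F p, Nat.prime_dvd_prime_iff_eq hp.out Nat.prime_two]

theorem card_aut_odd (p f : ℕ) [Fact p.Prime] (hF : Fintype.card F = p ^ f) (hodd : Odd p) (m : ℕ)
    (hm : 3 ≤ m) : Nat.card (MulAut (Cfsg.POmega F (Cfsg.quadFormOdd m F))) =
      2 * f * Nat.card (Cfsg.POmega F (Cfsg.quadFormOdd m F)) := by
  have h2 : (2 : F) ≠ 0 := fun h => absurd ((two_ne_zero_iff p f hF).1 h ▸ hodd) (by decide)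
  have h := H7.qOdd_nondeg m h2
  have hd := finrank_odd (m := m) (F := F)
  have ho : Odd (finrank F (Unit ⊕ (Fin m ⊕ Fin m) → F)) := hd ▸ odd_two_mul_add_one m
  have h1 := card_aut_pOmega h (by omega) p f hF (quad_s_top fun s =>
    ⟨piMap s, piMap_smul s, fun v => by simp [H7.qOdd_apply, piMap_apply]⟩)
  rw [quad_range_eq_top h (by omega) (by omega), Subgroup.index_top, ← quad_κ_odd h h2 ho,
    ← card_pOmega_odd h2 h (by omega) ho, ← Nat.card_congr (pOmegaEquiv _).toEquiv] at h1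
  refine Nat.eq_of_mul_eq_mul_left (Nat.mul_pos two_pos Nat.card_pos) (h1.trans ?_)
  rw [H7.coe_qOdd]
  ring

theorem four_dvd_iff {q m : ℕ} (hq : Odd q) : q ^ m % 4 = 1 ↔ Even (m * (q - 1) / 2) := by
  obtain ⟨k, rfl⟩ := hq
  rw [Nat.add_sub_cancel, mul_left_comm, Nat.mul_div_cancel_left _ two_pos, Nat.even_mul,
    Nat.pow_mod]
  rcases Nat.even_or_odd' k with ⟨j, rfl | rfl⟩
  · simp [show (2 * (2 * j) + 1) % 4 = 1 by omega]
  · rw [show (2 * (2 * j + 1) + 1) % 4 = 3 by omega]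
    rcases Nat.even_or_odd' m with ⟨i, rfl | rfl⟩
    · simp [pow_mul, Nat.pow_mod]
    · simp [pow_succ, pow_mul, Nat.pow_mod, Nat.mul_mod]

theorem card_isom_even (h : (ofQuad Q).Nondeg) (hn : 5 ≤ finrank F V) (P : Prop) [Decidable P]
    (p f : ℕ) [Fact p.Prime] (hF : Fintype.card F = p ^ f)
    (hP : (2 : F) ≠ 0 → ((∃ g ∈ commutator (ofQuad Q).Isom, ∀ x, g.1 x = -x) ↔ P)) :
    Nat.card (ofQuad Q).Isom = (if p = 2 then 2 else if P then 8 else 4) *
      Nat.card (commutator (ofQuad Q).Isom ⧸ Subgroup.center (commutator (ofQuad Q).Isom)) := by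
  have h2 := two_ne_zero_iff p f hF
  rw [← card_pOmega_even h (Or.inr (by omega)) (by omega) (if p = 2 then 1 else if P then 4 else 2)
    (fun h => by simp [h2.1 h]) (fun h => by
      rw [if_neg (h2.not.1 h)]; split_ifs <;> decide) fun h => by
      rw [hP h, if_neg (h2.not.1 h)]; split_ifs <;> simp [*], ← mul_assoc]
  split_ifs <;> rfl

theorem card_aut_minus (p f : ℕ) [Fact p.Prime] (hF : Fintype.card F = p ^ f) (m : ℕ) (hm : 3 ≤ m)
    {a b : F} (hab : Aniso a b) :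
    Nat.card (MulAut (Cfsg.POmega F (Cfsg.quadFormMinus m F a b))) =
      (if p = 2 then 2 else (if Even ((m + 1) * (p ^ f - 1) / 2) then 4 else 8)) * f *
        Nat.card (Cfsg.POmega F (Cfsg.quadFormMinus m F a b)) := by
  have h := H7.qMinus_nondeg m hab
  have hd := finrank_minus (m := m) (F := F)
  have h1 := card_aut_pOmega h (by omega) p f hF (quad_s_top fun s => by
    have hab' : Aniso (s a) (s b) := fun x y hxy => by
      simpa using hab (s.symm x) (s.symm y) (s.injective (by simpa using hxy))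
    obtain ⟨g, hg⟩ := exists_equiv_of_nz_eq (m + 1) _ _ _ _ (H7.qMinus_nondeg m hab') h hd hd
      (Nat.add_right_cancel ((nz_qMinus m hab').trans (nz_qMinus m hab).symm))
    exact ⟨(piMap s).trans g.toAddEquiv, fun c v => by simp [piMap_smul],
      fun v => (hg _).trans (by simp [H7.qMinus_apply, piMap_apply])⟩)
  rw [quad_range_eq_top h (by omega) fun h8 Y hY h4 => ?_, Subgroup.index_top, quad_κ_even h hd,
    Subgroup.card_top, card_isom_even h (by omega) (¬ Even ((m + 1) * (p ^ f - 1) / 2)) p f hF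
      fun h2 => ?_, ← Nat.card_congr (pOmegaEquiv _).toEquiv] at h1
  · refine Nat.eq_of_mul_eq_mul_left Nat.card_pos (h1.trans ?_)
    rw [H7.coe_qMinus, ite_not]
    ring
  · have h3 := card_odd_iff.2 h2
    have h4 := odd_pow_mod_four h3 (m + 1)
    rw [← hF, ← four_dvd_iff h3]
    exact (neg_one_mem_omega_minus h2 m hab).trans (by omega)
  · obtain rfl : m = 3 := by omega
    obtain ⟨e, f, H, -⟩ := h.exists_hyp_of_totSing hY h4
    obtain ⟨g, -, hg, -⟩ := Form.Hyp.exists_equiv (Φ := ofQuad (H7.qMinus 3 F a b))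
      (Ψ := ofQuad (H7.qPlus 4 F)) rfl H (qPlus_hyp 4 F)
      (by simpa using h8) (by simp)
    have h5 : nz (H7.qMinus 3 F a b) = nz (H7.qPlus (3 + 1) F) :=
      Nat.card_congr (g.toEquiv.subtypeEquiv fun v => (congrArg (· = 0) (hg rfl v)).to_iff.symm)
    have h6 := nz_qPlus (F := F) 3
    have h7 := nz_qMinus 3 hab
    have h9 := pow_ne_pow_succ (F := F) 3
    omega

theorem card_aut_plus_aux (p f : ℕ) [Fact p.Prime] (hF : Fintype.card F = p ^ f) (m : ℕ)
    (hm : 3 ≤ m) : Nat.card (MulAut (Cfsg.POmega F (Cfsg.quadFormPlus m F))) =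
      (toAut (ofQuad (H7.qPlus m F))).range.index *
        (if p = 2 then 2 else (if Even (m * (p ^ f - 1) / 2) then 8 else 4)) * f *
          Nat.card (Cfsg.POmega F (Cfsg.quadFormPlus m F)) := by
  have h := H7.qPlus_nondeg m F
  have hd := finrank_plus (m := m) (F := F)
  have h1 := card_aut_pOmega h (by omega) p f hF (quad_s_top fun s =>
    ⟨piMap s, piMap_smul s, fun v => by simp [H7.qPlus_apply, piMap_apply]⟩)
  rw [quad_κ_even h hd, Subgroup.card_top,
    card_isom_even h (by omega) (Even (m * (p ^ f - 1) / 2)) p f hF fun h2 => ?_,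
    ← Nat.card_congr (pOmegaEquiv _).toEquiv] at h1
  · refine Nat.eq_of_mul_eq_mul_left Nat.card_pos (h1.trans ?_)
    rw [H7.coe_qPlus]
    ring
  · rw [← hF, ← four_dvd_iff (card_odd_iff.2 h2)]
    exact neg_one_mem_omega_plus h2 m

end H16
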