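import Mathlib
import Cfsg.Agent.H7.LowDim4
import Cfsg.Agent.H16.AutO

/-! The automorphism groups of the symplectic groups. -/

set_option autoImplicit false
set_option linter.unusedSectionVars false

namespace H16

open Module H15 H7

variable {F : Type*} [Field F] [Fintype F] {V : Type*} [AddCommGroup V] [Module F V]
  [FiniteDimensional F V] {Φ : Form (RingHom.id F) V}

theorem alt_good (h : Φ.Nondeg) (hA : Φ.IsAlt) (hT : Tr Φ) (hn : 3 ≤ finrank F V) : Good Φ :=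
  ⟨h, hn, Or.inl hT, fun U hU => by
    obtain ⟨v, hv, h0⟩ := Submodule.exists_mem_ne_zero_of_ne_bot (p := U) (by
      rintro rfl; simp at hU)
    exact ⟨v, hv, h0, hA.1 v, hA.2 v⟩⟩

theorem alt_EG (h : Φ.Nondeg) (hA : Φ.IsAlt) : EG Φ = ⊤ :=
  eq_top_iff.2 (hA.closure_transvSet h ▸ closure_transvSet_le_EG hA.2)

theorem alt_tor (h : Φ.Nondeg) (hA : Φ.IsAlt) : Tor Φ := fun e f u H hu hu0 _ => by
  obtain ⟨v, hv, h4, h5, h6⟩ := Φ.exists_hyp_partner_mem (h.disjoint_perp_perp H.disjoint) hu hu0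
    (hA.1 u) (hA.2 u)
  refine closure_eq_top_of_sq fun a ha => ?_
  obtain ⟨g, h1, -, h2⟩ := exists_hypScale h ⟨hA.1 u, h5, h4, hA.2 u, h6⟩ (pow_ne_zero 2 ha)
  exact ⟨⟨g, alt_EG h hA ▸ trivial⟩, 1,
    mem_Pt.2 ⟨1, by simpa using h2 e (mem_hypPerp.2 ⟨e_mem_perp u hu, e_mem_perp v hv⟩)⟩,
    by simpa using h2 f (mem_hypPerp.2 ⟨f_mem_perp u hu, f_mem_perp v hv⟩), by simpa using h1⟩

theorem sp_tr (m : ℕ) : Tr (spForm m F) := ⟨rfl, 1, one_ne_zero, by simp [spForm]⟩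

theorem sp_good {m : ℕ} (hm : 2 ≤ m) : Good (spForm m F) :=
  alt_good (spForm_nondeg m F) (spForm_isAlt m) (sp_tr m) (by rw [finrank_sum_fun]; omega)

theorem sp_card_fixer {m : ℕ} {Y : Submodule F (Fin m ⊕ Fin m → F)} (hY : (spForm m F).TotSing Y)
    (hp : (spForm m F).perp Y = Y) : finrank F Y = m ∧ ∃ n, 2 * n = m ^ 2 + m ∧
      Nat.card ((spForm m F).fixer Y) = Fintype.card F ^ n := by
  have h1 := (spForm_nondeg m F).finrank_perp Y
  rw [hp, finrank_sum_fun] at h1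
  obtain ⟨n, h2, h3⟩ := card_fixer_max (N := Fintype.card F) (spForm_nondeg m F)
    (fun w => by simp [spForm, sympB_isAlt m F w]) hY hp
  rw [show finrank F Y = m by omega] at h2 h3
  exact ⟨by omega, m + n, by omega, by rw [h3, pow_add]⟩

/-- The projective symplectic group as a quotient of the elementary group. -/
noncomputable def pspEquiv (m : ℕ) :
    Cfsg.PSp m F ≃* EG (spForm m F) ⧸ Subgroup.center (EG (spForm m F)) :=
  quotCenterCongr ((spEquiv m F).trans (Subgroup.topEquiv.symm.trans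
    (MulEquiv.subgroupCongr (alt_EG (spForm_nondeg m F) (spForm_isAlt m)).symm)))

theorem sp_mem_or {m : ℕ} (hm : 2 ≤ m)
    (α : MulAut (EG (spForm m F) ⧸ Subgroup.center (EG (spForm m F)))) {e : Fin m ⊕ Fin m → F}
    (he0 : e ≠ 0) : α ∈ (toAut (spForm m F)).range ∨ (m = 2 ∧ (2 : F) = 0 ∧
      ∃ Y, (spForm m F).TotSing Y ∧ finrank F Y = 2 ∧
        ∀ g g', Cor α g g' → (g ∈ Pt (spForm m F) e ↔ g' ∈ St (spForm m F) Y)) := by
  obtain ⟨p, hp⟩ := CharP.exists F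
  have : Fact p.Prime := ⟨CharP.char_is_prime F p⟩
  have hΦ := sp_good (F := F) hm
  have he : Sing (spForm m F) e := ⟨(spForm_isAlt m).1 e, rfl⟩
  have key : (∃ e', PtC α e e') → α ∈ (toAut (spForm m F)).range := fun ⟨_, h⟩ =>
    h.mem_range hΦ (by rw [finrank_sum_fun]; omega) (alt_tor hΦ.nd (spForm_isAlt m))
      (fun s => by simp [spForm]) fun s => map_zero s
  by_cases hA : ∀ b, b = (spForm m F).ε * RingHom.id F b
  · obtain ⟨Y, hY, h1, h2 | ⟨h2, h3⟩⟩ := exists_max_of_comm p hΦ hΦ hA α he he0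
    · exact Or.inl (key (ptC_of_finrank he he0 hY h2.1 h1))
    obtain ⟨f, H⟩ := he.exists_hypPair hΦ.nd he0
    obtain ⟨h4, n, h5, h6⟩ := sp_card_fixer hY h2
    have h7 := h3.trans (card_Rad_le hΦ.nd H).1
    rw [h6, Nat.pow_le_pow_iff_right Fintype.one_lt_card, finrank_sum_fun] at h7
    have h8 : m = 2 := by
      obtain ⟨k, rfl⟩ : ∃ k, m = k + 2 := ⟨m - 2, by omega⟩
      rw [show 2 * (k + 2) - 1 = 2 * k + 3 by omega] at h7
      nlinarith
    refine Or.inr ⟨h8, ?_, Y, hY, h4.trans h8, h1⟩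
    have : (1 : F) = -1 * 1 := hA 1
    linear_combination this
  · exact Or.inl (key (hΦ.exists_ptC (sp_tr m) hA α he he0))

theorem psp_not_equiv_pOmega (hodd : Odd (Fintype.card F)) (m : ℕ) (hm : 3 ≤ m) :
    IsEmpty (Cfsg.PSp m F ≃* Cfsg.POmega F (Cfsg.quadFormOdd m F)) := ⟨fun β => by
  obtain ⟨p, hp⟩ := CharP.exists F
  have : Fact p.Prime := ⟨CharP.char_is_prime F p⟩
  have h2 := card_odd_iff.1 hodd
  have h := H7.qOdd_nondeg m h2
  have hd := finrank_odd (m := m) (F := F)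
  have hΦ := quad_good h (by omega)
  obtain ⟨e, he0, he⟩ := hΦ.exists_sing
  obtain ⟨Y, hY, -, h3 | ⟨h3, h4⟩⟩ := exists_max_of_comm p hΦ (sp_good (F := F) (m := m) (by omega))
    (by simp) ((quotCenterCongr ((omegaEquiv (H7.qOdd m F)).trans
      (MulEquiv.subgroupCongr (quad_EG h (by omega)).symm))).symm.trans (β.symm.trans (pspEquiv m)))
    he he0
  · have : (1 : F) = -1 * 1 := h3.2 1
    exact h2 (by linear_combination this)
  · obtain ⟨f, H⟩ := he.exists_hypPair hΦ.nd he0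
    obtain ⟨-, n, h5, h6⟩ := sp_card_fixer hY h3
    have h7 := h4.trans ((card_Rad_le hΦ.nd H).2 one_ne_zero)
    rw [h6, Nat.pow_le_pow_iff_right Fintype.one_lt_card, hd] at h7
    obtain ⟨k, rfl⟩ : ∃ k, m = k + 3 := ⟨m - 3, by omega⟩
    rw [show 2 * (k + 3) + 1 - 2 = 2 * k + 5 by omega] at h7
    nlinarith⟩

theorem exists_hom_of_surj {U : Type*} [AddCommGroup U] [Module F U] {Ψ : Form (RingHom.id F) U}
    (h : Φ.Nondeg) (hQ : ∀ x, Φ.Q x = 0) (π : U →ₗ[F] V) (ι : V →ₗ[F] U) (h1 : ∀ v, π (ι v) = v)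
    (h2 : ∀ x y, Ψ.B x y = Φ.B (π x) (π y)) :
    ∃ φ : Ψ.Isom →* Φ.Isom, ∀ g x, (φ g).1 (π x) = π (g.1 x) := by
  let φ : Ψ.Isom → Φ.Isom := fun g => Φ.mkIsom h (π ∘ₗ (g.1 : U →ₗ[F] U) ∘ₗ ι)
    (fun x y => by simp [← h2, Form.Isom.map_B, h2 (ι x), h1]) fun x => by simp [hQ]
  have h3 : ∀ g x, (φ g).1 (π x) = π (g.1 x) := fun g x => h.ext_left fun z => by
    change Φ.B (π (g.1 (ι (π x)))) z = _
    rw [← h1 z, ← h2, ← h2, Form.Isom.B_left, Form.Isom.B_left, h2, h2, h1]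
  refine ⟨MonoidHom.mk' φ fun a b => Form.Isom.ext fun v => ?_, h3⟩
  rw [← h1 v, Form.Isom.mul_apply, h3, h3, h3, Form.Isom.mul_apply]

theorem exists_sp4_graph (h2 : (2 : F) = 0) (hq : 3 ≤ Fintype.card F) :
    ∃ γ, γ ∉ (toAut (spForm 2 F)).range := by
  have : CharP F 2 := CharTwo.of_one_ne_zero_of_two_eq_zero one_ne_zero h2
  have hΦ := sp_good (F := F) (m := 2) le_rfl
  have hA := spForm_isAlt (F := F) 2
  obtain ⟨ρ, hρ⟩ := exists_rep5 (F := F)
  obtain ⟨ψ, hψ⟩ := exists_hom_of_surj (Ψ := ofQuad (H7.qOdd 2 F)) hΦ.nd hA.2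
    (LinearMap.funLeft F F Sum.inr) (Function.ExtendByZero.linearMap F Sum.inr)
    (fun v => funext fun i => Sum.inr_injective.extend_apply _ _ _) fun x y => by
      rw [show _ = _ from H7.pol_qOdd x y, spForm_B, sympForm_eq, h2]
      simp [CharTwo.sub_eq_add, add_comm, LinearMap.funLeft_apply]
  let φ := ψ.comp (ρ.comp (spEquiv 2 F).symm.toMonoidHom)
  let t := altT hΦ.nd hA (Pi.single (.inl 0) 1) (-1)
  have ht : sp4Mat ((spEquiv 2 F).symm t) = !![1, 0, 1, 0; 0, 1, 0, 0; 0, 0, 1, 0; 0, 0, 0, 1] := by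
    have h3 : ∀ i j, ((spEquiv 2 F).symm t).1 i j = t.1 (Pi.single j 1) i := fun i j => by
      conv_rhs => rw [← (spEquiv 2 F).apply_symm_apply t, spEquiv_apply]
      simp
    ext i j
    rw [sp4Mat_apply, Matrix.reindex_apply, Matrix.submatrix_apply, h3, altT_apply, spForm_B,
      sympForm_eq]
    fin_cases i <;> fin_cases j <;> simp [finSumFinEquiv, Fin.addCases]
  have h3 : ∀ x, (φ t).1 x = x - x (.inr 1) • Pi.single (.inl 0) 1 +
      x (.inr 0) • Pi.single (.inl 1) 1 := fun x => by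
    have h4 := hρ ((spEquiv 2 F).symm t) (Sum.elim 0 x)
    have h5 := conj_alt4 _ _ _ _ _ _ _ h4
    have h6 : ∀ i j, iota5 _ i j = _ := fun i j => (congrFun (congrFun h4 i) j).trans
      (conj_alt4_apply _ _ _ _ _ _ _ i j)
    refine (hψ _ (Sum.elim 0 x)).trans (funext fun i => ?_)
    rcases i with i | i <;> fin_cases i
    · simpa [ht, iota5_apply, alt4, sub_eq_add_neg] using h6 0 1
    · simpa [ht, iota5_apply, alt4] using h6 0 3
    · simpa [ht, iota5_apply, alt4] using h6 2 3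
    · simpa [ht, iota5_apply, alt4] using h6 1 2
  have h4 : Function.Injective φ := by
    rw [← MonoidHom.ker_eq_bot_iff]
    rcases alt_normal_le_center_or_top hΦ.nd hA (by simp) (alt_perfect hΦ.nd hA (Or.inr (Or.inl
      ⟨by simp, exists_ne_zero_one_of_card (by omega)⟩))) φ.ker inferInstance with h | h
    · rwa [Subgroup.card_eq_one.1 ((card_center_alt hΦ.nd hA (by simp)).trans
        (Nat.coprime_two_left.2 (Nat.Even.sub_odd Fintype.card_pos (even_card_of_two_eq_zero h2)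
          odd_one))), le_bot_iff] at h
    · have := congrFun (h3 (Pi.single (.inr 0) 1)) (.inl 1)
      rw [show φ t = 1 from (h ▸ trivial : t ∈ φ.ker)] at this
      simp at this
  have hE : ∀ g, g ∈ EG (spForm 2 F) := fun g => (alt_EG hΦ.nd hA).ge trivial
  let φ' : EG (spForm 2 F) →* EG (spForm 2 F) :=
    (φ.comp (Subgroup.subtype _)).codRestrict _ fun _ => hE _
  have hφ : Function.Injective φ' := fun a b h =>
    Subtype.ext (h4 (congrArg (fun x : EG (spForm 2 F) => x.1) h))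
  refine ⟨autQuot _ (MulEquiv.ofBijective φ' (Finite.injective_iff_bijective.1 hφ)), ?_⟩
  rintro ⟨a, ha⟩
  have h5 := cor_toAut a ⟨t, hE t⟩
  have h6 : PE 2 (⟨t, hE t⟩ : EG (spForm 2 F)) := hΦ.Rad_PE' 2 ⟨hA.1 _, rfl⟩
    (mem_Rad.2 ⟨by simp [t, altT_apply, hA.1], fun x _ => ⟨_, altT_apply hΦ.nd hA _ _ x⟩⟩)
  rw [ha] at h5
  have h7 := h5.unique (hΦ.center_PE 2) (cor_autQuot _ _) (h6.map (SemiSim.conjE _ a).toMonoidHom)
    (h6.map φ')
  have h8 : ∀ x, ∃ c : F, (φ t).1 x = x + c • a.fn (Pi.single (.inl 0) 1) := fun x =>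
    ⟨_, (congrArg (fun k : EG (spForm 2 F) => k.1.1 x) h7).symm.trans (by
      rw [SemiSim.conjE_apply, altT_apply, map_add, a.map_smul, AddEquiv.apply_symm_apply])⟩
  obtain ⟨c, hc⟩ := h8 (Pi.single (.inr 0) 1)
  obtain ⟨d, hd⟩ := h8 (Pi.single (.inr 1) 1)
  have e1 := congrFun hc (.inl 0)
  have e2 := congrFun hc (.inl 1)
  have e3 := congrFun hd (.inl 0)
  simp [h3] at e1 e2 e3
  rcases e1 with e1 | e1 <;> simp [e1] at e2 e3

theorem sp_index [DecidableEq F] {m : ℕ} (hm : 2 ≤ m) (hq : m = 2 → 3 ≤ Fintype.card F) :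
    (toAut (spForm m F)).range.index = if m = 2 ∧ (2 : F) = 0 then 2 else 1 := by
  have hΦ := sp_good (F := F) hm
  obtain ⟨e, he0, he⟩ := hΦ.exists_sing
  split_ifs with h
  · obtain ⟨rfl, h2⟩ := h
    obtain ⟨γ, hγ⟩ := exists_sp4_graph h2 (hq rfl)
    obtain ⟨-, -, Y, h3, h4, h5⟩ := (sp_mem_or hm γ he0).resolve_left hγ
    refine (index_eq_of_reps _ ![1, γ] (fun α => ?_) fun i j => ?_).trans (by simp)
    · rcases sp_mem_or hm α he0 with h6 | ⟨-, -, X, h6, h7, h8⟩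
      · exact ⟨0, by simpa using h6⟩
      · obtain ⟨k, rfl⟩ := hΦ.nd.exists_map_eq_of_totSing h3 h6 (h4.trans h7.symm)
        exact ⟨1, mem_of_St hΦ (by simp) (alt_tor hΦ.nd (spForm_isAlt 2)) (fun s => by simp [spForm])
          (fun s => map_zero s) he he0 h8 h5 ⟨k, alt_EG hΦ.nd (spForm_isAlt 2) ▸ trivial⟩
          fun x => by simp⟩
    · fin_cases i <;> fin_cases j <;> simp [-MonoidHom.mem_range, hγ]
  · rw [Subgroup.index_eq_one, eq_top_iff]
    exact fun α _ => (sp_mem_or hm α he0).resolve_right fun h1 => h ⟨h1.1, h1.2.1⟩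

theorem card_aut_psp (p f : ℕ) [Fact p.Prime] (hF : Fintype.card F = p ^ f) (m : ℕ) (hm : 2 ≤ m)
    (h22 : m = 2 → 3 ≤ p ^ f) : Nat.card (MulAut (Cfsg.PSp m F)) =
      (if m = 2 ∧ p = 2 then 2 else 1) * Nat.gcd 2 (p ^ f - 1) * f * Nat.card (Cfsg.PSp m F) := by
  classical
  have hΦ := sp_good (F := F) hm
  have h1 := card_aut_eq hΦ
  have h2 : (SemiSim.sHom (spForm m F)).range = ⊤ := eq_top_iff.2 fun s _ =>
    ⟨⟨piMap s, s, 1, piMap_smul s, fun u v => by simp [spForm_B, sympForm_eq, piMap_apply],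
      fun v => by simp⟩, rfl⟩
  have h3 : (SemiSim.κHom (spForm m F)).range = ⊤ := eq_top_iff.2 fun c _ => by
    have hA : ((c : F) • sympB m F).IsAlt := fun v => by simp [sympB_isAlt m F v]
    obtain ⟨g, hg⟩ := (ofAlt_isAlt _ hA).exists_equiv_sp rfl
      (fun x hx => hΦ.nd x fun y => show sympB m F x y = 0 by simpa using hx y) (finrank_sum_fun m)
    exact SemiSim.mem_range_κHom.2 ⟨g, hg, fun v => by simp⟩
  rw [h2, h3, Subgroup.card_top, Subgroup.card_top, card_ringAut p f hF, sp_index hm (hF ▸ h22),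
    card_isom_alt m _ _ hΦ.nd (spForm_isAlt m) (finrank_sum_fun m), ← card_psp m (by omega),
    ← card_mulAut_congr (pspEquiv m), hF] at h1
  refine Nat.eq_of_mul_eq_mul_left Nat.card_pos (h1.trans ?_)
  simp only [two_ne_zero_iff p f hF]
  ring

end H16
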