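import Mathlib
import Cfsg.Agent.H26.S05
import Cfsg.Agent.H27.PF14
import Cfsg.Agent.H23.Components
import Cfsg.Agent.S0071
import Cfsg.Agent.H16.KG1

/-!
Quasithin preliminaries, part 1: perfect core, solvable radical, transfer tools.
-/

set_option autoImplicit false

namespace H16.QT

open Cfsg H24 Subgroup
open H25 hiding abl_iff cyc_zpowers cyc_bot exists_prime_dvd_card cyc_cj
open H26
open scoped commutatorElement

universe u v

variable {G : Type u} [Group G] [Finite G] {G' : Type v} [Group G'] [Finite G']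
variable {A B C D E H K L M N P Q R S T U V W X Y Z : Subgroup G} {p q r : ℕ}

/-- perfect subgroup -/
abbrev Pf {G : Type*} [Group G] (X : Subgroup G) : Prop := ⁅X, X⁆ = X

omit [Finite G] in
theorem Pf.eq_bot (hp : Pf K) (hs : Sol K) : K = ⊥ := by
  by_contra h
  exact (hs.der1_lt h).ne hp

omit [Finite G] [Finite G'] in
theorem Pf.img (hp : Pf K) (f : D →* G') (hD : K ≤ D) : Pf (img f K) := by
  unfold Pf; rw [← img_comm f hD hD, hp]

omit [Finite G] in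
theorem Pf.quo (hp : Pf K) (hN : K ≤ N[N]) : Pf (quo K N) := hp.img _ hN

omit [Finite G] in
theorem Pf.le_of_sol_quo (hp : Pf K) (hN : K ≤ N[N]) (hs : Sol (H24.quo K N)) : K ≤ N :=
  (quo_eq_bot hN).1 ((hp.quo hN).eq_bot hs)

omit [Finite G] in
theorem Pf.le_of_sol (hp : Pf K) (hn : K ≤ N[M]) (hK : K ≤ X ⊔ M) (hX : X ≤ N[M])
    (hs : Sol X) : K ≤ M :=
  hp.le_of_sol_quo hn ((hs.quo M).of_le ((quo_le_quo_iff hn hX).2 hK))

omit [Finite G] in
theorem Pf.cj (hp : Pf K) (g : G) : Pf (cj g K) := by unfold Pf; rw [← cj_comm, hp]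

omit [Finite G] in
theorem Pf.sup (hA : Pf A) (hB : Pf B) : Pf (A ⊔ B) :=
  le_antisymm (der1_le _) (sup_le (hA.ge.trans (der1_mono le_sup_left))
    (hB.ge.trans (der1_mono le_sup_right)))

omit [Finite G] in
theorem Pf.le_der1 (hp : Pf K) (h : K ≤ A) : K ≤ ⁅A, A⁆ := hp.ge.trans (der1_mono h)

omit [Finite G] in
theorem Pf.der (hp : Pf K) (n : ℕ) : der n K = K := by
  induction n with
  | zero => rfl
  | succ n ih => rw [der_succ, ih, hp]

theorem sol_of_odd (h : Odd ♯X) : Sol X := H27.Feit_Thompson X h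

theorem odd_of_pi2 (h : IsPi {2}ᶜ X) : Odd ♯X :=
  Nat.odd_iff.2 (Nat.two_dvd_ne_zero.1 ((isPi_compl_iff Nat.prime_two).1 h))

omit [Finite G] in
theorem pi2_of_odd (h : Odd ♯X) : IsPi {2}ᶜ X :=
  (isPi_compl_iff Nat.prime_two).2 h.not_two_dvd_nat

theorem sol_of_pi2 (h : IsPi {2}ᶜ X) : Sol X := sol_of_odd (odd_of_pi2 h)

theorem Pf.le_of_pi_idx (hp : Pf K) (hN : K ≤ N[N]) (hq : q.Prime)
    (h : PiNat {q} (N.relIndex K)) : K ≤ N :=
  hp.le_of_sol_quo hN (((isPi_quo_iff hN).2 h).sol hq)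

theorem Pf.le_of_odd_idx (hp : Pf K) (hN : K ≤ N[N]) (h : PiNat {2}ᶜ (N.relIndex K)) : K ≤ N :=
  hp.le_of_sol_quo hN (sol_of_pi2 ((isPi_quo_iff hN).2 h))

omit [Finite G] in
/-- three subgroups -/
theorem Pf.cent_of_comm_comm (hL : Pf L) (h : ⁅⁅X, L⁆, L⁆ = ⊥) : X ≤ C[L] :=
  comm_eq_bot.1 (H23.comm_bot_of_comm_comm_bot hL h)

omit [Finite G] in
theorem Pf.comm_le_of_comm_comm (hL : Pf L) (hX : X ≤ N[N]) (hN : L ≤ N[N])
    (h : ⁅⁅X, L⁆, L⁆ ≤ N) : ⁅X, L⁆ ≤ N := by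
  have := three_subgroup_mod (A := L) (B := X) (L := L) hN hX hN (by rwa [commC L X]) h
  rwa [hL, commC] at this

/-! ### the perfect core -/

/-- the largest perfect subgroup -/
def pcr {G : Type*} [Group G] (X : Subgroup G) : Subgroup G := sSup {L | L ≤ X ∧ Pf L}

omit [Finite G] in
theorem pcr_le (X : Subgroup G) : pcr X ≤ X := sSup_le fun _ h => h.1

omit [Finite G] in
theorem Pf.le_pcr (hp : Pf L) (h : L ≤ X) : L ≤ pcr X := le_sSup ⟨h, hp⟩

omit [Finite G] in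
theorem pcr_pf (X : Subgroup G) : Pf (pcr X) :=
  le_antisymm (der1_le _) (sSup_le fun _ h => h.2.le_der1 (h.2.le_pcr h.1))

omit [Finite G] in
theorem Pf.pcr_eq (hp : Pf L) : pcr L = L := le_antisymm (pcr_le L) (hp.le_pcr le_rfl)

omit [Finite G] in
theorem pcr_mono (h : X ≤ Y) : pcr X ≤ pcr Y := (pcr_pf X).le_pcr ((pcr_le X).trans h)

theorem norm_pcr (h : A ≤ N[X]) : A ≤ N[pcr X] := fun g hg =>
  mem_N_of_cj_le (((pcr_pf X).cj g).le_pcr (cj_le_of_mem_N (pcr_le X) (h hg)))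

theorem Nml.pcr (h : X ⊴ H) : pcr X ⊴ H := ⟨(pcr_le X).trans h.le, norm_pcr h.norm⟩

theorem pcr_nml (X : Subgroup G) : pcr X ⊴ X := Nml.pcr (Nml.refl X)

theorem exists_der_eq_pcr (X : Subgroup G) : ∃ n, der n X = pcr X := by
  obtain ⟨K, -, ⟨n, rfl⟩, hm⟩ := exists_min (P := fun K => ∃ n, der n X = K) ⟨0, rfl⟩
  have hp : Pf (der n X) := hm _ ⟨n + 1, rfl⟩ (der1_le _)
  refine ⟨n, le_antisymm (hp.le_pcr (der_le n X)) ?_⟩
  rw [← (pcr_pf X).der n]
  exact der_mono n (pcr_le X)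

theorem sol_iff_pcr : Sol X ↔ pcr X = ⊥ := by
  refine ⟨fun h => (pcr_pf X).eq_bot (h.of_le (pcr_le X)), fun h => ?_⟩
  obtain ⟨n, hn⟩ := exists_der_eq_pcr X
  exact sol_iff_der.2 ⟨n, hn.trans h⟩

omit [Finite G'] in
theorem img_pcr (f : D →* G') (hX : X ≤ D) : img f (pcr X) = pcr (img f X) := by
  refine le_antisymm (((pcr_pf X).img f ((pcr_le X).trans hX)).le_pcr (img_mono f (pcr_le X))) ?_
  obtain ⟨n, hn⟩ := exists_der_eq_pcr X
  rw [← hn, img_der n f hX, ← (pcr_pf (img f X)).der n]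
  exact der_mono n (pcr_le _)

theorem Pf.cover (hX : Pf X) (hN : X ≤ N[N]) (hY : Y ≤ N[N]) (h : X ≤ N ⊔ Y) : X ≤ N ⊔ pcr Y := by
  rw [sup_comm, ← quo_le_quo_iff hN ((pcr_le Y).trans hY)]
  unfold H24.quo
  rw [img_pcr _ hY]
  exact (hX.quo hN).le_pcr ((quo_le_quo_iff hN hY).2 (sup_comm N Y ▸ h))

theorem pcr_le_of_sol (hM : X ≤ N[M]) (h : X ≤ Y ⊔ M) (hY : Y ≤ N[M]) (hs : Sol Y) : pcr X ≤ M :=
  (pcr_pf X).le_of_sol ((pcr_le X).trans hM) ((pcr_le X).trans h) hY hs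

/-! ### the solvable radical -/

/-- the largest solvable normal subgroup -/
def rad {G : Type*} [Group G] (H : Subgroup G) : Subgroup G := sSup {N | N ⊴ H ∧ Sol N}

omit [Finite G] in
theorem le_rad (hN : N ⊴ H) (hs : Sol N) : N ≤ rad H := le_sSup ⟨hN, hs⟩

omit [Finite G] in
theorem rad_nml (H : Subgroup G) : rad H ⊴ H := nml_sSup fun _ h => h.1

omit [Finite G] in
theorem rad_le (H : Subgroup G) : rad H ≤ H := (rad_nml H).le

theorem rad_sol (H : Subgroup G) : Sol (rad H) := by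
  obtain ⟨K, -, hK, hm⟩ := exists_max (P := fun N => N ⊴ H ∧ Sol N) ⟨Nml.bot H, sol_bot⟩
  refine hK.2.of_le (sSup_le fun N hN => ?_)
  rw [← hm (K ⊔ N) ⟨hK.1.sup hN.1, hK.2.sup hN.2 (hN.1.le.trans hK.1.norm)⟩ le_sup_left]
  exact le_sup_right

theorem norm_rad (h : A ≤ N[H]) : A ≤ N[rad H] := fun g hg =>
  mem_N_of_cj_le (le_rad (by simpa [cj_of_mem_N (h hg)] using (rad_nml H).cj g) ((rad_sol H).cj g))

theorem Sbn.rad_le (h : Sbn K H) : rad K ≤ rad H :=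
  h.ind (P := fun A => rad A ≤ rad H) le_rfl fun _ B hAB _ ih =>
    (le_rad ⟨(QT.rad_le _).trans hAB.le, norm_rad hAB.norm⟩ (rad_sol _)).trans ih

theorem Sbn.le_rad (h : Sbn K H) (hs : Sol K) : K ≤ rad H :=
  (QT.le_rad (Nml.refl K) hs).trans (Sbn.rad_le h)

theorem pcore_le_rad (hq : q.Prime) (H : Subgroup G) : O[{q}, H] ≤ rad H :=
  le_rad (pcore_nml _ H) ((pcore_pi _ H).sol hq)

theorem quo_rad (hN : N ⊴ H) (hs : Sol N) : quo (rad H) N = rad (quo H N) := by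
  refine le_antisymm (le_rad ((rad_nml H).quo N) ((rad_sol H).quo N)) ?_
  rw [← quo_coq (rad (quo H N))]
  exact quo_mono N (le_rad (nml_coq_of hN (rad_nml _)) (hs.coq (rad_sol _)))

theorem rad_quo_rad (H : Subgroup G) : rad (quo H (rad H)) = ⊥ := by
  rw [← quo_rad (rad_nml H) (rad_sol H), quo_self]

theorem Fitting_rad (H : Subgroup G) : F[rad H] = F[H] :=
  le_antisymm (rad_nml H).Fitting_le (Fitting_le_Fitting_of_le (rad_le H)
    (le_rad (Fitting_nml H) (Fitting_nil H).sol))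

/-- a perfect group that centralises the Fitting subgroup of a solvable group centralises it -/
theorem Pf.cent_of_Fitting (hD : Pf D) (hn : D ≤ N[Y]) (hs : Sol Y) (h : D ≤ C[F[Y]]) :
    D ≤ C[Y] := by
  refine cents_symm (hD.cent_of_comm_comm (comm_eq_bot.2 ?_))
  have h1 : ⁅Y, D⁆ ≤ C[F[Y]] :=
    (comm_mono_right h).trans (comm_le_right (norm_C (Fitting_nml Y).norm))
  exact (le_Fitting_of_cent hs (comm_le_left hn) h1).trans (cents_symm h)

theorem cent_Fitting_of_pcore (h : ∀ r, r.Prime → D ≤ C[O[{r}, H]]) : D ≤ C[F[H]] :=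
  cents_symm (Fitting_le_of_pcore_le fun r hr _ => cents_symm (h r hr))

/-! ### transfer -/

/-- Frobenius' normal complement theorem for perfect groups -/
theorem Pf.pi_of_frob (hX : Pf X) (hp : p.Prime)
    (h : ∀ Q ≤ X, IsPi {p} Q → ∀ g ∈ X, g ∈ N[Q] → PiElt {p}ᶜ g → g ∈ C[Q]) : IsPi {p}ᶜ X := by
  haveI := Fact.mk hp
  obtain ⟨P⟩ : Nonempty (Sylow p X) := inferInstance
  obtain ⟨N, hN, hc⟩ := (Cfsg.Agent.S0071.result P).2 (by
    intro Q hQ g hg hco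
    have h1 : IsPi {p} (Q.map X.subtype) := (isPi_of_isPGroup hp (P.isPGroup'.to_le hQ)).map _
    have h2 := h _ (map_subtype_le Q) h1 g g.2 (norm_map (zpowers_le.2 hg) X.subtype
      (mem_map_of_mem _ (mem_zpowers g)))
      (by unfold PiElt; rw [orderOf_coe]; exact (piNat_compl_iff_coprime hp).2 hco.symm)
    refine mem_C.2 fun y hy => Subtype.ext ?_
    exact mem_C.1 h2 y (mem_map_of_mem _ hy))
  have h1 : N.map X.subtype ⊴ X := nml_map_subtype N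
  have h2 : (N.map X.subtype).relIndex X = Nat.card P := by
    rw [relIndex, subgroupOf_map_subtype', hc.symm.index_eq_card]
  have h3 : X ≤ N.map X.subtype := hX.le_of_pi_idx h1.norm hp
    (h2 ▸ isPi_of_isPGroup hp P.isPGroup')
  have h4 : Nat.card P = 1 := by rw [← h2, relIndex_eq_one.2 h3]
  have h5 := (syl_of_sylow hp P).isPi_compl_of_eq_bot (by rw [card_eq_one.1 h4, Subgroup.map_bot])
  exact h5

theorem Pf.not_dvd_of_central (hX : Pf X) (hp : p.Prime) (h2 : p ≠ 2)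
    (h : ∀ x ∈ X, x ^ p = 1 → x ∈ C[X]) : ¬ p ∣ ♯X := by
  refine (isPi_compl_iff hp).1 (hX.pi_of_frob hp fun Q hQ hQp g hg hn hg' => ?_)
  refine zpowers_le.1 (coprime_odd_faithful_Ohm1 hp hQp (zpowers_le.2 hn) (hQp.coprime hg'.isPi)
    (odd_of_pgroup hp h2 hQp) (cents_symm (omegaOne_le_iff.2 fun x hx hxp => ?_)))
  exact C_anti (zpowers_le.2 hg) (h x (hQ hx) hxp)

theorem Pf.exists_noncentral (hX : Pf X) (hp : p.Prime) (h2 : p ≠ 2) (h : p ∣ ♯X) :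
    ∃ x ∈ X, x ^ p = 1 ∧ x ∉ C[X] := by
  by_contra hc
  push Not at hc
  exact hX.not_dvd_of_central hp h2 hc h

theorem Pf.exists_odd_prime (hX : Pf X) (h1 : X ≠ ⊥) : ∃ p, p.Prime ∧ p ≠ 2 ∧ p ∣ ♯X := by
  by_contra hc
  push Not at hc
  refine h1 (hX.eq_bot (IsPi.sol Nat.prime_two fun p hp hd => ?_))
  by_contra h
  exact hc p hp h hd

/-- Burnside -/
theorem Pf.not_burnside (hX : Pf X) (hp : p.Prime) (hS : Syl p X S) (h1 : S ≠ ⊥) :
    ¬ X ⊓ N[S] ≤ C[S] := fun h => by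
  have h2 := Burnside_normal_complement hp hS h
  have h3 : X ≤ O[{p}ᶜ, X] := hX.le_of_sol h2.nml.norm (by rw [sup_comm, h2.sup])
    (hS.le.trans h2.nml.norm) (hS.pi.sol hp)
  exact h1 (hS.pi.eq_bot ((pcore_pi _ X).of_le (hS.le.trans h3)))

theorem Pf.eq_bot_of_cyc2 (hX : Pf X) (hS : Syl 2 X S) (hc : Cyc S) : X = ⊥ := by
  by_contra h1
  have h2 : 2 ∣ ♯X := by
    by_contra h; exact h1 (hX.eq_bot (sol_of_pi2 ((isPi_compl_iff Nat.prime_two).2 h)))
  have h3 : (♯X).minFac = 2 := (Nat.minFac_eq_two_iff _).2 h2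
  have h4 := cyclic_pdiv_normal_complement (h3 ▸ hS) hc
  rw [h3] at h4
  exact h1 (hX.eq_bot (h4.sol (sol_of_pi2 (pcore_pi _ _)) hc.sol))

theorem Pf.le_of_cyc2 (hX : Pf X) (hN : X ≤ N[N]) (hS : Syl 2 X S) {c : G} (hc : c ∈ N[N])
    (h : S ≤ zpowers c ⊔ N) : X ≤ N := by
  refine (quo_eq_bot hN).1 ((hX.quo hN).eq_bot_of_cyc2 (hS.quo hN) ?_)
  refine (cyc_zpowers (cs N c)).of_le ?_
  rw [← quo_zpowers hc]
  exact (quo_le_quo_iff (hS.le.trans hN) (zpowers_le.2 hc)).2 h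

/-- a `p`-group whose quotient by a subgroup of the derived group is cyclic is cyclic -/
theorem cyc_of_le_der1 (hp : p.Prime) (hP : IsPi {p} P) (hN : P ≤ N[N]) (h : P ⊓ N ≤ ⁅P, P⁆)
    (hc : Cyc (quo P N)) : Cyc P :=
  (hP.nil hp).cyc_of_quo_der1 (Cyc.quo_mono hN (der1_nml P).norm (inf_comm P N ▸ h) hc)

/-- lifting of `p`-subgroups -/
theorem exists_lift (hp : p.Prime) (f : D →* G') (hA : A ≤ D) {Y : Subgroup G'} (hY : Y ≤ img f A)
    (hYp : IsPi {p} Y) : ∃ S ≤ A, IsPi {p} S ∧ img f S = Y := by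
  obtain ⟨S, hS⟩ := Sylow_exists hp (A ⊓ pre f Y)
  have h1 := hS.img f (inf_le_left.trans hA)
  rw [img_inf_pre, inf_eq_right.2 hY] at h1
  exact ⟨S, hS.le.trans inf_le_left, hS.pi, h1.eq_self hYp⟩

end H16.QT
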