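import Mathlib
import Cfsg.Agent.H16.QT1
import Cfsg.Agent.S0144
import Cfsg.Agent.S0261
import Cfsg.Agent.S0262

/-!
Quasithin preliminaries, part 2: action on `r`-groups of rank at most two.
-/

set_option autoImplicit false

namespace H16.QT

open Cfsg H24 Subgroup
open H25 hiding abl_iff cyc_zpowers cyc_bot exists_prime_dvd_card cyc_cj
open H26
open scoped commutatorElement MatrixGroups

universe u v

section SL2

theorem sl2_two {F : Type*} [Field F] [Fintype F] (hF : Odd (Fintype.card F))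
    (S : Subgroup SL(2, F)) (hS : IsPGroup 2 S) :
    ∃ C0 : Subgroup SL(2, F), IsCyclic C0 ∧
      ∀ s ∈ S, ∀ t ∈ S, s ∉ C0 → t ∉ C0 → s⁻¹ * t ∈ C0 := by
  obtain ⟨P, hP⟩ := hS.exists_le_sylow
  obtain ⟨k, -, ⟨e⟩⟩ := Cfsg.Agent.S0261.result hF P
  let φ : QuaternionGroup (2 ^ k) →* SL(2, F) := (P : Subgroup SL(2, F)).subtype.comp e.symm.toMonoidHom
  have ha : ∀ i, QuaternionGroup.a i ∈ zpowers (QuaternionGroup.a 1 : QuaternionGroup (2 ^ k)) := by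
    intro i
    haveI : NeZero (2 * 2 ^ k) := ⟨by positivity⟩
    refine mem_powers_iff_mem_zpowers.1 ⟨i.val, ?_⟩
    simp only [QuaternionGroup.a_one_pow, ZMod.natCast_val, ZMod.cast_id', id_eq]
  refine ⟨(zpowers (QuaternionGroup.a 1)).map φ, by rw [MonoidHom.map_zpowers]; infer_instance, ?_⟩
  intro s hs t ht h1 h2
  have e1 : s = φ (e ⟨s, hP hs⟩) := by simp [φ]
  have e2 : t = φ (e ⟨t, hP ht⟩) := by simp [φ]
  rw [e1] at h1
  rw [e2] at h2
  rw [e1, e2, ← map_inv, ← map_mul]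
  refine mem_map_of_mem _ ?_
  rcases h3 : e ⟨s, hP hs⟩ with i | i
  · exact absurd (mem_map_of_mem _ (h3 ▸ ha i)) h1
  rcases h4 : e ⟨t, hP ht⟩ with j | j
  · exact absurd (mem_map_of_mem _ (h4 ▸ ha j)) h2
  exact ha _

theorem card_sl2_dvd (r : ℕ) [Fact r.Prime] :
    Nat.card SL(2, ZMod r) ∣ (r ^ 2 - 1) * (r ^ 2 - r) := by
  have h := Subgroup.card_dvd_of_injective
    (Matrix.SpecialLinearGroup.toGL : SL(2, ZMod r) →* GL (Fin 2) (ZMod r))
    Matrix.SpecialLinearGroup.toGL_injective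
  rw [Matrix.card_GL_field] at h
  simpa [Fin.prod_univ_two] using h

theorem sl2_cyc (r : ℕ) [hr : Fact r.Prime] {p : ℕ} (hp : p.Prime) (h2 : p ≠ 2)
    (P : Subgroup SL(2, ZMod r)) (hP : IsPGroup p P) : IsCyclic P := by
  haveI := Fact.mk hp
  by_cases h : p = r
  · subst h
    obtain ⟨k, hk⟩ := hP.exists_card_eq
    have h1 := (card_subgroup_dvd_card P).trans (card_sl2_dvd p)
    have h3 : k ≤ 1 := by
      by_contra h4
      have h5 : p ^ 2 ∣ (p ^ 2 - 1) * (p ^ 2 - p) := (pow_dvd_pow p (by omega)).trans (hk ▸ h1)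
      have h6 : p ^ 2 ∣ p ^ 2 - p := ((Nat.Prime.coprime_iff_not_dvd hp).2
        (not_dvd_sq_pred hp)).pow_left 2 |>.dvd_of_dvd_mul_left h5
      have h7 : 0 < p ^ 2 - p := by have := hp.one_lt; rw [pow_two]; exact Nat.sub_pos_of_lt (by nlinarith)
      have := Nat.le_of_dvd h7 h6
      have := hp.pos
      omega
    exact isCyclic_of_card_dvd_prime (p := p) (hk ▸ (pow_dvd_pow p h3).trans (by simp))
  · obtain ⟨R, hR⟩ := hP.exists_le_sylow
    haveI := Cfsg.Agent.S0262.result r p h2 h R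
    exact Subgroup.isCyclic_of_le hR

theorem sl2_three : Group.IsSolvable SL(2, ZMod 3) := by
  haveI : Fact (Nat.Prime 3) := ⟨by norm_num⟩
  have h := card_sl2_dvd 3
  have h1 : (3 ^ 2 - 1) * (3 ^ 2 - 3) = 2 ^ 4 * 3 ^ 1 := by norm_num
  rw [h1] at h
  obtain ⟨a, b, ha, hb, e⟩ := Nat.dvd_mul.1 h
  obtain ⟨i, -, rfl⟩ := (Nat.dvd_prime_pow Nat.prime_two).1 ha
  obtain ⟨j, -, rfl⟩ := (Nat.dvd_prime_pow Nat.prime_three).1 hb
  exact Cfsg.Agent.S0144.result 2 3 i j Nat.prime_two Nat.prime_three e.symm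

theorem exists_rep2 (p : ℕ) [hp : Fact p.Prime] (V : Type*) [Group V] [Finite V]
    [IsMulCommutative V] (hV : ∀ v : V, v ^ p = 1) (hc : Nat.card V ∣ p ^ 2) :
    ∃ ρ : MulAut V →* Matrix (Fin 2) (Fin 2) (ZMod p), Function.Injective ρ := by
  obtain ⟨n, hn, e⟩ := (Nat.dvd_prime_pow hp.out).1 hc
  obtain ⟨ρ, hρ⟩ := exists_mulAut_matrix p n V hV e
  interval_cases n
  · haveI : Subsingleton (MulAut V) := hρ.subsingleton
    exact ⟨1, fun _ _ _ => Subsingleton.elim _ _⟩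
  · let d : ZMod p →* Matrix (Fin 2) (Fin 2) (ZMod p) :=
      { toFun := fun x => !![x, 0; 0, 1]
        map_one' := by ext i j; fin_cases i <;> fin_cases j <;> simp
        map_mul' := fun x y => by ext i j; fin_cases i <;> fin_cases j <;> simp [Matrix.mul_apply] }
    refine ⟨d.comp (Matrix.detMonoidHom.comp ρ), fun a b h => hρ ?_⟩
    have h1 : (ρ a).det = (ρ b).det := congrFun (congrFun h 0) 0
    rw [Matrix.det_fin_one, Matrix.det_fin_one] at h1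
    ext i j
    fin_cases i; fin_cases j; exact h1
  · exact ⟨ρ, hρ⟩

end SL2

variable {G : Type u} [Group G] [Finite G] {G' : Type v} [Group G'] [Finite G']
variable {A B C D E H K L M N P Q R S T U V W X Y Z : Subgroup G} {p q r : ℕ}

/-- the 2-subgroups of `D` have a cyclic subgroup of index at most two, modulo `M` -/
def AC (D M : Subgroup G) : Prop :=
  ∀ S ≤ D, IsPi {2} S → ∃ c ∈ S, ∀ s ∈ S, s ∉ zpowers c ⊔ M → ∀ t ∈ S,
    t ∈ zpowers c ⊔ M ∨ s⁻¹ * t ∈ zpowers c ⊔ M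

omit [Finite G] in
theorem AC.mono (h : AC D M) (h1 : A ≤ D) (h2 : M ≤ N) : AC A N := by
  intro S hS hS2
  obtain ⟨c, hc, h3⟩ := h S (hS.trans h1) hS2
  have h4 : zpowers c ⊔ M ≤ zpowers c ⊔ N := sup_le_sup_left h2 _
  exact ⟨c, hc, fun s hs hs' t ht => (h3 s hs (fun e => hs' (h4 e)) t ht).imp (@h4 _) (@h4 _)⟩

/-- `M` is the kernel of a two-dimensional representation of `A` over the field with `r` elements -/
structure Rk2 (r : ℕ) (A M : Subgroup G) : Prop where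
  nml : M ⊴ A
  ac : AC ⁅A, A⁆ M
  cy : ∀ p, p.Prime → p ≠ 2 → ∀ P ≤ ⁅A, A⁆, IsPi {p} P → P ⊓ M ≤ ⁅P, P⁆ → Cyc P
  three : r = 3 → ∀ D ≤ A, Pf D → D ≤ M

theorem rk2_of_rep (hr : r.Prime) (h2 : r ≠ 2) (ρ : A →* Matrix (Fin 2) (Fin 2) (ZMod r)) :
    Rk2 r A (ρ.ker.map A.subtype) := by
  haveI := Fact.mk hr
  have hd : ∀ x : ↥⁅A, A⁆, (ρ (inclusion (der1_le A) x)).det = 1 := fun x => by
    refine rep2_det_commutator ρ ?_
    obtain ⟨y, hy, e⟩ := (der1_eq_map A).le x.2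
    exact (Subtype.ext e : y = inclusion (der1_le A) x) ▸ hy
  let σ : ↥⁅A, A⁆ →* SL(2, ZMod r) :=
    { toFun := fun x => ⟨ρ (inclusion (der1_le A) x), hd x⟩
      map_one' := Subtype.ext (by simp)
      map_mul' := fun x y => Subtype.ext (by simp only [map_mul]; rfl) }
  have hk : pre σ ⊥ ≤ ρ.ker.map A.subtype := by
    intro x hx
    obtain ⟨h1, h3⟩ := mem_pre_bot.1 hx
    rw [ap_of_mem σ h1] at h3
    exact ⟨⟨x, der1_le A h1⟩, congrArg Subtype.val h3, rfl⟩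
  have hn : ρ.ker.map A.subtype ⊴ A := nml_map_subtype _
  refine ⟨hn, ?_, ?_, ?_⟩
  · intro S hS hS2
    obtain ⟨C0, h1, h3⟩ := sl2_two (by rw [ZMod.card]; exact hr.odd_of_ne_two h2) (img σ S)
      ((hS2.img σ).isPGroup Nat.prime_two)
    obtain ⟨c', hc', e⟩ := Cyc.exists_gen (Cyc.of_le h1 (inf_le_right : img σ S ⊓ C0 ≤ C0))
    obtain ⟨c, hc, rfl⟩ := (mem_img_of_le hS).1 hc'.1
    have h4 : ∀ s ∈ S, ap σ s ∈ C0 → s ∈ zpowers c ⊔ ρ.ker.map A.subtype := by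
      intro s hs h5
      refine sup_le_sup_left hk _ ?_
      rw [← pre_img σ (zpowers_le.2 (hS hc)), img_zpowers σ (hS hc), e]
      exact mem_pre.2 ⟨hS hs, ap_mem_img σ hs (hS hs), h5⟩
    refine ⟨c, hc, fun s hs hs' t ht => ?_⟩
    by_cases h5 : ap σ t ∈ C0
    · exact Or.inl (h4 t ht h5)
    · refine Or.inr (h4 _ (mul_mem (inv_mem hs) ht) ?_)
      rw [ap_mul σ (inv_mem (hS hs)) (hS ht), ap_inv σ (hS hs)]
      exact h3 _ (ap_mem_img σ hs (hS hs)) _ (ap_mem_img σ ht (hS ht)) (fun e => hs' (h4 s hs e)) h5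
  · intro p hp hp2 P hP hPp h1
    have h3 : P ≤ N[ρ.ker.map A.subtype] := (hP.trans (der1_le A)).trans hn.norm
    refine cyc_of_le_der1 hp hPp h3 h1 ?_
    obtain ⟨c', hc', e⟩ := Cyc.exists_gen (sl2_cyc r hp hp2 (img σ P) ((hPp.img σ).isPGroup hp))
    obtain ⟨c, hc, rfl⟩ := (mem_img_of_le hP).1 hc'
    refine (cyc_zpowers (cs _ c)).of_le ?_
    rw [← quo_zpowers (h3 hc), quo_le_quo_iff h3 (zpowers_le.2 (h3 hc))]
    refine le_trans ?_ (sup_le_sup_left hk _)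
    rw [← img_le_img_iff hP (zpowers_le.2 (hP hc)), img_zpowers σ (hP hc), e]
  · rintro rfl D hD hp
    refine le_trans ?_ hk
    rw [← img_eq_bot (hp.le_der1 hD)]
    haveI := sl2_three
    exact (hp.img σ (hp.le_der1 hD)).eq_bot inferInstance

theorem exists_rk2 (hr : r.Prime) (h2 : r ≠ 2) (hR : IsPi {r} R) (hrk : prank r R ≤ 2)
    (hA : A ≤ N[R]) : ∃ M, Rk2 r A M ∧ ∀ x ∈ M, PiElt {r}ᶜ x → x ∈ C[R] := by
  haveI := Fact.mk hr
  obtain ⟨D, hD, he, hc, h3⟩ := rank2_critical_section hr hR (odd_of_pgroup hr h2 hR)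
    (by rwa [rank_pgroup hr hR])
  have hAD : A ≤ N[D] := hD.norm hA
  have hAP : A ≤ N[Phi D] := norm_Phi hAD
  haveI : IsMulCommutative (quo D (Phi D)) := he.1
  obtain ⟨ρ, hρ⟩ := exists_rep2 r (quo D (Phi D)) (fun v => Subtype.ext (he.2 v v.2)) hc
  let φ : A →* quo A (Phi D) := ((coset (Phi D)).comp (inclusion hAP)).codRestrict _
    fun a => by
      have := cs_mem_quo a.2 (hAP a.2)
      rwa [cs, ap_of_mem _ (hAP a.2)] at this
  refine ⟨_, rk2_of_rep hr h2 (ρ.comp ((H12.conjAct' (quo_norm (Phi D) hAD)).comp φ)), ?_⟩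
  rintro _ ⟨x, hx, rfl⟩ hx'
  refine zpowers_le.1 (h3 _ (zpowers_le.2 (hA x.2)) hx'.isPi ?_)
  rw [coe_subtype, quo_zpowers (hAP x.2), zpowers_le]
  have h4 : φ x ∈ (H12.conjAct' (quo_norm (Phi D) hAD)).ker := hρ (by rw [map_one]; exact hx)
  rw [H12.ker_conjAct', mem_subgroupOf] at h4
  convert h4 using 1
  exact ap_of_mem _ (hAP x.2)

theorem cent_of_ker (hr : r.Prime) (h : ∀ x ∈ M, PiElt {r}ᶜ x → x ∈ C[R]) (hD : Pf D) (hM : D ≤ M)
    (hn : D ≤ N[R]) : D ≤ C[R] :=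
  hD.le_of_pi_idx (norm_C hn) hr ((piNat_relIndex_iff (norm_C hn)).2 fun x hx => h x (hM hx))

theorem AC.le_sup (h : AC X M) (hX : Pf X) (hn : X ≤ N[M]) (hL : Pf L) (hLX : L ⊴ X)
    (hM : ¬ L ≤ M) : X ≤ L ⊔ M := by
  obtain ⟨S, hS⟩ := Sylow_exists Nat.prime_two X
  obtain ⟨c, hc, h1⟩ := h S hS.le hS.pi
  by_cases h2 : S ⊓ L ≤ zpowers c ⊔ M
  · exact absurd (hL.le_of_cyc2 (hLX.le.trans hn) (hS.inf_nml hLX) (hn (hS.le hc)) h2) hM
  obtain ⟨s, hs, h3⟩ := SetLike.not_le_iff_exists.1 h2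
  have h4 : X ≤ N[L ⊔ M] := norm_sup hLX.norm hn
  refine hX.le_of_cyc2 h4 hS (h4 (hS.le hc)) fun t ht => ?_
  have h5 : zpowers c ⊔ M ≤ zpowers c ⊔ (L ⊔ M) := sup_le_sup_left le_sup_right _
  rcases h1 s hs.1 h3 t ht with h6 | h6
  · exact h5 h6
  · have := mul_mem (mem_sup_right (mem_sup_left hs.2)) (h5 h6)
    rwa [mul_inv_cancel_left] at this

omit [Finite G] in
theorem elem_card_two_gen (he : IsElementaryAbelian p E) {a b : G} (ha : a ∈ E) (hb : b ∈ E)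
    (h : E ≤ zpowers a ⊔ zpowers b) : ♯E ∣ p ^ 2 := by
  refine (card_dvd h).trans ((isProd_sup (Abl.norm he.1 (zpowers_le.2 hb)
    (zpowers_le.2 ha))).card_dvd.trans ?_)
  rw [card_zpowers', card_zpowers', pow_two]
  exact mul_dvd_mul (orderOf_dvd_of_pow_eq_one (he.2 _ ha)) (orderOf_dvd_of_pow_eq_one (he.2 _ hb))

theorem cent_of_cop6 (he : IsElementaryAbelian 2 E) (h : ♯E ∣ 2 ^ 2) (hA : A ≤ N[E])
    (h6 : (♯A).Coprime 6) : A ≤ C[E] :=
  relIndex_eq_one.1 (Nat.eq_one_of_dvd_coprimes h6 (relIndex_dvd_card _ _)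
    (quotient_cent_abelem2_dvd Nat.prime_two hA he h))

theorem cent_of_two_gen (hQ2 : IsPi {2} Q) {c s g : G} (hc' : c ∈ Q) (hs' : s ∈ Q)
    (h4 : Q ≤ zpowers c ⊔ zpowers s) (hgn : g ∈ N[Q]) (hg2 : PiElt {2}ᶜ g)
    (h8 : (orderOf g).Coprime 6) : g ∈ C[Q] := by
  have he := Phi_quo_elem Nat.prime_two hQ2
  have hN := (Phi_nml Q).norm
  have h6 : quo Q (Phi Q) ≤ zpowers (cs _ c) ⊔ zpowers (cs _ s) := by
    rw [← quo_zpowers (hN hc'), ← quo_zpowers (hN hs'),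
      ← quo_sup (zpowers_le.2 (hN hc')) (zpowers_le.2 (hN hs'))]
    exact quo_mono _ h4
  have h5 := elem_card_two_gen he (cs_mem_quo hc' (hN hc')) (cs_mem_quo hs' (hN hs')) h6
  have h9 := cent_of_cop6 he h5 (quo_norm (Phi Q) (zpowers_le.2 hgn))
    (Nat.Coprime.coprime_dvd_left ((card_quo_dvd _ _).trans (card_zpowers' g).dvd) h8)
  rw [quo_cents (norm_Phi (zpowers_le.2 hgn)) hN, commC] at h9
  exact zpowers_le.1 (coprime_cent_Phi (hQ2.coprime hg2.isPi) h9)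

theorem AC.le_of_three (h : AC D M) (hD : Pf D) (hn : D ≤ N[M]) (h3 : ¬ 3 ∣ M.relIndex D) :
    D ≤ M := by
  refine hD.le_of_sol_quo hn (sol_of_pi2 ((hD.quo hn).pi_of_frob Nat.prime_two ?_))
  intro Q hQ hQ2 g hg hgn hg2
  obtain ⟨S, hS, hS2, rfl⟩ := exists_lift Nat.prime_two _ hn hQ hQ2
  obtain ⟨c, hc, h1⟩ := h S hS hS2
  have hSn := hS.trans hn
  obtain ⟨s, hs, h4⟩ : ∃ s ∈ S, quo S M ≤ zpowers (cs M c) ⊔ zpowers (cs M s) := by
    have h5 : ∀ t ∈ S, t ∈ zpowers c ⊔ M → cs M t ∈ zpowers (cs M c) := fun t ht h6 => by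
      rw [← quo_zpowers (hSn hc), ← quo_sup_right (zpowers_le.2 (hSn hc))]
      exact cs_mem_quo h6 (hSn ht)
    by_cases h2 : S ≤ zpowers c ⊔ M
    · refine ⟨1, one_mem _, fun z hz => ?_⟩
      obtain ⟨t, ht, -, rfl⟩ := mem_quo.1 hz
      exact mem_sup_left (h5 t ht (h2 ht))
    obtain ⟨s, hs, h3⟩ := SetLike.not_le_iff_exists.1 h2
    refine ⟨s, hs, fun z hz => ?_⟩
    obtain ⟨t, ht, -, rfl⟩ := mem_quo.1 hz
    rcases h1 s hs h3 t ht with h6 | h6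
    · exact mem_sup_left (h5 t ht h6)
    · have := mul_mem (mem_sup_right (mem_zpowers (cs M s)))
        (mem_sup_left (h5 _ (mul_mem (inv_mem hs) ht) h6))
      rwa [show cs M (s⁻¹ * t) = (cs M s)⁻¹ * cs M t by
        rw [cs, ap_mul _ (inv_mem (hSn hs)) (hSn ht), ap_inv _ (hSn hs)],
        mul_inv_cancel_left] at this
  have h8 : (orderOf g).Coprime 6 := by
    refine Nat.Coprime.symm (Nat.Coprime.mul_left (m := 2) (n := 3)
      ((piNat_compl_iff_coprime Nat.prime_two).1 hg2) ?_)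
    refine (Nat.Prime.coprime_iff_not_dvd Nat.prime_three).2 fun e => h3 ?_
    rw [← card_quo hn]
    exact e.trans (orderOf_dvd_card' hg)
  exact cent_of_two_gen hQ2 (cs_mem_quo hc (hSn hc)) (cs_mem_quo hs (hSn hs)) h4 hgn hg2 h8

end H16.QT
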