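import Mathlib
import Cfsg.Agent.H16.QT2

/-!
Quasithin preliminaries, part 3: `𝒞`-components.
-/

set_option autoImplicit false

namespace H16.QT

open Cfsg H24 Subgroup
open H25 hiding abl_iff cyc_zpowers cyc_bot exists_prime_dvd_card cyc_cj
open H26
open scoped commutatorElement

universe u v

variable {G : Type u} [Group G] [Finite G] {G' : Type v} [Group G'] [Finite G']
variable {A B C D E H J K L L₁ L₂ M N P Q R S T U V W X Y Z : Subgroup G} {p q r : ℕ}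

/-- `L` is a `𝒞`-component of `H` -/
structure CC (H L : Subgroup G) : Prop where
  ne : L ≠ ⊥
  pf : Pf L
  sbn : Sbn L H
  min : ∀ K, K ≤ L → K ≠ ⊥ → Pf K → Sbn K H → K = L

omit [Finite G] in
theorem CC.le (h : CC H L) : L ≤ H := h.sbn.le

omit [Finite G] in
theorem CC.not_sol (h : CC H L) : ¬ Sol L := fun hs => h.ne (h.pf.eq_bot hs)

theorem CC.sol_of_ne (h : CC H L) (hM : Sbn M L) (hne : M ≠ L) : Sol M := by
  by_contra hs
  have h1 := h.min (pcr M) ((pcr_le M).trans hM.le) (mt sol_iff_pcr.2 hs) (pcr_pf M)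
    (Sbn.step (pcr_nml M) (hM.trans h.sbn))
  exact hne (le_antisymm hM.le (h1.ge.trans (pcr_le M)))

theorem CC.le_or_sol (h : CC H L) (hN : L ≤ N[N]) : L ≤ N ∨ Sol (L ⊓ N) := by
  by_cases h1 : L ⊓ N = L
  · exact Or.inl (inf_eq_left.1 h1)
  · exact Or.inr (h.sol_of_ne (nml_inf_of_norm hN).sbn h1)

theorem pcr_sup_le (h : Sbn K H) (hR : R ⊴ H) (hs : Sol R) : pcr (K ⊔ R) ≤ K := by
  refine (h.of_le le_sup_left (sup_le h.le hR.le)).ind (P := fun A => K ≤ A → pcr (K ⊔ R) ≤ A)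
    (fun _ => pcr_le _) (fun A B hAB hB ih hA => ?_) le_rfl
  have h1 := ih (hA.trans hAB.le)
  refine (pcr_pf _).le_of_sol (X := R ⊓ B) (h1.trans hAB.norm) (h1.trans ?_)
    (inf_le_right.trans hAB.norm) (hs.of_le inf_le_left)
  have := group_modl' (h.le.trans hR.norm) (hA.trans hAB.le)
  rw [inf_eq_right.2 hB.le] at this
  exact this.ge.trans (by rw [sup_comm]; exact sup_le_sup_left hA _)

theorem CC.pcr_sup (h : CC H L) (hR : R ⊴ H) (hs : Sol R) : pcr (L ⊔ R) = L :=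
  le_antisymm (pcr_sup_le h.sbn hR hs) (h.pf.le_pcr le_sup_left)

theorem CC.norm_of_sup (h : CC H L) (hR : R ⊴ H) (hs : Sol R) (hX : X ≤ N[L ⊔ R]) : X ≤ N[L] :=
  h.pcr_sup hR hs ▸ norm_pcr hX

theorem CC.sol_norm (h : CC H L) (hR : R ⊴ H) (hs : Sol R) : R ≤ N[L] :=
  h.norm_of_sup hR hs (norm_of_le le_sup_right)

omit [Finite G] in
theorem CC.eq_of_le (h₁ : CC H L₁) (h₂ : CC H L₂) (h : L₁ ≤ L₂) : L₁ = L₂ :=
  h₂.min _ h h₁.ne h₁.pf h₁.sbn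

theorem CC.eq_of_le_sup (h₁ : CC H L₁) (h₂ : CC H L₂) (hR : R ⊴ H) (hs : Sol R)
    (h : L₁ ≤ L₂ ⊔ R) : L₁ = L₂ :=
  h₁.eq_of_le h₂ (h₂.pcr_sup hR hs ▸ h₁.pf.le_pcr h)

omit [Finite G] in
theorem CC.cj (h : CC H L) {g : G} (hg : g ∈ N[H]) : CC H (cj g L) := by
  refine ⟨mt cj_eq_bot.1 h.ne, h.pf.cj g, by simpa [cj_of_mem_N hg] using h.sbn.cj g, ?_⟩
  intro K hK h1 h2 h3
  rw [← h.min (H24.cj g⁻¹ K) (le_cj_iff.1 hK) (mt cj_eq_bot.1 h1) (h2.cj _)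
    (by simpa [cj_of_mem_N (inv_mem hg)] using h3.cj g⁻¹), cj_cj_inv]

omit [Finite G] in
theorem CC.mono (h : CC H L) (h1 : L ≤ J) (h2 : J ≤ H) : CC J L :=
  ⟨h.ne, h.pf, h.sbn.of_le h1 h2, fun K hK h3 h4 h5 =>
    h.min K hK h3 h4 ((h5.of_le hK h1).trans h.sbn)⟩

theorem exists_CC (hW : Sbn W H) (hp : Pf W) (h1 : W ≠ ⊥) : ∃ L ≤ W, CC H L := by
  obtain ⟨L, hL, h2, hm⟩ := exists_min (P := fun K => K ≠ ⊥ ∧ Pf K ∧ Sbn K H) ⟨h1, hp, hW⟩
  exact ⟨L, hL, h2.1, h2.2.1, h2.2.2, fun K hK a b c => hm K ⟨a, b, c⟩ hK⟩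

theorem CC.quo (h : CC H L) (hN : N ⊴ H) (hs : Sol N) : CC (quo H N) (quo L N) := by
  have hL := h.le.trans hN.norm
  refine ⟨fun e => h.not_sol (hs.of_le ((quo_eq_bot hL).1 e)), h.pf.quo hL, h.sbn.quo N, ?_⟩
  intro K hK h1 h2 h3
  have h4 : Sbn (coq N K) H := hN.coq_quo ▸ h3.coq
  by_cases h5 : coq N K ⊓ L = L
  · exact le_antisymm hK ((quo_le_iff hL).2 (inf_eq_right.1 h5))
  · have h6 := (h.sol_of_ne (h4.inf_of_le h.le) h5).quo N
    rw [inf_comm, quo_inf_coq, inf_eq_right.2 hK] at h6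
    exact absurd (h2.eq_bot h6) h1

theorem CC.quo_ne (h₁ : CC H L₁) (h₂ : CC H L₂) (hN : N ⊴ H) (hs : Sol N) (hne : L₁ ≠ L₂) :
    H24.quo L₁ N ≠ H24.quo L₂ N := fun e =>
  hne (h₁.eq_of_le_sup h₂ hN hs
    ((quo_le_quo_iff (h₁.le.trans hN.norm) (h₂.le.trans hN.norm)).1 e.le))

theorem CC.norm_of_quo (h : CC H L) (hN : N ⊴ H) (hs : Sol N) (hX : X ≤ N[N])
    (h1 : H24.quo X N ≤ N[H24.quo L N]) : X ≤ N[L] :=
  h.norm_of_sup hN hs (coq_quo (h.le.trans hN.norm) ▸ norm_coq hX h1)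

/-- the preimage of a `𝒞`-component -/
theorem CC.coq (hN : N ⊴ H) (hs : Sol N) {L' : Subgroup (QN N)} (h : CC (H24.quo H N) L') :
    CC H (pcr (coq N L')) ∧ H24.quo (pcr (coq N L')) N = L' := by
  have h1 : H24.quo (pcr (H24.coq N L')) N = L' := by
    unfold H24.quo; rw [img_pcr _ (coq_le_N _)]; exact (congrArg pcr (quo_coq L')).trans h.pf.pcr_eq
  have h2 : Sbn (pcr (H24.coq N L')) H := Sbn.step (pcr_nml _) (hN.coq_quo ▸ h.sbn.coq)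
  obtain ⟨L, hL, h3⟩ := exists_CC h2 (pcr_pf _) (fun e => h.ne (by rw [← h1, e]; simp))
  have h4 := (h3.quo hN hs).eq_of_le h (h1 ▸ quo_mono N hL)
  rw [← h4, coq_quo (h3.le.trans hN.norm), h3.pcr_sup hN hs]
  exact ⟨h3, rfl⟩

theorem CC.qs (h : CC H L) (hc : L ≤ C[rad H]) : IsQuasisimple L := by
  refine H23.isQuasisimple_subgroup_iff.2 ⟨h.pf, h.ne, fun N hN hn => ?_⟩
  by_cases h1 : N = L
  · exact Or.inl h1
  · have h2 : Sbn N L := Nml.sbn ⟨hN, hn⟩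
    exact Or.inr (comm_eq_bot'.2 (cents_of_le hc (Sbn.le_rad (h2.trans h.sbn) (h.sol_of_ne h2 h1))))

omit [Finite G] in
theorem comp_le_or_cent (hL : IsQuasisimple L) (h : Sbn L H) (hK : Sbn K H) :
    L ≤ K ∨ L ≤ C[K] := by
  have h1 : IsComponent (L.subgroupOf H) :=
    ⟨h.2, (H23.isQuasisimple_subgroupOf_iff h.le).2 hL⟩
  refine (H23.IsComponent.le_or_comm h1 hK.2).imp (fun h2 => ?_) fun h2 => ?_
  · rw [← map_subgroupOf' h.le, ← map_subgroupOf' hK.le]; exact map_mono h2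
  · rw [← comm_eq_bot, ← map_subgroupOf' h.le, ← map_subgroupOf' hK.le, ← map_commutator, h2,
      Subgroup.map_bot]

theorem CC.le_or_comm (h : CC H L) (hK : Sbn K H) : L ≤ K ∨ ⁅L, K⁆ ≤ rad H := by
  have hR := rad_nml H
  have h1 := h.quo hR (rad_sol H)
  refine (comp_le_or_cent (h1.qs (by rw [rad_quo_rad, C_bot]; exact le_top)) h1.sbn
    (hK.quo _)).imp (fun h2 => ?_) fun h2 => ?_
  · exact (h.pf.le_pcr ((quo_le_quo_iff (h.le.trans hR.norm) (hK.le.trans hR.norm)).1 h2)).trans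
      (pcr_sup_le hK hR (rad_sol H))
  · exact (quo_cents (h.le.trans hR.norm) (hK.le.trans hR.norm)).1 h2

theorem CC.comm_le_rad (h₁ : CC H L₁) (h₂ : CC H L₂) (hne : L₁ ≠ L₂) : ⁅L₁, L₂⁆ ≤ rad H :=
  (h₁.le_or_comm h₂.sbn).resolve_left fun h => hne (h₁.eq_of_le h₂ h)

theorem CC.norm_of_comm (h : CC H L) (hX : X ≤ H) (hc : ⁅X, L⁆ ≤ rad H) : X ≤ N[L] :=
  h.norm_of_quo (rad_nml H) (rad_sol H) (hX.trans (rad_nml H).norm) (norm_of_cent
    ((quo_cents (hX.trans (rad_nml H).norm) (h.le.trans (rad_nml H).norm)).2 hc))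

theorem CC.norm (h₁ : CC H L₁) (h₂ : CC H L₂) : L₁ ≤ N[L₂] := by
  by_cases h : L₁ = L₂
  · exact h ▸ norm_self _
  · exact h₂.norm_of_comm h₁.le (h₁.comm_le_rad h₂ h)

/-! ### strongly quasithin groups -/

/-- strongly quasithin -/
def SQ (H : Subgroup G) : Prop := ∀ p : ℕ, p.Prime → p ≠ 2 → prank p H ≤ 2

theorem SQ.mono (h : SQ H) (hK : K ≤ H) : SQ K := fun p hp h2 => (prank_mono hp hK).trans (h p hp h2)

theorem SQ.quo (h : SQ H) (hN : H ≤ N[N]) (h2 : IsPi {2} N) : SQ (quo H N) := fun p hp hp2 => by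
  rw [prank_quo_of_p' hp hN (h2.compl_of_ne hp2.symm)]; exact h p hp hp2

theorem SQ.mem (h : SQ H) (hp : p.Prime) (h2 : p ≠ 2) (hA : PnElem p 2 H A) {x : G} (hx : x ∈ H)
    (hc : x ∈ C[A]) (hxp : x ^ p = 1) : x ∈ A :=
  (hA.pmaxElem_of_prank hp (h p hp h2)).mem_of_cent hx hc hxp

theorem pnElem_two (hp : p.Prime) {x y : G} (hx : x ∈ H) (hy : y ∈ H) (hxp : x ^ p = 1)
    (hyp : y ^ p = 1) (hc : y * x = x * y) (h1 : x ≠ 1) (h2 : y ∉ zpowers x) :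
    PnElem p 2 H (zpowers x ⊔ zpowers y) := by
  haveI := Fact.mk hp
  refine (pnElem_zpowers hx (orderOf_eq_prime hxp h1)).sup_one (pnElem_zpowers hy
    (orderOf_eq_prime hyp (by rintro rfl; exact h2 (one_mem _)))) hp ?_ (mt zpowers_le.1 h2)
  rw [C_zpowers, zpowers_le]; exact mem_C1.2 hc

theorem SQ.exists_rk2 (h : SQ H) (hr : r.Prime) (h2 : r ≠ 2) (hR : IsPi {r} R) (hRH : R ≤ H)
    (hA : A ≤ N[R]) : ∃ M, Rk2 r A M ∧ ∀ x ∈ M, PiElt {r}ᶜ x → x ∈ C[R] :=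
  QT.exists_rk2 hr h2 hR ((prank_mono hr hRH).trans (h r hr h2)) hA

section Bar

variable (hs : SQ H) (hO : O[{2}, H] = ⊥)
include hs hO

theorem CC.cent_or (h₁ : CC H L₁) (h₂ : CC H L₂) (hne : L₁ ≠ L₂) (hr : r.Prime) :
    L₁ ≤ C[O[{r}, H]] ∨ L₂ ≤ C[O[{r}, H]] := by
  by_cases h2 : r = 2
  · subst h2; rw [hO, C_bot]; exact Or.inl le_top
  obtain ⟨M, hM, hc⟩ := hs.exists_rk2 hr h2 (pcore_pi _ H) (pcore_le _ H) (pcore_nml _ H).norm
  suffices h : L₁ ≤ M ∨ L₂ ≤ M from h.imp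
    (fun h => cent_of_ker hr hc h₁.pf h (h₁.le.trans (pcore_nml _ H).norm))
    (fun h => cent_of_ker hr hc h₂.pf h (h₂.le.trans (pcore_nml _ H).norm))
  by_contra h3
  push Not at h3
  have hp := h₁.pf.sup h₂.pf
  have hle := sup_le h₁.le h₂.le
  have h4 := (hM.ac.mono (hp.le_der1 hle) le_rfl).le_sup hp (hle.trans hM.nml.norm) h₂.pf
    (nml_sup_right (h₁.norm h₂)) h3.2
  have n1 := h₁.le.trans hM.nml.norm
  have n2 := h₂.le.trans hM.nml.norm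
  refine h3.1 (h₁.pf.le_of_sol_quo n1 (((rad_sol H).quo M).of_le ?_))
  rw [← h₁.pf.quo n1]
  refine (comm_mono_right ((quo_le_quo_iff n1 n2).2 (le_sup_left.trans h4))).trans ?_
  rw [← quo_comm n1 n2]
  exact quo_mono M (h₁.comm_le_rad h₂ hne)

theorem CC.cent (h₁ : CC H L₁) (h₂ : CC H L₂) (hne : L₁ ≠ L₂) : L₁ ≤ C[L₂] := by
  have w1 : ⁅L₁, L₂⁆ ≤ L₁ := comm_le_left (h₂.norm h₁)
  have w2 : ⁅L₁, L₂⁆ ≤ L₂ := comm_le_right (h₁.norm h₂)
  have h1 : ⁅L₁, L₂⁆ ≤ F[H] := Fitting_rad H ▸ le_Fitting_of_cent (rad_sol H)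
    (h₁.comm_le_rad h₂ hne) (by
      rw [Fitting_rad]
      exact cent_Fitting_of_pcore fun r hr =>
        (h₁.cent_or hs hO h₂ hne hr).elim w1.trans w2.trans)
  have hn := (Fitting_nil H).of_le h1
  have key : ∀ {A B : Subgroup G}, Pf A → A ≤ N[⁅A, B⁆] → B ≤ N[⁅A, B⁆] → Nil ⁅A, B⁆ →
      ⁅A, B⁆ ≤ F[H] → ∀ r, A ≤ C[O[{r}, H]] → IsPi {r}ᶜ ⁅A, B⁆ := by
    intro A B hA n1 n2 hn h1 r hc
    refine (pcore_pi {r}ᶜ ⁅A, B⁆).of_le ?_
    rw [commC A B] at *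
    refine hA.comm_le_of_comm_comm (norm_pcore _ n2) (norm_pcore _ n1) ?_
    rw [(hn.pcoreC' {r}).isProd.comm_left_of_cent (cents_symm (cents_of_le hc
      (le_pcore_of_le_Fitting (pcore_pi _ _) ((pcore_le _ _).trans h1))))]
    exact comm_le_left (norm_pcore _ n1)
  rw [← comm_eq_bot]
  by_contra h2
  obtain ⟨r, hr, hd⟩ := exists_prime_dvd_card h2
  rcases h₁.cent_or hs hO h₂ hne hr with h3 | h3
  · exact (isPi_compl_iff hr).1 (key h₁.pf (norm_comm_left _ _) (norm_comm_right _ _) hn h1 r h3) hd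
  · rw [commC] at hn h1 hd
    exact (isPi_compl_iff hr).1 (key h₂.pf (norm_comm_left _ _) (norm_comm_right _ _) hn h1 r h3) hd

theorem CC.two_conj (h : CC H L) {g k : G} (hg : g ∈ H) (hk : k ∈ H) (h1 : g ∉ N[L])
    (h2 : k ∉ N[L]) : g⁻¹ * k ∈ N[L] := by
  by_contra h3
  rw [← cj_eq_cj_iff] at h3
  rw [mem_N_iff_cj] at h1 h2
  obtain ⟨p, hp, hp2, hd⟩ := h.pf.exists_odd_prime h.ne
  have hg' := h.cj (norm_self H hg)
  have hk' := h.cj (norm_self H hk)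
  obtain ⟨x, hx, hxp, hxc⟩ := h.pf.exists_noncentral hp hp2 hd
  obtain ⟨y, hy, hyp, hyc⟩ := hg'.pf.exists_noncentral hp hp2 (by rwa [card_cj])
  obtain ⟨z, hz, hzp, hzc⟩ := hk'.pf.exists_noncentral hp hp2 (by rwa [card_cj])
  have c1 := hg'.cent hs hO h h1
  have c2 := hk'.cent hs hO h h2
  have c3 := hk'.cent hs hO hg' h3
  have hA := pnElem_two hp (h.le hx) (hg'.le hy) hxp hyp (comm_of_cent c1 hy hx)
    (by rintro rfl; exact hxc (one_mem _))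
    (fun e => hyc (zpowers_le.2 (cents_symm c1 hx) e))
  have h4 : zpowers x ⊔ zpowers y ≤ C[H24.cj k L] :=
    sup_le (zpowers_le.2 (cents_symm c2 hx)) (zpowers_le.2 (cents_symm c3 hy))
  exact hzc (h4 (hs.mem hp hp2 hA (hk'.le hz) (cents_symm h4 hz) hzp))

theorem CC.prank_le_one (h : CC H L) (hn : ¬ H ≤ N[L]) (hp : p.Prime) (hp2 : p ≠ 2) :
    prank p L ≤ 1 := by
  by_contra h1
  obtain ⟨A, hA⟩ := (prank_geP hp).1 (show 2 ≤ prank p L by omega)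
  obtain ⟨g, hg, h2⟩ := SetLike.not_le_iff_exists.1 hn
  rw [mem_N_iff_cj] at h2
  have hg' := h.cj (norm_self H hg)
  obtain ⟨y, hy, hyp, hyc⟩ := hg'.pf.exists_noncentral hp hp2
    (by rw [card_cj]; exact hA.prime_dvd_card two_pos)
  have c1 := hg'.cent hs hO h h2
  exact hyc (cents_symm c1 (hA.le (hs.mem hp hp2 (hA.mono h.le) (hg'.le hy)
    (cents_of_le c1 hA.le hy) hyp)))

theorem CC.simple (h : CC H L) (hn : ¬ H ≤ N[L]) : IsQuasisimple L ∧ Z[L] = ⊥ := by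
  have hcyc : ∀ r, r.Prime → Cyc O[{r}, L] := fun r hr => by
    by_cases h2 : r = 2
    · subst h2
      rw [eq_bot_of_le hO (h.sbn.pcore_le _)]; exact cyc_bot
    · exact odd_pgroup_cyc hr (pcore_pi _ _) (odd_of_pgroup hr h2 (pcore_pi _ _))
        ((prank_mono hr (pcore_le _ _)).trans (h.prank_le_one hs hO hn hr h2))
  refine ⟨(h.mono le_rfl h.le).qs (h.pf.cent_of_Fitting (rad_nml L).norm (rad_sol L) ?_), ?_⟩
  · rw [Fitting_rad]
    exact cent_Fitting_of_pcore fun r hr =>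
      h.pf.ge.trans (cyc_der1_norm_le_cent (hcyc r hr) (pcore_nml _ _).norm)
  · by_contra h1
    obtain ⟨r, hr, hd⟩ := exists_prime_dvd_card h1
    obtain ⟨z, hz, hzo⟩ := exists_orderOf_eq hr hd
    have hz1 := ne_one_of_orderOf_prime (hzo ▸ hr)
    have h2 : r ≠ 2 := by
      rintro rfl
      exact hz1 (eq_bot_of_le hO (h.sbn.pcore_le _) ▸ pcore_max (piElt_of_orderOf_prime hr hzo).isPi
        (nml_of_le_center (zpowers_le.2 hz)) (mem_zpowers z) :)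
    obtain ⟨x, hx, hxp, hxc⟩ := h.pf.exists_noncentral hr h2 (hd.trans (card_dvd inf_le_left))
    have := (pnElem_two hr hz.1 hx (hzo ▸ pow_orderOf_eq_one z) hxp (mem_C.1 hz.2 x hx) hz1
      (fun e => hxc (zpowers_le.2 hz.2 e))).le_prank hr
    have := h.prank_le_one hs hO hn hr h2
    omega

end Bar

end H16.QT
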