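import Mathlib
import Cfsg.Agent.H16.QT3
import Cfsg.Agent.S0227
import Cfsg.Agent.S1163

/-!
Quasithin preliminaries, part 4: the facts about known simple groups in ambient form.
-/

set_option autoImplicit false

namespace H16.QT

open Cfsg H24 Subgroup
open H25 hiding abl_iff cyc_zpowers cyc_bot exists_prime_dvd_card cyc_cj
open H26
open scoped commutatorElement

universe u v

variable {G : Type u} [Group G] [Finite G] {G' : Type u} [Group G'] [Finite G']
variable {A B C D E H J K L M N P Q R S T U V W X Y Z : Subgroup G} {p q r : ℕ}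

/-- every non-abelian simple section of `H` has the properties `KA` -/
def KG (H : Subgroup G) : Prop :=
  ∀ A ≤ H, ∀ (K : Type u) [Group K] (f : A →* K), Function.Surjective f → IsSimpleGroup K →
    ¬ IsMulCommutative K → KA K

/-- restriction of a partial morphism onto the image -/
noncomputable def toImg (f : D →* G') (hA : A ≤ D) : A →* img f A :=
  (f.subgroupMap (A.subgroupOf D)).comp (subgroupOfEquivOfLe hA).symm.toMonoidHom

omit [Finite G] [Finite G'] in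
theorem toImg_surj (f : D →* G') (hA : A ≤ D) : Function.Surjective (toImg f hA) :=
  (f.subgroupMap_surjective _).comp (subgroupOfEquivOfLe hA).symm.surjective

omit [Finite G] in
theorem KG.mono (h : KG H) (hK : K ≤ H) : KG K := fun A hA => h A (hA.trans hK)

omit [Finite G] [Finite G'] in
theorem KG.img (h : KG H) (f : D →* G') : KG (img f H) := by
  intro A hA K _ g hg
  have e : H24.img f (H ⊓ pre f A) = A := by rw [img_inf_pre, inf_eq_right.2 hA]
  exact h (H ⊓ pre f A) inf_le_left K ((g.comp (MulEquiv.subgroupCongr e).toMonoidHom).comp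
    (toImg f (inf_le_right.trans (pre_le f A))))
    ((hg.comp (MulEquiv.subgroupCongr e).surjective).comp (toImg_surj _ _))

omit [Finite G] in
theorem KG.quo (h : KG H) (N : Subgroup G) : KG (quo H N) := h.img _

/-- non-abelian simple subgroup -/
structure Sp (K : Subgroup G) : Prop where
  simple : IsSimpleGroup K
  nab : ¬ Abl K

omit [Finite G] in
theorem KG.ka (h : KG H) (hA : A ≤ H) (hN : A ≤ N[N]) (hs : Sp (H24.quo A N)) :
    KA (H24.quo A N) :=
  h A hA _ (toImg _ hN) (toImg_surj _ _) hs.simple hs.nab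

omit [Finite G] in
theorem Sp.eq_or (h : Sp K) (hN : N ⊴ K) : N = ⊥ ∨ N = K := by
  haveI := h.simple
  refine (hN.normal.eq_bot_or_eq_top).imp (fun e => ?_) fun e => ?_
  · rw [← map_subgroupOf' hN.le, e, Subgroup.map_bot]
  · rw [← map_subgroupOf' hN.le, e, map_subtype_top]

omit [Finite G] in
theorem Sp.pf (h : Sp K) : Pf K := (h.eq_or (der1_nml K)).resolve_left (mt der1_eq_bot.1 h.nab)

omit [Finite G] in
theorem Sp.ne (h : Sp K) : K ≠ ⊥ := ne_bot_of_not_abl h.nab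

omit [Finite G] in
theorem Sp.not_sol (h : Sp K) : ¬ Sol K := fun hs => h.ne (h.pf.eq_bot hs)

theorem Sp.two_dvd (h : Sp K) : 2 ∣ ♯K := by
  by_contra h2; exact h.not_sol (sol_of_pi2 ((isPi_compl_iff Nat.prime_two).2 h2))

omit [Finite G] in
theorem sp_of_minNml (h : MinNml K K) (hp : Pf K) : Sp K := by
  haveI := (nontrivial_iff_ne_bot K).2 h.ne_bot
  refine ⟨⟨fun N hN => ?_⟩, fun ha => h.ne_bot (hp.eq_bot ha.sol)⟩
  refine (h.eq_or (map_subtype_le N) (nml_map_subtype N).norm).imp (fun e => ?_) fun e => ?_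
  · exact (map_eq_bot_iff_of_injective _ K.subtype_injective).1 e
  · exact map_injective K.subtype_injective (e.trans (map_subtype_top K).symm)

theorem Pf.exists_sp (hX : Pf X) (hN : X ≤ N[N]) (h : ¬ X ≤ N) :
    ∃ W, W ⊴ X ∧ X ⊓ N ≤ W ∧ Sp (H24.quo X W) := by
  obtain ⟨W, hW, h1⟩ := exists_chief_below (nml_inf_of_norm hN) (Nml.refl X)
    (lt_of_le_of_ne inf_le_left (mt inf_eq_left.1 h))
  exact ⟨W, hW.nmlV, h1, sp_of_minNml hW.minNml (hX.quo hW.nmlV.norm)⟩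

omit [Finite G] in
theorem center_subgroupOf (L : Subgroup G) : (Z[L]).subgroupOf L = center L := by
  rw [← H23.map_subtype_center, subgroupOf_map_subtype']

omit [Finite G] in
theorem sp_quo (hL : IsQuasisimple L) : Sp (quo L Z[L]) := by
  haveI := (center_nml L).normal
  haveI := hL.2
  have e := (QuotientGroup.quotientMulEquivOfEq (center_subgroupOf L).symm).trans
    (quoEquivQuotient (center_nml L).norm)
  refine ⟨e.symm.isSimpleGroup, fun ha => H23.IsQuasisimple.not_isSolvable hL ?_⟩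
  exact sol_of_quo (center_nml L).norm (abl_center L).sol ha.sol

omit [Finite G] in
theorem cent_of_quo (hL : Pf L) (hX : X ≤ N[L]) (h : quo X Z[L] ≤ C[quo L Z[L]]) : X ≤ C[L] :=
  hL.cent_of_comm_comm (comm_eq_bot.2
    (((quo_cents (norm_Z hX) (center_nml L).norm).1 h).trans inf_le_right))

omit [Finite G] in
theorem le_sup_C_of_quo (hL : Pf L) (hX : X ≤ N[L])
    (h : quo X Z[L] ≤ quo L Z[L] ⊔ C[quo L Z[L]]) : X ≤ L ⊔ C[L] := by
  intro x hx
  obtain ⟨a, ha, c, hc, e⟩ := (mem_sup_of_norm (C_le_N _)).1 (h (cs_mem_quo hx (norm_Z hX hx)))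
  obtain ⟨l, hl, hl', rfl⟩ := mem_quo.1 ha
  have h1 : l⁻¹ * x ∈ N[L] := mul_mem (inv_mem (norm_self L hl)) (hX hx)
  have h2 : l⁻¹ * x ∈ C[L] := by
    refine zpowers_le.1 (cent_of_quo hL (zpowers_le.2 h1) ?_)
    rw [quo_zpowers (norm_Z le_rfl h1), zpowers_le, cs, ap_mul _ (inv_mem hl') (norm_Z hX hx),
      ap_inv _ hl']
    change (cs _ l)⁻¹ * cs _ x ∈ _
    rwa [e, inv_mul_cancel_left]
  simpa using mul_mem (mem_sup_left hl) (mem_sup_right h2)

/-! ### translation -/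

omit [Finite G] in
theorem ker_conjAct (hX : X ≤ N[K]) : pre (H12.conjAct' hX) ⊥ ≤ C[K] := by
  rintro _ ⟨x, hx, rfl⟩
  have : x ∈ (H12.conjAct' hX).ker := hx
  rwa [H12.ker_conjAct'] at this

omit [Finite G] in
theorem SCH.le (h : SCH K) (hX : Pf X) (hn : X ≤ N[K]) : X ≤ K ⊔ C[K] := by
  intro x hx
  obtain ⟨k, hk⟩ := h _ (hX.img (H12.conjAct' hn) le_rfl) (ap_mem_img _ hx hx)
  rw [ap_of_mem _ hx] at hk
  have h2 : (k : G)⁻¹ * x ∈ C[K] := mem_C.2 fun y hy => by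
    have := congrArg Subtype.val (DFunLike.congr_fun hk ⟨y, hy⟩)
    rw [H12.coe_conjAct'] at this
    simp only [MulAut.conj_apply, coe_mul, InvMemClass.coe_inv] at this
    calc y * ((k : G)⁻¹ * x) = (k : G)⁻¹ * (k * y * (k : G)⁻¹) * x := by group
      _ = _ := by rw [this]; group
  simpa using mul_mem (mem_sup_left k.2) (mem_sup_right h2)

theorem cyc_of_img_cyc {G'' : Type*} [Group G''] (hp : p.Prime) (hP : IsPi {p} P) (f : D →* G'')
    (hD : P ≤ D) (h : P ⊓ pre f ⊥ ≤ ⁅P, P⁆) (hc : Cyc (img f P)) : Cyc P := by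
  have h3 : P ≤ N[pre f ⊥] := hD.trans (ker_nml f).norm
  refine cyc_of_le_der1 hp hP h3 h ?_
  obtain ⟨c', hc', e⟩ := hc.exists_gen
  obtain ⟨c, hc, rfl⟩ := (mem_img_of_le hD).1 hc'
  refine (cyc_zpowers (cs _ c)).of_le ?_
  rw [← quo_zpowers (h3 hc), quo_le_quo_iff h3 (zpowers_le.2 (h3 hc)),
    ← img_le_img_iff hD (zpowers_le.2 (hD hc)), img_zpowers f (hD hc), e]

theorem CYCP.cyc (h : CYCP K) (hp : p.Prime) (hd : ¬ p ∣ ♯K) (hP : IsPi {p} P) (hn : P ≤ N[K]) :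
    Cyc (img (H12.conjAct' hn) P) :=
  h p _ hp hd ((hP.img _).isPGroup hp)

omit [Finite G] in
theorem DER.mem (h : DER K) (hn : A ≤ N[K]) {x : G} (hx : x ∈ ⁅A, A⁆)
    (hc : (orderOf x).Coprime ♯K) : x ∈ C[K] := by
  refine ker_conjAct hn (mem_pre_bot.2 ⟨der1_le A hx, h _ ?_ ?_⟩)
  · have := ap_mem_img (H12.conjAct' hn) hx (der1_le A hx)
    rw [img_comm _ le_rfl le_rfl] at this
    exact commutator_mono le_top le_top this
  · exact Nat.Coprime.coprime_dvd_left (orderOf_ap_dvd _ (der1_le A hx)) hc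

/-- Glauberman -/
theorem Sp.glaub (hK : Sp K) (hS : Syl 2 K S) (hD : Pf D) (hn : D ≤ N[K]) (hc : D ≤ C[S]) :
    D ≤ C[K] := by
  obtain ⟨S0, rfl⟩ := hS.exists_sylow Nat.prime_two
  let C0 : Subgroup (MulAut K) :=
    { carrier := {φ | ∀ s : K, s ∈ S0 → φ s = s}
      mul_mem' := fun {a b} ha hb s hs => by rw [MulAut.mul_apply, hb s hs, ha s hs]
      one_mem' := fun _ _ => rfl
      inv_mem' := fun {a} ha s hs => by
        rw [MulAut.inv_apply, MulEquiv.symm_apply_eq, ha s hs] }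
  have h1 := (Cfsg.Agent.S0227.result (fun N hN ho => by
    haveI := hK.simple
    refine hN.eq_bot_or_eq_top.resolve_right ?_
    rintro rfl
    rw [card_top] at ho
    exact hK.not_sol (sol_of_odd ho)) S0 C0 fun _ => Iff.rfl).2
  refine le_trans ?_ (ker_conjAct hn)
  rw [← img_eq_bot le_rfl]
  refine (hD.img _ le_rfl).eq_bot (Sol.of_le h1 fun φ hφ => ?_)
  obtain ⟨d, hd, rfl⟩ := (mem_img_of_le le_rfl).1 hφ
  intro s hs
  rw [ap_of_mem _ hd]
  exact Subtype.ext (conj_eq_of_mem_C (hc hd) (mem_map_of_mem _ hs))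

theorem NC.two_le (hp : p.Prime) (h : NC p K) : 2 ≤ prank p K := by
  obtain ⟨x, y, hx, hy, hc, h1, h2⟩ := h
  refine (pnElem_two hp x.2 y.2 (congrArg Subtype.val hx) (congrArg Subtype.val hy)
    (congrArg Subtype.val hc.symm.eq) (fun e => h1 (Subtype.ext e)) ?_).le_prank hp
  rintro ⟨k, hk⟩
  exact h2 ⟨k, Subtype.ext hk⟩

theorem nc_of_two_le (hp : p.Prime) (h : 2 ≤ prank p K) : NC p K := by
  obtain ⟨A, hA⟩ := (prank_geP hp).1 h
  obtain ⟨x, hx, h1⟩ := exists_ne_one (hA.ne_bot hp two_pos)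
  have h2 : ¬ A ≤ zpowers x := fun e => hA.not_cyc hp le_rfl ((cyc_zpowers x).of_le e)
  obtain ⟨y, hy, h3⟩ := SetLike.not_le_iff_exists.1 h2
  refine ⟨⟨x, hA.le hx⟩, ⟨y, hA.le hy⟩, Subtype.ext (hA.elem.2 x hx), Subtype.ext (hA.elem.2 y hy),
    Subtype.ext (hA.abl.comm hx hy), fun e => h1 (congrArg Subtype.val e), ?_⟩
  rintro ⟨k, hk⟩
  exact h3 ⟨k, congrArg Subtype.val hk⟩

theorem card_of_isoSuzuki {K : Type*} [Group K] (h : Lie.IsoSuzuki K) :
    ∃ m, 1 ≤ m ∧ Nat.card K = szOrd m := by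
  obtain ⟨F, _, _, m, hm, hF, ⟨e⟩⟩ := h
  refine ⟨m, hm, ?_⟩
  rw [Nat.card_congr e.toEquiv, (Cfsg.Agent.S1163.result hm hF).1, szOrd]
  ring

/-- the torus property in ambient form -/
def Tor (K S : Subgroup G) : Prop :=
  ∃ (H : Subgroup G) (Γ : Set G), H ≤ K ∧ H ≤ N[S] ∧ Abl H ∧ Odd ♯H ∧ closure Γ = S ∧
    ∀ x ∈ Γ, ∃ h ∈ H, Commute h x ∧ ∀ y ∈ S, Commute h y →
      y ∈ sqs S ∨ ∃ k ∈ H, y⁻¹ * (k * x * k⁻¹) ∈ sqs S

theorem TOR.ambient (h : TOR K) (hS : Syl 2 K S) :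
    Tor K S ∧ (∀ a ∈ N[K], (orderOf a).Coprime ♯K → a ∈ C[S] → a ∈ C[K]) ∧
      (NC 3 K ∨ ∀ p : ℕ, p.Prime → p ≠ 2 → prank p (K ⊓ N[S]) ≤ 1) := by
  haveI : Fact (Nat.Prime 2) := ⟨Nat.prime_two⟩
  obtain ⟨S0, rfl⟩ := hS.exists_sylow Nat.prime_two
  obtain ⟨S1, h1, h2⟩ := h
  obtain ⟨g, rfl⟩ := MulAction.exists_smul_eq K S1 S0
  have e : ((g • S1 : Sylow 2 K) : Subgroup K) = (S1 : Subgroup K).map (MulAut.conj g).toMonoidHom :=
    rfl
  obtain ⟨⟨H, Γ, h3, h4, h5, h6, h7⟩, h8⟩ := h1.map (MulAut.conj g)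
  rw [← e] at h3 h6 h7 h8
  refine ⟨⟨H.map K.subtype, K.subtype '' Γ, map_subtype_le _, norm_map h3 _, Abl.map h4 _,
    by rwa [card_map_of_injective K.subtype_injective], by rw [← MonoidHom.map_closure, h6], ?_⟩,
    ?_, h2.imp id fun h9 p hp hp2 => ?_⟩
  · rintro _ ⟨x, hx, rfl⟩
    obtain ⟨a, ha, h9, h10⟩ := h7 x hx
    refine ⟨a, mem_map_of_mem _ ha, h9.map K.subtype, ?_⟩
    rintro _ ⟨y, hy, rfl⟩ hc
    rw [← map_sqs]
    refine (h10 y hy (Subtype.ext hc.eq)).imp (mem_map_of_mem _) ?_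
    rintro ⟨k, hk, h11⟩
    exact ⟨k, mem_map_of_mem _ hk, mem_map_of_mem K.subtype h11⟩
  · intro a ha hc hs
    refine ker_conjAct (zpowers_le.2 ha) (mem_pre_bot.2 ⟨mem_zpowers a, h8 _ ?_ fun s hs' => ?_⟩)
    · exact Nat.Coprime.coprime_dvd_left (orderOf_ap_dvd _ (mem_zpowers a)) hc
    · rw [ap_of_mem _ (mem_zpowers a)]
      exact Subtype.ext (conj_eq_of_mem_C hs (mem_map_of_mem _ hs'))
  · by_contra h10
    refine h9 p hp hp2 (nc_of_two_le hp ?_)
    have e1 := map_inf_N K.subtype_injective ⊤ ((g • S1 : Sylow 2 K) : Subgroup K)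
    rw [map_subtype_top, top_inf_eq] at e1
    rw [← e1, prank_map hp _ K.subtype_injective, e, ← cj_def, ← cj_N, prank_cj hp] at h10
    omega

end H16.QT
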