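import Mathlib
import Cfsg.Agent.H15.Parab
import Cfsg.Agent.H15.Disc
import Cfsg.Agent.H15.StdQuad

/-! Maximal totally singular subspaces, counts of totally singular subspaces, tensor products of
forms, similarity of odd-dimensional quadratic forms. -/

set_option autoImplicit false

namespace H16

open Module H15

section Max

variable {F : Type*} [Field F] {V : Type*} [AddCommGroup V] [Module F V] [FiniteDimensional F V]

theorem perp_eq_of_max {σ : F →+* F} {Φ : Form σ V} (h : Φ.Nondeg) {m : ℕ}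
    (hV : finrank F V = 2 * m) {W : Submodule F V} (hW : Φ.TotSing W) (hm : finrank F W = m) :
    Φ.perp W = W := by
  have := h.finrank_perp W
  exact (Submodule.eq_of_le_of_finrank_eq hW.le_perp (by omega)).symm

omit [FiniteDimensional F V] in
theorem le_or_le_of_forall {X W W' : Submodule F V} (h : ∀ x ∈ X, x ∈ W ∨ x ∈ W') :
    X ≤ W ∨ X ≤ W' := by
  by_contra hc
  obtain ⟨h1, h2⟩ := not_or.1 hc
  obtain ⟨a, ha, ha'⟩ := SetLike.not_le_iff_exists.1 h1
  obtain ⟨b, hb, hb'⟩ := SetLike.not_le_iff_exists.1 h2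
  rcases h _ (X.add_mem ha hb) with k | k
  · exact ha' ((W.add_mem_iff_left ((h b hb).resolve_right hb')).1 k)
  · exact hb' ((W'.add_mem_iff_right ((h a ha).resolve_left ha')).1 k)

variable {Q : QuadraticForm F V} (h : (ofQuad Q).Nondeg) {m : ℕ} (hV : finrank F V = 2 * m)
include h hV

theorem mem_or_mem_of_sing {H W W' : Submodule F V} (hW : (ofQuad Q).TotSing W)
    (hm : finrank F W = m) (hW' : (ofQuad Q).TotSing W') (hm' : finrank F W' = m)
    (hH : finrank F H + 1 = m) (h1 : H ≤ W) (h2 : H ≤ W') (hne : W ≠ W') {v : V}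
    (hv : v ∈ (ofQuad Q).perp H) (hQ : Q v = 0) : v ∈ W ∨ v ∈ W' := by
  have h3 : W ⊔ W' = (ofQuad Q).perp H := by
    apply Submodule.eq_of_le_of_finrank_le
    · exact sup_le (hW.le_perp.trans ((ofQuad Q).perp_anti h1))
        (hW'.le_perp.trans ((ofQuad Q).perp_anti h2))
    · have h4 := h.finrank_perp H
      have : W < W ⊔ W' := left_lt_sup.2 fun hle =>
        hne (Submodule.eq_of_le_of_finrank_eq hle (by omega)).symm
      have := Submodule.finrank_lt_finrank_of_lt this
      omega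
  rw [← h3] at hv
  obtain ⟨w, hw, w', hw', rfl⟩ := Submodule.mem_sup.1 hv
  by_cases hwH : w ∈ H
  · exact Or.inr (W'.add_mem (h2 hwH) hw')
  · left
    refine W.add_mem hw ?_
    have h4 : H ⊔ Submodule.span F {w} = W := by
      apply Submodule.eq_of_le_of_finrank_le (sup_le h1 (by simpa using hw))
      rw [Submodule.finrank_sup_span_singleton hwH]
      omega
    rw [← perp_eq_of_max h hV hW hm, ← h4, Form.perp_sup]
    refine ⟨fun x hx => hW'.1 x (h2 hx) w' hw', (Form.mem_perp_singleton _).2 ?_⟩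
    have h5 := quad_add Q w w'
    rw [hQ, show Q w = 0 from hW.2 w hw, show Q w' = 0 from hW'.2 w' hw'] at h5
    simpa using h5.symm

theorem finrank_inf_adj {U W W' : Submodule F V} (hU : (ofQuad Q).TotSing U)
    (hmU : finrank F U = m) (hW : (ofQuad Q).TotSing W) (hm : finrank F W = m)
    (hW' : (ofQuad Q).TotSing W') (hm' : finrank F W' = m)
    (hH : finrank F (W ⊓ W' : Submodule F V) + 1 = m) :
    finrank F (U ⊓ W : Submodule F V) = finrank F (U ⊓ W' : Submodule F V) + 1 ∨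
      finrank F (U ⊓ W' : Submodule F V) = finrank F (U ⊓ W : Submodule F V) + 1 := by
  have hne : W ≠ W' := by rintro rfl; rw [inf_idem] at hH; omega
  have h1 : finrank F (U ⊓ (ofQuad Q).perp (W ⊓ W') : Submodule F V) =
      finrank F (U ⊓ (W ⊓ W') : Submodule F V) + 1 := by
    have h2 := h.finrank_perp (U ⊔ W ⊓ W')
    rw [Form.perp_sup, perp_eq_of_max h hV hU hmU] at h2
    have h3 := Submodule.finrank_sup_add_finrank_inf_eq U (W ⊓ W')
    omega
  have hp : W ≤ (ofQuad Q).perp (W ⊓ W') := hW.le_perp.trans ((ofQuad Q).perp_anti inf_le_left)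
  have hp' : W' ≤ (ofQuad Q).perp (W ⊓ W') := hW'.le_perp.trans ((ofQuad Q).perp_anti inf_le_right)
  rcases le_or_le_of_forall (X := U ⊓ (ofQuad Q).perp (W ⊓ W')) (W := W) (W' := W') fun x hx =>
    mem_or_mem_of_sing h hV hW hm hW' hm' hH inf_le_left inf_le_right hne hx.2 (hU.2 x hx.1)
    with k | k
  · left
    have e1 : U ⊓ W = U ⊓ (ofQuad Q).perp (W ⊓ W') :=
      le_antisymm (inf_le_inf_left _ hp) (le_inf inf_le_left k)
    have e2 : U ⊓ W' = U ⊓ (W ⊓ W') :=
      le_antisymm (le_inf inf_le_left (le_inf ((inf_le_inf_left _ hp').trans k) inf_le_right))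
        (inf_le_inf_left _ inf_le_right)
    rw [e1, e2, h1]
  · right
    have e1 : U ⊓ W' = U ⊓ (ofQuad Q).perp (W ⊓ W') :=
      le_antisymm (inf_le_inf_left _ hp') (le_inf inf_le_left k)
    have e2 : U ⊓ W = U ⊓ (W ⊓ W') :=
      le_antisymm (le_inf inf_le_left (le_inf inf_le_right ((inf_le_inf_left _ hp).trans k)))
        (inf_le_inf_left _ inf_le_left)
    rw [e1, e2, h1]

theorem exists_adj {W : Submodule F V} (hW : (ofQuad Q).TotSing W) (hm : finrank F W = m) {x : V}
    (hx : x ∉ W) (hQ : Q x = 0) : ∃ W' : Submodule F V, (ofQuad Q).TotSing W' ∧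
      finrank F W' = m ∧ finrank F (W ⊓ W' : Submodule F V) + 1 = m ∧ x ∈ W' ∧
      W ⊓ (ofQuad Q).perp (Submodule.span F {x}) ≤ W' := by
  let H := W ⊓ (ofQuad Q).perp (Submodule.span F {x})
  have h1 : finrank F H + 1 = m := by
    have h2 := (ofQuad Q).finrank_inf_perp_singleton W x
    have : H < W := lt_of_le_of_ne inf_le_left fun e => hx (by
      rw [← perp_eq_of_max h hV hW hm, ← Submodule.span_singleton_le_iff_mem,
        Form.le_perp_comm]
      exact inf_eq_left.1 e)
    have := Submodule.finrank_lt_finrank_of_lt this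
    change _ ≤ finrank F H + 1 at h2
    omega
  have hxH : x ∉ H := fun k => hx k.1
  have h3 : finrank F (H ⊔ Submodule.span F {x} : Submodule F V) = m := by
    rw [Submodule.finrank_sup_span_singleton hxH, h1]
  refine ⟨H ⊔ Submodule.span F {x}, (hW.mono inf_le_left).sup_span ?_ ?_ hQ, h3, ?_,
    Submodule.mem_sup_right (Submodule.mem_span_singleton_self x), le_sup_left⟩
  · rw [← Submodule.span_singleton_le_iff_mem, Form.le_perp_comm]
    exact inf_le_right
  · change pol Q x x = 0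
    rw [pol_self, hQ, mul_zero]
  · have h4 : H ≤ W ⊓ (H ⊔ Submodule.span F {x}) := le_inf inf_le_left le_sup_left
    have h5 : W ⊓ (H ⊔ Submodule.span F {x}) < H ⊔ Submodule.span F {x} :=
      lt_of_le_of_ne inf_le_right fun e => hx ((inf_eq_right.1 e)
        (Submodule.mem_sup_right (Submodule.mem_span_singleton_self x)))
    have := Submodule.finrank_lt_finrank_of_lt h5
    have := Submodule.finrank_mono h4
    omega

theorem even_sum_codim {U X : Submodule F V} (hU : (ofQuad Q).TotSing U)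
    (hmU : finrank F U = m) (hX : (ofQuad Q).TotSing X) (hmX : finrank F X = m) (d : ℕ) :
    ∀ W : Submodule F V, (ofQuad Q).TotSing W → finrank F W = m →
      finrank F (W ⊓ X : Submodule F V) + d = m →
      Even (m + finrank F (U ⊓ W : Submodule F V) + finrank F (W ⊓ X : Submodule F V) +
        finrank F (U ⊓ X : Submodule F V)) := by
  induction d with
  | zero =>
    intro W hW hm hd
    have e1 : W ⊓ X = W := Submodule.eq_of_le_of_finrank_eq inf_le_left (by omega)
    have e2 : W ⊓ X = X := Submodule.eq_of_le_of_finrank_eq inf_le_right (by omega)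
    obtain rfl : W = X := e1.symm.trans e2
    rw [inf_idem, hm]
    exact ⟨m + finrank F (U ⊓ W : Submodule F V), by ring⟩
  | succ d ih =>
    intro W hW hm hd
    have h1 : ¬ X ≤ W := fun k => by rw [inf_eq_right.2 k] at hd; omega
    obtain ⟨x, hx, hxW⟩ := SetLike.not_le_iff_exists.1 h1
    obtain ⟨W', hW', hm', h2, h3, h4⟩ := exists_adj h hV hW hm hxW (hX.2 x hx)
    have h5 : X ⊓ W < X ⊓ W' := by
      refine lt_of_le_of_ne (le_inf inf_le_left (le_trans ?_ h4)) fun e => ?_
      · exact le_inf inf_le_right fun y hy => (Form.mem_perp_singleton _).2 (hX.1 x hx y hy.1)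
      · exact hxW (e.ge ⟨hx, h3⟩).2
    have h6 := Submodule.finrank_lt_finrank_of_lt h5
    have h7 := finrank_inf_adj h hV hX hmX hW hm hW' hm' h2
    have h8 := finrank_inf_adj h hV hU hmU hW hm hW' hm' h2
    rw [inf_comm X, inf_comm X] at h6 h7
    have h9 := ih W' hW' hm' (by omega)
    rw [Nat.even_iff] at h9 ⊢
    omega

theorem card_max_containing (h0 : ∃ W₀ : Submodule F V, (ofQuad Q).TotSing W₀ ∧ finrank F W₀ = m)
    {U : Submodule F V} (hU : (ofQuad Q).TotSing U) (hm : finrank F U + 1 = m) :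
    Nat.card {W : Submodule F V // finrank F W = m ∧ (∀ w ∈ W, Q w = 0) ∧ U ≤ W} = 2 := by
  obtain ⟨W₀, h1, h2⟩ := h0
  obtain ⟨W, hUW, hW, hmax⟩ := (ofQuad Q).exists_maximal_totSing hU
  have hmW : finrank F W = m := by
    have := h.finrank_le_of_maximal hW hmax h1
    have := hW.two_mul_finrank_le h
    omega
  have h3 : ¬ W ≤ U := fun k => by have := Submodule.finrank_mono k; omega
  obtain ⟨p, hp, hpU⟩ := SetLike.not_le_iff_exists.1 h3
  obtain ⟨r, h4, h5, h6, h7⟩ := h.exists_hyp_partner hpU (hW.1 p hp p hp) (hW.2 p hp)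
    fun x hx => hW.1 x (hUW hx) p hp
  have hr : r ∉ W := fun k => by rw [hW.1 p hp r k] at h5; exact zero_ne_one h5
  have hW' : (ofQuad Q).TotSing (U ⊔ Submodule.span F {r}) := hU.sup_span h4 h6 h7
  have hmW' : finrank F (U ⊔ Submodule.span F {r} : Submodule F V) = m := by
    rw [Submodule.finrank_sup_span_singleton fun k => hr (hUW k), hm]
  have hne : W ≠ U ⊔ Submodule.span F {r} := fun e =>
    hr (e ▸ Submodule.mem_sup_right (Submodule.mem_span_singleton_self r))
  rw [Nat.card_eq_two_iff]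
  refine ⟨⟨W, hmW, hW.2, hUW⟩, ⟨_, hmW', hW'.2, le_sup_left⟩,
    fun e => hne (congrArg Subtype.val e), Set.eq_univ_of_forall ?_⟩
  rintro ⟨X, h8, h9, h10⟩
  have hX := (totSing_ofQuad Q).2 h9
  rcases le_or_le_of_forall (X := X) fun x hx => mem_or_mem_of_sing h hV hW hmW hW' hmW' hm hUW
    le_sup_left hne ((hX.le_perp.trans ((ofQuad Q).perp_anti h10)) hx) (h9 x hx) with k | k
  · exact Or.inl (Subtype.ext (Submodule.eq_of_le_of_finrank_eq k (h8.trans hmW.symm)))
  · exact Or.inr (Subtype.ext (Submodule.eq_of_le_of_finrank_eq k (h8.trans hmW'.symm)))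

end Max

theorem exists_totSing_of_hyp {F : Type*} [Field F] {V : Type*} [AddCommGroup V] [Module F V]
    {σ : F →+* F} {Φ : Form σ V} {m : ℕ} {e f : Fin m → V} (H : Φ.Hyp e f) :
    Φ.TotSing (Submodule.span F (Set.range e)) ∧
      finrank F (Submodule.span F (Set.range e)) = m := by
  refine ⟨Φ.totSing_span e H.ee H.Qe, ?_⟩
  have := H.linearIndependent.comp Sum.inl Sum.inl_injective
  exact (finrank_span_eq_card this).trans (Fintype.card_fin m)

section Count

variable {F : Type*} [Field F] {V : Type*} [AddCommGroup V] [Module F V] [FiniteDimensional F V]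
  {σ : F →+* F} {Φ : Form σ V}

theorem card_totSing_mul (h : Φ.Nondeg) {W : Submodule F V} (hW : Φ.TotSing W) {k : ℕ}
    (hk : finrank F W = k) :
    Nat.card {X : Submodule F V // finrank F X = k ∧ Φ.TotSing X} * Nat.card (Φ.stab W) =
      Nat.card Φ.Isom := by
  letI : MulAction Φ.Isom {X : Submodule F V // finrank F X = k ∧ Φ.TotSing X} :=
    { smul := fun g X => ⟨X.1.map (g.1 : V →ₗ[F] V), by rw [LinearEquiv.finrank_map_eq, X.2.1],
        X.2.2.map g⟩
      one_smul := fun X => Subtype.ext (Submodule.map_id _)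
      mul_smul := fun a b X => Subtype.ext (Submodule.map_comp _ _ _) }
  have : MulAction.IsPretransitive Φ.Isom {X : Submodule F V // finrank F X = k ∧ Φ.TotSing X} :=
    ⟨fun X Y => by
      obtain ⟨g, hg⟩ := h.exists_map_eq_of_totSing X.2.2 Y.2.2 (X.2.1.trans Y.2.1.symm)
      exact ⟨g, Subtype.ext hg⟩⟩
  have h1 : MulAction.stabilizer Φ.Isom (⟨W, hk, hW⟩ :
      {X : Submodule F V // finrank F X = k ∧ Φ.TotSing X}) = Φ.stab W := by
    ext g
    rw [MulAction.mem_stabilizer_iff, Subtype.ext_iff]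
    change W.map (g.1 : V →ₗ[F] V) = W ↔ _
    constructor
    · intro e
      exact Φ.mem_stab_of_mapsTo fun x hx => e ▸ ⟨x, hx, rfl⟩
    · intro e
      apply Submodule.eq_of_le_of_finrank_eq _ (LinearEquiv.finrank_map_eq _ _)
      rintro _ ⟨x, hx, rfl⟩
      exact (e x).1 hx
  rw [← h1, ← MulAction.index_stabilizer_of_transitive Φ.Isom ⟨W, hk, hW⟩,
    Subgroup.index_mul_card]

theorem card_totSing_mem_eq (h : Φ.Nondeg) (k : ℕ) {u v : V} (hu : u ≠ 0) (hv : v ≠ 0)
    (hB : Φ.B v v = Φ.B u u) (hQ : Φ.Q v = Φ.Q u) :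
    Nat.card {X : Submodule F V // (finrank F X = k ∧ Φ.TotSing X) ∧ u ∈ X} =
      Nat.card {X : Submodule F V // (finrank F X = k ∧ Φ.TotSing X) ∧ v ∈ X} := by
  obtain ⟨g, rfl⟩ := h.witt_one hu hv hB hQ
  refine Nat.card_congr
    { toFun := fun X => ⟨X.1.map (g.1 : V →ₗ[F] V),
        ⟨by rw [LinearEquiv.finrank_map_eq, X.2.1.1], X.2.1.2.map g⟩, u, X.2.2, rfl⟩
      invFun := fun X => ⟨X.1.map ((g⁻¹).1 : V →ₗ[F] V),
        ⟨by rw [LinearEquiv.finrank_map_eq, X.2.1.1], X.2.1.2.map g⁻¹⟩, _, X.2.2, by simp⟩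
      left_inv := fun X => Subtype.ext ?_
      right_inv := fun X => Subtype.ext ?_ }
  · change (X.1.map _).map _ = _
    rw [← Submodule.map_comp]
    convert Submodule.map_id X.1
    ext x
    simp
  · change (X.1.map _).map _ = _
    rw [← Submodule.map_comp]
    convert Submodule.map_id X.1
    ext x
    simp

theorem card_ne_zero_eq [Fintype F] {n : ℕ} (hn : finrank F V = n) :
    Nat.card {v : V // v ≠ 0} = Fintype.card F ^ n - 1 := by
  have : Finite V := Module.finite_of_finite F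
  have := H7.card_ne_zero_and (α := V) (fun _ => True) trivial
  rw [← H7.card_eq_pow hn]
  simp only [and_true, Nat.card_congr (Equiv.Set.univ V)] at this
  have h2 : Nat.card {_u : V // True} = Nat.card V := Nat.card_congr (Equiv.Set.univ V)
  omega

theorem card_totSing_mem_alt [Fintype F] (hA : Φ.IsAlt) (h : Φ.Nondeg) {n : ℕ} (hn : finrank F V = n)
    (k : ℕ) {u : V} (hu : u ≠ 0) :
    (Fintype.card F ^ n - 1) *
      Nat.card {X : Submodule F V // (finrank F X = k ∧ Φ.TotSing X) ∧ u ∈ X} =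
      Nat.card {X : Submodule F V // finrank F X = k ∧ Φ.TotSing X} * (Fintype.card F ^ k - 1) := by
  have : Finite V := Module.finite_of_finite F
  have := Fintype.ofFinite {v : V // v ≠ 0}
  have := Fintype.ofFinite {X : Submodule F V // finrank F X = k ∧ Φ.TotSing X}
  have e : (Σ v : {v : V // v ≠ 0},
      {X : Submodule F V // (finrank F X = k ∧ Φ.TotSing X) ∧ v.1 ∈ X}) ≃
      (Σ X : {X : Submodule F V // finrank F X = k ∧ Φ.TotSing X}, {v : X.1 // v ≠ 0}) :=
    { toFun := fun x => ⟨⟨x.2.1, x.2.2.1⟩, ⟨x.1.1, x.2.2.2⟩, fun e => x.1.2 (congrArg Subtype.val e)⟩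
      invFun := fun x => ⟨⟨x.2.1.1, fun e => x.2.2 (Subtype.ext e)⟩, x.1.1, x.1.2, x.2.1.2⟩
      left_inv := fun _ => rfl
      right_inv := fun _ => rfl }
  have h1 := Nat.card_congr e
  rw [Nat.card_sigma, Nat.card_sigma,
    Finset.sum_congr rfl fun v _ => card_totSing_mem_eq h k v.2 hu (by rw [hA.1, hA.1])
      (by rw [hA.2, hA.2]),
    Finset.sum_congr rfl fun X _ => card_ne_zero_eq X.2.1] at h1
  simp only [Finset.sum_const, Finset.card_univ, smul_eq_mul] at h1
  rwa [← Nat.card_eq_fintype_card, ← Nat.card_eq_fintype_card, card_ne_zero_eq hn] at h1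

end Count

section Tensor

open TensorProduct

variable {F U W : Type*} [Field F] [AddCommGroup U] [Module F U] [FiniteDimensional F U]
  [AddCommGroup W] [Module F W] [FiniteDimensional F W]

omit [FiniteDimensional F U] [FiniteDimensional F W] in
theorem toMatrix_tmul {ι κ : Type*} [Fintype ι] [DecidableEq ι] [Fintype κ] [DecidableEq κ]
    (b : Basis ι F U) (c : Basis κ F W) (B₁ : LinearMap.BilinForm F U)
    (B₂ : LinearMap.BilinForm F W) :
    (LinearMap.BilinForm.toMatrix (b.tensorProduct c) (B₁.tmul B₂)).det =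
      (LinearMap.BilinForm.toMatrix b B₁).det ^ Fintype.card κ *
        (LinearMap.BilinForm.toMatrix c B₂).det ^ Fintype.card ι := by
  rw [← Matrix.det_kronecker]
  congr 1
  ext ⟨i, k⟩ ⟨j, l⟩
  simp [LinearMap.BilinForm.toMatrix_apply, mul_comm]

theorem tmul_nondegenerate {B₁ : LinearMap.BilinForm F U} {B₂ : LinearMap.BilinForm F W}
    (h₁ : B₁.Nondegenerate) (h₂ : B₂.Nondegenerate) : (B₁.tmul B₂).Nondegenerate := by
  rw [LinearMap.BilinForm.nondegenerate_iff_det_ne_zero (Module.finBasis F _)] at h₁ h₂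
  refine (LinearMap.BilinForm.nondegenerate_iff_det_ne_zero
    ((Module.finBasis F U).tensorProduct (Module.finBasis F W))).2 ?_
  rw [toMatrix_tmul]
  exact mul_ne_zero (pow_ne_zero _ h₁) (pow_ne_zero _ h₂)

theorem plus_iff_symm [Finite F] (h2 : (2 : F) ≠ 0) {B : LinearMap.BilinForm F U}
    (h : B.Nondegenerate) (hS : B.IsSymm) {ι : Type*} [Fintype ι] [DecidableEq ι]
    (b : Basis ι F U) {m : ℕ} (hm : finrank F U = 2 * m) :
    (∃ X : Submodule F U, finrank F X = m ∧ ∀ x ∈ X, ∀ y ∈ X, B x y = 0) ↔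
      IsSquare ((-1) ^ m * (LinearMap.BilinForm.toMatrix b B).det) := by
  have h1 := Form.Nondeg.plus_iff (Φ := ofSymm h2 B hS) h.1 h2 rfl (fun _ _ => rfl) b hm
  have h3 : (ofSymm h2 B hS).gram b = LinearMap.BilinForm.toMatrix b B := by
    ext i j
    simp [Form.gram_apply, LinearMap.BilinForm.toMatrix_apply]
  rw [← h3, ← h1]
  exact exists_congr fun X => and_congr_right fun _ => ⟨fun k => ⟨k, fun _ _ => rfl⟩, fun k => k.1⟩

omit [FiniteDimensional F U] [FiniteDimensional F W] in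
theorem tmul_isSymm_of_alt {B₁ : LinearMap.BilinForm F U} {B₂ : LinearMap.BilinForm F W}
    (hA₁ : B₁.IsAlt) (hA₂ : B₂.IsAlt) : (B₁.tmul B₂).IsSymm := by
  rw [LinearMap.isSymm_iff_eq_flip]
  refine TensorProduct.ext' fun x₁ x₂ => TensorProduct.ext' fun y₁ y₂ => ?_
  change B₂ x₂ y₂ • B₁ x₁ y₁ = B₂ y₂ x₂ • B₁ y₁ x₁
  rw [← hA₁.neg_eq x₁ y₁, ← hA₂.neg_eq x₂ y₂]
  simp

theorem exists_tmul_totIso (B₁ : LinearMap.BilinForm F U) (B₂ : LinearMap.BilinForm F W)
    (L : Submodule F U) (hL : ∀ x ∈ L, ∀ y ∈ L, B₁ x y = 0) :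
    ∃ X : Submodule F (U ⊗[F] W), finrank F X = finrank F L * finrank F W ∧
      ∀ x ∈ X, ∀ y ∈ X, (B₁.tmul B₂) x y = 0 := by
  refine ⟨LinearMap.range (L.subtype.rTensor W), ?_, ?_⟩
  · rw [LinearMap.finrank_range_of_inj
      (Module.Flat.rTensor_preserves_injective_linearMap _ L.injective_subtype),
      Module.finrank_tensorProduct]
  · rintro _ ⟨x, rfl⟩ _ ⟨y, rfl⟩
    induction x using TensorProduct.induction_on with
    | zero => simp
    | add a b ha hb => rw [map_add, map_add, LinearMap.add_apply, ha, hb, add_zero]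
    | tmul a b =>
      induction y using TensorProduct.induction_on with
      | zero => simp
      | add c d hc hd => rw [map_add, map_add, hc, hd, add_zero]
      | tmul c d => simp [hL a a.2 c c.2]

end Tensor

theorem odd_dim_similar {F : Type*} [Field F] [Finite F] {V : Type*} [AddCommGroup V] [Module F V]
    [FiniteDimensional F V] (h2 : (2 : F) ≠ 0) {k : ℕ} (hn : finrank F V = 2 * k + 1)
    (Q₁ Q₂ : QuadraticForm F V) (h₁ : (ofQuad Q₁).Nondeg) (h₂ : (ofQuad Q₂).Nondeg) :
    ∃ (g : V ≃ₗ[F] V) (c : F), c ≠ 0 ∧ ∀ v, Q₂ (g v) = c * Q₁ v := by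
  have key : ∀ (Q : QuadraticForm F V), (ofQuad Q).Nondeg → ∀ a : F, a ≠ 0 →
      ∃ b : Basis (Fin (2 * k + 1)) F V, (∀ i j, i ≠ j → pol Q (b i) (b j) = 0) ∧
        (∀ i : Fin (2 * k), pol Q (b i.castSucc) (b i.castSucc) = a) ∧
        ∃ d : F, d ≠ 0 ∧ a ^ (2 * k) * pol Q (b (Fin.last _)) (b (Fin.last _)) =
          d * d * ((ofQuad Q).gram (Module.finBasisOfFinrankEq F V hn)).det := by
    intro Q h a ha
    have hN := ofQuad_nonAlt h2 Q
    obtain ⟨b, hb1, hb2⟩ := h.exists_orth_basis (fun i v => i < 2 * k → pol Q v v = a) hn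
      fun i hi U hU hr => by
        by_cases hin : i < 2 * k
        · obtain ⟨v, hv, hv'⟩ := hN.exists_B_eq hU (by omega) a
          exact ⟨v, hv, by rwa [hv'], fun _ => hv'⟩
        · obtain ⟨v, hv, hv'⟩ := hN.exists_aniso hU (by rintro rfl; rw [finrank_bot] at hr; omega)
          exact ⟨v, hv, hv', fun h => absurd h hin⟩
    have hb3 : ∀ i : Fin (2 * k), pol Q (b i.castSucc) (b i.castSucc) = a :=
      fun i => (hb2 _).2 i.2
    obtain ⟨d, hd⟩ := (ofQuad Q).exists_prod_orth_eq (Module.finBasisOfFinrankEq F V hn) b rfl hb1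
    rw [Fin.prod_univ_castSucc, Finset.prod_congr rfl fun i _ => hb3 i] at hd
    simp only [Finset.prod_const, Finset.card_univ, Fintype.card_fin, RingHom.id_apply] at hd
    refine ⟨b, hb1, hb3, d, ?_, hd⟩
    rintro rfl
    exact mul_ne_zero (pow_ne_zero _ ha) (hb2 _).1 (by simpa using hd)
  have hD₁ := h₁.det_gram_ne_zero (Module.finBasisOfFinrankEq F V hn)
  have hD₂ := h₂.det_gram_ne_zero (Module.finBasisOfFinrankEq F V hn)
  obtain ⟨b₁, h3, h4, d, hd, h5⟩ := key Q₁ h₁ _ (inv_ne_zero (mul_ne_zero hD₁ hD₂))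
  obtain ⟨b₂, h6, h7, e, he, h8⟩ := key Q₂ h₂ 1 one_ne_zero
  generalize ((ofQuad Q₁).gram (Module.finBasisOfFinrankEq F V hn)).det = D₁ at *
  generalize ((ofQuad Q₂).gram (Module.finBasisOfFinrankEq F V hn)).det = D₂ at *
  have ht : (D₁ * D₂) ^ k * d * D₁ / e ≠ 0 := by simp [hD₁, hD₂, hd, he]
  let b₃ := b₂.unitsSMul fun i => if i = Fin.last _ then Units.mk0 _ ht else 1
  have hB : ∀ i j, (ofQuad Q₂).B (b₃ i) (b₃ j) = (ofQuad ((D₁ * D₂) • Q₁)).B (b₁ i) (b₁ j) := by
    intro i j
    have : (ofQuad ((D₁ * D₂) • Q₁)).B (b₁ i) (b₁ j) = D₁ * D₂ * pol Q₁ (b₁ i) (b₁ j) := by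
      simp only [pol_eq, ofQuad_B, QuadraticMap.polar, _root_.smul_apply, smul_eq_mul]
      ring
    rw [this]
    simp only [b₃, Basis.unitsSMul_apply, Units.smul_def, map_smul, LinearMap.smul_apply,
      smul_eq_mul]
    by_cases hij : i = j
    · subst hij
      induction i using Fin.lastCases with
      | last =>
        rw [one_pow, one_mul] at h8
        rw [inv_pow, inv_mul_eq_iff_eq_mul₀ (pow_ne_zero _ (mul_ne_zero hD₁ hD₂))] at h5
        simp only [if_true, Units.val_mk0]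
        rw [h5, h8]
        field_simp
        ring
      | cast i =>
        simp only [(Fin.castSucc_lt_last i).ne, if_false, Units.val_one, one_mul]
        rw [h4, h7, mul_inv_cancel₀ (mul_ne_zero hD₁ hD₂)]
    · rw [h3 i j hij, h6 i j hij]; simp
  refine ⟨b₁.equiv b₃ (Equiv.refl _), D₁ * D₂, mul_ne_zero hD₁ hD₂, fun v => ?_⟩
  refine (ofQuad ((D₁ * D₂) • Q₁)).Q_basis_equiv (ofQuad Q₂) rfl b₁ b₃ hB (fun i => ?_) v
  have := hB i i
  rw [show (ofQuad Q₂).B = pol Q₂ from rfl, show (ofQuad ((D₁ * D₂) • Q₁)).B = pol _ from rfl,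
    pol_self, pol_self] at this
  exact mul_left_cancel₀ h2 this

end H16
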