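import Mathlib
import Cfsg.Agent.H15.Orth
import Cfsg.Agent.H7.StdForms

/-! Split octonions. -/

set_option autoImplicit false
set_option linter.unusedSectionVars false

namespace H16

open Module H15 H7

namespace Oct

variable {F : Type*} [Field F]

/-- The product of the split octonions. -/
def mul (x z : Fin 4 ⊕ Fin 4 → F) : Fin 4 ⊕ Fin 4 → F := Sum.elim
  ![x (.inl 0) * z (.inl 0) - x (.inl 1) * z (.inr 1) - x (.inl 2) * z (.inr 2) - x (.inl 3) * z (.inr 3),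
    x (.inl 0) * z (.inl 1) + z (.inr 0) * x (.inl 1) - x (.inr 2) * z (.inr 3) + x (.inr 3) * z (.inr 2),
    x (.inl 0) * z (.inl 2) + z (.inr 0) * x (.inl 2) - x (.inr 3) * z (.inr 1) + x (.inr 1) * z (.inr 3),
    x (.inl 0) * z (.inl 3) + z (.inr 0) * x (.inl 3) - x (.inr 1) * z (.inr 2) + x (.inr 2) * z (.inr 1)]
  ![x (.inr 0) * z (.inr 0) - x (.inr 1) * z (.inl 1) - x (.inr 2) * z (.inl 2) - x (.inr 3) * z (.inl 3),
    z (.inl 0) * x (.inr 1) + x (.inr 0) * z (.inr 1) - x (.inl 2) * z (.inl 3) + x (.inl 3) * z (.inl 2),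
    z (.inl 0) * x (.inr 2) + x (.inr 0) * z (.inr 2) - x (.inl 3) * z (.inl 1) + x (.inl 1) * z (.inl 3),
    z (.inl 0) * x (.inr 3) + x (.inr 0) * z (.inr 3) - x (.inl 1) * z (.inl 2) + x (.inl 2) * z (.inl 1)]

theorem ext8 {x y : Fin 4 ⊕ Fin 4 → F} (h0 : x (.inl 0) = y (.inl 0)) (h1 : x (.inl 1) = y (.inl 1))
    (h2 : x (.inl 2) = y (.inl 2)) (h3 : x (.inl 3) = y (.inl 3)) (h4 : x (.inr 0) = y (.inr 0))
    (h5 : x (.inr 1) = y (.inr 1)) (h6 : x (.inr 2) = y (.inr 2)) (h7 : x (.inr 3) = y (.inr 3)) :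
    x = y := funext fun i => by rcases i with i | i <;> fin_cases i <;> assumption

/-- Left multiplication. -/
def L : (Fin 4 ⊕ Fin 4 → F) →ₗ[F] (Fin 4 ⊕ Fin 4 → F) →ₗ[F] (Fin 4 ⊕ Fin 4 → F) :=
  LinearMap.mk₂ F mul (fun _ _ _ => by apply ext8 <;> simp [mul] <;> ring)
    (fun _ _ _ => by apply ext8 <;> simp [mul] <;> ring)
    (fun _ _ _ => by apply ext8 <;> simp [mul] <;> ring)
    (fun _ _ _ => by apply ext8 <;> simp [mul] <;> ring)

/-- Conjugation. -/
def bar (x : Fin 4 ⊕ Fin 4 → F) : Fin 4 ⊕ Fin 4 → F := Sum.elim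
  ![x (.inr 0), -x (.inl 1), -x (.inl 2), -x (.inl 3)]
  ![x (.inl 0), -x (.inr 1), -x (.inr 2), -x (.inr 3)]

/-- The identity element. -/
def one : Fin 4 ⊕ Fin 4 → F := Sum.elim ![1, 0, 0, 0] ![1, 0, 0, 0]

theorem L_apply (x z : Fin 4 ⊕ Fin 4 → F) : L x z = mul x z := rfl

theorem L_one (x : Fin 4 ⊕ Fin 4 → F) : L one x = x := by apply ext8 <;> simp [L_apply, mul, one]

theorem L_one' (x : Fin 4 ⊕ Fin 4 → F) : L x one = x := by apply ext8 <;> simp [L_apply, mul, one]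

local notation "Q8" => H7.qPlus 4 F

theorem c1 (a b x : Fin 4 ⊕ Fin 4 → F) :
    L a (L (bar b) x) = pol Q8 a b • x - L b (L (bar a) x) := by
  rw [H7.pol_qPlus]
  apply ext8 <;> simp [L_apply, mul, bar, Fin.sum_univ_four] <;> ring

theorem c2 (a b x : Fin 4 ⊕ Fin 4 → F) :
    L (bar a) (L b x) = pol Q8 a b • x - L (bar b) (L a x) := by
  rw [H7.pol_qPlus]
  apply ext8 <;> simp [L_apply, mul, bar, Fin.sum_univ_four] <;> ring

theorem c3 (a x : Fin 4 ⊕ Fin 4 → F) : L a (L (bar a) x) = Q8 a • x := by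
  rw [H7.qPlus_apply]
  apply ext8 <;> simp [L_apply, mul, bar, Fin.sum_univ_four] <;> ring

theorem c4 (a x : Fin 4 ⊕ Fin 4 → F) : L (bar a) (L a x) = Q8 a • x := by
  rw [H7.qPlus_apply]
  apply ext8 <;> simp [L_apply, mul, bar, Fin.sum_univ_four] <;> ring

theorem c5 (a x : Fin 4 ⊕ Fin 4 → F) : Q8 (L a x) = Q8 a * Q8 x := by
  simp [H7.qPlus_apply, L_apply, mul, Fin.sum_univ_four]
  ring

theorem c6 (a b x : Fin 4 ⊕ Fin 4 → F) : pol Q8 x (L a (L (bar b) x)) = pol Q8 a b * Q8 x := by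
  simp only [H7.pol_qPlus]
  simp [H7.qPlus_apply, L_apply, mul, bar, Fin.sum_univ_four]
  ring

theorem nucleus {b : Fin 4 ⊕ Fin 4 → F} (h : ∀ a y, L (L a y) b = L a (L y b)) :
    b = b (.inl 0) • one := by
  have h1 := h (Pi.single (.inl 0) 1) (Pi.single (.inl 1) 1)
  have h2 := h (Pi.single (.inl 0) 1) (Pi.single (.inl 2) 1)
  have h3 := h (Pi.single (.inl 0) 1) (Pi.single (.inr 1) 1)
  have h4 := h (Pi.single (.inl 0) 1) (Pi.single (.inr 2) 1)
  have h5 := h (Pi.single (.inl 1) 1) (Pi.single (.inl 2) 1)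
  apply ext8
  · simp [one]
  · simpa [L_apply, mul, one] using congrFun h2 (.inr 3)
  · simpa [L_apply, mul, one] using congrFun h1 (.inr 3)
  · simpa [L_apply, mul, one] using congrFun h1 (.inr 2)
  · simpa [L_apply, mul, one] using (congrFun h5 (.inr 3)).symm
  · simpa [L_apply, mul, one] using (congrFun h4 (.inl 3)).symm
  · simpa [L_apply, mul, one] using congrFun h3 (.inl 3)
  · simpa [L_apply, mul, one] using (congrFun h3 (.inl 2)).symm

theorem eq_zero {x : Fin 4 ⊕ Fin 4 → F} (h : ∀ u v, Q8 u = 0 → pol Q8 u v = 0 → u (.inr 0) = 0 →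
    v (.inr 0) = 0 → L u (L (bar v) x) = 0) : x = 0 := by
  have key : ∀ i j : Fin 4 ⊕ Fin 4, i ≠ .inr 0 → j ≠ .inr 0 → i.swap ≠ j →
      L (Pi.single i 1) (L (bar (Pi.single j 1)) x) = 0 := fun i j h1 h2 h3 => by
    refine h _ _ ?_ ?_ (by simp [h1.symm]) (by simp [h2.symm])
    · rcases i with i | i <;> simp [H7.qPlus_apply]
    · rw [H7.pol_qPlus]
      rcases i with i | i <;> rcases j with j | j <;> simp_all [Pi.single_apply, eq_comm]
  have h1 := key (.inl 2) (.inl 3) (by simp) (by simp) (by simp)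
  have h2 := key (.inl 3) (.inr 2) (by simp) (by simp) (by simp)
  have h3 := key (.inl 2) (.inr 3) (by simp) (by simp) (by simp)
  have h4 := key (.inr 2) (.inr 3) (by simp) (by simp) (by simp)
  apply ext8
  · simpa [L_apply, mul, bar] using congrFun h4 (.inl 1)
  · simpa [L_apply, mul, bar] using congrFun h1 (.inl 0)
  · simpa [L_apply, mul, bar] using congrFun h2 (.inl 3)
  · simpa [L_apply, mul, bar] using congrFun h3 (.inl 2)
  · simpa [L_apply, mul, bar] using congrFun h1 (.inr 1)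
  · simpa [L_apply, mul, bar] using congrFun h4 (.inr 0)
  · simpa [L_apply, mul, bar] using congrFun h3 (.inr 3)
  · simpa [L_apply, mul, bar] using congrFun h2 (.inr 2)

end Oct

end H16
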