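import Mathlib
import Cfsg.Agent.H16.FormGeo
import Cfsg.Agent.H16.AutO
import Cfsg.Agent.H16.Oct

/-! The triality automorphism of `PΩ₈⁺(q)`. -/

set_option autoImplicit false
set_option linter.unusedSectionVars false

namespace H16

open Module H15 H7
open scoped commutatorElement

namespace Oct

variable {F : Type*} [Field F]

local notation "Q8" => H7.qPlus 4 F

variable (F) in
/-- Related pairs of isometries. -/
def T : Subgroup ((ofQuad Q8).Isom × (ofQuad Q8).Isom) where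
  carrier := {t | ∃ B : _ →ₗ[F] _, ∀ a y, L (t.1.1 a) (B y) = t.2.1 (L a y)}
  one_mem' := ⟨LinearMap.id, fun _ _ => rfl⟩
  mul_mem' := by
    rintro s t ⟨B, h1⟩ ⟨B', h2⟩
    exact ⟨B ∘ₗ B', fun a y => (h1 _ _).trans (congrArg s.2.1 (h2 a y))⟩
  inv_mem' := by
    rintro s ⟨B, h⟩
    let B' := LinearEquiv.ofInjectiveEndo B ((injective_iff_map_eq_zero _).2 fun y hy => by
      simpa [hy, L_one] using (h one y).symm)
    refine ⟨B'.symm, fun a y => ((Form.Isom.inv_apply_eq _).2 ?_).symm⟩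
    rw [← h, show B (B'.symm.toLinearMap y) = y from B'.apply_symm_apply y]
    exact congrArg (L · y) (Form.Isom.apply_inv_apply _ _)

theorem scalar {t : (ofQuad Q8).Isom × (ofQuad Q8).Isom} (h : t ∈ T F) {c : F}
    (hc : ∀ v, t.1.1 v = c • v) : ∃ d : F, ∀ v, t.2.1 v = d • v := by
  obtain ⟨B, h⟩ := h
  have h1 : ∀ a y, t.2.1 (L a y) = L a (t.2.1 y) := fun a y => by
    rw [← h, ← L_one y, ← h, hc, hc, L_one]; simp [L_one]
  have h2 : ∀ a, t.2.1 a = L a (t.2.1 one) := fun a => by rw [← h1, L_one']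
  refine ⟨t.2.1 one (.inl 0), fun v => ?_⟩
  rw [h2, nucleus (b := t.2.1 one) fun a y => by rw [← h2, ← h2, h1], map_smul, L_one']
  simp [one]

theorem exists_eich {u v : Fin 4 ⊕ Fin 4 → F} (hu : Q8 u = 0) (hv : pol Q8 u v = 0) :
    ∃ C, (eich Q8 u v hu hv, C) ∈ T F ∧ ∀ x, C.1 x = x + L u (L (bar v) x) := by
  let M : (Fin 4 ⊕ Fin 4 → F) →ₗ[F] (Fin 4 ⊕ Fin 4 → F) := LinearMap.id + L u ∘ₗ L (bar v)
  have h1 : ∀ x, Q8 (M x) = Q8 x := fun x => show Q8 (x + L u (L (bar v) x)) = Q8 x by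
    rw [quad_add, c5, c6, hu, hv]; simp
  refine ⟨(ofQuad Q8).mkIsom (H7.qPlus_nondeg 4 F) M
    (fun x y => ?_) h1, ⟨LinearMap.id + L (bar u) ∘ₗ L v, fun a y => ?_⟩, fun x => rfl⟩
  · simp only [ofQuad_B, QuadraticMap.polar, ← map_add, h1]
  · change L ((eich Q8 u v hu hv).1 a) (y + L (bar u) (L v y)) = L a y + L u (L (bar v) (L a y))
    simp only [eich_apply, map_add, map_sub, map_smul, LinearMap.add_apply, LinearMap.sub_apply,
      LinearMap.smul_apply, c3, hu, c1 a u, c1 v u, c2 a v, c4, pol_comm Q8 v u, hv,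
      pol_comm Q8 a]
    module

variable [Fintype F]

theorem exists_EG (g : EG (ofQuad Q8)) : ∃ C : EG (ofQuad Q8), (g.1, C.1) ∈ T F := by
  have h := H7.qPlus_nondeg 4 F
  have hd : 5 ≤ finrank F (Fin 4 ⊕ Fin 4 → F) := by simp
  have h1 : commutator (ofQuad Q8).Isom ≤ (T F).map (MonoidHom.fst _ _) := by
    rw [commutator_eq_closure_eichSet h (Or.inr (by simp)) (by omega)]
    refine (Subgroup.closure_le _).2 ?_
    rintro _ ⟨u, v, hu, hv, rfl⟩
    obtain ⟨C, hC, -⟩ := exists_eich hu hv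
    exact ⟨_, hC, rfl⟩
  have h2 : commutator (commutator (ofQuad Q8).Isom) ≤ ((T F ⊓ (commutator _).comap
      (MonoidHom.snd _ _)).map (MonoidHom.fst _ _)).subgroupOf _ :=
    Subgroup.commutator_le.2 fun a _ b _ => by
      obtain ⟨s, hs, h3⟩ := h1 a.2
      obtain ⟨t, ht, h4⟩ := h1 b.2
      refine ⟨⁅s, t⁆, ⟨(T F).mul_mem ((T F).mul_mem ((T F).mul_mem hs ht) ((T F).inv_mem hs))
        ((T F).inv_mem ht),
        Subgroup.commutator_mem_commutator (g₁ := s.2) (g₂ := t.2) trivial trivial⟩, ?_⟩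
      rw [map_commutatorElement, h3, h4]
      rfl
  obtain ⟨s, ⟨h3, h4⟩, h5⟩ := h2 ((omega_perfect h hd).ge (Subgroup.mem_top
    (⟨g.1, (quad_EG h hd).le g.2⟩ : commutator (ofQuad Q8).Isom)))
  exact ⟨⟨s.2, (quad_EG h hd).ge h4⟩, (show s.1 = g.1 from h5) ▸ h3⟩

theorem exists_moved {x : Fin 4 ⊕ Fin 4 → F} (hx : x ≠ 0) :
    ∃ g C : EG (ofQuad Q8), (g.1, C.1) ∈ T F ∧ g ∈ Pt (ofQuad Q8) (Pi.single (.inl 0) 1) ∧
      C ∉ Pt (ofQuad Q8) x := by
  by_contra hc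
  push Not at hc
  refine hx (eq_zero fun u v hu hv h1 h2 => ?_)
  obtain ⟨C, h3, h4⟩ := exists_eich hu hv
  let g : EG (ofQuad Q8) := ⟨_, Rad_le_EG (sing_ofQuad.2 hu) (eich_mem_Rad hu hv)⟩
  obtain ⟨D, hD⟩ := exists_EG g
  obtain ⟨c, h5⟩ := mem_Pt.1 (hc g D hD (mem_Pt.2 ⟨1, by
    simp only [g, eich_apply, H7.pol_qPlus]
    simp [Fin.sum_univ_four, h1, h2]⟩))
  obtain ⟨d, h6⟩ := scalar (mul_mem h3 (inv_mem hD)) (c := 1) fun v => by simp [g]
  have h7 : L u (L (bar v) x) = (d * c - 1) • x := by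
    have := h6 (D.1.1 x)
    simp only [Prod.snd_mul, Prod.snd_inv, Form.Isom.mul_apply, Form.Isom.inv_apply_apply] at this
    rw [h4, h5] at this
    linear_combination (norm := module) this
  have h8 : L u (L (bar v) (L u (L (bar v) x))) = 0 := by
    rw [c2 v u, map_sub, c3, hu, pol_comm Q8 v u, hv]; simp
  rw [h7, map_smul, map_smul, h7, smul_smul] at h8
  rw [h7, mul_self_eq_zero.1 ((smul_eq_zero.1 h8).resolve_right hx), zero_smul]

theorem exists_aut {G : Type*} [Group G] [Finite G] [IsSimpleGroup (G ⧸ Subgroup.center G)]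
    (S : Subgroup (G × G)) (h0 : ∀ g, ∃ C, (g, C) ∈ S)
    (h1 : ∀ g D, (g, D) ∈ S → g ∈ Subgroup.center G → D ∈ Subgroup.center G)
    (h3 : ∃ g D, (g, D) ∈ S ∧ D ∉ Subgroup.center G) :
    ∃ γ : MulAut (G ⧸ Subgroup.center G), ∀ g D, (g, D) ∈ S → Cor γ g D := by
  choose C hC using h0
  have h2 : ∀ g D, (g, D) ∈ S → (C g : G ⧸ Subgroup.center G) = D := fun g D h2 =>
    QuotientGroup.eq.2 (h1 (g⁻¹ * g) _ (S.mul_mem (S.inv_mem (hC g)) h2) (by simp))
  let ψ := QuotientGroup.lift (Subgroup.center G) (MonoidHom.mk'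
    (fun g => (C g : G ⧸ Subgroup.center G)) fun a b =>
      h2 _ _ (S.mul_mem (hC a) (hC b))) fun g hg => (QuotientGroup.eq_one_iff _).2 (h1 g _ (hC g) hg)
  have h4 : Function.Injective ψ := (MonoidHom.ker_eq_bot_iff _).1
    ((ψ.normal_ker.eq_bot_or_eq_top).resolve_right fun h4 => by
      obtain ⟨g, D, h5, h6⟩ := h3
      exact h6 ((QuotientGroup.eq_one_iff _).1
        ((h2 g D h5).symm.trans (h4.ge (Subgroup.mem_top (g : G ⧸ Subgroup.center G))))))
  exact ⟨MulEquiv.ofBijective ψ (Finite.injective_iff_bijective.1 h4), h2⟩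

theorem exists_triality : ∃ γ, γ ∉ (toAut (ofQuad Q8)).range := by
  have h := H7.qPlus_nondeg 4 F
  have hd : 5 ≤ finrank F (Fin 4 ⊕ Fin 4 → F) := by simp
  have hΦ := quad_good h hd
  have h3 : IsSimpleGroup (EG (ofQuad Q8) ⧸ Subgroup.center _) :=
    have := pOmega_simple h hd
    (quotCenterCongr (MulEquiv.subgroupCongr (quad_EG h hd))).isSimpleGroup
  have he : (Pi.single (.inl 0) 1 : Fin 4 ⊕ Fin 4 → F) ≠ 0 := by simp
  obtain ⟨γ, hγ⟩ := exists_aut ((T F).comap ((EG _).subtype.prodMap (EG _).subtype)) exists_EG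
    (fun g D h1 h2 => (hΦ.mem_center_iff.1 h2).elim fun _ h3 => hΦ.mem_center_iff.2 (scalar h1 h3))
    (by
      obtain ⟨g, D, h5, -, h6⟩ := exists_moved he
      exact ⟨g, D, h5, fun h => h6 (hΦ.center_le_St _ h)⟩)
  refine ⟨γ, ?_⟩
  rintro ⟨a, rfl⟩
  have h5 := ptC_toAut hΦ a (sing_ofQuad.2 (by simp [H7.qPlus_apply])) he
  obtain ⟨g, D, h6, h7, h8⟩ := exists_moved h5.ne'
  exact h8 ((h5.iff g D (hγ g D h6)).1 h7)

end Oct

variable {F : Type*} [Field F] [Fintype F] {V : Type*} [AddCommGroup V] [Module F V]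
  [FiniteDimensional F V] {Q : QuadraticForm F V}

theorem even_finrank_inf (h : (ofQuad Q).Nondeg) {m : ℕ} (hV : finrank F V = 2 * m)
    {Y : Submodule F V} (hY : (ofQuad Q).TotSing Y) (hm : finrank F Y = m) {g : (ofQuad Q).Isom}
    (hg : g ∈ commutator (ofQuad Q).Isom) :
    Even (m + finrank F (Y ⊓ Y.map (g.1 : V →ₗ[F] V) : Submodule F V)) := by
  let ψ : (ofQuad Q).Isom →* ℤˣ := MonoidHom.mk'
    (fun g => (-1) ^ (m + finrank F (Y ⊓ Y.map (g.1 : V →ₗ[F] V) : Submodule F V))) fun a b => by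
      have h1 : Y.map (a.1 : V →ₗ[F] V) ⊓ Y.map ((a * b).1 : V →ₗ[F] V) =
          (Y ⊓ Y.map (b.1 : V →ₗ[F] V)).map (a.1 : V →ₗ[F] V) := by
        rw [Submodule.map_inf _ a.1.injective, ← Submodule.map_comp]; rfl
      have h2 := Submodule.finrank_mono (inf_le_left : Y ⊓ Y.map (b.1 : V →ₗ[F] V) ≤ Y)
      have h3 := even_sum_codim h hV hY hm (hY.map (a * b)) ((LinearEquiv.finrank_map_eq _ _).trans hm)
        (m - finrank F (Y ⊓ Y.map (b.1 : V →ₗ[F] V) : Submodule F V)) _ (hY.map a)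
        ((LinearEquiv.finrank_map_eq _ _).trans hm) (by rw [h1, LinearEquiv.finrank_map_eq]; omega)
      rw [h1, LinearEquiv.finrank_map_eq, Nat.even_iff] at h3
      rw [← pow_add]
      exact pow_eq_pow_of_modEq (n := 2) (by unfold Nat.ModEq; omega) (by simp)
  exact (neg_one_pow_eq_one_iff_even (by decide)).1 (Abelianization.commutator_subset_ker ψ hg)

theorem exists_orbit (h : (ofQuad Q).Nondeg) (hn : 5 ≤ finrank F V) {Y : Submodule F V}
    (hY : (ofQuad Q).TotSing Y) {e f : V} (H : HypPair (ofQuad Q) e f) (he : e ∈ Y)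
    (k : (ofQuad Q).Isom) : ∃ g ∈ commutator (ofQuad Q).Isom,
      (∀ x, x ∈ Y ↔ g.1 x ∈ Y.map (k.1 : V →ₗ[F] V)) ∨
        ∀ x, x ∈ Y.map ((refl Q (e + f)).1 : V →ₗ[F] V) ↔ g.1 x ∈ Y.map (k.1 : V →ₗ[F] V) := by
  have h24 : NotTwoFour F V := Or.inr (by omega)
  obtain ⟨D, hD⟩ := exists_dickson h h24
  obtain ⟨S, hS⟩ := exists_spinor h h24
  obtain ⟨c, hc0, hc⟩ : ∃ c : F, c ≠ 0 ∧ S k = sqSign c := by
    obtain ⟨l, hl, rfl⟩ := exists_list_refl h h24 k
    refine ⟨(l.map Q).prod, List.prod_ne_zero (by simpa using hl), ?_⟩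
    rw [hom_prod_refl S _ hS l hl, sqSign_list_prod _ (by simpa using hl), List.map_map]
    rfl
  have h1 : Q (e + f) = 1 := by simpa using H.quad_eq' 1 1 (zero_mem _)
  have h2 : Q (e + c • f) = c := by simpa using H.quad_eq' 1 c (zero_mem _)
  have h3 : refl Q (e + f) * refl Q (e + c • f) ∈ (ofQuad Q).stab Y :=
    (ofQuad Q).mem_stab_of_mapsTo fun y hy => by
      have : (refl Q (e + f) * refl Q (e + c • f)).1 y = y + ((c - 1) * pol Q f y) • e := by
        simp only [Form.Isom.mul_apply, refl_apply, h1, h2, map_add, map_smul, LinearMap.add_apply,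
          LinearMap.smul_apply, hY.1 e he y hy, H.ee, H.ef, H.ff, H.fe, smul_eq_mul, ofQuad_eps]
        match_scalars <;> field_simp <;> ring
      exact this ▸ add_mem hy (Y.smul_mem _ he)
  have h4 := hD _ (h1.trans_ne one_ne_zero)
  have h5 := hS _ (h1.trans_ne one_ne_zero)
  have h6 := hD _ (h2.trans_ne hc0)
  have h7 := hS _ (h2.trans_ne hc0)
  rw [h1, sqSign_eq_one_iff.2 IsSquare.one] at h5
  rcases Int.units_eq_one_or (D k) with h8 | h8
  · exact ⟨k * (refl Q (e + f) * refl Q (e + c • f)), (mem_commutator_iff_hom h h24 D S hD hS _).2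
      (by simp [h4, h5, h6, h7, h8, hc, h2]), Or.inl fun x => by simpa using h3 x⟩
  · refine ⟨k * (refl Q (e + f) * refl Q (e + c • f)) * (refl Q (e + f))⁻¹,
      (mem_commutator_iff_hom h h24 D S hD hS _).2 (by simp [h4, h5, h6, h7, h8, hc, h2]), Or.inr fun x => ?_⟩
    obtain ⟨x, rfl⟩ := (refl Q (e + f)).1.surjective x
    simpa using h3 x

theorem St_map {σ : F →+* F} {Φ : Form σ V} (hΦ : Good Φ)
    {γ : MulAut (EG Φ ⧸ Subgroup.center (EG Φ))} {e : V} {Y : Submodule F V}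
    (h : ∀ g g', Cor γ g g' → (g ∈ Pt Φ e ↔ g' ∈ St Φ Y)) (k : Φ.Isom) (g g' : EG Φ)
    (h1 : Cor (toAut Φ (SemiSim.ofIsom Φ k) * γ) g g') :
    g ∈ Pt Φ e ↔ g' ∈ St Φ (Y.map (k.1 : V →ₗ[F] V)) := by
  obtain ⟨l, hl⟩ := Cor.exists_right γ g
  rw [h g l hl, ← (St Φ (Y.map (k.1 : V →ₗ[F] V))).mul_mem_cancel_right (hΦ.center_le_St _
    (h1.mem_center (hl.comp (cor_toAut _ l)))), mul_inv_cancel_left, mem_St, mem_St]
  constructor
  · rintro h2 _ ⟨x, hx, rfl⟩
    exact ⟨_, h2 x hx, congrArg (fun y => k.1 (l.1.1 y)) (k.1.symm_apply_apply x).symm⟩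
  · intro h2 x hx
    obtain ⟨y, hy, h3⟩ := h2 _ ⟨x, hx, rfl⟩
    rwa [← k.1.injective (h3.trans (congrArg (fun y => k.1 (l.1.1 y)) (k.1.symm_apply_apply x)))]

theorem index_three (h : (ofQuad Q).Nondeg) (hd : finrank F V = 2 * 4)
    {γ : MulAut (EG (ofQuad Q) ⧸ Subgroup.center (EG (ofQuad Q)))}
    (hγ : γ ∉ (toAut (ofQuad Q)).range) : (toAut (ofQuad Q)).range.index = 3 := by
  obtain ⟨p, hp⟩ := CharP.exists F
  have : Fact p.Prime := ⟨CharP.char_is_prime F p⟩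
  have hΦ := quad_good h (by omega)
  have hE := quad_EG h (by omega)
  obtain ⟨e, he0, he⟩ := hΦ.exists_sing
  obtain ⟨-, Y, h1, h2, h3⟩ := (quad_mem_or h (by omega) γ he he0).resolve_left hγ
  obtain ⟨y, hy, hy0⟩ := Submodule.exists_mem_ne_zero_of_ne_bot (p := Y) (by rintro rfl; simp at h2)
  obtain ⟨f, H⟩ := Sing.exists_hypPair h ⟨h1.1 _ hy _ hy, h1.2 _ hy⟩ hy0
  let s := refl Q (y + f)
  let t := toAut _ (SemiSim.ofIsom _ s)
  have ht : t ∈ (toAut (ofQuad Q)).range := ⟨_, rfl⟩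
  have h5 : γ⁻¹ * (t * γ) ∉ (toAut (ofQuad Q)).range := by
    rintro ⟨a, ha⟩
    have h5 := ptC_toAut hΦ a he he0
    obtain ⟨k, c, hc0, hc⟩ := hΦ.trans he h5.s' he0 h5.ne'
    obtain ⟨k', hk⟩ := Cor.exists_right γ k
    have h6 : Y.map (s.1 : V →ₗ[F] V) ≤ Y.map (k'.1.1 : V →ₗ[F] V) := fun z hz => by
      by_cases hz0 : z = 0
      · simp [hz0]
      have hs : Sing (ofQuad Q) z := ⟨(h1.map s).1 _ hz _ hz, (h1.map s).2 _ hz⟩
      refine hΦ.mem_of_invariant' p hs hz0 ((Submodule.ne_bot_iff _).2 ⟨_, ⟨y, hy, rfl⟩, by simpa using hy0⟩)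
        fun r hr => ?_
      obtain ⟨g', h6⟩ := Cor.exists_left γ ⟨r, Rad_le_EG hs hr⟩
      obtain ⟨g, h7⟩ := Cor.exists_left (toAut _ a) g'
      have h8 := h7.comp h6
      rw [ha, mul_inv_cancel_left] at h8
      have h9 := (h5.iff _ _ h7).1 ((St_map hΦ h3 s _ _ h8).2 (mem_St.2 fun x hx => by
        obtain ⟨d, hd⟩ := (mem_Rad.1 hr).2 x ((h1.map s).1 _ hz _ hx)
        exact hd ▸ add_mem hx (Submodule.smul_mem _ _ hz)))
      rw [← Pt_smul hc0, ← hc, ← conj_mem_Pt, h3 _ _ ((hk.inv.mul h6).mul hk), mem_St] at h9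
      rintro _ ⟨x, hx, rfl⟩
      exact ⟨_, h9 x hx, Form.Isom.apply_inv_apply _ _⟩
    have h7 := even_finrank_inf h hd h1 h2 (hE.le k'.2)
    rw [← Submodule.eq_of_le_of_finrank_eq h6 (by simp only [LinearEquiv.finrank_map_eq])] at h7
    have h8 : Y ⊓ (ofQuad Q).perp (Submodule.span F {f}) ≤ Y ⊓ Y.map (s.1 : V →ₗ[F] V) :=
      fun x hx => ⟨hx.1, x, hx.1, refl_of_perp _ (by
        rw [map_add, LinearMap.add_apply, h1.1 y hy x hx.1, (Form.mem_perp_singleton _).1 hx.2,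
          add_zero])⟩
    have h9 := Submodule.finrank_mono h8
    have h10 := (ofQuad Q).finrank_inf_perp_singleton Y f
    have h11 := Submodule.finrank_mono (inf_le_right : Y ⊓ Y.map (s.1 : V →ₗ[F] V) ≤ _)
    have h12 := Submodule.eq_of_le_of_finrank_eq (inf_le_right : Y ⊓ Y.map (s.1 : V →ₗ[F] V) ≤ _)
    rw [LinearEquiv.finrank_map_eq] at h11 h12
    rw [Nat.even_iff] at h7
    have h13 := h1.1 y hy _ ((h12 (by omega)).ge ⟨y, hy, rfl⟩).1
    have h14 : Q (y + f) = 1 := by simpa using H.quad_eq' 1 1 (zero_mem _)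
    simp only [s, LinearEquiv.coe_coe, refl_apply, h14, map_add, map_smul, LinearMap.add_apply,
      H.ee, H.ef, H.fe] at h13
    simp at h13
  have key := fun {α γ Y Y'} => mem_of_St (α := α) (γ := γ) (Y := Y) (Y' := Y') hΦ (by omega)
    (quad_tor h (by omega)) (fun s => map_one s) (fun s => map_one s) he he0
  refine (index_eq_of_reps _ ![1, γ, t * γ] (fun α => ?_) fun i j => ?_).trans (by simp)
  · rcases quad_mem_or h (by omega) α he he0 with h6 | ⟨-, X, h6, h7, h8⟩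
    · exact ⟨0, by simpa using h6⟩
    obtain ⟨k, rfl⟩ := h.exists_map_eq_of_totSing h1 h6 (h2.trans h7.symm)
    obtain ⟨g, hg, h9 | h9⟩ := exists_orbit h (by omega) h1 H hy k
    · exact ⟨1, key h8 h3 ⟨g, hE.ge hg⟩ h9⟩
    · exact ⟨2, key h8 (St_map hΦ h3 s) ⟨g, hE.ge hg⟩ h9⟩
  · have h6 : γ⁻¹ * (t⁻¹ * γ) ∉ (toAut (ofQuad Q)).range := fun h6 =>
      h5 (by simpa [mul_assoc] using inv_mem h6)
    fin_cases i <;> fin_cases j <;>
      simp [-MonoidHom.mem_range, hγ, h5, h6, mul_assoc, Subgroup.mul_mem_cancel_left _ ht,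
        Subgroup.mul_mem_cancel_right _ (inv_mem ht)]

theorem plus_index {m : ℕ} (hm : 4 ≤ m) :
    (toAut (ofQuad (H7.qPlus m F))).range.index = if m = 4 then 3 else 1 := by
  have h := H7.qPlus_nondeg m F
  have hd := finrank_plus (m := m) (F := F)
  split_ifs with h4
  · subst h4
    exact index_three h hd Oct.exists_triality.choose_spec
  · rw [quad_range_eq_top h (by omega) (by omega), Subgroup.index_top]

theorem card_aut_plus (p f : ℕ) [Fact p.Prime] (hF : Fintype.card F = p ^ f) (m : ℕ) (hm : 4 ≤ m) :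
    Nat.card (MulAut (Cfsg.POmega F (Cfsg.quadFormPlus m F))) = (if m = 4 then 3 else 1) *
      (if p = 2 then 2 else (if Even (m * (p ^ f - 1) / 2) then 8 else 4)) * f *
        Nat.card (Cfsg.POmega F (Cfsg.quadFormPlus m F)) := by
  rw [card_aut_plus_aux p f hF m (by omega), plus_index hm]

end H16
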