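import Mathlib
import Cfsg.Agent.H16.Triality
import Cfsg.Agent.H16.AutSp
import Cfsg.Agent.H16.AutSL2
import Cfsg.Agent.H16.QT4
import Cfsg.Agent.H1.QTGen

/-!
Quasithin preliminaries: automorphisms and odd Sylow subgroups of the classical groups.
-/

set_option autoImplicit false
set_option linter.unusedSectionVars false

namespace H16.QT

open Module H15 H7 Subgroup
open scoped commutatorElement

section Gen

variable {G : Type*} [Group G] [Finite G] {R D : Subgroup G}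

theorem card_perm_dvd (hR : R.index ≤ 3) : Nat.card (Equiv.Perm (G ⧸ R)) ∣ 6 := by
  rw [Nat.card_perm]; exact Nat.factorial_dvd_factorial hR

theorem le_of_map_perm (h : D.map (MulAction.toPermHom G (G ⧸ R)) = ⊥) : D ≤ R :=
  ((Subgroup.map_eq_bot_iff _).1 h).trans (by rw [← normalCore_eq_ker]; exact normalCore_le R)

theorem pf_le_of_index (hR : R.index ≤ 3) (hD : ⁅D, D⁆ = D) : D ≤ R := by
  refine le_of_map_perm ?_
  have h1 : Pf (D.map (MulAction.toPermHom G (G ⧸ R))) := by unfold Pf; rw [← map_commutator, hD]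
  obtain ⟨S, hS⟩ := H24.Sylow_exists Nat.prime_two (D.map (MulAction.toPermHom G (G ⧸ R)))
  refine h1.eq_bot_of_cyc2 hS (H25.cyc_of_card_dvd_prime Nat.prime_two ?_)
  obtain ⟨k, hk⟩ := hS.pi.card_eq_pow Nat.prime_two
  have h2 := (card_subgroup_dvd_card S).trans (card_perm_dvd hR)
  rw [hk] at h2 ⊢
  exact (Nat.Coprime.pow_left k (by norm_num : Nat.Coprime 2 3)).dvd_of_dvd_mul_right h2

theorem pgroup_le_of_index {p : ℕ} (hp : p.Prime) (h6 : ¬ p ∣ 6) (hR : R.index ≤ 3)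
    (hD : IsPGroup p D) : D ≤ R := by
  refine le_of_map_perm ?_
  haveI := Fact.mk hp
  obtain ⟨k, hk⟩ := IsPGroup.iff_card.1 (hD.map (MulAction.toPermHom G (G ⧸ R)))
  have h2 := (card_subgroup_dvd_card (D.map (MulAction.toPermHom G (G ⧸ R)))).trans
    (card_perm_dvd hR)
  rw [hk] at h2
  exact card_eq_one.1 (hk.trans (Nat.Coprime.eq_one_of_dvd
    (Nat.Coprime.pow_left k (hp.coprime_iff_not_dvd.2 h6)) h2))

theorem cop_of {I U k q : ℕ} (hI : I ∣ 8 * (q ^ 2 - 1) ^ 2 * k) (hU : U ∣ q ^ 2 - 1)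
    (hk : q * (q ^ 2 - 1) ∣ 8 * k) (h2 : 2 ∣ k) (p : ℕ) (hp : p.Prime) (h : p ∣ I * U * 6) :
    p ∣ k := by
  have h8 : ∀ p : ℕ, p.Prime → p ∣ 8 → p ∣ k := fun p hp h =>
    ((Nat.prime_dvd_prime_iff_eq hp Nat.prime_two).1 (hp.dvd_of_dvd_pow (n := 3) h)) ▸ h2
  have hA : ∀ p : ℕ, p.Prime → p ∣ q * (q ^ 2 - 1) → p ∣ k := fun p hp h =>
    ((hp.dvd_mul).1 (h.trans hk)).elim (h8 p hp) id
  have hB : p ∣ q ^ 2 - 1 → p ∣ k := fun h => hA p hp (h.mul_left q)
  rcases (hp.dvd_mul).1 h with h | h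
  · rcases (hp.dvd_mul).1 h with h | h
    · rcases (hp.dvd_mul).1 (h.trans hI) with h | h
      · exact ((hp.dvd_mul).1 h).elim (h8 p hp) fun h => hB (hp.dvd_of_dvd_pow h)
      · exact h
    · exact hB (h.trans hU)
  · rcases (hp.dvd_mul (m := 2) (n := 3)).1 h with h | h
    · exact h.trans h2
    · refine h.trans (hA 3 Nat.prime_three ?_)
      by_cases h3 : 3 ∣ q
      · exact h3.mul_right _
      · refine Dvd.dvd.mul_left ((Nat.modEq_iff_dvd' (Nat.one_le_pow _ _ (by omega))).1 ?_) _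
        have : q % 3 = 1 ∨ q % 3 = 2 := by omega
        rcases this with e | e <;> simp [Nat.ModEq, Nat.pow_mod, e]

theorem dvd_of_mul_dvd {g a k d : ℕ} (hg : g ∣ a) (ha : 0 < a) (h : a * d ∣ g * k) : d ∣ k := by
  obtain ⟨u, rfl⟩ := hg
  rw [mul_assoc] at h
  exact (Dvd.intro_left u rfl).trans (Nat.dvd_of_mul_dvd_mul_left (Nat.pos_of_mul_pos_right ha) h)

end Gen

variable {F : Type*} [Field F] [Fintype F] {σ : F →+* F} {V : Type*} [AddCommGroup V] [Module F V]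
  [FiniteDimensional F V] {Φ : Form σ V}

/-- The projective group of a form. -/
abbrev PG (Φ : Form σ V) : Type _ := EG Φ ⧸ center (EG Φ)

theorem comm_le_ker : ⁅(⊤ : Subgroup (SemiSim Φ)), ⊤⁆ ≤ (SemiSim.sHom Φ).ker :=
  commutator_le.2 fun a _ b _ => by
    rw [MonoidHom.mem_ker, map_commutatorElement, commutatorElement_eq_one_iff_mul_comm]
    exact RingEquiv.ext fun x => ringAut_comm _ _ x

theorem comm_ker_le : ⁅(SemiSim.sHom Φ).ker, (SemiSim.sHom Φ).ker⁆ ≤ (SemiSim.ofIsom Φ).range :=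
  commutator_le.2 fun a ha b hb => by
    have h1 : SemiSim.κHom Φ ⁅(⟨a, ha⟩ : (SemiSim.sHom Φ).ker), (⟨b, hb⟩ : (SemiSim.sHom Φ).ker)⁆ = 1 := by
      rw [map_commutatorElement, commutatorElement_eq_one_iff_mul_comm, mul_comm]
    have h3 : (⁅a, b⁆).s = RingEquiv.refl F := comm_le_ker (commutator_mem_commutator trivial trivial)
    have h4 : (⁅a, b⁆).κ = 1 := h1
    generalize ⁅a, b⁆ = c at h3 h4
    exact ⟨⟨{ c.fn with map_smul' := fun x v => by simp [c.map_smul, h3] },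
      fun u v => by simpa [h3, h4] using c.map_B u v, fun v => by simpa [h3, h4] using c.map_Q v⟩,
      SemiSim.ext rfl h3.symm h4.symm⟩

theorem toAut_ofIsom (g : EG Φ) : toAut Φ (SemiSim.ofIsom Φ g.1) = MulAut.conj (g : PG Φ) :=
  MulEquiv.ext fun x => by
    obtain ⟨h, rfl⟩ := QuotientGroup.mk_surjective x
    rfl

theorem sch_of (hI : (toAut Φ).range.index ≤ 3) (hE : commutator Φ.Isom ≤ EG Φ) : SCH (PG Φ) := by
  intro D hD
  have step : ∀ A B : Subgroup (SemiSim Φ), ⁅A, A⁆ ≤ B → D ≤ A.map (toAut Φ) →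
      D ≤ B.map (toAut Φ) := fun A B h1 h2 =>
    hD.ge.trans ((commutator_mono h2 h2).trans (by rw [← map_commutator]; exact map_mono h1))
  have h0 : D ≤ (⊤ : Subgroup (SemiSim Φ)).map (toAut Φ) := by
    rw [← MonoidHom.range_eq_map]; exact pf_le_of_index hI hD
  refine (step _ ((EG Φ).map (SemiSim.ofIsom Φ)) ?_ (step _ _ comm_ker_le (step _ _ comm_le_ker h0))).trans ?_
  · rw [MonoidHom.range_eq_map, ← map_commutator]; exact map_mono hE
  · rintro _ ⟨_, ⟨g, hg, rfl⟩, rfl⟩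
    exact ⟨_, (toAut_ofIsom ⟨g, hg⟩).symm⟩

instance instFiniteIsomQT : Finite Φ.Isom :=
  have : Finite V := Module.finite_of_finite F
  have : Finite (V ≃ₗ[F] V) := DFunLike.finite _
  inferInstance

theorem card_ker_dvd : Nat.card (SemiSim.sHom Φ).ker ∣ Nat.card Φ.Isom * Nat.card Fˣ := by
  have h := SemiSim.card_eq (Φ := Φ)
  haveI : Finite (RingAut F) := DFunLike.finite _
  rw [card_eq_card_ker_mul_card_range (SemiSim.sHom Φ)] at h
  rw [Nat.eq_of_mul_eq_mul_right Nat.card_pos h]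
  exact mul_dvd_mul_left _ (card_subgroup_dvd_card _)

/-- The primes that divide the order of the group of similarities divide `|K|`. -/
def Cop (Φ : Form σ V) : Prop :=
  ∀ p : ℕ, p.Prime → p ∣ Nat.card Φ.Isom * Nat.card Fˣ * 6 → p ∣ Nat.card (PG Φ)

theorem Cop.eq_one (hc : Cop Φ) {a : SemiSim Φ} (ha : a ∈ (SemiSim.sHom Φ).ker)
    (h : (orderOf (toAut Φ a)).Coprime (Nat.card (PG Φ))) : toAut Φ a = 1 := by
  rw [← orderOf_eq_one_iff, Nat.eq_one_iff_not_exists_prime_dvd]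
  intro p hp hd
  exact hp.one_lt.ne' (Nat.eq_one_of_dvd_coprimes h hd (hc p hp (Dvd.dvd.mul_right
    (hd.trans ((orderOf_map_dvd _ a).trans ((Subgroup.orderOf_dvd_natCard _ ha).trans
      card_ker_dvd))) _)))

theorem der_of (hI : (toAut Φ).range = ⊤) (hc : Cop Φ) : DER (PG Φ) := by
  intro a ha h
  rw [commutator_def, ← hI, MonoidHom.range_eq_map, ← map_commutator] at ha
  obtain ⟨b, hb, rfl⟩ := ha
  exact hc.eq_one (comm_le_ker hb) h

theorem cycp_of (hI : (toAut Φ).range.index ≤ 3) (hc : Cop Φ) : CYCP (PG Φ) := by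
  intro p P hp hd hP
  have h0 := pgroup_le_of_index hp (fun h => hd (hc p hp (h.mul_left _))) hI hP
  obtain ⟨r, hr⟩ := CharP.exists F
  have : Fact r.Prime := ⟨CharP.char_is_prime F r⟩
  letI := ZMod.algebra F r
  haveI : IsCyclic (RingAut F) := (ringAutEquiv r).isCyclic.2 inferInstance
  obtain ⟨s, hs⟩ := (Subgroup.isCyclic_iff_exists_zpowers_eq_top
    ((P.comap (toAut Φ)).map (SemiSim.sHom Φ))).1 inferInstance
  obtain ⟨a, ha, rfl⟩ := hs ▸ mem_zpowers s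
  refine (Subgroup.isCyclic_iff_exists_zpowers_eq_top P).2 ⟨toAut Φ a, le_antisymm (zpowers_le.2 ha) ?_⟩
  intro α hα
  obtain ⟨b, rfl⟩ := h0 hα
  obtain ⟨k, hk⟩ := hs.ge (mem_map_of_mem (SemiSim.sHom Φ) (show b ∈ P.comap (toAut Φ) from hα))
  have h1 : toAut Φ (b * (a ^ k)⁻¹) ∈ P := by
    rw [map_mul, map_inv, map_zpow]; exact mul_mem hα (inv_mem (zpow_mem (show toAut Φ a ∈ P from ha) k))
  obtain ⟨n, hn⟩ := hP ⟨_, h1⟩
  have h2 := hc.eq_one (a := b * (a ^ k)⁻¹)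
    (by rw [MonoidHom.mem_ker, map_mul, map_inv, map_zpow, mul_inv_eq_one]; exact hk.symm)
    (Nat.Coprime.coprime_dvd_left (orderOf_dvd_of_pow_eq_one (congrArg Subtype.val hn))
      (Nat.Coprime.pow_left n ((hp.coprime_iff_not_dvd).2 hd)))
  rw [map_mul, map_inv, map_zpow, mul_inv_eq_one] at h2
  exact ⟨k, h2.symm⟩

theorem Cop.three (hc : Cop Φ) : 3 ∣ Nat.card (PG Φ) :=
  hc 3 Nat.prime_three (Dvd.dvd.mul_left (by norm_num) _)

theorem ka_form (hI : (toAut Φ).range.index ≤ 3) (hE : commutator Φ.Isom ≤ EG Φ) (hc : Cop Φ)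
    (h : NCO (PG Φ)) : KA (PG Φ) := KA.of_AUT (sch_of hI hE) (cycp_of hI hc) h hc.three

/-! Odd characteristic. -/

theorem nc_of_rel {P : Type*} [Group P] [Finite P] {p : ℕ} (hp : p.Prime) (hp2 : p ≠ 2)
    (hP : IsPGroup p P) {W : Submodule F V} (R : P → V → Prop) (one : R 1 0)
    (mul : ∀ r s w x, R r w → R s x → R (r * s) (w + x)) (uniq : ∀ r w x, R r w → R r x → w = x)
    (tot : ∀ r, ∃ w, R r w) (surj : ∀ w ∈ W, ∃ r, R r w)
    (hW : 2 ≤ finrank F W ∨ (W ≠ ⊥ ∧ ∃ c : F, ∀ n : ℕ, c ≠ n)) : NC p P := by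
  by_contra h
  haveI := H1.QT.cyclic_of_not_nc hp hp2 hP h
  obtain ⟨r, hr⟩ := IsCyclic.exists_monoid_generator (α := P)
  obtain ⟨w, hw⟩ := tot r
  have h1 : ∀ n : ℕ, R (r ^ n) ((n : F) • w) := fun n => by
    induction n with
    | zero => simpa using one
    | succ n ih => rw [pow_succ, Nat.cast_succ, add_smul, one_smul]; exact mul _ _ _ _ ih hw
  have h2 : ∀ x ∈ W, ∃ n : ℕ, x = (n : F) • w := fun x hx => by
    obtain ⟨s, hs⟩ := surj x hx
    obtain ⟨n, rfl⟩ := hr s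
    exact ⟨n, uniq _ _ _ hs (h1 n)⟩
  rcases hW with hW | ⟨hW, c, hc⟩
  · have h3 : W ≤ Submodule.span F {w} := fun x hx => by
      obtain ⟨n, rfl⟩ := h2 x hx
      exact Submodule.smul_mem _ _ (Submodule.mem_span_singleton_self w)
    have := (Submodule.finrank_mono h3).trans (finrank_span_le_card ({w} : Set V))
    simp at this
    omega
  · obtain ⟨x, hx, h0⟩ := Submodule.exists_mem_ne_zero_of_ne_bot hW
    obtain ⟨m, rfl⟩ := h2 x hx
    have hm : (m : F) ≠ 0 := fun e => h0 (by rw [e, zero_smul])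
    obtain ⟨n, hn⟩ := h2 _ (W.smul_mem (c / m) hx)
    rw [smul_smul, div_mul_cancel₀ _ hm] at hn
    exact hc n (smul_left_injective F (fun e => h0 (by rw [e, smul_zero])) hn)

theorem exists_not_cast (h : ¬ (Fintype.card F).Prime) : ∃ c : F, ∀ n : ℕ, c ≠ n := by
  by_contra h1
  push Not at h1
  obtain ⟨r, hr⟩ := CharP.exists F
  have : Fact r.Prime := ⟨CharP.char_is_prime F r⟩
  refine h (((Fintype.card_of_bijective (f := ZMod.castHom (dvd_refl r) F)
    ⟨RingHom.injective _, fun c => ?_⟩).symm.trans (ZMod.card r)) ▸ this.out)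
  obtain ⟨n, rfl⟩ := h1 c
  exact ⟨n, map_natCast _ n⟩

theorem nc_pg {p : ℕ} (hZ : ∀ z ∈ center (EG Φ), PE p z → z = 1) (h : NC p (EG Φ)) :
    NC p (PG Φ) :=
  H1.QT.nc_map_of_ker (QuotientGroup.mk' _)
    (fun g h1 h2 => hZ g ((QuotientGroup.eq_one_iff g).1 h1) ⟨1, by rw [pow_one, h2]⟩) h

theorem nco_good_odd (hΦ : Good Φ) (h2 : (2 : F) ≠ 0)
    (h : finrank F V = 3 → ¬ (Fintype.card F).Prime) : NCO (PG Φ) := by
  obtain ⟨p, hp⟩ := CharP.exists F
  have : Fact p.Prime := ⟨CharP.char_is_prime F p⟩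
  have hp2 : p ≠ 2 := by rintro rfl; exact h2 (CharP.cast_eq_zero F 2)
  obtain ⟨e, he0, he⟩ := hΦ.exists_sing
  obtain ⟨f, H⟩ := he.exists_hypPair hΦ.nd he0
  refine ⟨p, this.out, hp2, nc_pg (hΦ.center_PE p) (NC.of_subgroup _
    (nc_of_rel this.out hp2 (hΦ.isPGroup_Rad p he) (W := hypPerp Φ e f)
      (fun r w => RW Φ e f r.1.1 w) RW.one (fun _ _ _ _ a b => a.mul H b)
      (fun _ _ _ a b => a.unique H b) (fun r => exists_RW_right H r.2) (fun w hw => ?_) ?_))⟩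
  · obtain ⟨r, hr⟩ := exists_RW_left H hΦ.nd hw
    exact ⟨⟨⟨r, Rad_le_EG he hr.1⟩, hr.1⟩, hr⟩
  · have h3 := H.finrank_perp hΦ.nd
    have h4 := hΦ.dim
    by_cases h5 : finrank F V = 3
    · exact Or.inr ⟨H.perp_ne_bot hΦ.nd h4, exists_not_cast (h h5)⟩
    · left; omega

theorem nco_zf_odd (hn : 2 ≤ finrank F V) (h2 : (2 : F) ≠ 0)
    (h : finrank F V = 2 → ¬ (Fintype.card F).Prime) : NCO (PG (zf F V)) := by
  obtain ⟨p, hp⟩ := CharP.exists F
  have : Fact p.Prime := ⟨CharP.char_is_prime F p⟩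
  have hp2 : p ≠ 2 := by rintro rfl; exact h2 (CharP.cast_eq_zero F 2)
  obtain ⟨f, hf⟩ := exists_not_mem_span hn (0 : V)
  obtain ⟨φ, -, hφ⟩ := exists_dual_one hf
  refine ⟨p, this.out, hp2, nc_pg (zf_center_PE p hn) (NC.of_subgroup _
    (nc_of_rel this.out hp2 (isPGroup_rad_zf p (LinearMap.ker φ)) (W := LinearMap.ker φ)
      (fun r w => φ w = 0 ∧ r.1.1.1 f = f + w) ⟨map_zero _, by simp⟩ ?_
      (fun _ _ _ a b => add_left_cancel (a.2.symm.trans b.2))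
      (fun r => ⟨_, (mem_rad_zf.1 r.2).2 f, by simp⟩) (fun w hw => ?_) ?_))⟩
  · rintro r s w x ⟨h1, h3⟩ ⟨h4, h5⟩
    refine ⟨by rw [map_add, h1, h4, add_zero], ?_⟩
    change r.1.1.1 (s.1.1.1 f) = _
    rw [h5, map_add, h3, show r.1.1.1 x = x from (mem_rad_zf.1 r.2).1 x h4, add_assoc]
  · exact ⟨⟨tv φ w hw, tv_mem_rad hw⟩, hw, (tv_apply φ w hw f).trans (by rw [hφ, one_smul])⟩
  · have h3 := finrank_ker hφ
    by_cases h5 : finrank F V = 2
    · exact Or.inr ⟨fun e => by rw [e] at h3; simp at h3; omega, exists_not_cast (h h5)⟩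
    · left; omega

/-! Characteristic two. -/

theorem nco_of_quad (h2 : (2 : F) = 0) (hZ : ∀ g ∈ center (EG Φ), ∃ c : F, ∀ v, g.1.1 v = c • v)
    (φ : Fin 4 → Dual F V) (v : Fin 4 → V) (hδ : ∀ i j, φ i (v j) = if i = j then 1 else 0)
    {a b c d : EG Φ} (ha : ∀ x, a.1.1 x = x + φ 1 x • v 0 + φ 2 x • v 3)
    (hb : ∀ x, b.1.1 x = x + φ 0 x • v 1 + φ 3 x • v 2)
    (hc : ∀ x, c.1.1 x = x + φ 2 x • v 1 + φ 3 x • v 0)
    (hd : ∀ x, d.1.1 x = x + φ 0 x • v 3 + φ 1 x • v 2) : NCO (PG Φ) := by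
  haveI : CharP F 2 := CharTwo.of_one_ne_zero_of_two_eq_zero one_ne_zero h2
  have ext : ∀ {g h : EG Φ}, (∀ x, g.1.1 x = h.1.1 x) → g = h := fun e =>
    Subtype.ext (Form.Isom.ext e)
  have key : ∀ g h : EG Φ, (g * h).1.1 = g.1.1 * h.1.1 := fun _ _ => rfl
  have ne : ∀ (g h : EG Φ) (i j : Fin 4), φ j (g.1.1 (v i)) = 0 → φ j (h.1.1 (v i)) = 1 →
      (g : PG Φ) ≠ h := by
    intro g h i j h1 h4 e
    obtain ⟨t, ht⟩ := hZ _ (QuotientGroup.eq.1 e)
    have h6 : h.1.1 (v i) = t • g.1.1 (v i) := by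
      rw [← map_smul, ← ht]; exact (Form.Isom.apply_inv_apply g.1 _).symm
    rw [h6, map_smul, h1, smul_zero] at h4
    exact zero_ne_one h4
  refine ⟨3, Nat.prime_three, by norm_num, NC.of_dih (a := (a : PG Φ)) (b := b) (c := c) (d := d)
    Nat.prime_three (by norm_num) ?_ ?_ ?_ ?_ (ne a b 0 1 ?_ ?_)
    (ne c d 0 3 ?_ ?_) ?_ ?_ ?_ ?_ ?_⟩
  all_goals first
    | (simp [ha, hb, hc, hd, hδ]; done)
    | (refine congrArg QuotientGroup.mk (ext fun x => ?_)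
       simp only [pow_succ, pow_zero, one_mul, key, LinearEquiv.mul_apply, ha, hb, hc, hd, hδ,
         map_add, map_smul, OneMemClass.coe_one, LinearEquiv.coe_one, id]
       simp only [Fin.reduceEq, if_true, if_false, smul_eq_mul]
       match_scalars <;> ring_nf <;> reduce_mod_char!)

end H16.QT
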