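import Mathlib
import Cfsg.Agent.H16.QTCla1
import Cfsg.Agent.H7.SmallIso

/-!
Quasithin preliminaries: the classical groups.
-/

set_option autoImplicit false
set_option linter.unusedSectionVars false

namespace H16.QT

open Module H15 H7 Subgroup Cfsg
open scoped commutatorElement

section Form

variable {F : Type*} [Field F] [Fintype F] {σ : F →+* F} {V : Type*} [AddCommGroup V] [Module F V]
  [FiniteDimensional F V] {Φ : Form σ V}

theorem exists_sieg (h : Φ.Nondeg) (h2 : (2 : F) = 0) (hε : Φ.ε = 1)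
    (hτ : ∀ c, Φ.τ * σ c = Φ.τ * c) {u v : V} (hu : Sing Φ u) (hv : Sing Φ v) (huv : Φ.B u v = 0) :
    ∃ a : EG Φ, ∀ x, a.1.1 x = x + Φ.B v x • u + Φ.B u x • v := by
  have hs : ∀ x y, Φ.B y x = σ (Φ.B x y) := fun x y => by rw [Φ.symm, hε, one_mul]
  have hvu : Φ.B v u = 0 := by rw [hs, huv, map_zero]
  refine ⟨⟨Φ.mkIsom h (LinearMap.id + (Φ.B v).smulRight u + (Φ.B u).smulRight v) (fun x y => ?_)
    fun x => ?_, Rad_le_EG hu (mem_Rad.2 ⟨?_, fun x hx => ⟨Φ.B v x, ?_⟩⟩)⟩, fun x => rfl⟩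
  · simp only [LinearMap.add_apply, LinearMap.id_apply, LinearMap.smulRight_apply, map_add,
      map_smul, LinearMap.map_smulₛₗ, LinearMap.smul_apply, hu.1, hv.1, huv, hvu, smul_eq_mul,
      hs u x, hs v x]
    linear_combination (Φ.B v y * σ (Φ.B u x) + Φ.B u y * σ (Φ.B v x)) * h2
  · simp only [LinearMap.add_apply, LinearMap.id_apply, LinearMap.smulRight_apply, map_add,
      map_smul, LinearMap.map_smulₛₗ, LinearMap.smul_apply, hu.2, hv.2, huv, smul_eq_mul,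
      hs u x, hs v x, Φ.Q_add, Φ.Q_smul]
    linear_combination Φ.B v x * hτ (Φ.B u x) + Φ.B u x * hτ (Φ.B v x) +
      Φ.τ * Φ.B u x * Φ.B v x * h2
  · simp [hu.1, hvu]
  · simp [hx]

theorem nco_good_two (hΦ : Good Φ) (h2 : (2 : F) = 0) (hε : Φ.ε = 1) (h : finrank F V ≠ 3) :
    NCO (PG Φ) := by
  obtain ⟨e, he0, he⟩ := hΦ.exists_sing
  obtain ⟨f, H⟩ := he.exists_hypPair hΦ.nd he0
  obtain ⟨u, w, hu, hw, H'⟩ := hΦ.exists_sing_perp H h
  rw [mem_hypPerp] at hu hw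
  have hs : ∀ x y, Φ.B x y = 0 → Φ.B y x = 0 := fun x y e => by rw [Φ.symm, e, map_zero, mul_zero]
  have T := @exists_sieg F _ _ σ V _ _ _ Φ hΦ.nd h2 hε (tau_sigma H)
  obtain ⟨a, ha⟩ := T he H'.sing_f hw.1
  obtain ⟨b, hb⟩ := T H'.sing_e H.sing_f (hs _ _ hu.2)
  obtain ⟨c, hc⟩ := T H'.sing_e he (hs _ _ hu.1)
  obtain ⟨d, hd⟩ := T H'.sing_f H.sing_f (hs _ _ hw.2)
  refine nco_of_quad h2 (fun g => hΦ.mem_center_iff.1) ![Φ.B f, Φ.B w, Φ.B e, Φ.B u] ![e, u, f, w]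
    (fun i j => ?_) ha hb hc hd
  fin_cases i <;> fin_cases j <;> simp [H.ee, H.ff, H.ef, H.fe, H'.ee, H'.ff, H'.ef, H'.fe, hε,
    hu.1, hu.2, hw.1, hw.2, hs _ _ hu.1, hs _ _ hu.2, hs _ _ hw.1, hs _ _ hw.2]

theorem eg_mul_apply (g h : EG Φ) (x : V) : (g * h).1.1 x = g.1.1 (h.1.1 x) := rfl

theorem nco_zf_two (h2 : (2 : F) = 0) (h : 4 ≤ finrank F V) : NCO (PG (zf F V)) := by
  let b := Module.finBasis F V
  have hδ : ∀ i j : Fin 4, b.coord (Fin.castLE h i) (b (Fin.castLE h j)) =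
      if i = j then 1 else 0 := fun i j => by
    simp [Finsupp.single_apply, eq_comm]
  have T : ∀ i j k l : Fin 4, j ≠ i → l ≠ k → j ≠ k → ∃ a : EG (zf F V), ∀ x, a.1.1 x =
      x + b.coord (Fin.castLE h j) x • b (Fin.castLE h i) +
        b.coord (Fin.castLE h l) x • b (Fin.castLE h k) := fun i j k l h1 h3 h4 =>
    ⟨tv _ _ ((hδ j i).trans (if_neg h1)) * tv _ _ ((hδ l k).trans (if_neg h3)), fun x => by
      rw [eg_mul_apply, tv_apply, tv_apply, map_add, map_smul, hδ, if_neg h4, smul_zero, add_zero,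
        add_right_comm]⟩
  obtain ⟨a, ha⟩ := T 0 1 3 2 (by decide) (by decide) (by decide)
  obtain ⟨c, hc⟩ := T 1 0 2 3 (by decide) (by decide) (by decide)
  obtain ⟨d, hd⟩ := T 1 2 0 3 (by decide) (by decide) (by decide)
  obtain ⟨e, he⟩ := T 3 0 2 1 (by decide) (by decide) (by decide)
  exact nco_of_quad h2 (fun g => (zf_center (by omega)).1) _ _ hδ ha hc hd he

theorem nc_mat3 {G : Type*} [Group G] [Finite G] (ρ : G →* Matrix (Fin 3) (Fin 3) F)
    (hρ : Function.Injective ρ) {r : ℕ} (hr : r.Prime) {a : F} (ha : a ^ r = 1) (h1 : a ≠ 1)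
    {x y P : G} (hx : ρ x = Matrix.diagonal ![a, a⁻¹, 1]) (hy : ρ y = Matrix.diagonal ![1, a, a⁻¹])
    (hP : ρ P = !![0, 0, 1; 1, 0, 0; 0, 1, 0]) : NC r (G ⧸ center G) := by
  have h0 : a ≠ 0 := by rintro rfl; rw [zero_pow hr.ne_zero] at ha; exact zero_ne_one ha
  have hxP : ¬ P * x = x * P := fun e => by
    have := congrFun (congrFun (congrArg ρ e) 0) 2
    rw [map_mul, map_mul, hx, hP] at this
    simp at this
    exact h1 this.symm
  have hpow : ∀ {z : G} {d : Fin 3 → F}, ρ z = Matrix.diagonal d → (∀ i, d i ^ r = 1) →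
      (z : G ⧸ center G) ^ r = 1 := fun {z d} h3 h4 =>
    congrArg QuotientGroup.mk (show z ^ r = 1 from hρ (by
      rw [map_pow, h3, Matrix.diagonal_pow, map_one, ← Matrix.diagonal_one]
      exact congrArg _ (funext h4)))
  have hx1 := hpow hx fun i => by fin_cases i <;> simp [ha]
  have hx0 : (x : G ⧸ center G) ≠ 1 := fun e =>
    hxP (mem_center_iff.1 ((QuotientGroup.eq_one_iff x).1 e) P)
  have hz : ∀ z : G, (z : G ⧸ center G) ∈ zpowers (x : G ⧸ center G) →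
      ∃ n : ℕ, x ^ n * z ∈ center G := fun z hz => by
    obtain ⟨n, hn⟩ := (mem_powers_iff_mem_zpowers).2 (inv_mem hz)
    exact ⟨n, (QuotientGroup.eq_one_iff _).1 (eq_inv_iff_mul_eq_one.1 hn)⟩
  by_cases h3 : r = 3
  · subst h3
    refine ⟨x, P, hx1, congrArg QuotientGroup.mk (show P ^ 3 = 1 from hρ ?_),
      QuotientGroup.eq.2 (mem_center_iff.2 fun g => hρ ?_), hx0, fun e => hxP ?_⟩
    · rw [map_pow, hP, map_one]
      ext i j; fin_cases i <;> fin_cases j <;> simp [pow_succ]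
    · have h4 : ρ (P * x) = a⁻¹ • ρ (x * P) := by
        rw [map_mul, map_mul, hx, hP]
        ext i j; fin_cases i <;> fin_cases j <;> simp [h0]
        field_simp
        exact ha
      rw [map_mul, map_mul _ _ g, map_mul, h4, mul_smul_comm, ← map_mul, inv_mul_cancel, map_one]
      simp
    · obtain ⟨n, hn⟩ := hz P e
      have := mem_center_iff.1 hn x
      rw [← mul_assoc, ← pow_succ', pow_succ, mul_assoc, mul_assoc] at this
      exact (mul_left_cancel this).symm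
  refine ⟨x, y, hx1, hpow hy fun i => by fin_cases i <;> simp [ha],
    congrArg QuotientGroup.mk (show x * y = y * x from hρ ?_), hx0, fun e => h1 ?_⟩
  · rw [map_mul, map_mul, hx, hy, Matrix.diagonal_mul_diagonal, Matrix.diagonal_mul_diagonal]
    simp only [mul_comm]
  · obtain ⟨n, hn⟩ := hz y e
    have h4 := congrArg ρ (mem_center_iff.1 hn P)
    rw [map_mul, map_mul ρ _ P, map_mul, map_pow, hx, hy, hP, Matrix.diagonal_pow,
      Matrix.diagonal_mul_diagonal] at h4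
    have h5 := congrFun (congrFun h4 0) 2
    have h6 := congrFun (congrFun h4 2) 1
    simp at h5 h6
    rw [← h5] at h6
    field_simp at h6
    exact (pow_eq_one_iff_of_coprime ((Nat.coprime_primes hr Nat.prime_three).2 h3)).1 ⟨ha, h6⟩

theorem exists_root {m : ℕ} (hm : m ∣ Fintype.card F - 1) (h1 : m ≠ 1) (ho : Odd m) :
    ∃ r : ℕ, r.Prime ∧ r ≠ 2 ∧ ∃ a : F, a ^ r = 1 ∧ a ≠ 1 ∧ a ^ m = 1 := by
  obtain ⟨r, hr, hd⟩ := Nat.exists_prime_and_dvd h1
  haveI := Fact.mk hr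
  obtain ⟨a, ha⟩ := exists_prime_orderOf_dvd_card' (G := Fˣ) r
    (by rw [Nat.card_units, Nat.card_eq_fintype_card]; exact hd.trans hm)
  refine ⟨r, hr, ?_, a, ?_, ?_, ?_⟩
  · rintro rfl; exact (Nat.not_even_iff_odd.2 ho) (even_iff_two_dvd.2 hd)
  · rw [← Units.val_pow_eq_pow_val, ← ha, pow_orderOf_eq_one, Units.val_one]
  · intro e; rw [Units.val_eq_one.1 e, orderOf_one] at ha; exact hr.one_lt.ne ha
  · rw [← Units.val_pow_eq_pow_val, orderOf_dvd_iff_pow_eq_one.1 (ha ▸ hd), Units.val_one]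

theorem even_card (h2 : (2 : F) = 0) : Even (Fintype.card F) :=
  Nat.not_odd_iff_even.1 fun h => card_odd_iff.1 h h2

theorem units_dvd : Nat.card Fˣ ∣ Fintype.card F ^ 2 - 1 := by
  rw [Nat.card_units, Nat.card_eq_fintype_card]
  simpa using Nat.sub_dvd_pow_sub_pow (Fintype.card F) 1 2

theorem ka_quad {Q : QuadraticForm F V} (h : (ofQuad Q).Nondeg) (hn : 7 ≤ finrank F V)
    (ho : Odd (finrank F V) → (2 : F) ≠ 0) (h2 : 2 ∣ Nat.card (PG (ofQuad Q))) :
    KA (PG (ofQuad Q)) := by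
  classical
  have hΦ := quad_good h (by omega)
  have hE := quad_EG h (by omega)
  have h1 : Nat.card (ofQuad Q).Isom ∣ 8 * Nat.card (PG (ofQuad Q)) := by
    rw [Nat.card_congr (quotCenterCongr (MulEquiv.subgroupCongr hE)).toEquiv]
    obtain ⟨p, hp⟩ := CharP.exists F
    obtain ⟨f, h3, h4⟩ := FiniteField.card F p
    haveI := Fact.mk h3
    rw [card_isom_even h (by omega) _ p f h4 fun _ => Iff.rfl]
    split_ifs <;> exact mul_dvd_mul_right (by norm_num) _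
  have h3 : Fintype.card F * (Fintype.card F ^ 2 - 1) ∣ Nat.card (ofQuad Q).Isom := by
    rcases Nat.even_or_odd' (finrank F V) with ⟨m, hm | hm⟩
    · obtain ⟨k, rfl⟩ : ∃ k, m = k + 1 + 1 := ⟨m - 2, by omega⟩
      rcases card_isom_quad_even _ V Q h hm with ⟨-, e⟩ | ⟨-, e⟩ <;>
        rw [e, Finset.prod_range_succ'] <;>
        exact mul_dvd_mul (((dvd_pow_self _ (by positivity)).mul_left _).mul_right _)
          (Dvd.intro_left _ rfl)
    · obtain ⟨k, rfl⟩ : ∃ k, m = k + 1 := ⟨m - 1, by omega⟩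
      rw [(card_isom_quad_odd (ho (hm ▸ odd_two_mul_add_one _)) _ V Q h hm).2,
        Finset.prod_range_succ']
      exact mul_dvd_mul ((dvd_pow_self _ (by positivity)).mul_left _) (Dvd.intro_left _ rfl)
  refine ka_form ?_ hE.ge (cop_of (h1.trans (mul_dvd_mul_right (Dvd.intro _ rfl) _)) units_dvd
    (h3.trans h1) h2) ?_
  · by_cases h4 : (toAut (ofQuad Q)).range = ⊤
    · rw [h4, index_top]; norm_num
    · obtain ⟨γ, hγ⟩ := (SetLike.not_le_iff_exists.1 (mt eq_top_iff.2 h4))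
      obtain ⟨e, he0, he⟩ := hΦ.exists_sing
      exact (index_three h ((quad_mem_or h hn γ he he0).resolve_left hγ.2).1 hγ.2).le
  · by_cases h4 : (2 : F) = 0
    · exact nco_good_two hΦ h4 rfl (by omega)
    · exact nco_good_odd hΦ h4 (by omega)

theorem ka_pOmega {ι : Type} [Fintype ι] [DecidableEq ι] {Q : QuadraticForm F (ι → F)}
    (h : (ofQuad Q).Nondeg) (hn : 7 ≤ finrank F (ι → F))
    (ho : Odd (finrank F (ι → F)) → (2 : F) ≠ 0) {K : Type*} [Group K] [Finite K]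
    (h2 : 2 ∣ Nat.card K) (e : K ≃* POmega F Q) : KA K :=
  have e' := e.trans (quotCenterCongr ((omegaEquiv Q).trans
    (MulEquiv.subgroupCongr (quad_EG h (by omega)).symm)))
  KA.of_equiv e' (ka_quad h hn ho (Nat.card_congr e'.toEquiv ▸ h2))

theorem ka_psp {m : ℕ} (hm : 2 ≤ m) (hq : m = 2 → 3 ≤ Fintype.card F)
    (h2 : 2 ∣ Nat.card (PSp m F)) : KA (PSp m F) := by
  classical
  have hΦ := sp_good (F := F) hm
  have hd := finrank_sum_fun (F := F) m
  have h1 := card_isom_alt m _ _ hΦ.nd (spForm_isAlt m) hd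
  have h3 := card_psp (F := F) m (by omega)
  rw [Nat.card_congr (pspEquiv m).toEquiv] at h2 h3
  have h4 : Nat.card (spForm m F).Isom ∣ 8 * Nat.card (PG (spForm m F)) := by
    rw [h1, ← h3]; exact mul_dvd_mul_right ((Nat.gcd_dvd_left _ _).trans (by norm_num)) _
  refine KA.of_equiv (pspEquiv m) (ka_form ?_ ((alt_EG hΦ.nd (spForm_isAlt m)).ge.trans' le_top)
    (cop_of (h4.trans (mul_dvd_mul_right (Dvd.intro _ rfl) _)) units_dvd (Dvd.dvd.trans ?_ h4) h2) ?_)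
  · rw [sp_index hm hq]; split_ifs <;> norm_num
  · obtain ⟨k, rfl⟩ : ∃ k, m = k + 1 := ⟨m - 1, by omega⟩
    rw [h1, Finset.prod_range_succ']
    exact mul_dvd_mul (dvd_pow_self _ (by positivity)) (Dvd.intro_left _ rfl)
  · by_cases h4 : (2 : F) = 0
    · exact nco_good_two hΦ h4 (show (-1 : F) = 1 by linear_combination -h4) (by omega)
    · exact nco_good_odd hΦ h4 (by omega)

theorem nco_psu3 {q : ℕ} (hF : Fintype.card F = q ^ 2) (h2 : (2 : F) = 0) : NCO (PSU 3 F q) := by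
  have hq := two_le_of_card_sq hF
  have he : Even q := (Nat.even_pow.1 (hF ▸ even_card h2)).1
  obtain ⟨r, hr, hr2, a, ha, h1, h3⟩ := exists_root (F := F) (m := q + 1)
    (by rw [hF]; exact ⟨q - 1, by simpa using Nat.sq_sub_sq q 1⟩) (by omega) he.add_one
  have h0 : a ≠ 0 := by rintro rfl; simp at h3
  have hd : ∀ d : Fin 3 → F, d 0 * d 1 * d 2 = 1 → (∀ i, d i ^ (q + 1) = 1) →
      ∃ x : SU 3 F q, (slToMat 3 F).comp (SU 3 F q).subtype x = Matrix.diagonal d :=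
    fun d h4 h5 => ⟨⟨⟨Matrix.diagonal d, by simp [Fin.prod_univ_three, h4]⟩, fun u v => by
      refine Finset.sum_congr rfl fun i _ => ?_
      change (Matrix.diagonal d).mulVec u i * (Matrix.diagonal d).mulVec v i ^ q = _
      rw [Matrix.mulVec_diagonal, Matrix.mulVec_diagonal, mul_pow]
      linear_combination u i * v i ^ q * h5 i⟩, rfl⟩
  obtain ⟨x, hx⟩ := hd ![a, a⁻¹, 1] (by simp [h0]) fun i => by fin_cases i <;> simp [h3]
  obtain ⟨y, hy⟩ := hd ![1, a, a⁻¹] (by simp [h0]) fun i => by fin_cases i <;> simp [h3]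
  refine ⟨r, hr, hr2, nc_mat3 ((slToMat 3 F).comp (SU 3 F q).subtype)
    (fun _ _ e => Subtype.ext (Subtype.ext e)) hr ha h1 hx hy
    (P := ⟨⟨!![0, 0, 1; 1, 0, 0; 0, 1, 0], by simp [Matrix.det_fin_three]⟩, fun u v => ?_⟩) rfl⟩
  change hermForm 3 F q (!![0, 0, 1; 1, 0, 0; 0, 1, 0].mulVec u)
    (!![0, 0, 1; 1, 0, 0; 0, 1, 0].mulVec v) = _
  simp [hermForm, Fin.sum_univ_three, Matrix.mulVec, dotProduct]
  ring

theorem ka_psu {q n : ℕ} (hF : Fintype.card F = q ^ 2) (hn : 3 ≤ n) (h32 : ¬ (n = 3 ∧ q = 2))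
    (h2 : 2 ∣ Nat.card (PSU n F q)) : KA (PSU n F q) := by
  have h := unForm_nondeg hF n
  have hH := unForm_isHerm hF n
  have hd : finrank F (Fin n → F) = n := by simp
  have hΦ := herm_good hF h hH (by omega)
  have hE := herm_EG hF h hH (notSU32 hF n hn h32)
  have hq := two_le_of_card_sq hF
  have e := quotCenterCongr ((suEquiv hF n).trans (MulEquiv.subgroupCongr hE.symm))
  have h1 := card_isom_herm hF n _ _ h hH hd
  have h3 := card_psu hF n (by omega)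
  rw [Nat.card_congr e.toEquiv] at h2 h3
  have h5 : q + 1 ∣ q ^ 2 - 1 := ⟨q - 1, by simpa using Nat.sq_sub_sq q 1⟩
  refine KA.of_equiv e (ka_form ?_ (hE ▸ Abelianization.commutator_subset_ker _)
    (cop_of (q := q) ?_ (by rw [Nat.card_units, Nat.card_eq_fintype_card, hF]) ?_ h2) ?_)
  · have h2 : (toAut (unForm hF n)).range = ⊤ := eq_top_iff.2 fun α _ => by
      obtain ⟨e, he0, he⟩ := hΦ.exists_sing
      obtain ⟨e', h3⟩ := hΦ.exists_ptC (herm_tr hF h hH (by omega))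
        (by simpa using exists_ne_eps_sigma hH.1 _) α he he0
      exact h3.mem_range hΦ (fun _ => hH.1)
        (herm_tor hF h hH (notSU32 hF n hn h32) fun h4 h5 => h32 ⟨by omega, h5⟩)
        (fun s => map_one s) fun s => map_zero s
    rw [h2, index_top]; norm_num
  · rw [h1, ← h3, ← mul_assoc, pow_two (q ^ 2 - 1)]
    exact mul_dvd_mul_right ((mul_dvd_mul ((Nat.gcd_dvd_right _ _).trans h5) h5).mul_left _) _
  · refine Dvd.dvd.mul_left (dvd_of_mul_dvd (Nat.gcd_dvd_right n (q + 1)) (by omega)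
      (Nat.dvd_of_mul_dvd_mul_left (show 0 < q + 1 by omega) ?_)) _
    rw [mul_left_comm _ (Nat.gcd _ _), h3]
    obtain ⟨k, rfl⟩ : ∃ k, n = k + 3 := ⟨n - 3, by omega⟩
    rw [Finset.prod_range_succ', Finset.prod_range_succ', Finset.prod_range_succ']
    obtain ⟨t, ht⟩ : q + 1 ∣ q ^ 3 + 1 := by simpa using Odd.nat_add_dvd_pow_add_pow q 1 (n := 3) (by decide)
    obtain ⟨j, hj⟩ : ∃ j, (k + 3) * (k + 3 - 1) / 2 = j + 1 :=
      Nat.exists_eq_add_one_of_ne_zero (Nat.div_pos (by simp; nlinarith) two_pos).ne'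
    rw [hj]
    norm_num [ht]
    exact Dvd.intro (q ^ j * (t * ∏ i ∈ Finset.range k, if Even (i + 1 + 1 + 1) then
      q ^ (i + 1 + 1 + 1 + 1) + 1 else q ^ (i + 1 + 1 + 1 + 1) - 1)) (by ring)
  · by_cases h4 : (2 : F) = 0
    · by_cases h6 : n = 3
      · subst h6; exact (nco_psu3 hF h4).of_equiv e.symm
      · exact nco_good_two hΦ h4 rfl (by omega)
    · exact nco_good_odd hΦ h4 fun _ => hF ▸ Nat.Prime.not_prime_pow le_rfl

theorem nco_psl3 (h2 : (2 : F) = 0) (hq : Fintype.card F ≠ 2) :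
    NCO (Matrix.ProjectiveSpecialLinearGroup (Fin 3) F) := by
  have h4 := Fintype.one_lt_card (α := F)
  obtain ⟨r, hr, hr2, a, ha, h1, h3⟩ := exists_root (F := F) dvd_rfl (by omega)
    (Nat.Even.sub_odd h4.le (even_card h2) odd_one)
  have h0 : a ≠ 0 := by rintro rfl; rw [zero_pow hr.ne_zero] at ha; exact zero_ne_one ha
  exact ⟨r, hr, hr2, nc_mat3 (slToMat 3 F) (fun _ _ e => Subtype.ext e) hr ha h1
    (x := ⟨.diagonal ![a, a⁻¹, 1], by simp [Fin.prod_univ_three, h0]⟩)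
    (y := ⟨.diagonal ![1, a, a⁻¹], by simp [Fin.prod_univ_three, h0]⟩)
    (P := ⟨!![0, 0, 1; 1, 0, 0; 0, 1, 0], by simp [Matrix.det_fin_three]⟩) rfl rfl rfl⟩

theorem card_isom_zf (n : ℕ) : Nat.card (zf F (Fin n → F)).Isom = Nat.gcd n (Fintype.card F - 1) *
    ((Fintype.card F - 1) * Nat.card (Matrix.ProjectiveSpecialLinearGroup (Fin n) F)) ∨ n = 0 := by
  rcases Nat.eq_zero_or_pos n with h | h
  · exact Or.inr h
  left
  rw [show (zf F (Fin n → F)).Isom = ⊤ from eq_top_iff.2 fun g _ => (zI g).2, Subgroup.card_top,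
    ← Nat.card_congr (glEquiv (Fin n) F).toEquiv, H7.card_gl rfl, card_psl rfl n h]

theorem cop_zf {n : ℕ} (hn : 2 ≤ n)
    (h2 : 2 ∣ Nat.card (Matrix.ProjectiveSpecialLinearGroup (Fin n) F)) :
    Cop (zf F (Fin n → F)) := by
  have e := Nat.card_congr (quotCenterCongr (slEG (Fin n) F)).toEquiv
  have h4 := Fintype.one_lt_card (α := F)
  have h5 : Fintype.card F - 1 ∣ Fintype.card F ^ 2 - 1 := by
    simpa using Nat.sub_dvd_pow_sub_pow (Fintype.card F) 1 2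
  refine cop_of (q := Fintype.card F) ?_ units_dvd (e ▸ ?_) (e ▸ h2)
  · rw [(card_isom_zf n).resolve_right (by omega), ← e, ← mul_assoc, pow_two (_ - 1)]
    exact mul_dvd_mul_right ((mul_dvd_mul ((Nat.gcd_dvd_right _ _).trans h5) h5).mul_left _) _
  by_cases h6 : n = 2
  · subst h6
    rw [← card_psl_two rfl]
    exact mul_dvd_mul_right ((Nat.gcd_dvd_left _ _).trans (by norm_num)) _
  refine Dvd.dvd.mul_left (dvd_of_mul_dvd (Nat.gcd_dvd_right n (Fintype.card F - 1)) (by omega)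
    (Nat.dvd_of_mul_dvd_mul_left (show 0 < Fintype.card F - 1 by omega) ?_)) _
  rw [mul_left_comm _ (Nat.gcd _ _), card_psl rfl n (by omega)]
  generalize Fintype.card F = q
  obtain ⟨k, rfl⟩ : ∃ k, n = k + 3 := ⟨n - 3, by omega⟩
  rw [Fin.prod_univ_eq_prod_range (fun i => q ^ (k + 3) - q ^ i), Finset.prod_range_succ,
    Finset.prod_range_succ, Finset.prod_range_succ]
  obtain ⟨t, ht⟩ : q - 1 ∣ q ^ 3 - 1 := by simpa using Nat.sub_dvd_pow_sub_pow q 1 3
  rw [show q ^ (k + 3) - q ^ k = q ^ k * (q ^ 3 - 1) by rw [Nat.mul_sub_one, ← pow_add],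
    show q ^ (k + 3) - q ^ (k + 1) = q ^ (k + 1) * (q ^ 2 - 1) by rw [Nat.mul_sub_one, ← pow_add],
    show q ^ (k + 3) - q ^ (k + 2) = q ^ (k + 2) * (q - 1) by rw [Nat.mul_sub_one, ← pow_succ], ht]
  exact Dvd.intro ((∏ i ∈ Finset.range k, (q ^ (k + 3) - q ^ i)) * q ^ k * t * q ^ k * q ^ (k + 2))
    (by ring)

end Form

section Fam

theorem ka_psl2 {F : Type} [Field F] [Fintype F]
    (h2 : 2 ∣ Nat.card (Matrix.ProjectiveSpecialLinearGroup (Fin 2) F)) :
    KA (Matrix.ProjectiveSpecialLinearGroup (Fin 2) F) := by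
  obtain ⟨p, hp⟩ := CharP.exists F
  have : Fact p.Prime := ⟨CharP.char_is_prime F p⟩
  have e := quotCenterCongr (slEG (Fin 2) F)
  have hd : finrank F (Fin 2 → F) = 2 := by simp
  have hc := cop_zf le_rfl h2
  have hI := index_toAut_zf p (EG_zf (Fin 2) F) hd.ge
  rw [if_pos hd] at hI
  refine ⟨KF.of_equiv e (Or.inr (Or.inr (Or.inl ⟨sch_of (by omega)
    (EG_zf (Fin 2) F ▸ Abelianization.commutator_subset_ker _), der_of (index_eq_one.1 hI) hc⟩))),
    ?_, Or.inr (Nat.card_congr e.toEquiv ▸ hc.three)⟩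
  by_cases h4 : (2 : F) = 0
  · exact Or.inl (Or.inl ⟨F, _, inferInstance, CharTwo.of_one_ne_zero_of_two_eq_zero one_ne_zero h4,
      ⟨MulEquiv.refl _⟩⟩)
  by_cases h5 : (Fintype.card F).Prime
  · exact Or.inl (Or.inr (Or.inr (Or.inl ⟨F, _, _, h5,
      fun h => absurd (h ▸ card_odd_iff.2 h4) (by decide), ⟨MulEquiv.refl _⟩⟩)))
  · exact Or.inr ((nco_zf_odd hd.ge h4 fun _ => h5).of_equiv e)

theorem ka_psl {F : Type} [Field F] [Fintype F] {n : ℕ} (hn : 2 ≤ n)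
    (h2 : 2 ∣ Nat.card (Matrix.ProjectiveSpecialLinearGroup (Fin n) F)) :
    KA (Matrix.ProjectiveSpecialLinearGroup (Fin n) F) := by
  by_cases h3 : n = 2
  · subst h3; exact ka_psl2 h2
  by_cases h5 : n = 3 ∧ Fintype.card F = 2
  · obtain ⟨rfl, h5⟩ := h5
    haveI : Fact (Nat.Prime 7) := ⟨by norm_num⟩
    obtain ⟨e⟩ := psl2_seven_equiv (ZMod.card 7) h5
    exact KA.of_equiv e.symm (ka_psl2 (Nat.card_congr e.toEquiv ▸ h2))
  obtain ⟨p, hp⟩ := CharP.exists F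
  have : Fact p.Prime := ⟨CharP.char_is_prime F p⟩
  have e := quotCenterCongr (slEG (Fin n) F)
  have hd : finrank F (Fin n → F) = n := by simp
  refine KA.of_equiv e (ka_form ?_ (EG_zf (Fin n) F ▸ Abelianization.commutator_subset_ker _)
    (cop_zf hn h2) ?_)
  · rw [index_toAut_zf p (EG_zf (Fin n) F) (by omega)]; split_ifs <;> norm_num
  by_cases h4 : (2 : F) = 0
  · by_cases h6 : n = 3
    · subst h6; exact (nco_psl3 h4 fun h => h5 ⟨rfl, h⟩).of_equiv e.symm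
    · exact nco_zf_two h4 (by omega)
  · exact nco_zf_odd (by omega) h4 (by omega)

variable {K : Type*} [Group K] [Finite K] (h2 : 2 ∣ Nat.card K)
include h2

theorem ka_of_psl {F : Type} [Field F] [Fintype F] {n : ℕ} (hn : 2 ≤ n)
    (e : K ≃* Matrix.ProjectiveSpecialLinearGroup (Fin n) F) : KA K :=
  KA.of_equiv e (ka_psl hn (Nat.card_congr e.toEquiv ▸ h2))

theorem ka_PSL (h : IsPSL K) : KA K := by
  obtain ⟨F, _, _, n, hn, -, ⟨e⟩⟩ := h
  exact ka_of_psl h2 hn e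

theorem ka_PSp (h : IsPSp K) : KA K := by
  obtain ⟨F, _, _, m, hm, hq, ⟨e⟩⟩ := h
  exact KA.of_equiv e (ka_psp hm hq (Nat.card_congr e.toEquiv ▸ h2))

theorem ka_PSU (h : IsPSU K) : KA K := by
  obtain ⟨F, _, _, n, q, hF, hn, h32, ⟨e⟩⟩ := h
  exact KA.of_equiv e (ka_psu hF hn h32 (Nat.card_congr e.toEquiv ▸ h2))

theorem ka_POo (h : IsPOmegaOdd K) : KA K := by
  obtain ⟨F, _, _, m, hm, ho, ⟨e⟩⟩ := h
  exact ka_pOmega (H7.qOdd_nondeg m (card_odd_iff.1 ho)) (by rw [finrank_odd]; omega)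
    (fun _ => card_odd_iff.1 ho) h2 e

theorem ka_POp (h : IsPOmegaPlus K) : KA K := by
  obtain ⟨F, _, _, m, hm, ⟨e⟩⟩ := h
  exact ka_pOmega (H7.qPlus_nondeg m F) (by rw [finrank_plus]; omega)
    (by rw [finrank_plus]; simp) h2 e

theorem ka_POm (h : IsPOmegaMinus K) : KA K := by
  obtain ⟨F, _, _, m, a, b, hm, hab, ⟨e⟩⟩ := h
  exact ka_pOmega (H7.qMinus_nondeg (m - 1) hab) (by rw [finrank_minus]; omega)
    (by rw [finrank_minus]; simp) h2 e

theorem ka_A5 (e : K ≃* alternatingGroup (Fin 5)) : KA K := by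
  haveI : Fact (Nat.Prime 5) := ⟨by norm_num⟩
  obtain ⟨e'⟩ := psl2_five_equiv_A5 (ZMod.card 5)
  exact ka_of_psl h2 le_rfl (e.trans e'.symm)

theorem ka_A6 (e : K ≃* alternatingGroup (Fin 6)) : KA K := by
  letI := Fintype.ofFinite (GaloisField 3 2)
  obtain ⟨e'⟩ := psl2_nine_equiv_A6 (F := GaloisField 3 2)
    (by rw [← Nat.card_eq_fintype_card, GaloisField.card 3 2 two_ne_zero]; rfl)
  exact ka_of_psl h2 le_rfl (e.trans e'.symm)

theorem ka_A8 (e : K ≃* alternatingGroup (Fin 8)) : KA K := by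
  obtain ⟨e'⟩ := psl4_two_equiv_A8 (ZMod.card 2)
  exact ka_of_psl h2 (by norm_num) (e.trans e'.symm)

end Fam

end H16.QT
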