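import Mathlib
import Cfsg.Agent.H16.QTCla2

/-!
Schreier property for the classical groups.
-/

set_option autoImplicit false
set_option linter.unusedSectionVars false

namespace H16.QT

open Module H15 H7 Subgroup Cfsg

section Form

variable {F : Type*} [Field F] [Fintype F] {V : Type*} [AddCommGroup V] [Module F V]
  [FiniteDimensional F V]

theorem sch_quad {Q : QuadraticForm F V} (h : (ofQuad Q).Nondeg) (hn : 7 ≤ finrank F V) :
    SCH (PG (ofQuad Q)) := by
  classical
  have hΦ := quad_good h (by omega)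
  have hE := quad_EG h (by omega)
  refine sch_of ?_ hE.ge
  by_cases h4 : (toAut (ofQuad Q)).range = ⊤
  · rw [h4, index_top]; norm_num
  · obtain ⟨γ, hγ⟩ := (SetLike.not_le_iff_exists.1 (mt eq_top_iff.2 h4))
    obtain ⟨e, he0, he⟩ := hΦ.exists_sing
    exact (index_three h ((quad_mem_or h hn γ he he0).resolve_left hγ.2).1 hγ.2).le

theorem sch_pOmega {ι : Type} [Fintype ι] [DecidableEq ι] {Q : QuadraticForm F (ι → F)}
    (h : (ofQuad Q).Nondeg) (hn : 7 ≤ finrank F (ι → F)) {K : Type*} [Group K] [Finite K]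
    (e : K ≃* POmega F Q) : SCH K :=
  have e' := e.trans (quotCenterCongr ((omegaEquiv Q).trans
    (MulEquiv.subgroupCongr (quad_EG h (by omega)).symm)))
  SCH.of_equiv e' (sch_quad h hn)

theorem sch_psp {m : ℕ} (hm : 2 ≤ m) (hq : m = 2 → 3 ≤ Fintype.card F) : SCH (PSp m F) := by
  classical
  have hΦ := sp_good (F := F) hm
  refine SCH.of_equiv (pspEquiv m) (sch_of ?_
    ((alt_EG hΦ.nd (spForm_isAlt m)).ge.trans' le_top))
  rw [sp_index hm hq]; split_ifs <;> norm_num

theorem sch_psu {q n : ℕ} (hF : Fintype.card F = q ^ 2) (hn : 3 ≤ n) (h32 : ¬ (n = 3 ∧ q = 2)) :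
    SCH (PSU n F q) := by
  have h := unForm_nondeg hF n
  have hH := unForm_isHerm hF n
  have hd : finrank F (Fin n → F) = n := by simp
  have hΦ := herm_good hF h hH (by omega)
  have hE := herm_EG hF h hH (notSU32 hF n hn h32)
  have e := quotCenterCongr ((suEquiv hF n).trans (MulEquiv.subgroupCongr hE.symm))
  refine SCH.of_equiv e (sch_of ?_ (hE ▸ Abelianization.commutator_subset_ker _))
  have h2 : (toAut (unForm hF n)).range = ⊤ := eq_top_iff.2 fun α _ => by
    obtain ⟨e, he0, he⟩ := hΦ.exists_sing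
    obtain ⟨e', h3⟩ := hΦ.exists_ptC (herm_tr hF h hH (by omega))
      (by simpa using exists_ne_eps_sigma hH.1 _) α he he0
    exact h3.mem_range hΦ (fun _ => hH.1)
      (herm_tor hF h hH (notSU32 hF n hn h32) fun h4 h5 => h32 ⟨by omega, h5⟩)
      (fun s => map_one s) fun s => map_zero s
  rw [h2, index_top]; norm_num

end Form

theorem sch_psl {F : Type} [Field F] [Fintype F] {n : ℕ} (hn : 2 ≤ n) :
    SCH (Matrix.ProjectiveSpecialLinearGroup (Fin n) F) := by
  obtain ⟨p, hp⟩ := CharP.exists F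
  have : Fact p.Prime := ⟨CharP.char_is_prime F p⟩
  have e := quotCenterCongr (slEG (Fin n) F)
  have hd : finrank F (Fin n → F) = n := by simp
  refine SCH.of_equiv e (sch_of ?_ (EG_zf (Fin n) F ▸ Abelianization.commutator_subset_ker _))
  rw [index_toAut_zf p (EG_zf (Fin n) F) (by omega)]; split_ifs <;> norm_num

variable {K : Type*} [Group K] [Finite K]

theorem sch_PSL (h : IsPSL K) : SCH K := by
  obtain ⟨F, _, _, n, hn, -, ⟨e⟩⟩ := h
  exact SCH.of_equiv e (sch_psl hn)

theorem sch_PSp (h : IsPSp K) : SCH K := by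
  obtain ⟨F, _, _, m, hm, hq, ⟨e⟩⟩ := h
  exact SCH.of_equiv e (sch_psp hm hq)

theorem sch_PSU (h : IsPSU K) : SCH K := by
  obtain ⟨F, _, _, n, q, hF, hn, h32, ⟨e⟩⟩ := h
  exact SCH.of_equiv e (sch_psu hF hn h32)

theorem sch_POo (h : IsPOmegaOdd K) : SCH K := by
  obtain ⟨F, _, _, m, hm, ho, ⟨e⟩⟩ := h
  exact sch_pOmega (H7.qOdd_nondeg m (card_odd_iff.1 ho)) (by rw [finrank_odd]; omega) e

theorem sch_POp (h : IsPOmegaPlus K) : SCH K := by
  obtain ⟨F, _, _, m, hm, ⟨e⟩⟩ := h
  exact sch_pOmega (H7.qPlus_nondeg m F) (by rw [finrank_plus]; omega) e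

theorem sch_POm (h : IsPOmegaMinus K) : SCH K := by
  obtain ⟨F, _, _, m, a, b, hm, hab, ⟨e⟩⟩ := h
  exact sch_pOmega (H7.qMinus_nondeg (m - 1) hab) (by rw [finrank_minus]; omega) e

end H16.QT
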