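import Mathlib
import Cfsg.Agent.H16.SCla
import Cfsg.Agent.H14.Jordan

/-!
The automorphism group of the alternating group of degree at least seven.
-/

set_option autoImplicit false

namespace H16.AutAlt

open Equiv Subgroup MulAction

variable {α β : Type*} [Fintype α] [DecidableEq α] [Fintype β] [DecidableEq β]

theorem two_mul_card (h : 2 ≤ Fintype.card β) :
    2 * Nat.card (alternatingGroup β) = (Fintype.card β).factorial := by
  haveI : Nontrivial β := Fintype.one_lt_card_iff_nontrivial.1 h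
  rw [Nat.card_eq_fintype_card, two_mul_card_alternatingGroup, Fintype.card_perm]

theorem min_index (h : 5 ≤ Fintype.card β) {L : Subgroup (alternatingGroup β)} (hL : L ≠ ⊤) :
    Fintype.card β ≤ L.index := by
  haveI := alternatingGroup.isSimpleGroup (α := β) (by rwa [Nat.card_eq_fintype_card])
  have h1 : (MulAction.toPermHom (alternatingGroup β) (alternatingGroup β ⧸ L)).ker = ⊥ := by
    rw [← normalCore_eq_ker]
    exact (normalCore_normal L).eq_bot_or_eq_top.resolve_right fun e =>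
      hL (eq_top_iff.2 (e.ge.trans (normalCore_le L)))
  have h2 := Nat.card_le_card_of_injective _ ((MonoidHom.ker_eq_bot_iff _).1 h1)
  rw [Nat.card_perm] at h2
  have h3 := two_mul_card (β := β) (by omega)
  by_contra h4
  obtain ⟨m, hm⟩ : ∃ m, Fintype.card β = m + 1 := ⟨Fintype.card β - 1, by omega⟩
  have h5 : (Nat.card (alternatingGroup β ⧸ L)).factorial ≤ m.factorial :=
    Nat.factorial_le (by change L.index ≤ m; omega)
  rw [hm, Nat.factorial_succ] at h3
  have h6 := Nat.factorial_pos m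
  nlinarith

theorem exists_prime {n : ℕ} (hn : 7 ≤ n) : ∃ p, p.Prime ∧ p + 3 ≤ n ∧ ¬ p ∣ 2 * n := by
  have key : ∀ k : ℕ, 3 ≤ k → k + 3 ≤ n → Odd k → (∀ p, p ∣ k → p ∣ n → p ∣ 4) →
      ∃ p, p.Prime ∧ p + 3 ≤ n ∧ ¬ p ∣ 2 * n := fun k h1 h2 h3 h4 => by
    obtain ⟨p, hp, hd⟩ := Nat.exists_prime_and_dvd (show k ≠ 1 by omega)
    have h5 : p ≠ 2 := by
      rintro rfl; exact (Nat.not_even_iff_odd.2 h3) (even_iff_two_dvd.2 hd)
    refine ⟨p, hp, by have := Nat.le_of_dvd (by omega) hd; omega, fun h => ?_⟩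
    rcases (hp.dvd_mul).1 h with h | h
    · exact h5 ((Nat.prime_dvd_prime_iff_eq hp Nat.prime_two).1 h)
    · exact h5 ((Nat.prime_dvd_prime_iff_eq hp Nat.prime_two).1
        (hp.dvd_of_dvd_pow (n := 2) (h4 p hd h)))
  rcases Nat.even_or_odd' n with ⟨m, hm | hm⟩
  · rcases Nat.even_or_odd' m with ⟨j, hj | hj⟩
    · refine key (m - 1) (by omega) (by omega) ⟨j - 1, by omega⟩ fun p h1 h2 => ?_
      have := Nat.dvd_sub h2 (h1.mul_left 2)
      rw [show n - 2 * (m - 1) = 2 by omega] at this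
      exact this.trans (by norm_num)
    · refine key (m - 2) (by omega) (by omega) ⟨j - 1, by omega⟩ fun p h1 h2 => ?_
      have := Nat.dvd_sub h2 (h1.mul_left 2)
      rwa [show n - 2 * (m - 2) = 4 by omega] at this
  · refine key (n - 4) (by omega) (by omega) ⟨m - 2, by omega⟩ fun p h1 h2 => ?_
    have := Nat.dvd_sub h2 h1
    rwa [show n - (n - 4) = 4 by omega] at this

theorem exists_cycle {p : ℕ} (h2 : 2 ≤ p) (hp : p ≤ Fintype.card α) :
    ∃ c : Perm α, c.IsCycle ∧ c.support.card = p := by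
  obtain ⟨c, hc⟩ := (Perm.exists_with_cycleType_iff α (m := {p})).2 ⟨by simpa, by simpa⟩
  refine ⟨c, Perm.card_cycleType_eq_one.1 (by rw [hc]; rfl), ?_⟩
  rw [← Perm.sum_cycleType, hc]; rfl

theorem fix_point (h : Fintype.card β + 1 = Fintype.card α) (hn : 7 ≤ Fintype.card α)
    (ψ : alternatingGroup β →* Perm α) (hψ : Function.Injective ψ) : ∃ a, ∀ g, ψ g a = a := by
  by_contra hc
  push Not at hc
  letI : MulAction (alternatingGroup β) α := MulAction.compHom α ψ
  have hs : ∀ (g : alternatingGroup β) (a : α), g • a = ψ g a := fun _ _ => rfl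
  have h1 : ∀ a : α, stabilizer (alternatingGroup β) a ≠ ⊤ := fun a e => by
    obtain ⟨g, hg⟩ := hc a
    exact hg (show g ∈ stabilizer (alternatingGroup β) a from e ▸ mem_top g)
  have h2 : ∀ a : α, Fintype.card β ≤ (orbit (alternatingGroup β) a).ncard := fun a => by
    rw [← index_stabilizer]; exact min_index (by omega) (h1 a)
  haveI htr : IsPretransitive (alternatingGroup β) α := ⟨fun a b => by
    by_contra h3
    have h4 : Disjoint (orbit (alternatingGroup β) a) (orbit (alternatingGroup β) b) :=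
      Set.disjoint_left.2 fun x ⟨g, hg⟩ ⟨k, hk⟩ => h3 ⟨k⁻¹ * g, by
        rw [mul_smul, show g • a = k • b from hg.trans hk.symm, inv_smul_smul]⟩
    have h5 := Set.ncard_union_eq h4
    have h6 := Set.ncard_le_card (orbit (alternatingGroup β) a ∪ orbit (alternatingGroup β) b)
    have h7 := h2 a
    have h8 := h2 b
    rw [Nat.card_eq_fintype_card] at h6
    omega⟩
  haveI : Nontrivial α := Fintype.one_lt_card_iff_nontrivial.1 (by omega)
  obtain ⟨a⟩ : Nonempty α := inferInstance
  have h3 : IsPreprimitive (alternatingGroup β) α := by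
    rw [← isCoatom_stabilizer_iff_preprimitive _ a]
    refine ⟨h1 a, fun L hL => ?_⟩
    by_contra h4
    have h5 := min_index (by omega) h4
    have h6 := index_stabilizer_of_transitive (alternatingGroup β) a
    have h7 := relIndex_mul_index hL.le
    have h8 : (stabilizer (alternatingGroup β) a).relIndex L ≠ 1 := fun e =>
      hL.not_ge (relIndex_eq_one.1 e)
    rw [h6, Nat.card_eq_fintype_card] at h7
    have h9 : (stabilizer (alternatingGroup β) a).relIndex L ≠ 0 := fun e => by
      rw [e] at h7; omega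
    have : 2 * L.index ≤ Fintype.card α := h7 ▸ Nat.mul_le_mul_right _ (by omega)
    omega
  have h4 : IsPreprimitive ψ.range α :=
    IsPreprimitive.of_surjective (φ := ψ.rangeRestrict)
      (f := ⟨id, fun _ _ => rfl⟩) Function.surjective_id
  obtain ⟨p, hp, hpn, hd⟩ := exists_prime hn
  haveI := Fact.mk hp
  obtain ⟨c, hc1, hc2⟩ := exists_cycle (α := α) hp.two_le (by omega)
  have hβ := two_mul_card (β := β) (by omega)
  have hα := two_mul_card (β := α) (by omega)
  have hr : Nat.card ψ.range = Nat.card (alternatingGroup β) :=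
    (Nat.card_congr (MonoidHom.ofInjective hψ).toEquiv).symm
  have hi : ψ.range.index = 2 * Fintype.card α := by
    have h5 := ψ.range.index_mul_card
    rw [hr, Nat.card_perm, Nat.card_eq_fintype_card (α := α), ← h, Nat.factorial_succ, ← hβ] at h5
    exact Nat.eq_of_mul_eq_mul_right Nat.card_pos (h5.trans (by rw [← h]; ring))
  have h5 : IsPGroup p (zpowers c) := IsPGroup.of_card (n := 1) (by
    rw [Nat.card_zpowers, hc1.orderOf, hc2, pow_one])
  obtain ⟨x, hx⟩ := h5.nonempty_fixed_point_of_prime_not_dvd_card (Perm α ⧸ ψ.range)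
    (by change ¬ p ∣ ψ.range.index; rwa [hi])
  obtain ⟨g, rfl⟩ := QuotientGroup.mk_surjective x
  have h6 : (c * g)⁻¹ * g ∈ ψ.range := QuotientGroup.eq.1 (hx ⟨c, mem_zpowers c⟩)
  have h7 : g⁻¹ * c * g⁻¹⁻¹ ∈ ψ.range := by
    have := inv_mem h6
    rwa [show ((c * g)⁻¹ * g)⁻¹ = g⁻¹ * c * g⁻¹⁻¹ by group] at this
  have h8 := H14.jordan_prime_cycle h4 hp hpn hc1.conj (by rw [Perm.card_support_conj, hc2]) h7
  have h9 := card_le_of_le h8
  rw [hr] at h9
  rw [← h, Nat.factorial_succ] at hα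
  have := Nat.factorial_pos (Fintype.card β)
  nlinarith

theorem eq_of_stab_le (hn : 4 ≤ Fintype.card α) {a b : α}
    (h : ∀ g : alternatingGroup α, g.1 a = a → g.1 b = b) : a = b := by
  by_contra hab
  obtain ⟨c, d, hc, hd, hcd⟩ : ∃ c d, c ∈ ({a, b}ᶜ : Finset α) ∧ d ∈ ({a, b}ᶜ : Finset α) ∧ c ≠ d := by
    have : 1 < ({a, b}ᶜ : Finset α).card := by
      rw [Finset.card_compl, Finset.card_pair hab]; omega
    obtain ⟨c, hc, d, hd, e⟩ := Finset.one_lt_card.1 this
    exact ⟨c, d, hc, hd, e⟩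
  simp only [Finset.mem_compl, Finset.mem_insert, Finset.mem_singleton, not_or] at hc hd
  have := h ⟨swap b c * swap c d, by
    rw [Perm.mem_alternatingGroup, map_mul, Perm.sign_swap (Ne.symm hc.2), Perm.sign_swap hcd]
    simp⟩ (by
    change swap b c (swap c d a) = a
    rw [swap_apply_of_ne_of_ne (Ne.symm hc.1) (Ne.symm hd.1),
      swap_apply_of_ne_of_ne hab (Ne.symm hc.1)])
  change swap b c (swap c d b) = b at this
  rw [swap_apply_of_ne_of_ne (Ne.symm hc.2) (Ne.symm hd.2), swap_apply_left] at this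
  exact hc.2 this

theorem exists_pt (hn : 7 ≤ Fintype.card α) (φ : MulAut (alternatingGroup α)) (a : α) :
    ∃ b, ∀ g : alternatingGroup α, g.1 a = a → (φ g).1 b = b := by
  obtain ⟨b, hb⟩ := fix_point (β := ({a}ᶜ : Finset α)) (α := α)
    (by rw [Fintype.card_coe, Finset.card_compl, Finset.card_singleton]; omega) hn
    ((alternatingGroup α).subtype.comp (φ.toMonoidHom.comp (alternatingGroup.ofSubtype {a}ᶜ)))
    (Subtype.val_injective.comp (φ.injective.comp alternatingGroup.ofSubtype_injective))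
  refine ⟨b, fun g hg => ?_⟩
  obtain ⟨k, rfl⟩ := (alternatingGroup.mem_range_ofSubtype_iff {a}ᶜ g).2 fun x hx => by
    rw [Finset.mem_compl, Finset.mem_singleton]
    rintro rfl
    exact Perm.mem_support.1 hx hg
  exact hb k

theorem conjNormal_surjective (hn : 7 ≤ Fintype.card α) :
    Function.Surjective (MulAut.conjNormal : Perm α →* MulAut (alternatingGroup α)) := by
  intro φ
  choose σ hσ using exists_pt hn φ
  choose τ hτ using exists_pt hn φ⁻¹
  have h1 : ∀ a b, (∀ g : alternatingGroup α, g.1 a = a → (φ g).1 b = b) → a = τ b := fun a b h =>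
    eq_of_stab_le (by omega) fun g hg => by simpa using hτ b _ (h g hg)
  have h2 : ∀ b, σ (τ b) = b := fun b =>
    (eq_of_stab_le (by omega) fun g hg => by simpa using hσ _ _ (hτ b g hg)).symm
  refine ⟨⟨σ, τ, fun a => (h1 a _ (hσ a)).symm, h2⟩, MulEquiv.ext fun g => Subtype.ext
    (Equiv.ext fun b => ?_)⟩
  change σ (g.1 (τ b)) = (φ g).1 b
  rw [h1 (g.1 (τ b)) ((φ g).1 b) fun k hk => ?_, h2]
  have h3 := hσ (τ b) (g⁻¹ * k * g) (by
    change g.1⁻¹ (k.1 (g.1 (τ b))) = _
    rw [hk]; simp)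
  rw [h2, map_mul, map_mul, map_inv] at h3
  change (φ g).1⁻¹ ((φ k).1 ((φ g).1 b)) = b at h3
  exact Perm.inv_eq_iff_eq.1 h3

theorem sch_alt7 (hn : 7 ≤ Fintype.card α) : QT.SCH (alternatingGroup α) := by
  intro D hD
  have h1 : D ≤ (⊤ : Subgroup (Perm α)).map MulAut.conjNormal := fun φ _ =>
    let ⟨g, hg⟩ := conjNormal_surjective hn φ; ⟨g, trivial, hg⟩
  refine hD.ge.trans ((commutator_mono h1 h1).trans ?_)
  rw [← map_commutator]
  rintro _ ⟨g, hg, rfl⟩
  refine ⟨⟨g, Abelianization.commutator_subset_ker Perm.sign hg⟩, ?_⟩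
  exact MulAut.conjNormal_val.symm

theorem sch_Alt {K : Type*} [Group K] [Finite K] (h : Cfsg.IsAlternating K) : QT.SCH K := by
  obtain ⟨n, hn, ⟨e⟩⟩ := h
  by_cases h5 : n = 5
  · subst h5
    haveI : Fact (Nat.Prime 5) := ⟨by norm_num⟩
    obtain ⟨e'⟩ := H7.psl2_five_equiv_A5 (ZMod.card 5)
    exact QT.SCH.of_equiv (e.trans e'.symm) (QT.sch_psl le_rfl)
  by_cases h6 : n = 6
  · subst h6
    letI := Fintype.ofFinite (GaloisField 3 2)
    obtain ⟨e'⟩ := H7.psl2_nine_equiv_A6 (F := GaloisField 3 2)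
      (by rw [← Nat.card_eq_fintype_card, GaloisField.card 3 2 two_ne_zero]; rfl)
    exact QT.SCH.of_equiv (e.trans e'.symm) (QT.sch_psl le_rfl)
  exact QT.SCH.of_equiv e (sch_alt7 (by rw [Fintype.card_fin]; omega))

end H16.AutAlt
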