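import Mathlib
import Cfsg.Agent.H0.SchC

/-!
Schreier property from a model of a Sylow `2`-subgroup.
-/

set_option autoImplicit false

namespace H16.SM

open H0.Sch Subgroup

universe u v

/-- the automorphism group has no non-trivial perfect subgroup. -/
def NoPf (P : Type v) [Group P] : Prop := ∀ D : Subgroup (MulAut P), Perf D → D = ⊥

theorem tr_of_noPf {K : Type u} [Group K] {P : Type v} [Group P] (h : NoPf P) {X : Subgroup K}
    (f : X ≃* P) {D : Subgroup (MulAut K)} (hD : Perf D) (hX : Inv D X) : Tr D X ⊥ := by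
  have hk : f.toMonoidHom.ker = ⊥ := (MonoidHom.ker_eq_bot_iff _).2 f.injective
  obtain ⟨E, hE, h1, -⟩ := exists_induced hD hX f.toMonoidHom f.surjective
    (by rw [hk, Subgroup.map_bot]; exact inv_bot)
  refine tr_bot_iff.2 fun d hd x hx => ?_
  obtain ⟨e, he, h2⟩ := h1 d hd
  rw [h E hE, mem_bot] at he
  subst he
  exact (congrArg Subtype.val (f.injective (h2 ⟨x, hx⟩))).symm

theorem outS_of_two {K : Type u} [Group K] [Finite K] [IsSimpleGroup K]
    (hna : ¬ IsMulCommutative K) {S : Subgroup K} (hS : IsPGroup 2 S) (hodd : ¬ 2 ∣ S.index)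
    (h : ∀ D : Subgroup (MulAut K), Perf D → Inv D S → Tr D S ⊥) : OutS K :=
  outS_of_sylow hna (hS.toSylow hodd) h

theorem outS_of_model {K : Type u} [Group K] [Finite K] [IsSimpleGroup K]
    (hna : ¬ IsMulCommutative K) {P : Type v} [Group P] {n m : ℕ} (hP : Nat.card P = 2 ^ n)
    (hK : Nat.card K = m * 2 ^ n) (hm : ¬ 2 ∣ m) (ι : P →* K) (hι : Function.Injective ι)
    (h : NoPf P) : OutS K := by
  have h1 : Nat.card ι.range = 2 ^ n := by
    rw [← hP]; exact (Nat.card_congr (MonoidHom.ofInjective hι).toEquiv).symm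
  refine outS_of_two hna (IsPGroup.of_card h1) ?_ fun D hD hI =>
    tr_of_noPf h (MonoidHom.ofInjective hι).symm hD hI
  have h2 := ι.range.index_mul_card
  rw [h1, hK] at h2
  rwa [Nat.eq_of_mul_eq_mul_right (by positivity) h2]

end H16.SM
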