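import Mathlib
import Cfsg.Agent.H16.SMod
import Cfsg.Agent.H7.SyF
import Cfsg.Agent.H7.J2
import Cfsg.Agent.H7.J3

/-!
Schreier property for the second and third Janko groups.
-/

set_option autoImplicit false
set_option maxRecDepth 100000

namespace H16.SM

open H0.Sch Subgroup H7 H7.Sy H29 H9 H9.MX

theorem relIndex_of_card {G : Type*} [Group G] [Finite G] {X Y : Subgroup G} (h : Y ≤ X) {a b : ℕ}
    (hY : Nat.card Y = a) (hX : Nat.card X = b * a) : Y.relIndex X = b := by
  have h1 := (Y.subgroupOf X).index_mul_card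
  rw [Nat.card_congr (subgroupOfEquivOfLe h).toEquiv, hY, hX] at h1
  exact Nat.eq_of_mul_eq_mul_right (hY ▸ Nat.card_pos) h1

theorem tr_step {G : Type*} [Group G] [Finite G] {D : Subgroup (MulAut G)} (hD : Perf D)
    {X Y : Subgroup G} (hX : Inv D X) (hY : Inv D Y) (h : Y ≤ X)
    (hn : ∀ x ∈ X, ∀ y ∈ Y, x * y * x⁻¹ ∈ Y) {a b : ℕ} (cY : Nat.card Y = a)
    (cX : Nat.card X = b * a) (hb : b ≤ 5) (ht : Tr D Y ⊥) : Tr D X ⊥ :=
  (tr_of_relIndex_le_five hD hX hY index_ne_zero_of_finite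
    ((relIndex_of_card h cY cX).trans_le hb)).trans hD ht h bot_le inv_bot (H27.SC.nm_of hn) (nm_bot _)

theorem noPf_Sy : NoPf Sy := fun D hD => by
  have iV : Inv D V := fun d _ v hv => by
    obtain ⟨h1, t, -, rfl⟩ := V_sq v hv
    rw [map_mul]
    exact sqV _ (by rw [← map_mul, ← map_mul, h1, map_one])
  have tV : Tr D V ⊥ := tr_step hD iV inv_bot bot_le (by simp) card_bot (b := 4) card_V (by norm_num)
    (tr_bot_iff.2 (by simp))
  have hz : ∀ d ∈ D, d z = z := fun d hd => tr_bot_iff.1 tV d hd z (by decide)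
  have he : ∀ d ∈ D, d e = e := fun d hd => tr_bot_iff.1 tV d hd e (by decide)
  have iT : Inv D T := fun d hd t ht => memT e (by decide) (by decide) (by decide) _ (by
    rw [← he d hd, ← map_mul, ← map_mul, T_comm e (by decide) t ht])
  have iQ : Inv D Q := fun d hd k hk => by
    obtain ⟨p, -, h1, h2⟩ := genQ k hk
    rw [show k = p * (p⁻¹ * k) by group, map_mul]
    exact mul_mem (sq_z _ (by rw [← map_mul, h1, hz d hd])) (sq_z _ (by rw [← map_mul, h2, hz d hd]))
  have iR : Inv D R := fun d hd k hk =>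
    (memR _).2 ⟨iT d hd k ((memR k).1 hk).1, iQ d hd k ((memR k).1 hk).2⟩
  have tR := tr_step hD iR iV V_R (fun x _ => nV x) card_V (b := 4) card_R (by norm_num) tV
  have tT := tr_step hD iT iR (fun k hk => ((memR k).1 hk).1) (fun x _ => nR x) card_R (b := 4)
    card_T (by norm_num) tR
  exact eq_bot_of_tr_top (tr_step hD inv_top iT le_top (fun x _ => nT x) card_T (b := 2)
    (by rw [card_top, Sy.card]) (by norm_num) tT)

theorem outS_letters {K : Type*} [Group K] [Finite K] [IsSimpleGroup K]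
    (hna : ¬ IsMulCommutative K) {G : Type*} [Group G] (f : G ≃* K) {e : ℕ → G} (h1 : IvOK e JP.iv)
    (h2 : ∀ r ∈ JP.R, ev e r = 1) (hz : e 5 ≠ 1) {m : ℕ} (hc : Nat.card G = m * 2 ^ 7)
    (hm : ¬ 2 ∣ m) : OutS K :=
  outS_of_model hna Sy.card ((Nat.card_congr f.toEquiv).symm.trans hc) hm
    (f.toMonoidHom.comp ((JP.K.hom h1 (JP.rM h2)).comp Sy.j))
    (f.injective.comp ((JP.K.hom_inj h1 (JP.rM h2) hz).comp jj_inj)) noPf_Sy

theorem outS_J2 {K : Type*} [Group K] [Finite K] [IsSimpleGroup K] (hna : ¬ IsMulCommutative K)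
    (h : Cfsg.Spor.IsoJ2 K) : OutS K := by
  obtain ⟨g⟩ := h
  obtain ⟨f, -⟩ := J2.exists_iso
  exact outS_letters hna (g.trans f).symm J2.hiv (fun r hr => J2.hR r (List.mem_append_left _ hr))
    J2.hz (m := 4725) J2.card (by norm_num)

theorem outS_J3 {K : Type*} [Group K] [Finite K] [IsSimpleGroup K] (hna : ¬ IsMulCommutative K)
    (h : Cfsg.Spor.IsoJ3 K) : OutS K := by
  obtain ⟨F, _, _, ω, hF, hω, ⟨g⟩⟩ := h
  have h2 : (2 : F) = 0 := by
    have := FiniteField.cast_card_eq_zero F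
    rw [hF] at this
    exact mul_self_eq_zero.1 (by norm_num; exact_mod_cast this)
  obtain ⟨f⟩ := (J3.three h2 hω).2.2
  have hz : J3.eS 5 ≠ 1 := by
    have := ev_ne_one_of_chk (e := J3.eS) (w := [5]) (b := 7) J3P.hn (fun c _ => pe_rho _ c)
      (by decide +kernel)
    simpa using this
  exact outS_letters hna (f.trans g.symm) J3.hiv
    (fun r hr => J3.hR r (List.mem_append_left _ (List.mem_append_left _ hr)))
    hz (m := 392445) J3.card (by norm_num)

end H16.SM
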