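import Mathlib
import Cfsg.Agent.H16.SMod
import Cfsg.Agent.H2.Frattini

/-!
Perfect groups of automorphisms of three-generated `2`-groups.
-/

set_option autoImplicit false

namespace H16.SM

open H0.Sch Subgroup

variable {K : Type*} [Group K] [Finite K] {D : Subgroup (MulAut K)}

theorem eq_of_le_sup_frattini {X Y : Subgroup K} (h : Y ≤ X)
    (h1 : X ≤ Y ⊔ (frattini X).map X.subtype) : Y = X := by
  have h2 : Y.subgroupOf X = ⊤ := frattini_nongenerating (map_injective X.subtype_injective (by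
    rw [Subgroup.map_sup, subgroupOf_map_subtype, inf_eq_left.2 h, ← MonoidHom.range_eq_map,
      range_subtype]
    exact le_antisymm (sup_le h (map_subtype_le _)) h1))
  exact le_antisymm h (subgroupOf_eq_top.1 h2)

theorem tr_three_gen (hD : Perf D) {X Y : Subgroup K} (hX : Inv D X) (hp : IsPGroup 2 X)
    {a b c : K} (habc : closure {a, b, c} = X) (hY : Inv D Y) (hYX : Y ≤ X) (hne : Y ≠ X)
    (haY : a ∈ Y) : Tr D X ⊥ := by
  classical
  by_cases h2 : closure {b, c} = X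
  · exact tr_two_gen hD hX hp h2
  have ha : a ∈ X := hYX haY
  have hb : b ∈ X := habc ▸ subset_closure (by simp)
  have hc : c ∈ X := habc ▸ subset_closure (by simp)
  obtain ⟨n, hn⟩ := hp.index (frattini X)
  have h1 := (Cfsg.Agent.S0014.result 2 n hp hn).2 {⟨a, ha⟩, ⟨b, hb⟩, ⟨c, hc⟩} (by
    apply map_injective X.subtype_injective
    rw [MonoidHom.map_closure, ← MonoidHom.range_eq_map, range_subtype]
    simpa [Set.image_insert_eq] using habc)
  have h3 : n ≤ 3 := h1.trans Finset.card_le_three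
  set F := (frattini X).map X.subtype with hF
  have hFX : F ≤ X := map_subtype_le _
  have h4 : F.relIndex X = 2 ^ n := by
    rw [relIndex, subgroupOf, comap_map_eq_self_of_injective X.subtype_injective, hn]
  have h5 := relIndex_mul_relIndex F (Y ⊔ F) X le_sup_right (sup_le hYX hFX)
  have h6 : (Y ⊔ F).relIndex X ≠ 1 := fun e =>
    hne (eq_of_le_sup_frattini hYX (relIndex_eq_one.1 e))
  have h7 : F.relIndex (Y ⊔ F) ≠ 1 := fun e => h2 (eq_of_le_sup_frattini
    ((closure_le _).2 (by rintro _ (rfl | rfl) <;> assumption)) (by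
      refine habc.ge.trans ((closure_le _).2 ?_)
      rintro _ (rfl | h)
      · exact mem_sup_right (relIndex_eq_one.1 e (mem_sup_left haY))
      · exact mem_sup_left (subset_closure h)))
  have h8 : (Y ⊔ F).relIndex X ≠ 0 := index_ne_zero_of_finite
  have h9 : F.relIndex (Y ⊔ F) ≠ 0 := index_ne_zero_of_finite
  have h10 : 2 ^ n ≤ 2 ^ 3 := Nat.pow_le_pow_right two_pos h3
  rw [h4] at h5
  have hFi : Inv D F := hX.char _
  have hc : ∀ x ∈ X, ∀ y ∈ X, x * y * x⁻¹ * y⁻¹ ∈ F := fun x hx y hy =>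
    ⟨_, H2.IsPGroup.commutator_le_frattini hp
      (commutator_mem_commutator (mem_top ⟨x, hx⟩) (mem_top ⟨y, hy⟩)), rfl⟩
  have hnm : ∀ W, F ≤ W → W ≤ X → Nm X W := fun W k1 k2 => H27.SC.nm_of fun x hx y hy => by
    simpa using W.mul_mem (k1 (hc x hx y (k2 hy))) hy
  have key : ∀ i j : ℕ, i * j ≤ 2 ^ 3 → j ≠ 0 → j ≠ 1 → i ≤ 5 := fun i j k1 k2 k3 => by
    have : i * 2 ≤ i * j := Nat.mul_le_mul_left _ (by omega)
    omega
  refine tr_frattini hD hX hp ((tr_of_relIndex_le_five hD hX (hY.sup hFi) index_ne_zero_of_finite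
    ?_).trans hD (tr_of_relIndex_le_five hD (hY.sup hFi) hFi index_ne_zero_of_finite ?_)
    (sup_le hYX hFX) le_sup_right hFi (hnm _ le_sup_right (sup_le hYX hFX)) (hnm _ le_rfl hFX))
  · exact key _ _ (by rw [mul_comm, h5]; exact h10) h9 h7
  · exact key _ _ (h5 ▸ h10) h8 h6

theorem dih_cases {G : Type*} [Group G] {σ τ : G} (h1 : τ * τ = 1) (h2 : τ * σ * (τ * σ) = 1)
    {y : G} (hy : y ∈ closure ({σ, τ} : Set G)) : y ∈ zpowers σ ∨ τ * y ∈ zpowers σ := by
  have ht : τ⁻¹ = τ := inv_eq_of_mul_eq_one_right h1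
  have h3 : τ * σ * τ⁻¹ = σ⁻¹ := by rw [ht, eq_inv_iff_mul_eq_one, mul_assoc, h2]
  have h4 : ∀ x ∈ zpowers σ, τ * x * τ⁻¹ ∈ zpowers σ := by
    rintro _ ⟨k, rfl⟩
    rw [← conj_zpow, h3]
    exact zpow_mem (inv_mem (mem_zpowers σ)) k
  induction hy using closure_induction with
  | mem x hx =>
    rcases hx with rfl | rfl
    · exact Or.inl (mem_zpowers _)
    · exact Or.inr (h1 ▸ one_mem _)
  | one => exact Or.inl (one_mem _)
  | mul x y _ _ hx hy =>
    rcases hx with hx | hx <;> rcases hy with hy | hy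
    · exact Or.inl (mul_mem hx hy)
    · refine Or.inr ?_
      rw [show τ * (x * y) = τ * x * τ⁻¹ * (τ * y) by group]
      exact mul_mem (h4 x hx) hy
    · exact Or.inr (mul_assoc τ x y ▸ mul_mem hx hy)
    · refine Or.inl ?_
      rw [show x * y = τ⁻¹ * (τ * x) * τ⁻¹ * (τ * y) by group, ht]
      exact mul_mem (by simpa [ht] using h4 _ hx) hy
  | inv x _ hx =>
    rcases hx with hx | hx
    · exact Or.inl (inv_mem hx)
    · refine Or.inr ?_
      rw [show τ * x⁻¹ = τ * (τ * x)⁻¹ * τ by group]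
      simpa [ht] using h4 _ (inv_mem hx)

theorem dih_sq {G : Type*} [Group G] {σ τ : G} (h1 : τ * τ = 1) (h2 : τ * σ * (τ * σ) = 1)
    {y : G} (hy : τ * y ∈ zpowers σ) : y * y = 1 := by
  have ht : τ⁻¹ = τ := inv_eq_of_mul_eq_one_right h1
  have h3 : τ * σ * τ⁻¹ = σ⁻¹ := by rw [ht, eq_inv_iff_mul_eq_one, mul_assoc, h2]
  obtain ⟨k, hk⟩ := hy
  have h4 : y = τ * σ ^ k := by rw [show σ ^ k = τ * y from hk, ← mul_assoc, h1, one_mul]
  have h5 : τ * σ ^ k * τ⁻¹ = (σ ^ k)⁻¹ := by rw [← conj_zpow, h3, inv_zpow]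
  rw [h4, ← mul_assoc, ← ht, ht, show τ * σ ^ k * τ = τ * σ ^ k * τ⁻¹ by rw [ht], h5, inv_mul_cancel]

/-- a group of exponent four extended by a dihedral group of order eight. -/
theorem tr_alperin {V : Subgroup K} {v s t : K} (hV : ∀ x ∈ V, x ^ 4 = 1) (hv : v ∈ V)
    (hs : s ∈ normalizer (V : Set K)) (ht : t ∈ normalizer (V : Set K)) (s4 : s ^ 4 ∈ V)
    (tt : t * t ∈ V) (ts : t * s * (t * s) ∈ V) (s8 : s ^ 8 ≠ 1) :
    IsPGroup 2 (closure ({s, t, v} : Set K)) ∧ ∀ D : Subgroup (MulAut K), Perf D →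
      Inv D (closure {s, t, v}) → Tr D (closure {s, t, v}) ⊥ := by
  set X := closure ({s, t, v} : Set K) with hX
  have hXN : X ≤ normalizer (V : Set K) := (closure_le _).2 (by
    rintro _ (rfl | rfl | rfl)
    exacts [hs, ht, le_normalizer hv])
  let π := (QuotientGroup.mk' (V.subgroupOf (normalizer (V : Set K)))).comp (inclusion hXN)
  have hπ : ∀ x : X, π x = 1 ↔ (x : K) ∈ V := fun x => QuotientGroup.eq_one_iff _
  have ms : s ∈ X := subset_closure (by simp)
  have mt : t ∈ X := subset_closure (by simp)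
  have h1 : π ⟨t, mt⟩ * π ⟨t, mt⟩ = 1 := by rw [← map_mul, hπ]; exact tt
  have h2 : π ⟨t, mt⟩ * π ⟨s, ms⟩ * (π ⟨t, mt⟩ * π ⟨s, ms⟩) = 1 := by
    rw [← map_mul, ← map_mul, hπ]; exact ts
  have h3 : ∀ x : X, π x ∈ zpowers (π ⟨s, ms⟩) ∨ (x : K) ^ 8 = 1 := fun x => by
    have : π x ∈ closure {π ⟨s, ms⟩, π ⟨t, mt⟩} := by
      obtain ⟨x, hx⟩ := x
      induction hx using closure_induction with
      | mem x hx =>
        rcases hx with rfl | rfl | rfl
        · exact subset_closure (by simp)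
        · exact subset_closure (by simp)
        · exact ((hπ ⟨_, _⟩).2 hv).symm ▸ one_mem _
      | one => exact (show π 1 ∈ _ by rw [map_one]; exact one_mem _)
      | mul x y hx hy k1 k2 => exact (show π (⟨x, hx⟩ * ⟨y, hy⟩) ∈ _ by
          rw [map_mul]; exact mul_mem k1 k2)
      | inv x hx k => exact (show π (⟨x, hx⟩)⁻¹ ∈ _ by rw [map_inv]; exact inv_mem k)
    refine (dih_cases h1 h2 this).imp id fun h => ?_
    have h4 := dih_sq h1 h2 h
    rw [← map_mul, hπ] at h4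
    rw [show (x : K) ^ 8 = ((x : K) * x) ^ 4 by rw [← sq, ← pow_mul]]
    exact hV _ h4
  have hp : IsPGroup 2 X := fun x => ⟨4, by
    rcases h3 x with ⟨k, hk⟩ | h
    · have h4 : π (x ^ 4) = 1 := by
        rw [map_pow, ← hk, ← zpow_natCast, ← zpow_mul, mul_comm, zpow_mul, zpow_natCast, ← map_pow,
          (hπ _).2 s4, one_zpow]
      have h5 := hV _ ((hπ _).1 h4)
      refine Subtype.ext ?_
      rw [show 2 ^ 4 = 4 * 4 by norm_num, pow_mul]
      exact h5
    · refine Subtype.ext ?_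
      rw [show 2 ^ 4 = 8 * 2 by norm_num, pow_mul]
      change ((x : K) ^ 8) ^ 2 = 1
      rw [h, one_pow]⟩
  refine ⟨hp, fun D hD hI => tr_three_gen hD hI hp rfl (Y := closure {x | x ∈ X ∧ x ^ 8 ≠ 1})
    (inv_closure fun d hd x hx => ⟨hI d hd x hx.1, fun e => hx.2 (d.injective (by
      rw [map_pow, e, map_one]))⟩) ((closure_le _).2 fun x hx => hx.1) (fun e => s8 ?_)
    (subset_closure ⟨ms, s8⟩)⟩
  have h4 : X ≤ ((zpowers (π ⟨s, ms⟩)).comap π).map X.subtype := e.ge.trans ((closure_le _).2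
    fun x hx => ⟨⟨x, hx.1⟩, (h3 ⟨x, hx.1⟩).resolve_right hx.2, rfl⟩)
  obtain ⟨y, hy, e⟩ := h4 mt
  obtain rfl : y = ⟨t, mt⟩ := Subtype.ext e
  have h5 := dih_sq h1 h2 (y := π ⟨s, ms⟩) (mul_mem hy (mem_zpowers _))
  rw [← map_mul, hπ] at h5
  rw [show s ^ 8 = (s * s) ^ 4 by rw [← sq, ← pow_mul]]
  exact hV _ h5

end H16.SM
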