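import Mathlib
import Cfsg.Agent.H16.SThree
import Cfsg.Agent.H29.ON
import Cfsg.Agent.H9.CG

/-!
Schreier property for the O'Nan group.
-/

set_option autoImplicit false
set_option maxRecDepth 100000

namespace H16.SM

open H0.Sch Subgroup H29

/-- words for generators of a Sylow subgroup. -/
def onW : List (List ℕ) := [[2, 3, 6], [3, 2, 7], [3, 6, 2], [1, 2, 3, 2, 3, 1, 2, 3, 7, 1, 2, 6, 1], [3]]

/-- their relations. -/
def onR : List (List ℕ × List ℕ) := [([0, 1], [1, 0]), ([0, 2], [2, 0]), ([1, 2], [2, 1]),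
  ([0, 0, 0, 0], []), ([3, 0], [1, 3]), ([3, 1], [2, 3]), ([3, 2], [2, 1, 1, 1, 0, 3]),
  ([4, 0], [2, 2, 2, 1, 0, 0, 0, 4]), ([4, 1], [2, 2, 2, 4]), ([4, 2], [1, 1, 1, 4]),
  ([3, 3, 3, 3], [2, 0]), ([4, 4], []), ([4, 3, 4, 3], [])]

/-- the networks. -/
noncomputable abbrev onN : ℕ → Net := wNets (nth Net.nil ON1.nl) onW

theorem on_chk1 : (allL onR fun p => allN 17 (chkEq 122760 17 onN p.1 p.2)) = true := by
  decide +kernel
theorem on_chk2 : disj (bit 11) (pullW onN [2, 0, 2, 0] (bit 11)) = true := by decide +kernel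
theorem on_chk3 : chkChain 122760 17 onN [(11, 9, 512, [])] [3, 4, 0] = true := by decide +kernel

theorem on_rel : ∀ p ∈ onR, ev (wE ON.P.e onW) p.1 = ev (wE ON.P.e onW) p.2 := fun p hp => by
  have hn := ON1.hn.wNets onW
  have hρ := map_wE ON.hρ onW
  have h1 := ev_eq_of_planeEq hn (k := 17) (by norm_num) fun i hi =>
    chkEq_sound hn (by norm_num) (allN_true.1 (allL_true.1 on_chk1 p hp) i hi)
  rw [← map_ev_sg fun c _ => hρ c, ← map_ev_sg fun c _ => hρ c] at h1
  rw [← mul_inv_eq_one]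
  exact ON.card.2 _ fun i _ => by simp [h1]

theorem outS_letters_on {G : Type*} [Group G] [Finite G] [IsSimpleGroup G]
    (hna : ¬ IsMulCommutative G) (hG : Nat.card G = 460815505920) {e : ℕ → G}
    (h1 : ∀ p ∈ onR, ev e p.1 = ev e p.2) (h2 : ev e [2, 0, 2, 0] ≠ 1)
    (h3 : 512 ≤ Nat.card (gen e [3, 4, 0])) : OutS G := by
  simp only [onR, List.forall_mem_cons, ev_cons, ev_nil, mul_one] at h1 h2
  obtain ⟨c01, c02, c12, p0, s0, s1, s2, t0, t1, t2, s4, tt, ts, -⟩ := h1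
  let V := closure ({e 0, e 1, e 2} : Set G)
  have m0 : e 0 ∈ V := subset_closure (by simp)
  have m1 : e 1 ∈ V := subset_closure (by simp)
  have m2 : e 2 ∈ V := subset_closure (by simp)
  have q0 : e 0 ^ 4 = 1 := by simpa [pow_succ, mul_assoc] using p0
  have q1 : e 1 ^ 4 = 1 := by rw [← mul_inv_eq_of_eq_mul s0, conj_pow, q0]; simp
  have q2 : e 2 ^ 4 = 1 := by rw [← mul_inv_eq_of_eq_mul s1, conj_pow, q1]; simp
  have hc : ∀ x ∈ V, ∀ y ∈ V, Commute x y := fun x hx y hy => by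
    haveI := isMulCommutative_closure (k := ({e 0, e 1, e 2} : Set G)) (by
      rintro _ (rfl | rfl | rfl) _ (rfl | rfl | rfl) <;> simp [c01, c02, c12])
    exact setLike_mul_comm hx hy
  have hV : ∀ x ∈ V, x ^ 4 = 1 := fun x hx => by
    induction hx using closure_induction with
    | mem x hx => rcases hx with rfl | rfl | rfl <;> assumption
    | one => simp
    | mul x y hx hy k1 k2 => rw [(hc x hx y hy).mul_pow, k1, k2, one_mul]
    | inv x _ k => rw [inv_pow, k, inv_one]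
  have hN : ∀ g : G, g * e 0 * g⁻¹ ∈ V → g * e 1 * g⁻¹ ∈ V → g * e 2 * g⁻¹ ∈ V →
      g ∈ normalizer (V : Set G) := fun g k0 k1 k2 => by
    have : V.map (MulAut.conj g).toMonoidHom ≤ V := by
      rw [MonoidHom.map_closure, closure_le]
      rintro _ ⟨_, rfl | rfl | rfl, rfl⟩ <;> assumption
    exact mem_normalizer_fintype fun x hx => this ⟨x, hx, rfl⟩
  have key : ∀ {g a w : G}, g * a = w * g → w ∈ V → g * a * g⁻¹ ∈ V := fun h hw =>
    (mul_inv_eq_of_eq_mul h).symm ▸ hw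
  simp only [← mul_assoc] at s2 t0 t1 t2 s4 ts h2
  have e4 : e 3 ^ 4 = e 2 * e 0 := by simpa [pow_succ] using s4
  obtain ⟨hp, hD⟩ := tr_alperin (V := V) (s := e 3) (t := e 4) hV m0
    (hN _ (key s0 m1) (key s1 m2) (key s2 (by apply_rules [mul_mem])))
    (hN _ (key t0 (by apply_rules [mul_mem])) (key t1 (by apply_rules [mul_mem]))
      (key t2 (by apply_rules [mul_mem]))) (e4 ▸ mul_mem m2 m0) (tt ▸ one_mem _)
    (by rw [← mul_assoc, ts]; exact one_mem _)
    (by rw [show 8 = 4 * 2 by norm_num, pow_mul, e4, sq, ← mul_assoc]; exact h2)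
  refine outS_of_two hna hp ?_ hD
  have h4 : gen e [3, 4, 0] = closure {e 3, e 4, e 0} := by
    rw [gen]; congr 1; ext x; simp [eq_comm]
  rw [h4] at h3
  obtain ⟨k, hk⟩ := IsPGroup.iff_card.1 hp
  have h5 := (closure ({e 3, e 4, e 0} : Set G)).index_mul_card
  rw [hk] at h3 h5
  have h6 : 9 ≤ k := (Nat.pow_le_pow_iff_right (by norm_num : 1 < 2)).1 h3
  rintro ⟨m, hm⟩
  obtain ⟨j, rfl⟩ := Nat.exists_eq_add_of_le h6
  rw [hm, hG, pow_add] at h5
  have : 1024 * (m * 2 ^ j) = 460815505920 := by rw [← h5]; ring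
  omega

theorem outS_ON {K : Type*} [Group K] [Finite K] [IsSimpleGroup K] (hna : ¬ IsMulCommutative K)
    (h : Cfsg.Spor.IsoON K) : OutS K := by
  obtain ⟨f⟩ := h
  haveI := ON.bd.1
  haveI := ON.simple
  have hn := ON1.hn.wNets onW
  have hρ := map_wE ON.hρ onW
  refine OutS.congr (K := ON.P.G) f.symm (outS_letters_on (fun h => hna ?_) ON.card.1 on_rel
    (H9.MX.ev_ne_one_of_chk hn (fun c _ => hρ c) on_chk2)
    (by simpa using le_card_gen_of_chain hn ON.card.2 (fun c _ => hρ c) on_chk3))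
  exact ⟨⟨fun a b => f.injective (by rw [map_mul, map_mul]; exact h.1.1 _ _)⟩⟩

end H16.SM
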