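import Mathlib
import Cfsg.Agent.H0.SchC
import Cfsg.Agent.H3.Extraspecial

/-!
A self-centralising extraspecial subgroup from one element of odd order.
-/

set_option autoImplicit false

namespace H16.SM

open H0.Sch Subgroup

theorem cent_le_of_wit {K : Type*} [Group K] [Finite K] {z : K} {L : Type*} [Group L]
    [IsSimpleGroup L] (hLna : ¬ IsMulCommutative L) (f : centralizer ({z} : Set K) →* L)
    (hf : Function.Surjective f) (hE : Cfsg.IsExtraspecial 2 f.ker)
    {x y : centralizer ({z} : Set K)} {m : ℕ} (hx : x ^ (2 * m + 1) = 1) (hy : y ∈ f.ker)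
    (hxy : x * y ≠ y * x) :
    centralizer ((f.ker.map (centralizer ({z} : Set K)).subtype : Subgroup K) : Set K) ≤
      f.ker.map (centralizer ({z} : Set K)).subtype := by
  have zH : z ∈ centralizer ({z} : Set K) := mem_centralizer_singleton_iff.2 rfl
  have zk : f ⟨z, zH⟩ = 1 := by
    rw [← mem_bot, ← H27.SC.center_bot hLna, mem_center_iff, hf.forall]
    intro x
    rw [← map_mul, ← map_mul]
    exact congrArg f (Subtype.ext (mem_centralizer_singleton_iff.1 x.2))
  intro g hg
  have gH : g ∈ centralizer ({z} : Set K) :=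
    mem_centralizer_singleton_iff.2 (hg z ⟨_, zk, rfl⟩).symm
  rcases IsSimpleGroup.eq_bot_or_eq_top_of_normal
    ((centralizer (f.ker : Set (centralizer ({z} : Set K)))).map f) (Normal.map inferInstance f hf)
    with e | e
  · exact ⟨⟨g, gH⟩, (Subgroup.map_eq_bot_iff _).1 e
      (fun h hh => Subtype.ext (hg h ⟨h, hh, rfl⟩)), rfl⟩
  · exfalso
    obtain ⟨c, hc, h1⟩ := e.ge (mem_top (f x))
    have h2 : x * c⁻¹ ∈ f.ker := by rw [MonoidHom.mem_ker, map_mul, map_inv, h1, mul_inv_cancel]
    have h3 : Commute (x * c⁻¹) c := hc _ h2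
    have h4 : Commute ((x * c⁻¹) ^ 2) y := congrArg Subtype.val
      (mem_center_iff.1 (H3.IsSpecial.pow_mem_center hE.1 ⟨_, h2⟩) ⟨y, hy⟩).symm
    have h5 : Commute (x ^ 2) y := by
      have : x ^ 2 = (x * c⁻¹) ^ 2 * c ^ 2 := by rw [← h3.mul_pow, inv_mul_cancel_right]
      rw [this]
      exact h4.mul_left ((show Commute y c from hc y hy).symm.pow_left 2)
    have h6 := h5.pow_left (m + 1)
    rw [← pow_mul, show 2 * (m + 1) = 2 * m + 1 + 1 by ring, pow_succ, hx, one_mul] at h6
    exact hxy h6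

end H16.SM
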