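import Mathlib
import Cfsg.Agent.H16.SXs
import Cfsg.Agent.H0.SchAlt
import Cfsg.Agent.H19.Th.Cent

/-!
Schreier property for the Thompson group.
-/

set_option autoImplicit false
set_option maxRecDepth 100000

namespace H16.SM

open H0.Sch Subgroup H29 H19 H19.Th

theorem outS_ThP (hna : ¬ IsMulCommutative P.G) : OutS P.G := by
  haveI : Finite P.G := Nat.finite_of_card_ne_zero (by rw [H19.Th.card]; norm_num)
  haveI := H19.Th.simple
  haveI := alternatingGroup.isSimpleGroup (α := Fin 9) (by simp)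
  have hA : ¬ IsMulCommutative (alternatingGroup (Fin 9)) := by
    rw [alternatingGroup.isMulCommutative_iff_card_le_three]; simp
  have key : ∃ π : centralizer ({P.e 0} : Set P.G) →* alternatingGroup (Fin 9),
      Function.Surjective π ∧ Nat.card π.ker = 512 ∧ Cfsg.IsExtraspecial 2 π.ker ∧
        ∃ x y : centralizer ({P.e 0} : Set P.G), x ^ (2 * 3 + 1) = 1 ∧ y ∈ π.ker ∧ x * y ≠ y * x := by
    obtain ⟨π, h1, h2, h3, h4, -⟩ := cstruct hiv0 hR K.hφ φ_inj
    have hX := (xsK h4).map K.φ φ_inj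
    have c1 : Nat.card π.ker = 512 := by
      rw [h2, Nat.card_congr (subgroupOfEquivOfLe h3).toEquiv, card_map_of_injective φ_inj, h4]
    have hY := xs_subgroupOf hX h3
    rw [← h2] at hY
    have hy : K.φ (ev K.σ [4, 3, 2, 3, 4]) ∈ QK.map K.φ :=
      mem_map_of_mem _ (wE_mem_genW K.σ E.cw 2)
    have hx : K.φ (ev K.σ [5]) ∈ gen P.e ThT5.cols := by
      rw [ev_cons, ev_nil, mul_one, K.hφ 5 (by norm_num)]; exact mem_gen (by decide)
    rw [cent_a]
    refine ⟨π, h1, c1, hY.isExtraspecial fun h => by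
      rw [← h, Nat.card_zpowers, hY.ord] at c1; exact absurd c1 (by norm_num),
      ⟨_, hx⟩, ⟨_, h3 hy⟩, Subtype.ext ?_, h2 ▸ hy, fun h => ?_⟩
    · change K.φ _ ^ 7 = 1
      rw [← map_pow, s7.1, map_one]
    · have h5 := congrArg Subtype.val h
      change K.φ _ * K.φ _ = K.φ _ * K.φ _ at h5
      rw [← map_mul, ← map_mul, ← ev_append, ← ev_append] at h5
      exact K.C.ev_ne K.hl (by decide +kernel) (φ_inj h5)
  obtain ⟨π, h1, h2, h3, x, y, h4, h5, h6⟩ := key
  have h7 : orderOf (2 : ZMod 7) = 3 := by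
    haveI : Fact (Nat.Prime 3) := ⟨by norm_num⟩
    exact orderOf_eq_prime (by decide) (by decide)
  exact outS_xs_simple hna cent_struct.1 hA (outS_alt hA ⟨9, by norm_num, ⟨MulEquiv.refl _⟩⟩) π h1 h3
    (cent_le_of_wit hA π h1 h3 h4 h5 h6) (n := 8) (r := 7) h2 (by norm_num)
    (by rw [card_A9]; norm_num) h7.ge (Or.inr (by rw [h7]; decide))

theorem outS_Th {K : Type*} [Group K] (hna : ¬ IsMulCommutative K) (h : Cfsg.Spor.IsoTh K) :
    OutS K := by
  obtain ⟨f⟩ := h
  exact OutS.congr (K := P.G) f.symm (outS_ThP fun h =>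
    hna ⟨⟨fun a b => f.injective (by rw [map_mul, map_mul]; exact h.1.1 _ _)⟩⟩)

end H16.SM
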