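import Mathlib
import Cfsg.Agent.H7.LowDim4
import Cfsg.Agent.H16.SmallRec

/-! The deleted permutation module of a symmetric group in characteristic two; transport of
classical groups along field isomorphisms. -/

set_option autoImplicit false

namespace H16

open Module H15 Matrix

section Congr

variable {ι : Type} [Fintype ι] [DecidableEq ι] {F K : Type*} [Field F] [Field K]

/-- `GL` of isomorphic fields. -/
def glCongr (e : F ≃+* K) : GL ι F ≃* GL ι K := Units.mapEquiv (e.mapMatrix (m := ι)).toMulEquiv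

theorem glCongr_val (e : F ≃+* K) (g : GL ι F) : (glCongr e g).1 = g.1.map e := rfl

omit [DecidableEq ι] in
theorem map_mulVec_comp (e : F ≃+* K) (A : Matrix ι ι F) (v : ι → F) :
    A.map e *ᵥ (e ∘ v) = e ∘ (A *ᵥ v) := by
  ext i
  exact (RingHom.map_mulVec (e : F →+* K) A v i).symm

omit [DecidableEq ι] in
theorem preserves_map_iff (e : F ≃+* K) (f : (ι → F) → (ι → F) → F) (f' : (ι → K) → (ι → K) → K)
    (h : ∀ u v, f' (e ∘ u) (e ∘ v) = e (f u v)) (A : Matrix ι ι F) :
    (∀ u v, f (A *ᵥ u) (A *ᵥ v) = f u v) ↔ ∀ u v, f' (A.map e *ᵥ u) (A.map e *ᵥ v) = f' u v := by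
  constructor
  · intro k u v
    obtain ⟨u, rfl⟩ : ∃ u', u = e ∘ u' := ⟨e.symm ∘ u, by ext; simp⟩
    obtain ⟨v, rfl⟩ : ∃ u', v = e ∘ u' := ⟨e.symm ∘ v, by ext; simp⟩
    rw [map_mulVec_comp, map_mulVec_comp, h, h, k]
  · intro k u v
    apply e.injective
    rw [← h, ← h, ← map_mulVec_comp, ← map_mulVec_comp, k]

/-- Isometry groups over isomorphic fields. -/
def isometryGroupCongr (e : F ≃+* K) (Q : (ι → F) → F) (Q' : (ι → K) → K)
    (h : ∀ v, Q' (e ∘ v) = e (Q v)) : Cfsg.isometryGroup F Q ≃* Cfsg.isometryGroup K Q' :=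
  subgroupEquivOfMem (glCongr e) _ _ fun g =>
    preserves_map_iff e (fun u _ => Q u) (fun u _ => Q' u) (fun u _ => h u) g.1

/-- Special isometry groups over isomorphic fields. -/
def specialIsometryGroupCongr (e : F ≃+* K) (Q : (ι → F) → F) (Q' : (ι → K) → K)
    (h : ∀ v, Q' (e ∘ v) = e (Q v)) :
    Cfsg.specialIsometryGroup F Q ≃* Cfsg.specialIsometryGroup K Q' :=
  subgroupEquivOfMem (isometryGroupCongr e Q Q' h) _ _ fun g => by
    change GeneralLinearGroup.det g.1 = 1 ↔ GeneralLinearGroup.det (glCongr e g.1) = 1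
    rw [Units.ext_iff, Units.ext_iff, GeneralLinearGroup.val_det_apply,
      GeneralLinearGroup.val_det_apply, glCongr_val]
    change _ ↔ (e.mapMatrix g.1.1).det = _
    rw [← RingEquiv.map_det]
    simp

/-- Special unitary groups over isomorphic fields. -/
def suCongr (e : F ≃+* K) (n q : ℕ) : Cfsg.SU n F q ≃* Cfsg.SU n K q :=
  subgroupEquivOfMem (H7.slCongr e) _ _ fun g =>
    preserves_map_iff e _ _ (fun u v => by simp [Cfsg.hermForm]) g.1

end Congr

section Del

variable {ι : Type*} [Fintype ι] (F : Type*) [Field F] (o : ι)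

/-- The deleted permutation module, realised as a subspace. -/
def delMod : Submodule F (ι → F) where
  carrier := {v | ∑ i, v i = 0 ∧ v o = 0}
  add_mem' {a b} ha hb := ⟨by simp [Finset.sum_add_distrib, ha.1, hb.1], by simp [ha.2, hb.2]⟩
  zero_mem' := ⟨by simp, rfl⟩
  smul_mem' c a ha := ⟨by simp [← Finset.mul_sum, ha.1], by simp [ha.2]⟩

theorem finrank_delMod (h : 2 ≤ Fintype.card ι) : finrank F (delMod F o) + 2 = Fintype.card ι := by
  classical
  let φ : (ι → F) →ₗ[F] F × F := LinearMap.prod (∑ i, LinearMap.proj i) (LinearMap.proj o)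
  have h1 : LinearMap.ker φ = delMod F o := by
    ext v
    simp [φ, delMod]
  have h2 : LinearMap.range φ = ⊤ := by
    obtain ⟨j, hj⟩ := Fintype.exists_ne_of_one_lt_card h o
    rw [LinearMap.range_eq_top]
    rintro ⟨a, b⟩
    refine ⟨Pi.single o b + Pi.single j (a - b), ?_⟩
    simp [φ, Finset.sum_add_distrib, hj.symm]
  have := LinearMap.finrank_range_add_finrank_ker φ
  rw [h1, h2] at this
  simp at this
  omega

variable {F o} (hι : (Fintype.card ι : F) = 0)

/-- The action of a permutation on the deleted permutation module. -/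
def delMap (σ : Equiv.Perm ι) : delMod F o →ₗ[F] delMod F o where
  toFun v := ⟨fun i => v.1 (σ⁻¹ i) - v.1 (σ⁻¹ o), by
    rw [Finset.sum_sub_distrib, Equiv.sum_comp σ⁻¹ v.1, v.2.1]
    simp [hι], sub_self _⟩
  map_add' u v := by ext i; simp; ring
  map_smul' c v := by ext i; simp; ring

theorem delMap_apply (σ : Equiv.Perm ι) (v : delMod F o) (i : ι) :
    (delMap hι σ v).1 i = v.1 (σ⁻¹ i) - v.1 (σ⁻¹ o) := rfl

/-- The deleted permutation representation. -/
def delRep : Equiv.Perm ι →* (delMod F o ≃ₗ[F] delMod F o) :=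
  MonoidHom.mk' (fun σ =>
    { delMap hι σ with
      invFun := delMap hι σ⁻¹
      left_inv := fun v => by ext i; simp [delMap_apply, v.2.2]
      right_inv := fun v => by ext i; simp [delMap_apply, v.2.2] })
    (fun σ τ => by ext v i; simp [delMap_apply])

theorem delRep_apply (σ : Equiv.Perm ι) (v : delMod F o) (i : ι) :
    (delRep hι σ v).1 i = v.1 (σ⁻¹ i) - v.1 (σ⁻¹ o) := rfl

theorem delRep_injective (h5 : 5 ≤ Fintype.card ι) :
    Function.Injective (delRep (o := o) hι) := by
  classical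
  rw [injective_iff_map_eq_one]
  intro σ hσ
  have hex : ∀ s : Finset ι, s.card ≤ 4 → ∃ k, k ∉ s := fun s hs => by
    by_contra hc
    push Not at hc
    have := Finset.card_le_card (show Finset.univ ⊆ s from fun k _ => hc k)
    rw [Finset.card_univ] at this
    omega
  have key : ∀ i, i ≠ o → σ i = i := by
    intro i hi
    by_contra hne
    obtain ⟨j, hj⟩ := hex {o, i, σ i} (Finset.card_le_three.trans (by norm_num))
    obtain ⟨k, hk⟩ := hex {i, j, σ i, σ j} Finset.card_le_four
    simp only [Finset.mem_insert, Finset.mem_singleton, not_or] at hj hk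
    let w : delMod F o := ⟨Pi.single i 1 - Pi.single j 1, by simp [Finset.sum_sub_distrib],
      by simp [hi.symm, Ne.symm hj.1]⟩
    have h1 := delRep_apply hι σ w (σ i)
    have h2 := delRep_apply hι σ w k
    rw [hσ] at h1 h2
    have h3 : σ⁻¹ k ≠ i := fun e => hk.2.2.1 (by rw [← e]; simp)
    have h4 : σ⁻¹ k ≠ j := fun e => hk.2.2.2 (by rw [← e]; simp)
    have h5 : σ⁻¹ (σ i) = i := by simp
    rw [h5] at h1
    generalize w.1 (σ⁻¹ o) = c at h1 h2
    generalize σ⁻¹ k = l at h2 h3 h4
    simp [w, hne, Ne.symm hj.2.2, Ne.symm hj.2.1, hk.1, hk.2.1, h3, h4] at h1 h2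
    rw [h2] at h1
    simp at h1
  ext i
  by_cases hi : i = o
  · subst hi
    by_contra h
    exact h (σ.injective (key _ h))
  · exact key i hi

variable (F o) in
/-- The dot product on the deleted permutation module. -/
def delB : LinearMap.BilinForm F (delMod F o) :=
  LinearMap.mk₂ F (fun u v => ∑ i, u.1 i * v.1 i)
    (fun _ _ _ => by simp [add_mul, Finset.sum_add_distrib])
    (fun _ _ _ => by simp [Finset.mul_sum, mul_assoc])
    (fun _ _ _ => by simp [mul_add, Finset.sum_add_distrib])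
    (fun _ _ _ => by simp [Finset.mul_sum, mul_left_comm])

theorem delB_apply (u v : delMod F o) : delB F o u v = ∑ i, u.1 i * v.1 i := rfl

theorem delB_isAlt [CharP F 2] : (delB F o).IsAlt := fun v => by
  rw [delB_apply, ← CharTwo.sum_mul_self, v.2.1, mul_zero]

include hι in
theorem delB_nondeg (v : delMod F o) (hv : ∀ u, delB F o v u = 0) : v = 0 := by
  classical
  have h1 : ∀ i j, i ≠ o → j ≠ o → v.1 i = v.1 j := fun i j hi hj => by
    have := hv ⟨Pi.single i 1 - Pi.single j 1, by simp [Finset.sum_sub_distrib],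
      by simp [hi.symm, hj.symm]⟩
    simpa [delB_apply, mul_sub, Finset.sum_sub_distrib, Pi.single_apply, sub_eq_zero] using this
  ext i
  by_cases hi : i = o
  · rw [hi]; exact v.2.2
  · have h2 : ∑ j, (v.1 j - v.1 i) = v.1 o - v.1 i :=
      Finset.sum_eq_single o (fun j _ hj => by rw [h1 j i hj hi, sub_self]) (by simp)
    rw [Finset.sum_sub_distrib, v.2.1, v.2.2] at h2
    simpa [hι] using h2

theorem delB_delRep (σ : Equiv.Perm ι) (u v : delMod F o) :
    delB F o (delRep hι σ u) (delRep hι σ v) = delB F o u v := by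
  simp only [delB_apply, delRep_apply, sub_mul, mul_sub, Finset.sum_sub_distrib, ← Finset.mul_sum,
    ← Finset.sum_mul]
  rw [Equiv.sum_comp σ⁻¹ u.1, Equiv.sum_comp σ⁻¹ v.1, Equiv.sum_comp σ⁻¹ fun i => u.1 i * v.1 i,
    u.2.1, v.2.1]
  simp [hι]

end Del

theorem exists_perm_hom_sp (F : Type*) [Field F] [CharP F 2] (n : ℕ) (hn : 3 ≤ n) :
    ∃ f : Equiv.Perm (Fin (2 * n)) →* Matrix.symplecticGroup (Fin (n - 1)) F,
      Function.Injective f := by
  let o : Fin (2 * n) := ⟨0, by omega⟩
  have hι : (Fintype.card (Fin (2 * n)) : F) = 0 := by simp [CharTwo.two_eq_zero]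
  have h1 := finrank_delMod F o (by simp; omega)
  obtain ⟨e⟩ := (ofAlt_isAlt (delB F o) delB_isAlt).isom_equiv_sp rfl (delB_nondeg hι)
    (m := n - 1) (by simp at h1; omega)
  refine ⟨e.toMonoidHom.comp ((delRep hι).codRestrict _ fun σ => ⟨delB_delRep hι σ, fun _ => rfl⟩),
    e.injective.comp fun a b h => delRep_injective hι (by simp; omega) (congrArg Subtype.val h)⟩

theorem sp_four_two {F : Type*} [Field F] [Fintype F] (hF : Fintype.card F = 2) :
    Nonempty (Matrix.symplecticGroup (Fin 2) F ≃* Equiv.Perm (Fin 6)) := by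
  have : CharP F 2 := charP_of_card_eq_prime hF
  obtain ⟨f, hf⟩ := exists_perm_hom_sp F 3 le_rfl
  refine ⟨(MulEquiv.ofBijective f (hf.bijective_of_nat_card_le ?_)).symm⟩
  rw [H7.card_sp, hF, Nat.card_perm]
  simp [Finset.prod_range_succ, Nat.factorial]

section Quad

variable {N : ℕ} {F : Type*} [CommRing F]

/-- The second elementary symmetric function. -/
def esym2 (v : Fin N → F) : F := ∑ i, ∑ j, if i < j then v i * v j else 0

theorem esym2_add (u v : Fin N → F) :
    esym2 (u + v) = esym2 u + esym2 v + ((∑ i, u i) * (∑ i, v i) - ∑ i, u i * v i) := by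
  have h1 : (∑ i, u i) * (∑ i, v i) = ∑ i, ∑ j, ((if i < j then u i * v j else 0) +
      (if j < i then u i * v j else 0) + if i = j then u i * v j else 0) := by
    rw [Finset.sum_mul_sum]
    refine Finset.sum_congr rfl fun i _ => Finset.sum_congr rfl fun j _ => ?_
    rcases lt_trichotomy i j with h | h | h
    · simp [h, h.not_gt, h.ne]
    · simp [h]
    · simp [h, h.not_gt, h.ne']
  simp only [Finset.sum_add_distrib, Finset.sum_ite_eq, Finset.mem_univ, if_true] at h1
  rw [h1, add_sub_cancel_right, Finset.sum_comm (f := fun i j => if j < i then u i * v j else 0)]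
  simp only [esym2, ← Finset.sum_add_distrib]
  refine Finset.sum_congr rfl fun i _ => Finset.sum_congr rfl fun j _ => ?_
  split_ifs
  · simp only [Pi.add_apply]; ring
  · simp

theorem esym2_smul (c : F) (v : Fin N → F) : esym2 (c • v) = c * c * esym2 v := by
  simp only [esym2, Finset.mul_sum]
  refine Finset.sum_congr rfl fun i _ => Finset.sum_congr rfl fun j _ => ?_
  split_ifs
  · simp only [Pi.smul_apply, smul_eq_mul]; ring
  · simp

theorem esym2_single (i : Fin N) (c : F) : esym2 (Pi.single i c) = 0 := by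
  refine Finset.sum_eq_zero fun j _ => Finset.sum_eq_zero fun k _ => ?_
  split_ifs with h
  · by_cases hj : j = i
    · subst hj; simp [h.ne']
    · simp [hj]
  · rfl

theorem esym2_perm (σ : Equiv.Perm (Fin N)) (v : Fin N → F) : esym2 (v ∘ σ) = esym2 v := by
  induction v using Pi.single_induction with
  | zero => simp [esym2]
  | add u v hu hv =>
    rw [show (u + v) ∘ σ = u ∘ σ + v ∘ σ from rfl, esym2_add, esym2_add, hu, hv]
    simp only [Function.comp_apply]
    rw [Equiv.sum_comp σ u, Equiv.sum_comp σ v, Equiv.sum_comp σ fun i => u i * v i]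
  | single i c =>
    have : (Pi.single i c : Fin N → F) ∘ σ = Pi.single (σ.symm i) c := by
      ext j
      simp [Pi.single_apply, Equiv.eq_symm_apply]
    rw [this, esym2_single, esym2_single]

end Quad

theorem o6plus_zmod : Nonempty (Cfsg.isometryGroup (ZMod 2) (Cfsg.quadFormPlus 3 (ZMod 2)) ≃*
    Equiv.Perm (Fin 8)) := by
  let o : Fin 8 := 7
  have hι : (Fintype.card (Fin 8) : ZMod 2) = 0 := by decide
  let Q : QuadraticForm (ZMod 2) (delMod (ZMod 2) o) :=
    { toFun := fun v => esym2 v.1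
      toFun_smul := fun c v => esym2_smul c v.1
      exists_companion' := ⟨delB _ o, fun u v => by
        rw [Submodule.coe_add, esym2_add, u.2.1, delB_apply, zero_mul, zero_sub, CharTwo.neg_eq]⟩ }
  have hQ : ∀ v, Q v = esym2 v.1 := fun _ => rfl
  have hB : ∀ u v, (ofQuad Q).B u v = ∑ i, u.1 i * v.1 i := fun u v => by
    rw [ofQuad_B, QuadraticMap.polar, hQ, hQ, hQ, Submodule.coe_add, esym2_add, u.2.1, zero_mul,
      zero_sub, CharTwo.neg_eq]
    ring
  let e : Fin 3 → delMod (ZMod 2) o := ![⟨![1, 1, 1, 1, 0, 0, 0, 0], by decide, by decide⟩,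
    ⟨![1, 1, 0, 0, 1, 1, 0, 0], by decide, by decide⟩,
    ⟨![1, 0, 1, 0, 1, 0, 1, 0], by decide, by decide⟩]
  let f : Fin 3 → delMod (ZMod 2) o := ![⟨![0, 0, 0, 1, 1, 1, 1, 0], by decide, by decide⟩,
    ⟨![0, 1, 1, 0, 1, 1, 0, 0], by decide, by decide⟩,
    ⟨![1, 0, 1, 0, 0, 1, 1, 0], by decide, by decide⟩]
  have H : (ofQuad Q).Hyp e f := by
    refine ⟨?_, ?_, ?_, ?_, ?_⟩ <;> simp only [hB, ofQuad_Q, hQ] <;> decide
  have h1 := finrank_delMod (ZMod 2) o (by simp)
  obtain ⟨g, h2, h3, -⟩ := Form.Hyp.exists_equiv (Φ := ofQuad Q) (Ψ := ofQuad (qPlus 3 (ZMod 2))) rfl H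
    (qPlus_hyp 3 _) (by simp at h1 ⊢; omega) (by simp)
  let ρ : Equiv.Perm (Fin 8) →* (ofQuad Q).Isom := (delRep hι).codRestrict _ fun σ => by
    rw [mem_Isom_ofQuad]
    intro v
    have : (delRep hι σ v).1 = v.1 ∘ ⇑σ⁻¹ + (-v.1 (σ⁻¹ o)) • fun _ => 1 := by
      ext i; simp [delRep_apply, sub_eq_add_neg]
    rw [hQ, hQ, this, esym2_add, esym2_perm, esym2_smul,
      show esym2 (fun _ : Fin 8 => (1 : ZMod 2)) = 0 by decide]
    simp only [Function.comp_apply, Pi.smul_apply, smul_eq_mul, mul_one, ← Finset.sum_mul]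
    rw [Equiv.sum_comp σ⁻¹ v.1, v.2.1]
    simp
  have hρ : Function.Injective ρ := fun a b h =>
    delRep_injective hι (by simp) (congrArg Subtype.val h)
  let φ := (Form.isomCongr _ _ g h2 (h3 rfl)).toMonoidHom.comp ρ
  have hφ : Function.Injective φ := (Form.isomCongr _ _ g h2 (h3 rfl)).injective.comp hρ
  have hc : Nat.card (ofQuad (qPlus 3 (ZMod 2))).Isom = 40320 := by
    have := H7.card_isom_qPlus (F := ZMod 2) 2
    rw [show (ofQuad (qPlus 3 (ZMod 2))) = ofQuad (H7.qPlus (2 + 1) (ZMod 2)) from rfl, this]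
    simp [Finset.prod_range_succ]
  have : Finite (ofQuad (qPlus 3 (ZMod 2))).Isom := Nat.finite_of_card_ne_zero (by omega)
  refine ⟨(orthEquiv (qPlus 3 (ZMod 2))).trans
    (MulEquiv.ofBijective φ (hφ.bijective_of_nat_card_le ?_)).symm⟩
  rw [hc, Nat.card_perm]
  simp [Nat.factorial]

theorem o6plus_two {F : Type*} [Field F] [Fintype F] (hF : Fintype.card F = 2) :
    Nonempty (Cfsg.isometryGroup F (Cfsg.quadFormPlus 3 F) ≃* Equiv.Perm (Fin 8)) := by
  obtain ⟨e⟩ := H7.nonempty_ringEquiv_zmod 2 hF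
  obtain ⟨e'⟩ := o6plus_zmod
  exact ⟨(isometryGroupCongr e _ _ fun v => by simp [Cfsg.quadFormPlus]).trans e'⟩

theorem o4minus_two {F : Type*} [Field F] [Fintype F] (hF : Fintype.card F = 2) :
    Nonempty (Cfsg.isometryGroup F (Cfsg.quadFormMinus 1 F 1 1) ≃* Equiv.Perm (Fin 5)) := by
  have : CharP F 2 := charP_of_card_eq_prime hF
  have h01 : ∀ x : F, x = 0 ∨ x = 1 := fun x => by
    have := FiniteField.pow_card x
    rw [hF] at this
    rcases eq_or_ne x 0 with h | h
    · exact Or.inl h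
    · exact Or.inr (mul_left_cancel₀ h (by rw [← sq, this, mul_one]))
  have ha : H7.Aniso (1 : F) 1 := fun x y h => by
    rcases h01 x with rfl | rfl <;> rcases h01 y with rfl | rfl <;>
      simp [CharTwo.add_self_eq_zero] at h ⊢
  let Q := H7.qMinus 1 F 1 1
  let T := {v // v ≠ 0 ∧ Q v = 0}
  letI : MulAction (ofQuad Q).Isom T :=
    { smul := fun g v => ⟨g.1 v.1, by simpa using v.2.1, (Form.Isom.map_quad g _).trans v.2.2⟩
      one_smul := fun _ => rfl
      mul_smul := fun _ _ _ => rfl }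
  have hT : Nat.card T = 5 := by
    have h1 := H7.card_ne_zero_and (fun v => Q v = 0) (map_zero Q)
    have h2 := H7.nz_qMinus 1 ha
    rw [hF, H7.nz] at h2
    change Nat.card T + 1 = _ at h1
    change Nat.card {v // Q v = 0} + _ = _ at h2
    omega
  have : Finite T := Nat.finite_of_card_ne_zero (by omega)
  let φ := (Finite.equivFinOfCardEq hT).permCongrHom.toMonoidHom.comp
    (MulAction.toPermHom (ofQuad Q).Isom T)
  have hφ : Function.Injective φ := by
    refine (Equiv.permCongrHom _).injective.comp ((injective_iff_map_eq_one _).2 fun g hg => ?_)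
    have hfix : ∀ v, v ≠ 0 → Q v = 0 → g.1 v = v := fun v h1 h2 =>
      congrArg Subtype.val (DFunLike.congr_fun hg (⟨v, h1, h2⟩ : T))
    have h1 := hfix (Pi.single (.inl (.inl 0)) 1) (by simp) (by simp [Q, H7.qMinus_apply])
    have h2 := hfix (Pi.single (.inl (.inr 0)) 1) (by simp) (by simp [Q, H7.qMinus_apply])
    have h3 : ∀ i, g.1 (Pi.single (.inr i) 1) = Pi.single (.inr i) 1 := fun i => by
      have := hfix (Pi.single (.inl (.inl 0)) 1 + Pi.single (.inl (.inr 0)) 1 +
        Pi.single (.inr i) 1) (fun h => by simpa using congrFun h (.inr i))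
        (by fin_cases i <;> simp [Q, H7.qMinus_apply, CharTwo.add_self_eq_zero])
      rwa [map_add, map_add, h1, h2, add_right_inj] at this
    apply Subtype.ext
    apply LinearEquiv.toLinearMap_injective
    refine (Pi.basisFun F _).ext ?_
    rintro ((i | i) | i)
    · simpa [Subsingleton.elim i 0] using h1
    · simpa [Subsingleton.elim i 0] using h2
    · simpa using h3 i
  have : Finite (ofQuad Q).Isom := Finite.of_injective φ hφ
  obtain ⟨e⟩ := equiv_perm_of_injective φ hφ (by
    rw [H7.card_isom_qMinus 1 ha, hF]; simp [Nat.factorial])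
  exact ⟨(orthEquiv Q).trans e⟩

end H16
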