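import Mathlib
import Cfsg.Agent.H0.WM3
import Cfsg.Agent.H13.DihMC
import Cfsg.Agent.H16.PSL2Max

/-! More facts about `PGL₂(q)`, `q` odd: tori, conjugacy of involutions, large subgroups, fixed
points of semilinear maps. -/

set_option autoImplicit false
set_option linter.unusedSectionVars false

namespace H16.QP

open MulAction OnePoint SemidirectProduct H0.WM Subgroup
open Matrix (ProjGenLinGroup)
open scoped MatrixGroups

attribute [local instance] gaMul

theorem dih_conj {k : ℕ} {w : DihedralGroup k} (h : w * w ≠ 1) (g : DihedralGroup k) :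
    g * w * g⁻¹ = w ∨ g * w * g⁻¹ = w⁻¹ := by
  rcases w with i | i
  · rcases g with j | j
    · left; simp
    · right; simp
  · exact (h (DihedralGroup.sr_mul_self i)).elim

variable {F : Type} [Field F] [Finite F] [DecidableEq F]

theorem swap_sq {g : PGL(2, F)} {x y : PLine F} (hxy : x ≠ y) (hx : g • x = y) (hy : g • y = x) :
    g * g = 1 := by
  obtain ⟨z, hz⟩ := LA.exists_fixed g
  refine LA.eq_one_of_three _ hxy (y := y) (z := z) ?_ ?_ ?_ ?_ ?_
  · rintro rfl; exact hxy (hz.symm.trans hx)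
  · rintro rfl; exact hxy (hy.symm.trans hz)
  · rw [mul_smul, hx, hy]
  · rw [mul_smul, hy, hx]
  · rw [mul_smul, hz, hz]

theorem norm_inv' {x y : PGL(2, F)} (hp : x ^ ringChar F ≠ 1) (h : y * x * y⁻¹ ∈ zpowers x) :
    y * x * y⁻¹ = x ∨ y * x * y⁻¹ = x⁻¹ := by
  have h1 : x ≠ 1 := by rintro rfl; simp at hp
  have h4 : y * x * y⁻¹ ∈ tor (PLine F) x := zpowers_le.2 self_mem_tor h
  have h5 : ∀ z : PLine F, x • z = z → x • y • z = y • z := fun z hz => by
    rw [← LA.fix_iff hp h4 (by simpa using h1), mul_smul, mul_smul, inv_smul_smul, hz]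
  obtain ⟨a, b, hab, h6, h7, -⟩ := LA.fix_two hp
  have ha := (h6 a).2 (Or.inl rfl)
  have hb := (h6 b).2 (Or.inr rfl)
  have ne : y • a ≠ y • b := fun e => hab (smul_left_cancel _ e)
  rcases (h6 _).1 (h5 a ha) with k | k <;> rcases (h6 _).1 (h5 b hb) with k' | k'
  · exact (ne (k.trans k'.symm)).elim
  · left
    rw [LA.tor_comm hp ((h7 y).2 ⟨k, k'⟩) self_mem_tor, mul_inv_cancel_right]
  · right
    have e1 := swap_sq hab k k'
    have e2 := swap_sq (g := y * x) hab (by rw [mul_smul, ha, k]) (by rw [mul_smul, hb, k'])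
    rw [inv_eq_of_mul_eq_one_right e1, eq_inv_iff_mul_eq_one, mul_assoc, e2]
  · exact (ne (k.trans k'.symm)).elim

/-- the torus of an element with two rational fixed points -/
theorem tor_of_fix {ω : PGL(2, F)} (hp : ω ^ ringChar F ≠ 1) {a b : OnePoint F} (hab : a ≠ b)
    (ha : ω • a = a) (hb : ω • b = b) : (∀ z, ω • z = z ↔ z = a ∨ z = b) ∧
    (∀ g, g ∈ tor (PLine F) ω ↔ g • a = a ∧ g • b = b) ∧
    ∀ g, g * ω = ω * g → g ∉ tor (PLine F) ω → g • a = b ∧ g • b = a := by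
  obtain ⟨x, y, hxy, h3, h4, h5⟩ := LA.fix_two hp
  have i := PLine.rat_injective (F := F)
  rcases (h3 _).1 (rat_fix.2 ha) with k | k <;> rcases (h3 _).1 (rat_fix.2 hb) with k' | k'
  · exact (hab (i (k.trans k'.symm))).elim
  · subst k k'
    refine ⟨fun z => by rw [← rat_fix, h3, i.eq_iff, i.eq_iff],
      fun g => by rw [h4, rat_fix, rat_fix], fun g c n => ?_⟩
    simpa only [PLine.smul_rat, i.eq_iff] using h5 g c n
  · subst k k'
    refine ⟨fun z => by rw [← rat_fix, h3, i.eq_iff, i.eq_iff, or_comm],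
      fun g => by rw [h4, rat_fix, rat_fix, and_comm], fun g c n => ?_⟩
    simpa only [PLine.smul_rat, i.eq_iff, and_comm] using h5 g c n
  · exact (hab (i (k.trans k'.symm))).elim

theorem eq_dil {g : PGL(2, F)} (h : g • (∞ : OnePoint F) = ∞)
    (h0 : g • ((0 : F) : OnePoint F) = (0 : F)) : ∃ a, g = dil a := by
  obtain ⟨b, a, rfl⟩ := exists_transl_mul_dil g h
  rw [mul_smul, dil_smul_coe, transl_smul_coe, coe_eq_coe, mul_zero, zero_add] at h0
  exact ⟨a, by rw [h0, transl_zero, one_mul]⟩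

/-- `dil` as a homomorphism -/
noncomputable def dilH : Fˣ →* PGL(2, F) := MonoidHom.mk' dil dil_mul

theorem dilH_inj : Function.Injective (dilH (F := F)) :=
  (injective_iff_map_eq_one _).2 fun a h => (dil_eq_one_iff a).1 h

theorem pow_of_fix {g : PGL(2, F)} {a b : OnePoint F} (hab : a ≠ b) (ha : g • a = a)
    (hb : g • b = b) : g ^ (Nat.card F - 1) = 1 := by
  obtain ⟨c, rfl, rfl⟩ := exists_std hab
  obtain ⟨u, hu⟩ := eq_dil (g := c⁻¹ * g * c)
    (by rw [mul_smul, mul_smul, ha, inv_smul_smul]) (by rw [mul_smul, mul_smul, hb, inv_smul_smul])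
  have : g = c * dilH u * c⁻¹ := by rw [show dilH u = dil u from rfl, ← hu]; group
  rw [this, conj_pow, ← map_pow, ← Nat.card_units, pow_card_eq_one', map_one]; group

theorem exists_gen_dil : ∃ u : Fˣ, orderOf (dil u) = Nat.card F - 1 := by
  obtain ⟨u, hu⟩ := IsCyclic.exists_ofOrder_eq_natCard (α := Fˣ)
  exact ⟨u, by rw [show dil u = dilH u from rfl, orderOf_injective _ dilH_inj, hu, Nat.card_units]⟩

theorem Ux_comm {z : OnePoint F} {x y : PGL(2, F)} (hx : x ∈ Ux z) (hy : y ∈ Ux z) :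
    x * y = y * x := by
  obtain ⟨c, rfl⟩ := exists_std1 z
  obtain ⟨a, rfl⟩ := mem_Ux_std.1 hx
  obtain ⟨b, rfl⟩ := mem_Ux_std.1 hy
  rw [conj_mul, conj_mul, ← transl_add, ← transl_add, add_comm]

theorem exists_Ux (z : OnePoint F) : ∃ x ∈ Ux z, x ≠ 1 :=
  H24.exists_ne_one ((one_lt_card_iff_ne_bot _).1 (by rw [card_Ux]; exact Finite.one_lt_card))

theorem comm_mem_Ux {z : OnePoint F} {x y : PGL(2, F)} (hx : x • z = z) (hy : y • z = z) :
    x * y * x⁻¹ * y⁻¹ ∈ Ux z := by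
  obtain ⟨χ, hχ⟩ := LA.chi (PLine.rat z)
  let a : stabilizer PGL(2, F) (PLine.rat z) := ⟨x, rat_fix.2 hx⟩
  let b : stabilizer PGL(2, F) (PLine.rat z) := ⟨y, rat_fix.2 hy⟩
  exact ⟨(a * b * a⁻¹ * b⁻¹).2, (hχ (a * b * a⁻¹ * b⁻¹)).1 (by simp)⟩

/-- an element commuting with a root element -/
theorem mem_Ux_of_comm {z : OnePoint F} {x g : PGL(2, F)} (hx : x ∈ Ux z) (h1 : x ≠ 1)
    (h : g * x = x * g) : g ∈ Ux z := by
  have hz : g • z = z := Ux_fix hx h1 (by rw [← mul_smul, ← h, mul_smul, (mem_Ux.1 hx).1])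
  refine mem_Ux.2 ⟨hz, by_contra fun hp => ?_⟩
  obtain ⟨b, hb, hgb⟩ := second_fix hz hp
  rcases ((tor_of_fix hp hb.symm hz hgb).1 (x • b)).1
    (by rw [← mul_smul, h, mul_smul, hgb]) with e | e
  · exact hb (smul_left_cancel x (e.trans (mem_Ux.1 hx).1.symm))
  · exact hb (Ux_fix hx h1 e)

theorem exists_third (a b : OnePoint F) : ∃ c, c ≠ a ∧ c ≠ b := by
  by_contra h
  push Not at h
  have k : ∀ c, c = a ∨ c = b := fun c => (em _).imp_right (h c)
  have h01 : ((0 : F) : OnePoint F) ≠ (1 : F) := by simp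
  rcases k ∞ with e | e <;> rcases k (0 : F) with e0 | e0 <;> rcases k (1 : F) with e1 | e1 <;>
    first
    | exact h01 (e0.trans e1.symm)
    | exact coe_ne_infty _ (e0.trans e.symm)
    | exact coe_ne_infty _ (e1.trans e.symm)

omit [Finite F] [DecidableEq F] in
theorem conj_comp (g : GL (Fin 2) F) (h : ProjGenLinGroup.mk g ≠ 1) : ∃ c : GL (Fin 2) F,
    c.1 * !![0, -g.1.det; 1, g.1.trace] = g.1 * c.1 := by
  rw [Ne, pgl2_mk_eq_one_iff] at h
  by_cases h1 : g 1 0 = 0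
  · by_cases h2 : g 0 1 = 0
    · refine ⟨gl2 1 (g 0 0) 1 (g 1 1) (fun e => h ⟨h2, h1, by linear_combination -e⟩), ?_⟩
      ext i j
      fin_cases i <;> fin_cases j <;>
        simp [Matrix.mul_apply, Fin.sum_univ_two, Matrix.det_fin_two, Matrix.trace_fin_two, h1,
          h2] <;> ring
    · refine ⟨gl2 0 (g 0 1) 1 (g 1 1) (by simpa using h2), ?_⟩
      ext i j
      fin_cases i <;> fin_cases j <;>
        simp [Matrix.mul_apply, Fin.sum_univ_two, Matrix.det_fin_two, Matrix.trace_fin_two] <;> ring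
  · refine ⟨gl2 1 (g 0 0) 0 (g 1 0) (by simpa using h1), ?_⟩
    ext i j
    fin_cases i <;> fin_cases j <;>
      simp [Matrix.mul_apply, Fin.sum_univ_two, Matrix.det_fin_two, Matrix.trace_fin_two] <;> ring

omit [Finite F] [DecidableEq F] in
/-- non-scalar matrices with the same trace and determinant are conjugate -/
theorem conj_of_tr_det {g h : GL (Fin 2) F} (hg : ProjGenLinGroup.mk g ≠ 1)
    (hh : ProjGenLinGroup.mk h ≠ 1) (ht : g.1.trace = h.1.trace) (hd : g.1.det = h.1.det) :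
    ∃ c : PGL(2, F), c * ProjGenLinGroup.mk g * c⁻¹ = ProjGenLinGroup.mk h := by
  obtain ⟨a, ha⟩ := conj_comp g hg
  obtain ⟨b, hb⟩ := conj_comp h hh
  rw [← ht, ← hd] at hb
  have e : b * a⁻¹ * g = h * (b * a⁻¹) := by
    have h1 : (a⁻¹ * g * a).1 = (b⁻¹ * h * b).1 := by
      simp only [Units.val_mul, Matrix.mul_assoc]
      rw [← ha, ← hb, ← Matrix.mul_assoc, ← Matrix.mul_assoc, ← Units.val_mul, ← Units.val_mul,
        inv_mul_cancel, inv_mul_cancel]
    have h2 := Units.ext h1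
    calc b * a⁻¹ * g = b * (a⁻¹ * g * a) * a⁻¹ := by group
      _ = _ := by rw [h2]; group
  exact ⟨ProjGenLinGroup.mk (b * a⁻¹), by rw [← map_mul, e, map_mul, mul_inv_cancel_right]⟩

/-- the involutions outside `PSL₂(q)` are conjugate under `PSL₂(q)` -/
theorem out_conj {x y : PGL(2, F)} (hx : x * x = 1) (hy : y * y = 1) (hx' : x ∉ PB F)
    (hy' : y ∉ PB F) : ∃ k ∈ PB F, k * x * k⁻¹ = y := by
  have x1 : x ≠ 1 := fun e => hx' (e ▸ one_mem _)
  have y1 : y ≠ 1 := fun e => hy' (e ▸ one_mem _)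
  obtain ⟨c, hc⟩ : ∃ c, c * x * c⁻¹ = y := by
    obtain ⟨g, rfl, hg⟩ := exists_traceless hx x1
    obtain ⟨h, rfl, hh⟩ := exists_traceless hy y1
    rw [mem_PB] at hx' hy'
    obtain ⟨s, hs⟩ := isSquare_mul_of_not hx' hy'
    have dh : h.1.det ≠ 0 := by rw [Matrix.det_fin_two]; exact gl2_det_ne h
    have dg : g.1.det ≠ 0 := by rw [Matrix.det_fin_two]; exact gl2_det_ne g
    have s0 : s ≠ 0 := by rintro rfl; simp [dg, dh] at hs
    have u0 : s / h.1.det ≠ 0 := div_ne_zero s0 dh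
    set u := s / h.1.det with hu
    have key : u * h 0 0 * (u * h 1 1) - u * h 0 1 * (u * h 1 0) = g.1.det := by
      have : u * h 0 0 * (u * h 1 1) - u * h 0 1 * (u * h 1 0) = u * u * h.1.det := by
        rw [Matrix.det_fin_two]; ring
      rw [this, hu]; field_simp; linear_combination -hs
    have e := pgl_mk_eq_of_smul h (gl2 _ _ _ _ (key ▸ dg)) u u0 (by
      rw [gl2_val, Matrix.eta_fin_two h.1]; simp)
    rw [e] at y1 ⊢
    refine conj_of_tr_det x1 y1 ?_ ?_
    · simp [Matrix.trace_fin_two, hg, hh]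
    · rw [gl2_val, Matrix.det_fin_two_of, key]
  by_cases h : c ∈ PB F
  · exact ⟨c, h, hc⟩
  · refine ⟨y * c, mul_mem_PB hy' h, ?_⟩
    rw [mul_inv_rev, mul_assoc y, mul_assoc y, ← mul_assoc _ c⁻¹, hc, mul_inv_cancel, mul_one]

theorem exists_split {x : PGL(2, F)} (h1 : x ≠ 1) (hq : 3 ≤ Nat.card F) :
    ∃ w : PGL(2, F), orderOf w = Nat.card F - 1 ∧ (∃ a b : OnePoint F, a ≠ b ∧ w • a = a ∧ w • b = b) ∧
      x⁻¹ * w * (x⁻¹ * w) = 1 := by
  obtain ⟨u, hu⟩ := exists_gen_dil (F := F)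
  have u1 : (1 : F) - u ≠ 0 := fun e => by
    rw [show u = 1 from Units.ext (by simpa using (sub_eq_zero.1 e).symm),
      (dil_eq_one_iff 1).2 rfl, orderOf_one] at hu
    omega
  obtain ⟨g, hg⟩ := ProjGenLinGroup.mk_surjective x⁻¹
  have dg : g.1.det ≠ 0 := by rw [Matrix.det_fin_two]; exact gl2_det_ne g
  set α := g.1.trace / (1 - u) with hα
  let A : GL (Fin 2) F := gl2 α (α * (-α * u) - g.1.det) 1 (-α * u) (by simpa using dg)
  obtain ⟨c, hc⟩ := conj_of_tr_det (g := A) (h := g) (by rw [Ne, pgl2_mk_eq_one_iff]; simp [A])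
    (by rw [hg]; simpa using h1)
    (by simp only [A, gl2_val, Matrix.trace_fin_two_of, hα]; field_simp; ring)
    (by simp [A, Matrix.det_fin_two_of])
  refine ⟨c * dil u * c⁻¹, by rw [H24.orderOf_conj, hu], ⟨c • ∞, c • ((0 : F) : OnePoint F),
    fun e => infty_ne_coe _ (smul_left_cancel c e), ?_, ?_⟩, ?_⟩
  · rw [mul_smul, mul_smul, inv_smul_smul, dil_smul_infty]
  · rw [mul_smul, mul_smul, inv_smul_smul, dil_smul_coe, mul_zero]
  · rw [← hg, ← hc, conj_mul, conj_mul, dil, ← map_mul, mk_mul_self, mul_one, mul_inv_cancel]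
    simp [A, Matrix.mul_apply, Fin.sum_univ_two]

/-- a semilinear map fixing a point fixes a second point -/
theorem second_fix_fld {x : PGa F} (h : x ^ orderOf x.right = 1) {a : OnePoint F} (ha : x • a = a) :
    ∃ b, b ≠ a ∧ x • b = b := by
  have : Finite (RingAut F) := DFunLike.finite _
  obtain ⟨c, rfl⟩ := exists_std1 a
  obtain ⟨y, hy⟩ : ∃ y : PGa F, y = (inl c)⁻¹ * x * inl c := ⟨_, rfl⟩
  have hr : y.right = x.right := by simp [hy]
  have hy1 : y • (∞ : OnePoint F) = ∞ := by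
    rw [hy, mul_smul, mul_smul, inl_smul, ha, ← inl_smul, inv_smul_smul]
  have hy2 : y ^ orderOf y.right = 1 := by
    rw [hr, hy, show (inl c)⁻¹ * x * inl c = (inl c)⁻¹ * x * (inl c)⁻¹⁻¹ by rw [inv_inv], conj_pow, h]
    group
  obtain ⟨β, α, e⟩ := exists_transl_mul_dil y.left (by simpa [ga_smul] using hy1)
  set s := y.right
  set r := orderOf s
  let f : F → F := fun t => α * s t + β
  have hf : ∀ t : F, y • (t : OnePoint F) = (f t : F) := fun t => by
    rw [ga_smul, e, OnePoint.map_some, mul_smul, dil_smul_coe, transl_smul_coe]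
  have hfi : ∀ (i : ℕ) (t : F), y ^ i • (t : OnePoint F) = (f^[i] t : F) := fun i t => by
    induction i with
    | zero => simp
    | succ i ih => rw [pow_succ', mul_smul, ih, hf, Function.iterate_succ_apply']
  have hf0 : f^[r] 0 = 0 := by
    have := hfi r 0
    rw [hy2, one_smul, coe_eq_coe] at this
    exact this.symm
  obtain ⟨θ, hθ⟩ : ∃ θ : F, ∑ i ∈ Finset.range r, (s ^ i) θ ≠ 0 := by
    by_contra hc
    push Not at hc
    have li := (linearIndependent_monoidHom F F).comp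
      (fun i : Fin r => ((s ^ (i : ℕ) : RingAut F) : F →* F)) fun i j hij => by
        refine Fin.ext (pow_injOn_Iio_orderOf i.2 j.2 (RingEquiv.ext fun t => ?_))
        exact DFunLike.congr_fun hij t
    have := Fintype.linearIndependent_iff.1 li (fun _ => 1) (by
      ext t
      simpa [Finset.sum_apply, Finset.sum_range] using hc t) ⟨0, orderOf_pos s⟩
    exact one_ne_zero this
  set τ := ∑ i ∈ Finset.range r, (s ^ i) θ with hτ
  have shift : ∀ g : ℕ → F, g r = g 0 →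
      ∑ i ∈ Finset.range r, g (i + 1) = ∑ i ∈ Finset.range r, g i := fun g hg => by
    have h1 := Finset.sum_range_succ' g r
    rw [Finset.sum_range_succ, hg] at h1
    exact (add_right_cancel h1).symm
  have sr : s ^ r = 1 := pow_orderOf_eq_one s
  have ss : ∀ i : ℕ, s ((s ^ i) θ) = (s ^ (i + 1)) θ := fun i => by rw [pow_succ']; rfl
  have hsτ : s τ = τ := by
    rw [hτ, map_sum]
    simp only [ss]
    exact shift (fun i => (s ^ i) θ) (by simp [sr])
  have key : f ((∑ i ∈ Finset.range r, (s ^ i) θ * f^[i] 0) / τ) =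
      (∑ i ∈ Finset.range r, (s ^ i) θ * f^[i] 0) / τ := by
    have h1 := shift (fun i => (s ^ i) θ * f^[i] 0) (by simp [hf0])
    have h3 := shift (fun i => (s ^ i) θ) (by simp [sr])
    simp only [Function.iterate_succ_apply'] at h1
    rw [← h1]
    change α * s _ + β = _
    rw [map_div₀, hsτ, h1, map_sum, ← h1, eq_div_iff hθ, add_mul, mul_assoc, div_mul_cancel₀ _ hθ,
      hτ, ← h3, Finset.mul_sum, Finset.mul_sum, ← Finset.sum_add_distrib]
    refine Finset.sum_congr rfl fun i _ => ?_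
    rw [map_mul, ss]; simp only [f]; ring
  have h1 := (hf _).trans (congrArg _ key)
  rw [hy, mul_smul, mul_smul, inv_smul_eq_iff, inl_smul] at h1
  exact ⟨_, fun e => coe_ne_infty _ (smul_left_cancel c e), h1⟩

variable (h2 : (2 : F) ≠ 0)
include h2

theorem exists_invol {x : PGa F} {a b : OnePoint F} (hab : a ≠ b) (ha : x • a = a)
    (hb : x • b = b) : ∃ t : PGL(2, F), t * t = 1 ∧ t ≠ 1 ∧ gaAct x t = t := by
  obtain ⟨t, t1, t0, ta, tb⟩ : ∃ t : PGL(2, F), t * t = 1 ∧ t ≠ 1 ∧ t • a = a ∧ t • b = b := by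
    obtain ⟨c, rfl, rfl⟩ := exists_std hab
    refine ⟨c * dil (-1) * c⁻¹, ?_, ?_, ?_, ?_⟩
    · rw [conj_mul, ← dil_mul, neg_mul_neg, one_mul, (dil_eq_one_iff 1).2 rfl]; group
    · rw [Ne, conj_eq_one_iff, dil_eq_one_iff, Units.ext_iff]
      exact fun e => h2 (by simp only [Units.val_neg, Units.val_one] at e; linear_combination -e)
    · rw [mul_smul, mul_smul, inv_smul_smul, dil_smul_infty]
    · rw [mul_smul, mul_smul, inv_smul_smul, dil_smul_coe, mul_zero]
  have hp := inv_pow_ne h2 t1 t0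
  refine ⟨t, t1, t0, (LA.tor_two hp t1 (((tor_of_fix hp hab ta tb).2.1 _).2 ⟨?_, ?_⟩)
    (by rw [← map_mul, t1, map_one])).resolve_left (by simpa using t0)⟩
  · have := gaAct_smul x t a
    rwa [ta, ha] at this
  · have := gaAct_smul x t b
    rwa [tb, hb] at this

theorem cd_pgl : H13.Dih.CD PGL(2, F) := by
  intro P hP
  by_cases h : P = ⊥
  · exact ⟨1, one_mem _, fun g hg hn => (hn (by rw [h, mem_bot] at hg; rw [hg]; exact one_mem _)).elim⟩
  have : Fact (Nat.Prime 2) := ⟨Nat.prime_two⟩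
  have : Nontrivial P := (nontrivial_iff_ne_bot P).2 h
  have := hP.center_nontrivial
  obtain ⟨k, hk, hc⟩ := (hP.to_subgroup (center P)).nontrivial_iff_card.1 this
  obtain ⟨z, hz⟩ := exists_prime_orderOf_dvd_card' (G := center P) 2
    (hc ▸ dvd_pow_self 2 hk.ne')
  have hz' : orderOf (z.1.1 : PGL(2, F)) = 2 := by rw [orderOf_coe, orderOf_coe, hz]
  have z1 := H13.Dih.sq_of hz'
  have hp := inv_pow_ne h2 z1 (H13.Dih.ne_one_of hz')
  have hc : ∀ g ∈ P, g * z.1.1 = z.1.1 * g := fun g hg =>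
    congrArg Subtype.val (mem_center_iff.1 z.2 ⟨g, hg⟩)
  obtain ⟨a, ha, e⟩ := H24.Cyc.exists_gen (H24.Cyc.of_le (LA.tor_cyc hp)
    (inf_le_right : P ⊓ tor (PLine F) z.1.1 ≤ _))
  refine ⟨a, ha.1, fun g hg hn => ?_⟩
  have hn' : g ∉ tor (PLine F) z.1.1 := fun m => hn (e.ge ⟨hg, m⟩)
  exact ⟨LA.tor_sq hp (hc g hg) hn', LA.tor_inv hp (hc g hg) hn' ha.2, fun g' hg' hn'' =>
    e.ge ⟨mul_mem hg hg', LA.tor_mul hp (hc g hg) hn' (hc g' hg') fun m => hn'' (e.ge ⟨hg', m⟩)⟩⟩

/-- subgroups containing an element of order at least `q - 1` -/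
theorem dickson_big (H : Subgroup PGL(2, F)) {w : PGL(2, F)} (hw : w ∈ H) (h6 : 6 ≤ orderOf w)
    (hq : Nat.card F ≤ orderOf w + 1) : (∀ g ∈ H, g * w * g⁻¹ = w ∨ g * w * g⁻¹ = w⁻¹) ∨
    (∃ x : OnePoint F, ∀ g ∈ H, g • x = x) ∨ PB F ≤ H := by
  have ho : orderOf (⟨w, hw⟩ : H) = orderOf w := (orderOf_coe _).symm
  rcases dickson_pgl (ringChar F) H with ⟨h, -⟩ | ⟨k, -, ⟨e⟩⟩ | h | ⟨⟨e⟩⟩ | ⟨⟨e⟩⟩ | ⟨⟨e⟩⟩ |
    ⟨L, hL, h⟩
  · exact Or.inl fun g hg => Or.inl (by
      rw [(H24.Cyc.abl h).comm hg hw, mul_inv_cancel_right])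
  · refine Or.inl fun g hg => ?_
    have h1 : e ⟨w, hw⟩ * e ⟨w, hw⟩ ≠ 1 := fun h => by
      have := Nat.le_of_dvd two_pos (orderOf_dvd_of_pow_eq_one ((sq _).trans h))
      rw [e.orderOf_eq] at this
      omega
    have := dih_conj h1 (e ⟨g, hg⟩)
    simp only [← map_inv, ← map_mul, e.injective.eq_iff, Subtype.ext_iff] at this
    exact this
  · exact Or.inr (Or.inl h)
  · have := A4_orders (e ⟨w, hw⟩)
    rw [e.orderOf_eq] at this
    omega
  · have := S4_orders (e ⟨w, hw⟩)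
    rw [e.orderOf_eq] at this
    omega
  · have := A5_orders (e ⟨w, hw⟩)
    rw [e.orderOf_eq] at this
    omega
  · have h1 := (card_le_of_subfield_case L h).2 ⟨w, hw⟩
    obtain ⟨m, hm, e⟩ := card_subfield_pow L
    have h3 : Nat.card L = Nat.card F := by
      rcases hm.eq_or_lt with rfl | hm
      · simpa using e
      · have := Nat.pow_le_pow_right (by omega : 0 < Nat.card L) hm
        nlinarith
    have h4 := H.card_mul_index
    have h5 : 0 < Nat.card H := Nat.card_pos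
    right; right
    rcases h with ⟨⟨e⟩⟩ | ⟨⟨e⟩⟩
    · have h7 := card_psl_two' (F := L)
      obtain ⟨k, hk⟩ := odd_card h2
      rw [← Nat.card_congr e.toEquiv, h3, ← card_pgl_two, ← h4,
        show Nat.gcd 2 (Nat.card F - 1) = 2 by rw [hk]; simp, mul_comm] at h7
      exact (eq_range_toPGL_of_index_two (odd_card h2) H
        (Nat.eq_of_mul_eq_mul_left h5 h7).symm).ge
    · have h7 := card_pgl_two (F := L)
      rw [← Nat.card_congr e.toEquiv, h3, ← card_pgl_two] at h7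
      rw [(card_eq_iff_eq_top H).1 h7]
      exact le_top

end H16.QP
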