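import Mathlib
import Cfsg.Prelude.Def_CaseTheorems
import Cfsg.Agent.H7.SpSuSimple
import Cfsg.Agent.H7.QuadAlg
import Cfsg.Agent.H15.Parab

/-! Sylow 2-subgroups of `GL(2,q)` and `GU(2,q)`, `q` odd. -/

set_option autoImplicit false

namespace H16

open Matrix H15 H7 Module

section Gen

variable {G : Type*} [Group G]

theorem isPGroup_zpowers {p n : ℕ} {x : G} (h : orderOf x = p ^ n) :
    IsPGroup p (Subgroup.zpowers x) := IsPGroup.of_card ((Nat.card_zpowers x).trans h)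

theorem zpowers_le_normalizer [Finite G] {H : Subgroup G} {S : Set G} (hS : Subgroup.closure S = H)
    {y : G} (h : ∀ x ∈ S, y * x * y⁻¹ ∈ H) : Subgroup.zpowers y ≤ Subgroup.normalizer H := by
  rw [Subgroup.zpowers_le]
  refine Subgroup.mem_normalizer_fintype fun x hx => ?_
  rw [← hS] at hx
  induction hx using Subgroup.closure_induction with
  | mem x hx => exact h x hx
  | one => simp
  | mul a b _ _ ha hb => simpa [mul_assoc] using H.mul_mem ha hb
  | inv a _ ha => simpa [mul_assoc] using H.inv_mem ha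

theorem card_sylow_two [Finite G] (P : Sylow 2 G) {k m : ℕ} (h : Nat.card G = 2 ^ k * m)
    (hm : Odd m) : Nat.card P = 2 ^ k := by
  rw [P.card_eq_multiplicity, h, Nat.factorization_mul (by simp) hm.pos.ne',
    Nat.prime_two.factorization_pow]
  simp [Nat.factorization_eq_zero_of_not_dvd hm.not_two_dvd_nat]

theorem exists_orderOf_eq_of_isCyclic [Finite G] [IsCyclic G] {d : ℕ} (hd : d ∣ Nat.card G) :
    ∃ x : G, orderOf x = d := by
  obtain ⟨g, hg⟩ := IsCyclic.exists_ofOrder_eq_natCard (α := G)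
  refine ⟨g ^ (orderOf g / d), orderOf_pow_orderOf_div (orderOf_pos g).ne' (hg ▸ hd)⟩

theorem isQuasiDihedral_sylow [Finite G] (P : Sylow 2 G) {n : ℕ} (hn : 3 ≤ n)
    (hP : Nat.card P = 2 ^ (n + 1)) {x y : G} (hx : orderOf x = 2 ^ n) (hy : orderOf y = 2)
    (h : y * x * y⁻¹ = x ^ (2 ^ (n - 1) - 1)) : Cfsg.IsQuasiDihedral P := by
  have h1 := (isPGroup_zpowers hx).to_sup_of_normal_left' (isPGroup_zpowers (n := 1) hy)
    (zpowers_le_normalizer (Subgroup.zpowers_eq_closure x).symm (by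
      rintro _ rfl; rw [h]; exact Subgroup.npow_mem_zpowers _ _))
  obtain ⟨Q, hQ⟩ := h1.exists_le_sylow
  let e := Sylow.equiv Q P
  have hx' : x ∈ Q := hQ (Subgroup.mem_sup_left (Subgroup.mem_zpowers x))
  have hy' : y ∈ Q := hQ (Subgroup.mem_sup_right (Subgroup.mem_zpowers y))
  refine ⟨n, hn, hP, e ⟨x, hx'⟩, e ⟨y, hy'⟩, ?_, ?_, ?_⟩
  · rw [e.orderOf_eq, Subgroup.orderOf_mk, hx]
  · rw [e.orderOf_eq, Subgroup.orderOf_mk, hy]
  · rw [← map_inv, ← map_mul, ← map_mul, ← map_pow]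
    exact congrArg e (Subtype.ext h)

theorem isWreathed_sylow [Finite G] (P : Sylow 2 G) {n : ℕ} (hn : 2 ≤ n)
    (hP : Nat.card P = 2 ^ (2 * n + 1)) {x y z : G} (hx : orderOf x = 2 ^ n)
    (hxy : x * y = y * x) (hd : ∀ i j : ℤ, x ^ i = y ^ j → x ^ i = 1) (hz : orderOf z = 2)
    (h : z * x * z⁻¹ = y) : Cfsg.IsWreathed P := by
  have hy : orderOf y = 2 ^ n := by
    rw [← h, ← hx]; exact ((MulAut.conj z).orderOf_eq x)
  have h0 := (isPGroup_zpowers hx).to_sup_of_normal_left' (isPGroup_zpowers hy)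
    (zpowers_le_normalizer (Subgroup.zpowers_eq_closure x).symm (by
      rintro _ rfl; rw [← hxy]; simp))
  have hzz : z * z = 1 := by rw [← sq, ← hz, pow_orderOf_eq_one]
  have h1 := h0.to_sup_of_normal_left' (isPGroup_zpowers (n := 1) hz)
    (zpowers_le_normalizer (S := {x} ∪ {y}) (by
      rw [Subgroup.closure_union, Subgroup.zpowers_eq_closure, Subgroup.zpowers_eq_closure]) (by
      rintro _ (rfl | rfl)
      · rw [h]; exact Subgroup.mem_sup_right (Subgroup.mem_zpowers _)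
      · rw [← h, show z * (z * x * z⁻¹) * z⁻¹ = (z * z) * x * (z * z)⁻¹ by group, hzz]
        simpa using Subgroup.mem_sup_left (Subgroup.mem_zpowers _)))
  obtain ⟨Q, hQ⟩ := h1.exists_le_sylow
  let e := Sylow.equiv Q P
  have hx' : x ∈ Q := hQ (Subgroup.mem_sup_left (Subgroup.mem_sup_left (Subgroup.mem_zpowers x)))
  have hy' : y ∈ Q := hQ (Subgroup.mem_sup_left (Subgroup.mem_sup_right (Subgroup.mem_zpowers y)))
  have hz' : z ∈ Q := hQ (Subgroup.mem_sup_right (Subgroup.mem_zpowers z))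
  refine ⟨n, hn, hP, e ⟨x, hx'⟩, e ⟨y, hy'⟩, e ⟨z, hz'⟩, ?_, ?_, ?_, ?_, ?_⟩
  · rw [e.orderOf_eq, Subgroup.orderOf_mk, hx]
  · rw [← map_mul, ← map_mul]
    exact congrArg e (Subtype.ext hxy)
  · rw [eq_bot_iff]
    rintro _ ⟨⟨i, rfl⟩, ⟨j, hj⟩⟩
    simp only [← map_zpow] at hj ⊢
    rw [Subgroup.mem_bot, map_eq_one_iff e e.injective]
    exact Subtype.ext (hd i j (congrArg Subtype.val (e.injective hj)).symm)
  · rw [e.orderOf_eq, Subgroup.orderOf_mk, hz]
  · rw [← map_inv, ← map_mul, ← map_mul]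
    exact congrArg e (Subtype.ext h)

end Gen

variable {F : Type*} [Field F] [Fintype F]

/-- Diagonal matrices in `GL₂`. -/
def diag2 : Fˣ × Fˣ →* GL (Fin 2) F where
  toFun c := ⟨!![c.1, 0; 0, c.2], !![c.1⁻¹, 0; 0, c.2⁻¹], by simp [one_fin_two],
    by simp [one_fin_two]⟩
  map_one' := Units.ext (by simp [one_fin_two])
  map_mul' a b := Units.ext (by simp)

omit [Fintype F] in
theorem diag2_injective : Function.Injective (diag2 (F := F)) := fun a b h =>
  Prod.ext (Units.ext (congrArg (fun g : GL (Fin 2) F => g.1 0 0) h))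
    (Units.ext (congrArg (fun g : GL (Fin 2) F => g.1 1 1) h))

/-- The permutation matrix. -/
def swap2 : GL (Fin 2) F := ⟨!![0, 1; 1, 0], !![0, 1; 1, 0], by simp [one_fin_two],
    by simp [one_fin_two]⟩

theorem isWreathed_of_diag {G : Type*} [Group G] (ι : G →* GL (Fin 2) F)
    (hι : Function.Injective ι) (P : Sylow 2 G) {n : ℕ} (hn : 2 ≤ n)
    (hP : Nat.card P = 2 ^ (2 * n + 1)) {c : Fˣ} (hc : orderOf c = 2 ^ n) {x y z : G}
    (hx : ι x = diag2 (c, 1)) (hy : ι y = diag2 (1, c)) (hz : ι z = swap2) :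
    Cfsg.IsWreathed P := by
  have : Finite G := Finite.of_injective ι hι
  refine isWreathed_sylow P hn hP (x := x) (y := y) (z := z) ?_ (hι ?_) (fun i j h => hι ?_) ?_
    (hι ?_)
  · rw [← orderOf_injective ι hι, hx, orderOf_injective _ diag2_injective, Prod.orderOf, hc]
    simp
  · rw [map_mul, map_mul, hx, hy, ← map_mul, ← map_mul, mul_comm]
  · have := congrArg ι h
    rw [map_zpow, map_zpow, hx, hy, ← map_zpow, ← map_zpow] at this
    have h1 : c ^ i = 1 := by simpa using congrArg Prod.fst (diag2_injective this)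
    rw [map_zpow, hx, ← map_zpow, map_one, ← map_one diag2]
    congr 1
    simp [Prod.ext_iff, h1]
  · rw [← orderOf_injective ι hι, hz]
    refine orderOf_eq_prime (Units.ext ?_) fun h => ?_
    · simp [sq, swap2, one_fin_two]
    · simpa [swap2] using congrArg (fun g : GL (Fin 2) F => g.1 0 0) h
  · rw [map_mul, map_mul, map_inv, hx, hy, hz, mul_inv_eq_iff_eq_mul]
    exact Units.ext (by simp [swap2, diag2])

theorem exists_two_pow_mul {m : ℕ} (hm : m ≠ 0) (h4 : 4 ∣ m) :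
    ∃ n k, 2 ≤ n ∧ Odd k ∧ m = 2 ^ n * k := by
  obtain ⟨n, k, hk, rfl⟩ := Nat.exists_eq_two_pow_mul_odd hm
  refine ⟨n, k, ?_, hk, rfl⟩
  by_contra hn
  obtain ⟨k, rfl⟩ := hk
  obtain rfl | rfl : n = 0 ∨ n = 1 := by omega
  all_goals omega

theorem sq_eq_one_iff_of_ne_zero' {R : Type*} [Field R] {a : R} (h : a ^ 2 = 1) : a = 1 ∨ a = -1 :=
  sq_eq_one_iff.1 h

theorem gl2_sylow_two_wreathed (P : Sylow 2 (GL (Fin 2) F)) (h : Fintype.card F % 4 = 1) :
    Cfsg.IsWreathed P := by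
  have h1 : 1 < Fintype.card F := Fintype.one_lt_card
  obtain ⟨n, k, hn, hk, hnk⟩ := exists_two_pow_mul (m := Fintype.card F - 1) (by omega) (by omega)
  obtain ⟨c, hc⟩ := exists_orderOf_eq_of_isCyclic (G := Fˣ) (d := 2 ^ n)
    (by rw [card_units_eq rfl, hnk]; exact dvd_mul_right _ _)
  obtain ⟨r, hr⟩ : ∃ r, Fintype.card F = 4 * r + 1 := ⟨Fintype.card F / 4, by omega⟩
  refine isWreathed_of_diag (MonoidHom.id _) Function.injective_id P hn
    (card_sylow_two P (m := Fintype.card F * k ^ 2 * (2 * r + 1)) ?_ ?_) hc rfl rfl rfl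
  · rw [card_gl_two rfl, hnk, show Fintype.card F + 1 = 2 * (2 * r + 1) by omega]
    ring
  · exact (Odd.mul ⟨2 * r, by omega⟩ hk.pow).mul (odd_two_mul_add_one r)

theorem gl2_sylow_two_quasi (P : Sylow 2 (GL (Fin 2) F)) (h : Fintype.card F % 4 = 3) :
    Cfsg.IsQuasiDihedral P := by
  obtain ⟨n, k, hn, hk, hnk⟩ := exists_two_pow_mul (m := Fintype.card F + 1) (by omega) (by omega)
  obtain ⟨r, hr⟩ : ∃ r, Fintype.card F = 4 * r + 3 := ⟨Fintype.card F / 4, by omega⟩
  obtain ⟨a, b, hab⟩ := exists_aniso (F := F)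
  have := hab.fact
  have := qa_finite a b
  obtain ⟨c, hc⟩ := exists_orderOf_eq_of_isCyclic (G := (QA a b)ˣ) (d := 2 ^ (n + 1)) (by
    rw [Nat.card_units, qa_card rfl, show Fintype.card F ^ 2 - 1 =
      (Fintype.card F + 1) * (2 * (2 * r + 1)) by rw [hr]; apply Nat.sub_eq_of_eq_add; ring, hnk]
    exact ⟨k * (2 * r + 1), by ring⟩)
  have h2 : (2 : F) ≠ 0 := card_odd_iff.1 ⟨2 * r + 1, by omega⟩
  have hc1 : (c : QA a b) ^ 2 ^ n = -1 := by
    have h1 : ((c : QA a b) ^ 2 ^ n) ^ 2 = 1 := by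
      rw [← pow_mul, ← pow_succ, ← hc, ← Units.val_pow_eq_pow_val, pow_orderOf_eq_one, Units.val_one]
    refine (sq_eq_one_iff_of_ne_zero' h1).resolve_left fun h3 => ?_
    have := orderOf_dvd_of_pow_eq_one (x := c) (n := 2 ^ n) (Units.ext (by simpa using h3))
    rw [hc, Nat.pow_dvd_pow_iff_le_right (by norm_num)] at this
    omega
  have hN : (c : QA a b).norm = -1 := by
    have h0 : (c : QA a b).norm ≠ 0 := by
      rw [Ne, QuadraticAlgebra.norm_eq_zero_iff_eq_zero]; exact c.ne_zero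
    have h1 : ((c : QA a b).norm ^ 2) ^ (2 * r + 1) = 1 := by
      rw [← pow_mul, ← FiniteField.pow_card_sub_one_eq_one _ h0]
      congr 1; omega
    have h3 : ((c : QA a b).norm ^ 2) ^ 2 ^ n = 1 := by
      rw [← pow_mul, mul_comm, pow_mul, ← map_pow, hc1]; simp
    have h4 := pow_gcd_eq_one.2 ⟨h1, h3⟩
    rw [Nat.Coprime.gcd_eq_one (Nat.Coprime.pow_right _ (odd_two_mul_add_one r).coprime_two_right),
      pow_one] at h4
    refine (sq_eq_one_iff_of_ne_zero' h4).resolve_left fun h5 => ?_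
    obtain ⟨ζ, -, h6, h7⟩ := hab.exists_generator rfl
    obtain ⟨j, hj⟩ := h7 _ h5
    have h8 : c ^ (Fintype.card F + 1) = 1 := by
      rw [show c = ζ ^ j from Units.ext (by simpa using hj), ← pow_mul, mul_comm, pow_mul, ← h6,
        pow_orderOf_eq_one, one_pow]
    have := orderOf_dvd_of_pow_eq_one h8
    rw [hc, hnk, pow_succ, Nat.mul_dvd_mul_iff_left (by positivity)] at this
    exact hk.not_two_dvd_nat this
  have hs : star (c : QA a b) = c ^ (2 ^ n - 1) := by
    apply mul_left_cancel₀ c.ne_zero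
    rw [← QuadraticAlgebra.algebraMap_norm_eq_mul_star, hN, ← pow_succ',
      Nat.sub_add_cancel Nat.one_le_two_pow, hc1]
    simp
  refine isQuasiDihedral_sylow P (n := n + 1) (by omega)
    (card_sylow_two P (m := Fintype.card F * (2 * r + 1) ^ 2 * k) ?_ ?_)
    (x := Units.map (mulMat a b) c) (y := ⟨starMat a, starMat a, starMat_mul_self a,
      starMat_mul_self a⟩) ?_ ?_ ?_
  · rw [card_gl_two rfl, hnk, show Fintype.card F - 1 = 2 * (2 * r + 1) by omega]
    ring
  · exact (Odd.mul ⟨2 * r + 1, by omega⟩ (odd_two_mul_add_one r).pow).mul hk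
  · rw [orderOf_injective _ (Units.map_injective (mulMat_injective a b)), hc]
  · refine orderOf_eq_prime (Units.ext ?_) fun h => ?_
    · simp [sq, starMat_mul_self]
    · have := congrArg (fun g : GL (Fin 2) F => g.1.det) h
      simp only [starMat_det, Units.val_one, det_one] at this
      exact h2 (by linear_combination -this)
  · rw [mul_inv_eq_iff_eq_mul, ← map_pow]
    apply Units.ext
    change starMat a * mulMat a b c = mulMat a b (c ^ _ : (QA a b)ˣ) * starMat a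
    rw [starMat_mul_mulMat, hs]
    simp

theorem card_gu_two {q : ℕ} (hF : Fintype.card F = q ^ 2) :
    Nat.card (Cfsg.GU 2 F q) = q * (q - 1) * (q + 1) ^ 2 := by
  rw [card_gu hF]
  have := two_le_of_card_sq hF
  obtain ⟨r, rfl⟩ : ∃ r, q = r + 1 := ⟨q - 1, by omega⟩
  simp only [Finset.prod_range_succ, Finset.prod_range_zero]
  norm_num
  rw [show (r + 1) ^ 2 - 1 = r * (r + 2) by apply Nat.sub_eq_of_eq_add; ring]
  ring

theorem gu2_sylow_two_wreathed {q : ℕ} (hF : Fintype.card F = q ^ 2) (P : Sylow 2 (Cfsg.GU 2 F q))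
    (h : q % 4 = 3) : Cfsg.IsWreathed P := by
  obtain ⟨n, k, hn, hk, hnk⟩ := exists_two_pow_mul (m := q + 1) (by omega) (by omega)
  obtain ⟨r, hr⟩ : ∃ r, q = 4 * r + 3 := ⟨q / 4, by omega⟩
  obtain ⟨c, hc⟩ := exists_orderOf_eq_of_isCyclic (G := Fˣ) (d := 2 ^ n)
    (by rw [card_units_sq hF, hnk, mul_assoc]; exact dvd_mul_right _ _)
  have h1 : (c : F) * (c : F) ^ q = 1 := by
    rw [← pow_succ', hnk, pow_mul, ← hc, ← Units.val_pow_eq_pow_val, pow_orderOf_eq_one]
    simp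
  refine isWreathed_of_diag (Cfsg.GU 2 F q).subtype Subtype.val_injective P hn
    (card_sylow_two P (m := q * (2 * r + 1) * k ^ 2) ?_ ?_) hc (x := ⟨diag2 (c, 1), ?_⟩)
    (y := ⟨diag2 (1, c), ?_⟩) (z := ⟨swap2, ?_⟩) rfl rfl rfl
  · rw [card_gu_two hF, hnk, show q - 1 = 2 * (2 * r + 1) by omega]
    ring
  · exact (Odd.mul ⟨2 * r + 1, by omega⟩ (odd_two_mul_add_one r)).mul hk.pow
  · intro u v
    simp [Cfsg.hermForm, diag2, mulVec, dotProduct, mul_pow]
    linear_combination (u 0 * v 0 ^ q) * h1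
  · intro u v
    simp [Cfsg.hermForm, diag2, mulVec, dotProduct, mul_pow]
    linear_combination (u 1 * v 1 ^ q) * h1
  · intro u v
    simp [Cfsg.hermForm, swap2, mulVec, dotProduct, add_comm]

theorem gu2_sylow_two_quasi {q : ℕ} (hF : Fintype.card F = q ^ 2) (P : Sylow 2 (Cfsg.GU 2 F q))
    (h : q % 4 = 1) : Cfsg.IsQuasiDihedral P := by
  have hq := two_le_of_card_sq hF
  obtain ⟨n, k, hn, hk, hnk⟩ := exists_two_pow_mul (m := q - 1) (by omega) (by omega)
  obtain ⟨r, hr⟩ : ∃ r, q = 4 * r + 1 := ⟨q / 4, by omega⟩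
  obtain ⟨c, hc⟩ := exists_orderOf_eq_of_isCyclic (G := Fˣ) (d := 2 ^ (n + 1)) (by
    rw [card_units_sq hF, hnk, show q + 1 = 2 * (2 * r + 1) by omega]
    exact ⟨k * (2 * r + 1), by ring⟩)
  let Φ := unForm hF 2
  have hH : Φ.IsHerm := unForm_isHerm hF 2
  have hN : Φ.Nondeg := unForm_nondeg hF 2
  obtain ⟨e, f, H⟩ := herm_exists_hypPair hN hH (by simp)
  have hfe : Φ.B f e = 1 := H.fe
  have hext : ∀ g g' : Φ.Isom, g.1 e = g'.1 e → g.1 f = g'.1 f → g = g' := fun g g' h1 h2 =>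
    Form.Isom.ext fun v => by
      obtain ⟨a, b, w, hw, rfl⟩ := H.exists_eq v
      have h3 := H.finrank_perp hN
      have h4 : hypPerp Φ e f = ⊥ := by
        rw [← Submodule.finrank_eq_zero]; simpa using h3
      rw [h4, Submodule.mem_bot] at hw
      simp [hw, h1, h2]
  obtain ⟨x, -, hx⟩ := hH.exists_hyp_scale hN H.ee H.ff H.ef c.ne_zero
  have hxe : ∀ m : ℕ, (x ^ m).1 e = (c : F) ^ m • e := fun m => by
    induction m with
    | zero => simp
    | succ m ih =>
      rw [pow_succ', Form.Isom.mul_apply, ih, map_smul, hx, hfe, H.ee]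
      simp [sub_smul, smul_smul, pow_succ]
  have hxf : ∀ m : ℕ, (x ^ m).1 f = ((c : F) ^ q)⁻¹ ^ m • f := fun m => by
    induction m with
    | zero => simp
    | succ m ih =>
      rw [pow_succ', Form.Isom.mul_apply, ih, map_smul, hx, H.ff, H.ef]
      simp [sub_smul, smul_smul, pow_succ, frob_apply, mul_comm]
  obtain ⟨y, hy⟩ := hN.witt_family ![e, f] ![f, e]
    (Φ.linearIndependent_of_dual _ ![f, e] (by simp [Fin.forall_fin_two, hfe, H.ef])
      (by simp [Fin.forall_fin_two, H.ee, H.ff]))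
    (Φ.linearIndependent_of_dual _ ![e, f] (by simp [Fin.forall_fin_two, hfe, H.ef])
      (by simp [Fin.forall_fin_two, H.ee, H.ff]))
    (by simp [Fin.forall_fin_two, hfe, H.ef, H.ee, H.ff]) (by simp [hH.2.2])
  have hye : y.1 e = f := hy 0
  have hyf : y.1 f = e := hy 1
  have hcc : (c : F) ^ 2 ^ (n + 1) = 1 := by
    rw [← hc, ← Units.val_pow_eq_pow_val, pow_orderOf_eq_one, Units.val_one]
  have hcq : (c : F) ^ (2 ^ n - 1) = ((c : F) ^ q)⁻¹ := by
    apply eq_inv_of_mul_eq_one_left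
    obtain ⟨l, rfl⟩ := hk
    rw [← pow_add, show 2 ^ n - 1 + q = 2 ^ (n + 1) * (l + 1) by
      have : 1 ≤ 2 ^ n := Nat.one_le_two_pow
      zify [this, show 1 ≤ q by omega] at hnk ⊢
      linear_combination hnk, pow_mul, hcc, one_pow]
  refine isQuasiDihedral_sylow P (n := n + 1) (by omega)
    (card_sylow_two P (m := q * k * (2 * r + 1) ^ 2) ?_ ?_)
    (x := (guEquiv hF 2).symm x) (y := (guEquiv hF 2).symm y) ?_ ?_ ?_
  · rw [card_gu_two hF, hnk, show q + 1 = 2 * (2 * r + 1) by omega]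
    ring
  · exact (Odd.mul ⟨2 * r, by omega⟩ hk).mul (odd_two_mul_add_one r).pow
  · rw [MulEquiv.orderOf_eq, ← hc, ← orderOf_units, orderOf_eq_orderOf_iff]
    refine fun m => ⟨fun h1 => ?_, fun h1 => hext _ _ ?_ ?_⟩
    · have := hxe m
      rw [h1, Form.Isom.one_apply] at this
      exact smul_left_injective F H.e_ne_zero (by simpa using this.symm)
    · rw [hxe, h1]; simp
    · rw [hxf, inv_pow, ← pow_mul, mul_comm, pow_mul, h1]; simp
  · rw [MulEquiv.orderOf_eq]
    refine orderOf_eq_prime (hext _ _ ?_ ?_) fun h1 => ?_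
    · simp [sq, hye, hyf]
    · simp [sq, hye, hyf]
    · rw [h1] at hye
      have := H.ef
      rw [← hye, Form.Isom.one_apply, H.ee] at this
      exact zero_ne_one this
  · rw [← map_inv, ← map_mul, ← map_mul, ← map_pow, mul_inv_eq_iff_eq_mul.2]
    have h1 := hxe 1
    have h2 := hxf 1
    rw [pow_one, pow_one] at h1 h2
    refine hext _ _ ?_ ?_
    · simp only [Form.Isom.mul_apply, h1, hye, map_smul, hxf, Nat.add_sub_cancel]
      rw [inv_pow, ← pow_mul, mul_comm, pow_mul, hcq, inv_pow, inv_inv, ← pow_mul, ← sq, ← hF,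
        FiniteField.pow_card]
    · simp only [Form.Isom.mul_apply, h2, hyf, map_smul, hxe, Nat.add_sub_cancel, hcq]

end H16
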