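import Cfsg.Agent.H26.GBase
import Cfsg.Agent.H6.ZMain

/-! # Auxiliary results for the blocks TIE, TIR of the TI project -/

set_option autoImplicit false
set_option linter.unusedSectionVars false
set_option linter.unusedVariables false

namespace H16.TI

open Cfsg H24 Subgroup
open scoped commutatorElement

universe u

variable {G : Type u} [Group G] [Finite G] {V M L D : Subgroup G} {a v w : G}

theorem comm_sq (h : ∀ x ∈ V, x * x = 1) (hv : v ∈ V) (hw : w ∈ V) : v * w = w * v := by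
  have e1 : v⁻¹ = v := inv_eq_of_mul_eq_one_right (h v hv)
  have e2 : w⁻¹ = w := inv_eq_of_mul_eq_one_right (h w hw)
  have e3 : (v * w)⁻¹ = v * w := inv_eq_of_mul_eq_one_right (h _ (V.mul_mem hv hw))
  rw [← e3, mul_inv_rev, e1, e2]

theorem abl_sq (h : ∀ x ∈ V, x * x = 1) : Abl V :=
  abl_iff.2 (le_C_iff.2 fun _ hx _ hy => comm_sq h hx hy)

theorem two_sq (h : ∀ x ∈ V, x * x = 1) : IsPi {2} V :=
  isPi_iff_piElt.2 fun x hx =>
    piElt_of_pow_eq_one (piNat_self Nat.prime_two) (by rw [pow_two]; exact h x hx)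

theorem mem_zp (h : a * a = 1) (hv : v ∈ zpowers a) : v = 1 ∨ v = a := by
  obtain ⟨k, rfl⟩ := hv
  obtain ⟨j, rfl | rfl⟩ := Int.even_or_odd' k <;> simp [zpow_add, zpow_mul, sq, h]

theorem not_cyc (h : ∀ x ∈ V, x * x = 1) (hv : v ∈ V) (hw : w ∈ V) (v1 : v ≠ 1) (w1 : w ≠ 1)
    (vw : v ≠ w) : ¬ Cyc V := by
  intro hc
  obtain ⟨g, hg⟩ := hc.exists_generator
  have key : ∀ x ∈ V, x = 1 ∨ x = (g : G) := fun x hx => by
    obtain ⟨k, hk⟩ := hg ⟨x, hx⟩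
    exact mem_zp (h g g.2) ⟨k, by simpa using congrArg Subtype.val hk⟩
  rcases key v hv with e | e
  · exact v1 e
  · rcases key w hw with e' | e'
    · exact w1 e'
    · exact vw (e.trans e'.symm)

/-- generation by centralisers under a four-group -/
theorem gen4 (h : ∀ x ∈ V, x * x = 1) (hv : v ∈ V) (hw : w ∈ V) (v1 : v ≠ 1) (w1 : w ≠ 1)
    (vw : v ≠ w) (hD : IsPi {2}ᶜ D) (hn : V ≤ N[D]) (hL : ∀ a ∈ V, a ≠ 1 → D ⊓ C{a} ≤ L) :
    D ≤ L :=
  H26.coprime_abelian_gen_cent1 (abl_sq h) (not_cyc h hv hw v1 w1 vw) hn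
    (hD.coprime' (two_sq h)) hL

/-- `Z*` for an involution isolated under a normal subgroup -/
theorem iso_comm [L.Normal] (a1 : a ≠ 1) (a2 : a * a = 1)
    (hiso : ∀ l ∈ L, a * (l * a * l⁻¹) = l * a * l⁻¹ * a → l * a * l⁻¹ = a) {l : G} (hl : l ∈ L) :
    ⁅a, l⁆ ∈ O[{2}ᶜ, (⊤ : Subgroup G)] := by
  have hn : zpowers a ≤ N[L] := norm_of_normal _ _
  have h1 := H26.Gold.zstar_sub' (H := L ⊔ zpowers a) (z := a)
    (mem_sup_right (mem_zpowers a)) a1 a2 fun g hg hc => by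
      obtain ⟨l, hl, b, hb, rfl⟩ := (mem_sup_of_norm hn).1 hg
      have e : l * b * a * (l * b)⁻¹ = l * a * l⁻¹ := by
        rcases mem_zp a2 hb with rfl | rfl <;> group
      rw [e] at hc ⊢
      exact hiso l hl hc
  have h2 : ⁅a, l⁆ ∈ L := by
    have : ⁅a, l⁆ = a * l * a⁻¹ * l⁻¹ := rfl
    rw [this]
    exact L.mul_mem (Normal.conj_mem inferInstance l hl a) (L.inv_mem hl)
  exact (nml_top L).pcore_le _ (pcore_inf_le _ (le_sup_left : L ≤ L ⊔ zpowers a)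
    ⟨h1 (commutator_mem_commutator (mem_zpowers a) (mem_sup_left hl)), h2⟩)

/-- the rank one situation -/
theorem se_of (sq : ∀ x ∈ V, x * x = 1) (hv : v ∈ V) (hw : w ∈ V) (v1 : v ≠ 1) (w1 : w ≠ 1)
    (vw : v ≠ w) (hVM : V ≤ M) (hMV : M ≤ N[V])
    (fix : ∀ y : G, ∀ x ∈ V, x ≠ 1 → y * x * y⁻¹ ∈ M → y ∈ M)
    (core : ∀ L : Subgroup G, L.Normal → L ≤ M → L = ⊥)
    (gen : ∀ L : Subgroup G, L.Normal → V ≤ L → L = ⊤)
    (tr : ∀ x ∈ V, x ≠ 1 → ∀ y ∈ V, y ≠ 1 → ∃ g : G, g * x * g⁻¹ = y) (hM : M ≠ ⊤) :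
    IsStronglyEmbedded M := by
  have hC : ∀ x ∈ V, x ≠ 1 → C{x} ≤ M := fun x hx h1 y hy =>
    fix y x hx h1 (by rw [mem_C1_iff_conj.1 hy]; exact hVM hx)
  have hOn : (O[{2}ᶜ, (⊤ : Subgroup G)]).Normal := nml_top_iff.1 (pcore_nml _ _)
  have hO : O[{2}ᶜ, (⊤ : Subgroup G)] = ⊥ :=
    core _ hOn (gen4 sq hv hw v1 w1 vw (pcore_pi _ _) (norm_of_normal _ _)
      fun a ha h1 => inf_le_right.trans (hC a ha h1))
  have : Nontrivial G := ⟨v, 1, v1⟩
  have hs : IsSimpleGroup G := ⟨fun L hL => by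
    by_cases h : L ⊓ V = ⊥
    · left
      refine core L hL fun l hl => hC v hv v1 (mem_C1.2 ?_)
      have := iso_comm v1 (sq v hv) (fun l hl hc => by
        have h1 : l * v * l⁻¹ ∈ V :=
          conj_mem (hMV (fix l v hv v1 (hC v hv v1 (mem_C1.2 hc.symm)))) hv
        have h2 : l * v * l⁻¹ * v⁻¹ ∈ L ⊓ V := mem_inf.2 ⟨by
          have := L.mul_mem hl (hL.conj_mem _ (L.inv_mem hl) v)
          simpa only [mul_assoc] using this, V.mul_mem h1 (V.inv_mem hv)⟩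
        rw [h, mem_bot] at h2
        exact mul_inv_eq_one.1 h2) hl
      rw [hO, mem_bot, commutatorElement_eq_one_iff_mul_comm] at this
      exact this.symm
    · right
      obtain ⟨x, hx, h1⟩ := exists_ne_one h
      refine gen L hL fun y hy => ?_
      by_cases y1 : y = 1
      · rw [y1]; exact L.one_mem
      · obtain ⟨g, rfl⟩ := tr x hx.2 h1 y hy y1
        exact hL.conj_mem _ hx.1 g⟩
  obtain ⟨T, hT, hVT⟩ := Sylow_superset Nat.prime_two (two_sq sq) hVM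
  obtain ⟨z, hz, z1⟩ := exists_ne_one (IsPi.inf_C_ne_bot Nat.prime_two hT.pi (two_sq sq)
    (hT.le.trans hMV) (ne_bot_of_mem hv v1))
  have hN : N[T] ≤ M := fun g hg => fix g z hz.1 z1 (hT.le (conj_mem hg (hVT hz.1)))
  have hT' : Syl 2 ⊤ T := Sylow_subnorm Nat.prime_two le_top
    (hT.of_le (le_inf le_top (norm_self T)) (inf_le_right.trans hN))
  obtain ⟨S, hS⟩ := hT'.exists_sylow_top Nat.prime_two
  refine H6.ZD.s1175 hM (H6.orderOf_eq_two_of (sq z hz.1) z1) (hVM hz.1)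
    ⟨S, by rw [← SetLike.mem_coe, ← Sylow.coe_coe, hS]; exact hVT hz.1, fun s hs => ?_⟩
    (fun g hg => fix g z hz.1 z1 hg) fun g hc hne => ?_
  · have : s ∈ T := hS ▸ hs
    exact mem_C.1 hz.2 s this
  · have h1 : g * z * g⁻¹ ∈ V :=
      conj_mem (hMV (fix g z hz.1 z1 (hC z hz.1 z1 (mem_C1.2 hc.eq.symm)))) hz.1
    refine hC _ (V.mul_mem hz.1 h1) fun e => hne ?_
    rw [← mul_left_cancel_iff (a := z), e, sq z hz.1]

end H16.TI
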