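import Mathlib

/-!
# Involution centralizers with a normal subgroup of symplectic type: the local data
-/

set_option autoImplicit false

open Subgroup

namespace H16.SY

variable {G : Type*} [Group G]

/-- `Q = O₂(C(z))`, and `R ≤ Q` is a central product of `⟨b⟩ ≅ ℤ₄` with an extraspecial group
or `1`. -/
structure Loc (z b : G) (R Q : Subgroup G) : Prop where
  bb : b * b = z
  zz : z * z = 1
  z1 : z ≠ 1
  bR : b ∈ R
  RQ : R ≤ Q
  Qz : ∀ q ∈ Q, Commute q z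
  pg : IsPGroup 2 Q
  nR : ∀ c, Commute c z → ∀ r ∈ R, c * r * c⁻¹ ∈ R
  nQ : ∀ c, Commute c z → ∀ q ∈ Q, c * q * c⁻¹ ∈ Q
  nb : ∀ c, Commute c z → c * b * c⁻¹ = b ∨ c * b * c⁻¹ = b⁻¹
  sq : ∀ r ∈ R, r * r = 1 ∨ r * r = z
  cb : ∀ r ∈ R, Commute r b
  cen : ∀ r ∈ R, (∀ s ∈ R, Commute r s) → r ∈ zpowers b
  max : ∀ X : Subgroup G, IsPGroup 2 X → (∀ x ∈ X, Commute x z) →
    (∀ c, Commute c z → ∀ x ∈ X, c * x * c⁻¹ ∈ X) → X ≤ Q
  ker : ∀ c, Commute c z → (∀ r ∈ R, c * r * c⁻¹ * r⁻¹ ∈ zpowers b) → c ∈ Q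
  cq : ∀ q ∈ Q, q * q = 1 → (∀ s ∈ Q, Commute q s) → q = 1 ∨ q = z

/-- the case that the centre of the critical subgroup has order at least eight. -/
structure Big (z b β : G) (R Q : Subgroup G) : Prop where
  ββ : β * β = b
  βR : ∀ r ∈ R, Commute β r
  inv : ∀ c, Commute c z → c * b * c⁻¹ = b⁻¹ → c * β * c⁻¹ * β = 1 ∨ c * β * c⁻¹ * β = z
  nadj : ∀ g, Commute b (g * z * g⁻¹) → g * z * g⁻¹ = z
  b3 : (∀ r ∈ R, r ∈ zpowers b) → ∀ q ∈ Q, q * q = 1 → Commute q b → q = 1 ∨ q = z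

/-- the double centralizer property in a group whose commutators lie in `{1, z}`. -/
theorem perp_perp {R Z : Subgroup G} {z : G} (hzz : z * z = 1)
    (hc : ∀ x ∈ R, ∀ y ∈ R, x * y * x⁻¹ = y ∨ x * y * x⁻¹ = y * z) (hz : ∀ x ∈ R, Commute x z)
    (hZ : ∀ x ∈ R, (∀ y ∈ R, Commute x y) → x ∈ Z) (l : List G) :
    (∀ t ∈ l, t ∈ R) → ∀ x ∈ R, (∀ y ∈ R, (∀ t ∈ l, Commute y t) → Commute y x) →
      x ∈ Z ⊔ closure {t | t ∈ l} := by
  have key : ∀ x ∈ R, ∀ t ∈ R, ∀ y ∈ R, ¬ Commute y x → ¬ Commute y t → Commute y (x * t) := by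
    intro x hx t ht y hy h1 h2
    have e1 := (hc y hy x hx).resolve_left fun e => h1 (mul_inv_eq_iff_eq_mul.1 e)
    have e2 := (hc y hy t ht).resolve_left fun e => h2 (mul_inv_eq_iff_eq_mul.1 e)
    have e3 : y * (x * t) * y⁻¹ = (y * x * y⁻¹) * (y * t * y⁻¹) := by group
    rw [e1, e2, mul_assoc x, ← mul_assoc z, ← (hz t ht).eq, mul_assoc t, hzz, mul_one] at e3
    exact mul_inv_eq_iff_eq_mul.1 e3
  have key2 : ∀ x ∈ R, ∀ y ∈ R, ∀ y' ∈ R, ¬ Commute y x → ¬ Commute y' x → Commute (y * y') x :=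
    fun x hx y hy y' hy' h1 h2 =>
      (key y hy y' hy' x hx (fun e => h1 e.symm) fun e => h2 e.symm).symm
  induction l with
  | nil => exact fun _ x hx h => mem_sup_left (hZ x hx fun y hy => (h y hy (by simp)).symm)
  | cons t l ih =>
    intro hl x hx h
    have ht : t ∈ R := hl t (by simp)
    have hl' : ∀ s ∈ l, s ∈ R := fun s hs => hl s (by simp [hs])
    have mono : Z ⊔ closure {s | s ∈ l} ≤ Z ⊔ closure {s | s ∈ t :: l} :=
      sup_le_sup_left (Subgroup.closure_mono fun s hs => List.mem_cons_of_mem _ hs) _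
    have htm : t ∈ Z ⊔ closure {s | s ∈ t :: l} := mem_sup_right (subset_closure (by simp))
    have h' : ∀ y ∈ R, (∀ s ∈ l, Commute y s) → Commute y t → Commute y x := fun y hy h1 h2 =>
      h y hy fun s hs => by
        rcases List.mem_cons.1 hs with rfl | hs
        exacts [h2, h1 s hs]
    by_cases h0 : ∀ y ∈ R, (∀ s ∈ l, Commute y s) → Commute y x
    · exact mono (ih hl' x hx h0)
    · push Not at h0
      obtain ⟨y0, hy0, h1, h2⟩ := h0
      have h3 : ¬ Commute y0 t := fun e => h2 (h' y0 hy0 h1 e)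
      have : x * t ∈ Z ⊔ closure {s | s ∈ l} := by
        refine ih hl' _ (mul_mem hx ht) fun y hy h4 => ?_
        by_cases h5 : Commute y t
        · exact (h' y hy h4 h5).mul_right h5
        · refine key x hx t ht y hy (fun h6 => h2 ?_) h5
          have h7 := h' _ (mul_mem hy hy0) (fun s hs => (h4 s hs).mul_left (h1 s hs))
            (key2 t ht y hy y0 hy0 h5 h3)
          have : y0 = y⁻¹ * (y * y0) := by group
          rw [this]
          exact h6.inv_left.mul_left h7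
      have e : x = (x * t) * t⁻¹ := by group
      rw [e]
      exact mul_mem (mono this) (inv_mem htm)

/-- the same for a subgroup. -/
theorem perp_perp' [Finite G] {R Z U : Subgroup G} {z : G} (hzz : z * z = 1)
    (hc : ∀ x ∈ R, ∀ y ∈ R, x * y * x⁻¹ = y ∨ x * y * x⁻¹ = y * z) (hz : ∀ x ∈ R, Commute x z)
    (hZ : ∀ x ∈ R, (∀ y ∈ R, Commute x y) → x ∈ Z) (hU : U ≤ R) (hZU : Z ≤ U) {x : G} (hx : x ∈ R)
    (h : ∀ y ∈ R, (∀ t ∈ U, Commute y t) → Commute y x) : x ∈ U := by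
  have hf : (U : Set G).Finite := Set.toFinite _
  have hm : ∀ t, t ∈ hf.toFinset.toList ↔ t ∈ U := fun t => by simp
  have := perp_perp hzz hc hz hZ hf.toFinset.toList (fun t ht => hU ((hm t).1 ht)) x hx
    fun y hy h1 => h y hy fun t ht => h1 t ((hm t).2 ht)
  exact (sup_le hZU ((closure_le _).2 fun t ht => (hm t).1 ht) : _ ≤ U) this

end H16.SY
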