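import Mathlib
import Cfsg.Agent.H16.YD
import Cfsg.Agent.H6.TI2
import Cfsg.Agent.H3.PNil

/-!
# General lemmas and first consequences of the local data
-/

set_option autoImplicit false
set_option linter.unusedSectionVars false

open Subgroup
open scoped commutatorElement

namespace H16.SY

variable {G : Type*} [Group G]

theorem cm_iff {x y : G} : x * y * x⁻¹ = y ↔ Commute x y := mul_inv_eq_iff_eq_mul

theorem cm_cj {x y : G} (g : G) : Commute (g * x * g⁻¹) (g * y * g⁻¹) ↔ Commute x y := by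
  refine ⟨fun h => ?_, fun h => ?_⟩
  · have := h.map (MulAut.conj g⁻¹).toMonoidHom
    simpa [mul_assoc] using this
  · simpa using h.map (MulAut.conj g).toMonoidHom

theorem cj_mul' (g x y : G) : g * (x * y) * g⁻¹ = g * x * g⁻¹ * (g * y * g⁻¹) := by group

theorem cj_cj' (g k x : G) : g * k * x * (g * k)⁻¹ = g * (k * x * k⁻¹) * g⁻¹ := by group

theorem cj_inv' (g x : G) : g * x⁻¹ * g⁻¹ = (g * x * g⁻¹)⁻¹ := by group

theorem inv_of_sq {x : G} (h : x * x = 1) : x⁻¹ = x := inv_eq_of_mul_eq_one_right h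

theorem cm_of_sq {x y : G} (hx : x * x = 1) (hy : y * y = 1) (h : x * y * (x * y) = 1) :
    Commute x y := by
  have := inv_of_sq h
  rw [mul_inv_rev, inv_of_sq hx, inv_of_sq hy] at this
  exact this.symm

/-- adjoining a normalizing element whose square lies in the subgroup. -/
theorem mem_ext {A : Subgroup G} {a x : G} (hn : ∀ y ∈ A, a * y * a⁻¹ ∈ A) (h2 : a * a ∈ A)
    (hx : x ∈ A ⊔ zpowers a) : x ∈ A ∨ x * a ∈ A := by
  have hn' : ∀ y ∈ A, a⁻¹ * y * a ∈ A := fun y hy => by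
    have := mul_mem (mul_mem (inv_mem h2) (hn y hy)) h2
    convert this using 1
    group
  let T : Subgroup G :=
    { carrier := {x | x ∈ A ∨ x * a ∈ A}
      one_mem' := Or.inl (one_mem _)
      mul_mem' := by
        rintro x y (hx | hx) (hy | hy)
        · exact Or.inl (mul_mem hx hy)
        · exact Or.inr (mul_assoc x y a ▸ mul_mem hx hy)
        · refine Or.inr ?_
          have := mul_mem hx (hn' y hy)
          convert this using 1
          group
        · refine Or.inl ?_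
          have := mul_mem (mul_mem hx (hn' _ hy)) (inv_mem h2)
          convert this using 1
          group
      inv_mem' := by
        rintro x (hx | hx)
        · exact Or.inl (inv_mem hx)
        · refine Or.inr ?_
          have := mul_mem (hn _ (inv_mem hx)) h2
          convert this using 1
          group }
  exact sup_le (b := zpowers a) (c := T) (fun x hx => Or.inl hx) (zpowers_le.2 (Or.inr h2)) hx

theorem card_ext [Finite G] {A : Subgroup G} {a : G} (hn : ∀ y ∈ A, a * y * a⁻¹ ∈ A)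
    (h2 : a * a ∈ A) (h1 : a ∉ A) : Nat.card ↥(A ⊔ zpowers a) = Nat.card A * 2 := by
  have ha : a ∈ A ⊔ zpowers a := mem_sup_right (mem_zpowers a)
  have : (A.subgroupOf (A ⊔ zpowers a)).index = 2 := by
    rw [index_eq_two_iff]
    refine ⟨⟨a, ha⟩, fun y => ?_⟩
    simp only [mem_subgroupOf, coe_mul]
    rcases mem_ext hn h2 y.2 with h | h
    · exact Or.inr ⟨h, fun e => h1 ((mul_mem_cancel_left h).1 e)⟩
    · exact Or.inl ⟨h, fun e => h1 ((mul_mem_cancel_left e).1 h)⟩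
  rw [← (A.subgroupOf (A ⊔ zpowers a)).card_mul_index, this,
    Nat.card_congr (subgroupOfEquivOfLe le_sup_left).toEquiv]

theorem pg_ext {A : Subgroup G} {a : G} (hA : IsPGroup 2 A) (hn : ∀ y ∈ A, a * y * a⁻¹ ∈ A)
    [Finite G] {k : ℕ} (ha : a ^ 2 ^ k = 1) : IsPGroup 2 ↥(A ⊔ zpowers a) := by
  have h1 : IsPGroup 2 (zpowers a) := by
    rintro ⟨_, n, rfl⟩
    refine ⟨k, Subtype.ext ?_⟩
    simp only [SubmonoidClass.coe_pow, OneMemClass.coe_one]
    rw [← zpow_natCast, ← zpow_mul, mul_comm, zpow_mul, zpow_natCast, ha, one_zpow]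
  exact hA.to_sup_of_normal_left' h1 (zpowers_le.2 (H22.mem_normalizer_of_conj_mem hn))

/-- a subgroup of a `2`-group containing its normalizer there. -/
theorem le_of_selfnorm [Finite G] {P K : Subgroup G} (hP : IsPGroup 2 P)
    (h : ∀ g ∈ P, (∀ k ∈ P, k ∈ K → g⁻¹ * k * g ∈ K) → g ∈ K) : P ≤ K := by
  have : Fact (Nat.Prime 2) := ⟨Nat.prime_two⟩
  have hn := hP.isNilpotent
  by_contra hne
  have h1 : K.subgroupOf P < ⊤ := lt_top_iff_ne_top.2 fun e => hne (subgroupOf_eq_top.1 e)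
  obtain ⟨g, hg, hg'⟩ := SetLike.exists_of_lt (Group.normalizerCondition_of_isNilpotent _ h1)
  refine hg' (h g g.2 fun k hk hk' => ?_)
  have := (mem_normalizer_iff.1 (inv_mem hg) ⟨k, hk⟩).1 hk'
  simpa [mem_subgroupOf] using this

/-- a transfer lemma for an element of order four. -/
theorem transfer4 [Finite G] [IsSimpleGroup G] (hG : ¬ IsMulCommutative G) (S : Sylow 2 G)
    {N : Subgroup G} (hN : ∀ x ∈ (S : Subgroup G), ∀ y ∈ (S : Subgroup G), x * y * x⁻¹ * y⁻¹ ∈ N)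
    {u : G} (hu : u ∈ (S : Subgroup G)) (h4 : u * u * (u * u) = 1) (huN : u ∉ N)
    (h2 : ∀ g, g * (u * u) * g⁻¹ ∈ (S : Subgroup G) → g * (u * u) * g⁻¹ ∈ N)
    (h1 : ∀ g, g * u * g⁻¹ ∈ (S : Subgroup G) → g * u * g⁻¹ * u ∈ N) : False := by
  have : Fact (Nat.Prime 2) := ⟨Nat.prime_two⟩
  have hn : (N.subgroupOf S).Normal := ⟨fun n hn g => by
    have := mul_mem (hN g g.2 n n.2) (mem_subgroupOf.1 hn)
    simpa [mem_subgroupOf] using this⟩
  let _ : CommGroup (S ⧸ N.subgroupOf S) :=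
    { (inferInstance : Group (S ⧸ N.subgroupOf S)) with
      mul_comm := fun a b => by
        obtain ⟨a, rfl⟩ := QuotientGroup.mk_surjective a
        obtain ⟨b, rfl⟩ := QuotientGroup.mk_surjective b
        rw [← QuotientGroup.mk_mul, ← QuotientGroup.mk_mul, QuotientGroup.eq]
        have := hN _ (inv_mem b.2) _ (inv_mem a.2)
        simpa [mem_subgroupOf, mul_assoc] using this }
  let φ : S →* S ⧸ N.subgroupOf S := QuotientGroup.mk' _
  have hφ : ∀ x : S, φ x = 1 ↔ (x : G) ∈ N := fun x => QuotientGroup.eq_one_iff x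
  have huu : u * u ∈ N := by simpa using h2 1 (by simpa using mul_mem hu hu)
  have ha2 : φ ⟨u, hu⟩ * φ ⟨u, hu⟩ = 1 := by
    rw [← map_mul, hφ]; exact huu
  have hu4 : u ^ 4 = 1 := by rw [← h4]; simp only [pow_succ, pow_zero, one_mul, mul_assoc]
  have key : MonoidHom.transfer φ u = φ ⟨u, hu⟩ ^ (S : Subgroup G).index := by
    refine H3.transfer_eq_pow_of_forall φ u _ fun k g hk => ?_
    have odd : ∀ (x : G) (hx : x ∈ (S : Subgroup G)), x * u ∈ N → φ ⟨x, hx⟩ = φ ⟨u, hu⟩ := by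
      intro x hx h
      rw [← mul_left_inj (φ ⟨u, hu⟩), ha2, ← map_mul, hφ]; exact h
    have hp : ∀ j, φ ⟨u, hu⟩ ^ (4 * j) = 1 := fun j => by
      rw [show 4 * j = 2 * (2 * j) by ring, pow_mul, sq, ha2, one_pow]
    have hq : ∀ j, u ^ (4 * j) = 1 := fun j => by rw [pow_mul, hu4, one_pow]
    obtain ⟨j, rfl | rfl | rfl | rfl⟩ : ∃ j, k = 4 * j ∨ k = 4 * j + 1 ∨ k = 4 * j + 2 ∨ k = 4 * j + 3 :=
      ⟨k / 4, by omega⟩
    · rw [hp, hφ]; simp [hq]
    · rw [pow_add (φ _), hp, one_mul, pow_one]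
      have e : g⁻¹ * u ^ (4 * j + 1) * g = g⁻¹ * u * g⁻¹⁻¹ := by rw [pow_add, hq]; group
      exact odd _ _ (e ▸ h1 g⁻¹ (e ▸ hk))
    · rw [pow_add (φ _), hp, one_mul, sq, ha2, hφ]
      have e : g⁻¹ * u ^ (4 * j + 2) * g = g⁻¹ * (u * u) * g⁻¹⁻¹ := by
        rw [pow_add, hq, sq]; group
      have := h2 g⁻¹ (e ▸ hk)
      rwa [← e] at this
    · rw [pow_add (φ _), hp, one_mul, pow_succ (φ _), sq, ha2, one_mul]
      have e : g⁻¹ * u ^ (4 * j + 3) * g = (g⁻¹ * u * g⁻¹⁻¹)⁻¹ := by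
        rw [pow_add, hq, one_mul, eq_inv_iff_mul_eq_one]
        calc g⁻¹ * u ^ 3 * g * (g⁻¹ * u * g⁻¹⁻¹) = g⁻¹ * u ^ 4 * g := by group
          _ = 1 := by rw [hu4]; group
      have hk' : g⁻¹ * u * g⁻¹⁻¹ ∈ (S : Subgroup G) := inv_mem_iff.1 (e ▸ hk)
      have e1 := odd _ hk' (h1 _ hk')
      have e2 : (⟨_, hk⟩ : S) = (⟨_, hk'⟩ : S)⁻¹ := Subtype.ext e
      rw [e2, map_inv, e1, inv_eq_of_mul_eq_one_right ha2]
  obtain ⟨j, hj⟩ : Odd (S : Subgroup G).index := H6.odd_index_sylow S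
  rw [hj, pow_succ, pow_mul, sq, ha2, one_pow, one_mul] at key
  rcases (MonoidHom.transfer φ).normal_ker.eq_bot_or_eq_top with h | h
  · refine hG ⟨⟨fun a b => (MonoidHom.ker_eq_bot_iff _).1 h ?_⟩⟩
    rw [map_mul, map_mul, mul_comm]
  · have : u ∈ (MonoidHom.transfer φ).ker := h ▸ mem_top u
    exact huN ((hφ ⟨u, hu⟩).1 (key.symm.trans this))

theorem no_index_two [Finite G] [IsSimpleGroup G] (hG : ¬ IsMulCommutative G) (H : Subgroup G) :
    H.index ≠ 2 := by
  intro h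
  have hn := Subgroup.normal_of_index_eq_two h
  rcases hn.eq_bot_or_eq_top with e | e
  · rw [e, index_bot] at h
    have : Fact (Nat.Prime 2) := ⟨Nat.prime_two⟩
    have := isCyclic_of_prime_card h
    exact hG IsCyclic.isMulCommutative
  · rw [e, index_top] at h; omega

/-- Thompson's transfer lemma. -/
theorem thompson [Finite G] [IsSimpleGroup G] (hG : ¬ IsMulCommutative G) (S : Sylow 2 G)
    {W : Subgroup G} {a : G} (h : ∀ s ∈ (S : Subgroup G), s ∈ W ∨ s * a ∈ W)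
    {x : G} (hx : orderOf x = 2) : ∃ g : G, g * x * g⁻¹ ∈ W ∧ g * x * g⁻¹ ∈ (S : Subgroup G) := by
  have : (W.subgroupOf S).index ≤ 2 := by
    by_cases h0 : (S : Subgroup G) ≤ W
    · rw [subgroupOf_eq_top.2 h0, index_top]; omega
    · obtain ⟨s, hs, hs'⟩ := SetLike.not_le_iff_exists.1 h0
      refine (index_eq_two_iff.2 ⟨⟨s, hs⟩⁻¹, fun y => ?_⟩).le
      simp only [mem_subgroupOf, coe_mul, coe_inv]
      by_cases hy : (y : G) ∈ W
      · exact Or.inr ⟨hy, fun e => hs' (inv_mem_iff.1 ((mul_mem_cancel_left hy).1 e))⟩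
      · refine Or.inl ⟨?_, hy⟩
        have := mul_mem ((h y y.2).resolve_left hy) (inv_mem ((h s hs).resolve_left hs'))
        convert this using 1
        group
  obtain ⟨g, y, hy, e⟩ := H6.exists_conj_mem_of_index_le_two (no_index_two hG) S _ this hx
  exact ⟨g, e ▸ mem_subgroupOf.1 hy, e ▸ y.2⟩

end H16.SY
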