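import Mathlib
import Cfsg.Agent.H16.YA

/-!
# Consequences of the local data
-/

set_option autoImplicit false
set_option linter.unusedSectionVars false

open Subgroup H22

namespace H16.SY

variable {G : Type*} [Group G]

namespace Loc

variable {z b c x y w r t s : G} {R Q P : Subgroup G} (h : Loc z b R Q)
include h

theorem zR : z ∈ R := h.bb ▸ mul_mem h.bR h.bR
theorem bz : Commute b z := h.bb ▸ (Commute.refl b).mul_right (Commute.refl b)
theorem Rz (hr : r ∈ R) : Commute r z := h.Qz r (h.RQ hr)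
theorem binv : b⁻¹ = b * z := by
  rw [inv_eq_iff_mul_eq_one, ← mul_assoc, h.bb, h.zz]
theorem zinv : z⁻¹ = z := inv_of_sq h.zz
theorem b4 : b ^ 4 = 1 := by
  rw [← h.zz, ← h.bb]; simp only [pow_succ, pow_zero, one_mul, mul_assoc]
theorem mzz (x : G) : x * z * z = x := by rw [mul_assoc, h.zz, mul_one]
theorem ne_mz (x : G) : x ≠ x * z := fun e => h.z1 (left_eq_mul.1 e)
theorem zb : z ∈ zpowers b := h.bb ▸ mul_mem (mem_zpowers b) (mem_zpowers b)
theorem b_ne_inv : b ≠ b⁻¹ := h.binv ▸ h.ne_mz b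
theorem ord : orderOf z = 2 := orderOf_eq_prime (by rw [pow_two, h.zz]) h.z1

theorem mem_zb : x ∈ zpowers b ↔ x = 1 ∨ x = z ∨ x = b ∨ x = b * z := by
  constructor
  · rintro ⟨n, rfl⟩
    have h4 : b ^ (4 : ℤ) = 1 := by exact_mod_cast h.b4
    obtain ⟨k, e | e | e | e⟩ : ∃ k, n = 4 * k ∨ n = 4 * k + 2 ∨ n = 4 * k + 1 ∨ n = 4 * k + 3 :=
      ⟨n / 4, by omega⟩
    · left; simp only [e, zpow_mul, h4, one_zpow]
    · right; left; simp only [e, zpow_add, zpow_mul, h4, one_zpow, one_mul, zpow_two, h.bb]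
    · right; right; left; simp only [e, zpow_add, zpow_mul, h4, one_zpow, one_mul, zpow_one]
    · right; right; right
      simp only [e, zpow_add, zpow_mul, h4, one_zpow, one_mul]
      rw [← h.bb, show (3 : ℤ) = 1 + 1 + 1 by rfl, zpow_add, zpow_add, zpow_one, mul_assoc]
  · rintro (rfl | rfl | rfl | rfl)
    exacts [one_mem _, h.zb, mem_zpowers _, mul_mem (mem_zpowers _) h.zb]

theorem zb_le (hx : x ∈ zpowers b) : x ∈ R := (zpowers_le.2 h.bR) hx

theorem cm_zb (hr : r ∈ R) (hx : x ∈ zpowers b) : Commute r x := by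
  obtain ⟨n, rfl⟩ := hx
  exact (h.cb r hr).zpow_right n

/-- the involutions of `⟨b⟩` -/
theorem inv_zb (hx : x ∈ zpowers b) (h2 : x * x = 1) : x = 1 ∨ x = z := by
  rcases h.mem_zb.1 hx with e | e | e | e
  · exact Or.inl e
  · exact Or.inr e
  · rw [e, h.bb] at h2; exact absurd h2 h.z1
  · rw [e, ← h.binv, ← mul_inv_rev, h.bb, inv_eq_one] at h2; exact absurd h2 h.z1

theorem inv_cases (hr : r ∈ R) : r⁻¹ = r ∨ r⁻¹ = r * z := by
  rcases h.sq r hr with e | e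
  · exact Or.inl (inv_of_sq e)
  · right; rw [inv_eq_iff_mul_eq_one, ← mul_assoc, e, h.zz]

theorem cj_cases (hx : x ∈ R) (hy : y ∈ R) : x * y * x⁻¹ = y ∨ x * y * x⁻¹ = y * z := by
  have e : x * y * x⁻¹ = y * ((y⁻¹ * y⁻¹) * ((y * x) * (y * x)) * (x⁻¹ * x⁻¹)) := by group
  rw [e]
  rcases h.sq _ (inv_mem hy) with e1 | e1 <;> rcases h.sq _ (mul_mem hy hx) with e2 | e2 <;>
    rcases h.sq _ (inv_mem hx) with e3 | e3 <;> rw [e1, e2, e3] <;> simp [h.zz]

theorem cj_ne (hx : x ∈ R) (hy : y ∈ R) (hn : ¬ Commute x y) : x * y * x⁻¹ = y * z :=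
  (h.cj_cases hx hy).resolve_left fun e => hn (cm_iff.1 e)

theorem ne_cj (e : x * y * x⁻¹ = y * z) : ¬ Commute x y := fun e' =>
  h.ne_mz y ((cm_iff.2 e').symm.trans e)

theorem cmr (hw : w ∈ R) (hx : x ∈ R) (hy : y ∈ R) :
    Commute w (x * y) ↔ (Commute w x ↔ Commute w y) := by
  by_cases h1 : Commute w x <;> by_cases h2 : Commute w y
  · simp only [h1, h2, h1.mul_right h2]
  · have : ¬ Commute w (x * y) := fun e => h2 (by simpa using h1.inv_right.mul_right e)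
    tauto
  · have : ¬ Commute w (x * y) := fun e => h1 (by simpa using e.mul_right h2.inv_right)
    tauto
  · simp only [h1, h2, iff_true]
    rw [← cm_iff, cj_mul', h.cj_ne hw hx h1, h.cj_ne hw hy h2, mul_assoc x, ← mul_assoc z,
      ← (h.Rz hy).eq, h.mzz]

theorem cml (hx : x ∈ R) (hy : y ∈ R) (hw : w ∈ R) :
    Commute (x * y) w ↔ (Commute x w ↔ Commute y w) := by
  rw [Commute.symm_iff, h.cmr hw hx hy, Commute.symm_iff (a := w), Commute.symm_iff (a := w)]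

theorem cm_z (hw : w ∈ R) : Commute w (x * z) ↔ Commute w x :=
  ⟨fun e => by simpa [h.mzz] using e.mul_right (h.Rz hw), fun e => e.mul_right (h.Rz hw)⟩

/-- fixed modulo `⟨b⟩` implies fixed modulo `⟨z⟩` -/
theorem fix_z (hc : Commute c z) (hr : r ∈ R) (e : c * r * c⁻¹ * r⁻¹ ∈ zpowers b) :
    c * r * c⁻¹ = r ∨ c * r * c⁻¹ = r * z := by
  have h1 : c * r * c⁻¹ * (c * r * c⁻¹) = r * r := by
    rw [← cj_mul']
    rcases h.sq r hr with e | e <;> rw [e]
    · group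
    · exact cm_iff.2 hc
  obtain ⟨n, hn⟩ : ∃ n, n = c * r * c⁻¹ * r⁻¹ := ⟨_, rfl⟩
  have h2 : c * r * c⁻¹ = n * r := by rw [hn]; group
  rw [← hn] at e
  have h3 : n * n = 1 := by
    rw [h2, mul_assoc, ← mul_assoc r, (h.cm_zb hr e).eq, mul_assoc, ← mul_assoc n] at h1
    exact mul_eq_right.1 h1
  rw [h2]
  rcases h.inv_zb e h3 with e | e <;> rw [e]
  · left; rw [one_mul]
  · right; exact (h.Rz hr).eq.symm

theorem zb_of_fix (hr : r ∈ R) (e : c * r * c⁻¹ = r ∨ c * r * c⁻¹ = r * z) :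
    c * r * c⁻¹ * r⁻¹ ∈ zpowers b := by
  rcases e with e | e <;> rw [e]
  · simp
  · rw [cm_iff.2 (h.Rz hr)]; exact h.zb

theorem exists_swap (ht : t ∈ R) (h2 : t * t = 1) (h1 : t ≠ 1) (hz : t ≠ z) :
    ∃ x ∈ R, x * t * x⁻¹ = t * z := by
  by_contra hn
  push Not at hn
  rcases h.inv_zb (h.cen t ht fun s hs =>
    (cm_iff.1 ((h.cj_cases hs ht).resolve_right (hn s hs))).symm) h2 with e | e
  exacts [h1 e, hz e]

/-- an element fixing a spanning list modulo `z` lies in `Q`. -/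
theorem ker' (hc : Commute c z) (l : List G) (hl : ∀ e ∈ l, e ∈ R)
    (hs : ∀ n ∈ R, (∀ e ∈ l, Commute n e) → n ∈ zpowers b)
    (hf : ∀ e ∈ l, c * e * c⁻¹ = e ∨ c * e * c⁻¹ = e * z) : c ∈ Q := by
  refine h.ker c hc fun r hr => hs _ (mul_mem (h.nR c hc r hr) (inv_mem hr)) fun e he => ?_
  rw [h.cml (h.nR c hc r hr) (inv_mem hr) (hl e he), Commute.inv_left_iff, ← cm_cj c (x := r)]
  rcases hf e he with e | e <;> rw [e]
  rw [h.cm_z (h.nR c hc r hr)]

theorem perp (l : List G) (hl : ∀ t ∈ l, t ∈ R) (hx : x ∈ R)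
    (hp : ∀ y ∈ R, (∀ t ∈ l, Commute y t) → Commute y x) : x ∈ zpowers b ⊔ closure {t | t ∈ l} :=
  perp_perp h.zz (fun _ hx _ hy => h.cj_cases hx hy) (fun _ => h.Rz) h.cen l hl x hx hp

theorem inv_b (hc : Commute c z) (hn : ¬ Commute c b) : c * b * c⁻¹ = b⁻¹ :=
  (h.nb c hc).resolve_left fun e => hn (cm_iff.1 e)

theorem inv_b' (hc : Commute c z) (hn : ¬ Commute c b) : c * b * c⁻¹ = b * z :=
  h.binv ▸ h.inv_b hc hn

/-- `Aut(ℤ₄)` has order two. -/
theorem cmb (hx : Commute x z) (hy : Commute y z) :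
    Commute (x * y) b ↔ (Commute x b ↔ Commute y b) := by
  by_cases h1 : Commute x b <;> by_cases h2 : Commute y b
  · simp only [h1, h2, h1.mul_left h2]
  · have : ¬ Commute (x * y) b := fun e => h2 (by simpa using h1.inv_left.mul_left e)
    tauto
  · have : ¬ Commute (x * y) b := fun e => h1 (by simpa using e.mul_left h2.inv_left)
    tauto
  · simp only [h1, h2, iff_true]
    rw [← cm_iff, cj_cj', h.inv_b hy h2, cj_inv', h.inv_b hx h1, inv_inv]

/-- an involution inverting `b` is conjugate to its product with `z`. -/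
theorem cj_by_b (hc : Commute c z) (hn : ¬ Commute c b) : b * c * b⁻¹ = c * z := by
  have e := h.inv_b hc hn
  have : c * b⁻¹ * c⁻¹ = b := by rw [cj_inv', e, inv_inv]
  calc b * c * b⁻¹ = b * (c * b⁻¹ * c⁻¹) * c := by group
    _ = c * z := by rw [this, h.bb, hc.eq]

theorem conj (g : G) : Loc (g * z * g⁻¹) (g * b * g⁻¹) (cj g R) (cj g Q) := by
  have k1 : ∀ {c : G}, Commute c (g * z * g⁻¹) → Commute (g⁻¹ * c * g) z := fun {c} e => by
    have := (cm_cj g⁻¹).2 e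
    simpa [mul_assoc] using this
  have k2 : ∀ {x : G}, g⁻¹ * x * g ∈ zpowers b → x ∈ zpowers (g * b * g⁻¹) := fun {x} e => by
    obtain ⟨n, hn⟩ := e
    refine ⟨n, ?_⟩
    simp only [conj_zpow] at hn ⊢
    rw [hn]; group
  have k3 : ∀ {x : G}, g * x * g⁻¹ ∈ zpowers (g * b * g⁻¹) → x ∈ zpowers b := fun {x} e => by
    obtain ⟨n, hn⟩ := e
    simp only [conj_zpow, mul_left_inj, mul_right_inj] at hn
    exact ⟨n, hn⟩
  refine ⟨by rw [← cj_mul', h.bb], by rw [← cj_mul', h.zz]; group, by simpa using h.z1,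
    conj_mem_cj h.bR, map_mono h.RQ, ?_, h.pg.map _, ?_, ?_, ?_, ?_, ?_, ?_, ?_, ?_, ?_⟩
  · rintro _ ⟨q, hq, rfl⟩
    exact (cm_cj g).2 (h.Qz q hq)
  · intro c hc r hr
    have := h.nR _ (k1 hc) _ (mem_cj.1 hr)
    rw [mem_cj]; convert this using 1; group
  · intro c hc r hr
    have := h.nQ _ (k1 hc) _ (mem_cj.1 hr)
    rw [mem_cj]; convert this using 1; group
  · intro c hc
    have e : c * (g * b * g⁻¹) * c⁻¹ = g * (g⁻¹ * c * g * b * (g⁻¹ * c * g)⁻¹) * g⁻¹ := by group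
    rcases h.nb _ (k1 hc) with e' | e' <;> rw [e, e']
    · exact Or.inl rfl
    · exact Or.inr (cj_inv' _ _)
  · rintro _ ⟨q, hq, rfl⟩
    change g * q * g⁻¹ * (g * q * g⁻¹) = 1 ∨ g * q * g⁻¹ * (g * q * g⁻¹) = _
    rw [← cj_mul']
    rcases h.sq q hq with e | e <;> rw [e]
    · left; group
    · right; rfl
  · rintro _ ⟨q, hq, rfl⟩
    exact (cm_cj g).2 (h.cb q hq)
  · intro r hr h1
    refine k2 (h.cen _ (mem_cj.1 hr) fun s hs => ?_)
    have := (cm_cj g⁻¹).2 (h1 _ (conj_mem_cj hs))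
    simpa [mul_assoc] using this
  · intro X h1 h2 h3 x hx
    rw [mem_cj]
    refine h.max (cj g⁻¹ X) (h1.map _) ?_ ?_ (by rw [mem_cj]; simpa [mul_assoc] using hx)
    · rintro _ ⟨y, hy, rfl⟩
      simpa using k1 (h2 y hy)
    · intro c hc y hy
      have := h3 _ ((cm_cj g).2 hc) _ (mem_cj.1 hy)
      rw [mem_cj]; convert this using 1; group
  · intro c hc h1
    rw [mem_cj]
    refine h.ker _ (k1 hc) fun r hr => k3 ?_
    have := h1 _ (conj_mem_cj hr)
    convert this using 1; group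
  · rintro _ ⟨q, hq, rfl⟩ h1 h2
    change g * q * g⁻¹ * (g * q * g⁻¹) = 1 at h1
    change g * q * g⁻¹ = 1 ∨ g * q * g⁻¹ = _
    rw [← cj_mul', conj_eq_one_iff] at h1
    rcases h.cq q hq h1 fun s hs => (cm_cj g).1 (h2 _ (conj_mem_cj hs)) with e | e <;> rw [e]
    · left; group
    · right; rfl

variable [Finite G]

/-- a `2`-group containing `Q` centralizes `z`. -/
theorem ovr (hP : IsPGroup 2 P) (hQ : Q ≤ P) (hx : x ∈ P) : Commute x z := by
  have : Fact (Nat.Prime 2) := ⟨Nat.prime_two⟩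
  have hz : z ∈ Q := h.RQ h.zR
  have : Nontrivial P := ⟨⟨⟨z, hQ hz⟩, 1, fun e => h.z1 (congrArg Subtype.val e)⟩⟩
  have := hP.center_nontrivial
  obtain ⟨n, hn, e⟩ := (hP.to_subgroup (center P)).nontrivial_iff_card.1 this
  obtain ⟨e, he⟩ := exists_prime_orderOf_dvd_card' (G := center P) 2 (e ▸ dvd_pow_self 2 hn.ne')
  have hc : ∀ y ∈ P, Commute (e : G) y := fun y hy =>
    (congrArg Subtype.val (mem_center_iff.1 e.2 ⟨y, hy⟩)).symm
  have he' : orderOf ((e : P) : G) = 2 := by rw [orderOf_coe, orderOf_coe, he]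
  have h1 : ((e : P) : G) ∈ Q := h.ker _ (hc z (hQ hz)) fun r hr => by
    rw [cm_iff.2 (hc r (hQ (h.RQ hr)))]; simp
  rcases h.cq _ h1 (by rw [← pow_two, ← he', pow_orderOf_eq_one]) fun s hs => hc s (hQ hs) with e1 | e1
  · rw [e1] at he'; simp at he'
  · exact e1 ▸ (hc x hx).symm

/-- conjugates of `b` in a `2`-group commute. -/
theorem ti (hP : IsPGroup 2 P) {g k : G} (hg : g * b * g⁻¹ ∈ P) (hk : k * b * k⁻¹ ∈ P) :
    Commute (g * b * g⁻¹) (k * b * k⁻¹) := by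
  have hz : ∀ g : G, cj g (zpowers b) = zpowers (g * b * g⁻¹) := fun g => MonoidHom.map_zpowers _ _
  by_cases e : cj g (zpowers b) = cj k (zpowers b)
  · have : g * b * g⁻¹ ∈ zpowers (k * b * k⁻¹) := by rw [← hz, ← e, hz]; exact mem_zpowers _
    obtain ⟨n, hn⟩ := this
    rw [← hn]
    exact (Commute.refl _).zpow_left n
  refine H6.ti_family_comm hP (Set.range fun g => cj g (zpowers b)) ?_ ?_ ?_ ?_ _ ⟨g, rfl⟩ _ ⟨k, rfl⟩
    ?_ ?_ e _ (conj_mem_cj (mem_zpowers b)) _ (conj_mem_cj (mem_zpowers b))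
  · rintro s - _ ⟨g, rfl⟩
    exact ⟨s * g, cj_mul _ _ _⟩
  · rintro _ ⟨g, rfl⟩
    refine ⟨_, conj_mem_cj (mem_zpowers b), ?_⟩
    rw [pow_two, (h.conj g).bb]; exact (h.conj g).z1
  · rintro _ ⟨g, rfl⟩ _ ⟨k, rfl⟩
    rw [card_cj, card_cj]
  · rintro _ ⟨g, rfl⟩ _ ⟨k, rfl⟩
    simp only [hz]
    by_cases e : g * z * g⁻¹ = k * z * k⁻¹
    · left
      have h1 : Commute (k⁻¹ * g) z := by
        rw [← cm_iff]
        calc k⁻¹ * g * z * (k⁻¹ * g)⁻¹ = k⁻¹ * (g * z * g⁻¹) * k := by group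
          _ = z := by rw [e]; group
      have h2 : g * b * g⁻¹ = k * (k⁻¹ * g * b * (k⁻¹ * g)⁻¹) * k⁻¹ := by group
      rcases h.nb _ h1 with e' | e' <;> rw [h2, e']
      rw [cj_inv', zpowers_inv]
    · right
      rw [eq_bot_iff]
      rintro x ⟨h1, h2⟩
      by_contra h0
      have key : ∀ g : G, x ∈ zpowers (g * b * g⁻¹) →
          x = g * z * g⁻¹ ∧ x * x = 1 ∨ x * x = g * z * g⁻¹ ∧ x * x ≠ 1 := fun g hx => by
        have hg := h.conj g
        rcases hg.mem_zb.1 hx with e | e | e | e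
        · exact absurd e h0
        · exact Or.inl ⟨e, e ▸ hg.zz⟩
        · exact Or.inr ⟨e ▸ hg.bb, e ▸ hg.bb ▸ hg.z1⟩
        · have : x * x = g * z * g⁻¹ := by rw [e, ← hg.binv, ← mul_inv_rev, hg.bb, hg.zinv]
          exact Or.inr ⟨this, this ▸ hg.z1⟩
      rcases key g h1 with ⟨a1, a2⟩ | ⟨a1, a2⟩ <;> rcases key k h2 with ⟨a3, a4⟩ | ⟨a3, a4⟩
      · exact e (a1.symm.trans a3)
      · exact a4 a2
      · exact a2 a4
      · exact e (a1.symm.trans a3)
  · exact (hz g).le.trans (zpowers_le.2 hg)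
  · exact (hz k).le.trans (zpowers_le.2 hk)

/-- the elements fixing `t` modulo `z` -/
def Fx (t : G) : Subgroup G where
  carrier := {c | Commute c z ∧ (c * t * c⁻¹ = t ∨ c * t * c⁻¹ = t * z)}
  one_mem' := ⟨Commute.one_left z, Or.inl (by group)⟩
  mul_mem' := by
    rintro a c ⟨h1, h2⟩ ⟨h3, h4⟩
    refine ⟨h1.mul_left h3, ?_⟩
    rw [cj_cj']
    rcases h4 with e | e <;> rw [e]
    · exact h2
    · rw [cj_mul', cm_iff.2 h1]
      rcases h2 with e | e <;> rw [e]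
      · exact Or.inr rfl
      · exact Or.inl (h.mzz t)
  inv_mem' := by
    rintro a ⟨h1, e | e⟩
    · exact ⟨h1.inv_left, Or.inl (cm_iff.2 (cm_iff.1 e).inv_left)⟩
    · refine ⟨h1.inv_left, Or.inr ?_⟩
      have : a * (t * z) * a⁻¹ = t := by rw [cj_mul', e, cm_iff.2 h1, h.mzz]
      conv_lhs => rw [← this]
      group

theorem mem_Fx : c ∈ h.Fx t ↔ Commute c z ∧ (c * t * c⁻¹ = t ∨ c * t * c⁻¹ = t * z) := Iff.rfl

/-- a `2`-group over `Q` fixes a point which is the only fixed point of some of its elements. -/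
theorem le_Fx (hP : IsPGroup 2 P) (hQ : Q ≤ P) (A : Set G) (hA : ∀ a ∈ A, a ∈ P ∧ a ∈ h.Fx t)
    (hu : ∀ g, Commute g z → (∀ a ∈ A, a ∈ h.Fx (g * t * g⁻¹)) → g ∈ h.Fx t) : P ≤ h.Fx t := by
  refine le_of_selfnorm hP fun g hg h1 => hu g (h.ovr hP hQ hg) fun a ha => ?_
  obtain ⟨h2, h3⟩ := h1 a (hA a ha).1 (hA a ha).2
  refine ⟨(hA a ha).2.1, ?_⟩
  have e : a * (g * t * g⁻¹) * a⁻¹ = g * (g⁻¹ * a * g * t * (g⁻¹ * a * g)⁻¹) * g⁻¹ := by group
  rcases h3 with e' | e' <;> rw [e, e']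
  · exact Or.inl rfl
  · right; rw [cj_mul', cm_iff.2 (h.ovr hP hQ hg)]

end Loc

end H16.SY
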