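import Mathlib
import Cfsg.Agent.H16.YB
import Cfsg.Agent.H24.Base4

/-!
# The normal closure of the involution in the symplectic type situation
-/

set_option autoImplicit false

open Subgroup
open scoped H24

namespace H16.SY

variable {G : Type*} [Group G]

theorem inv_of_fpf [Finite G] {M : Subgroup G} {t : G} (tt : t * t = 1)
    (hn : ∀ m ∈ M, t * m * t⁻¹ ∈ M) (hf : ∀ m ∈ M, Commute m t → m = 1) {m : G} (hm : m ∈ M) :
    t * m * t⁻¹ = m⁻¹ := by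
  let f : M → M := fun x => ⟨(x : G)⁻¹ * (t * x * t⁻¹), mul_mem (inv_mem x.2) (hn x x.2)⟩
  have hi : Function.Injective f := fun x y e => by
    have e1 : (x : G)⁻¹ * (t * x * t⁻¹) = (y : G)⁻¹ * (t * y * t⁻¹) := congrArg Subtype.val e
    have e2 : Commute ((y : G) * (x : G)⁻¹) t := by
      have : (y : G) * (x : G)⁻¹ * t = y * ((x : G)⁻¹ * (t * x * t⁻¹)) * t * (x : G)⁻¹ := by group
      rw [Commute, SemiconjBy, this, e1]
      group
    exact Subtype.ext (mul_inv_eq_one.1 (hf _ (mul_mem y.2 (inv_mem x.2)) e2)).symm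
  obtain ⟨x, hx⟩ := Finite.surjective_of_injective hi ⟨m, hm⟩
  have e : (x : G)⁻¹ * (t * x * t⁻¹) = m := congrArg Subtype.val hx
  rw [← e]
  calc t * ((x : G)⁻¹ * (t * x * t⁻¹)) * t⁻¹
      = t * (x : G)⁻¹ * t⁻¹ * (t * t) * t⁻¹ * t * x * (t * t)⁻¹ * (t * t)⁻¹ * (t * t) := by group
    _ = _ := by rw [tt]; group

namespace Loc

variable {z b : G} {R Q : Subgroup G} (h : Loc z b R Q)
include h

theorem cenR (hRQ : ∀ q ∈ Q, Commute q b → q ∈ R) {c : G} (hc : ∀ r ∈ R, Commute c r) :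
    c ∈ zpowers b := by
  have h1 : c ∈ Q := h.ker c (hc z h.zR) fun r hr => by
    rw [cm_iff.2 (hc r hr), mul_inv_cancel]; exact one_mem _
  exact h.cen c (hRQ c h1 (hc b h.bR)) hc

theorem z_mem_zp {c : G} (hc : c ∈ zpowers b) (h1 : c ≠ 1) : z ∈ zpowers c := by
  rcases h.mem_zb.1 hc with e | e | e | e
  · exact absurd e h1
  · exact e ▸ mem_zpowers _
  · exact e ▸ h.zb
  · have : z = c * c := by
      rw [e, mul_assoc, ← mul_assoc z, ← h.bz.eq, mul_assoc b z, h.zz, mul_one, h.bb]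
    exact this ▸ mul_mem (mem_zpowers c) (mem_zpowers c)

theorem fratt [Finite G] (hRQ : ∀ q ∈ Q, Commute q b → q ∈ R) {N : Subgroup G} [N.Normal]
    (hR : R ≤ N) (g : G) : ∃ k ∈ N, k * z * k⁻¹ = g * z * g⁻¹ := by
  have := Fact.mk Nat.prime_two
  have hp : IsPGroup 2 (R.subgroupOf N) := (h.pg.to_le h.RQ).comap_subtype
  obtain ⟨S, hS⟩ := hp.exists_le_sylow
  have hT : IsPGroup 2 ((S : Subgroup N).map N.subtype) := S.2.map _
  have hRT : R ≤ (S : Subgroup N).map N.subtype := fun r hr => ⟨⟨r, hR hr⟩, hS hr, rfl⟩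
  have e := S.normalizer_sup_eq_top
  generalize (S : Subgroup N).map N.subtype = T at hT hRT e
  have hz : ∀ t ∈ T, Commute t z := by
    have : Nontrivial T := (nontrivial_iff_exists_ne_one T).2 ⟨z, hRT h.zR, h.z1⟩
    have := hT.center_nontrivial
    obtain ⟨c, hc⟩ := exists_ne (1 : center T)
    have h1 : ∀ t ∈ T, Commute t (c : T) := fun t ht =>
      congrArg Subtype.val (mem_center_iff.1 c.2 ⟨t, ht⟩)
    obtain ⟨n, hn⟩ := h.z_mem_zp (h.cenR hRQ fun r hr => (h1 r (hRT hr)).symm)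
      fun e => hc (Subtype.ext (Subtype.ext e))
    exact fun t ht => hn ▸ (h1 t ht).zpow_right n
  obtain ⟨k, hk, m, hm, rfl⟩ := mem_sup_of_normal_left.1 (sup_comm _ N ▸ e ▸ mem_top g)
  refine ⟨k, hk, ?_⟩
  have h2 : m * z * m⁻¹ ∈ zpowers b := h.cenR hRQ fun r hr => by
    have : Commute (m⁻¹ * r * m⁻¹⁻¹) z := hz _ ((mem_normalizer_iff.1 (inv_mem hm) r).1 (hRT hr))
    have e : r = m * (m⁻¹ * r * m⁻¹⁻¹) * m⁻¹ := by group
    rw [e]
    exact (cm_cj m).2 this.symm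
  rcases h.inv_zb h2 (by rw [← cj_mul', h.zz]; group) with e | e
  · exact absurd (conj_eq_one_iff.1 e) h.z1
  · rw [cj_cj', e]

theorem mem_of_nml [Finite G] (hRQ : ∀ q ∈ Q, Commute q b → q ∈ R) {N M : Subgroup G} [N.Normal]
    (hR : R ≤ N) {g : G} (hn : g * z * g⁻¹ ∈ R) (hne : g * z * g⁻¹ ≠ z)
    (hM : ∀ k ∈ N, ∀ m ∈ M, k * m * k⁻¹ ∈ M) (h1 : M ≠ ⊥) : z ∈ M := by
  by_cases hx : ∃ r ∈ M, r ∈ R ∧ r ≠ 1
  · obtain ⟨r, r1, r2, r3⟩ := hx
    by_cases hc : ∀ s ∈ R, Commute r s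
    · exact (zpowers_le.2 r1) (h.z_mem_zp (h.cen r r2 hc) r3)
    · push Not at hc
      obtain ⟨s, s1, s2⟩ := hc
      have := hM s (hR s1) r r1
      rw [h.cj_ne s1 r2 fun e => s2 e.symm] at this
      exact (M.mul_mem_cancel_left r1).1 this
  push Not at hx
  have k1 : ∀ m ∈ M, Commute m z → m = 1 := fun m m1 m2 => by
    refine hx m m1 (h.zb_le (h.cenR hRQ fun r hr => ?_))
    have := hx (m * r * m⁻¹ * r⁻¹) (by
      rw [mul_assoc, mul_assoc, ← mul_assoc r]; exact mul_mem m1 (hM r (hR hr) _ (inv_mem m1)))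
      (mul_mem (h.nR m m2 r hr) (inv_mem hr))
    exact cm_iff.1 (mul_inv_eq_one.1 this)
  have k2 : ∀ g : G, ∀ m ∈ M, (g * z * g⁻¹) * m * (g * z * g⁻¹)⁻¹ = m⁻¹ := fun g m hm => by
    obtain ⟨k, hk, e⟩ := h.fratt hRQ hR g
    rw [← e]
    refine inv_of_fpf (by rw [← cj_mul', h.zz]; group)
      (hM _ (mul_mem (mul_mem hk (hR h.zR)) (inv_mem hk))) (fun m m1 m2 => ?_) hm
    have e : m = k * (k⁻¹ * m * k⁻¹⁻¹) * k⁻¹ := by group
    rw [e] at m2 ⊢
    rw [k1 _ (hM _ (inv_mem hk) m m1) ((cm_cj k).1 m2)]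
    group
  obtain ⟨x, -, hx⟩ := h.exists_swap hn (by rw [← cj_mul', h.zz]; group)
    (fun e => h.z1 (conj_eq_one_iff.1 e)) hne
  refine absurd ((eq_bot_iff_forall _).2 fun m hm => k1 m hm ?_) h1
  have a1 := k2 1 m hm
  have a2 := k2 g _ (inv_mem hm)
  have a3 := k2 (x * g) m hm
  simp only [one_mul, inv_one, mul_one] at a1
  rw [cj_cj' x g z, hx, cj_cj' _ z m, a1, a2, inv_inv] at a3
  rw [← a3] at a1
  exact (cm_iff.1 a1).symm

theorem simple_ncl [Finite G] (hRQ : ∀ q ∈ Q, Commute q b → q ∈ R)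
    (hR : R ≤ normalClosure {z}) {g : G} (hn : g * z * g⁻¹ ∈ R) (hne : g * z * g⁻¹ ≠ z) :
    IsSimpleGroup (normalClosure ({z} : Set G)) ∧ ¬ IsMulCommutative (normalClosure ({z} : Set G)) := by
  have : Nontrivial (normalClosure ({z} : Set G)) :=
    (nontrivial_iff_exists_ne_one _).2 ⟨z, hR h.zR, h.z1⟩
  refine ⟨⟨fun M hM => or_iff_not_imp_left.2 fun h1 => ?_⟩, fun hc => ?_⟩
  · have k : ∀ k ∈ normalClosure ({z} : Set G), ∀ m ∈ M.map (Subgroup.subtype _),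
        k * m * k⁻¹ ∈ M.map (Subgroup.subtype _) := by
      rintro k hk _ ⟨m, hm, rfl⟩
      exact ⟨_, hM.conj_mem m hm ⟨k, hk⟩, rfl⟩
    have hz := h.mem_of_nml hRQ hR hn hne k
      (fun e => h1 ((map_eq_bot_iff_of_injective _ (subtype_injective _)).1 e))
    have : normalClosure ({z} : Set G) ≤ M.map (Subgroup.subtype _) := by
      refine (closure_le _).2 fun x hx => ?_
      obtain ⟨y, hy, hx⟩ := Group.mem_conjugatesOfSet_iff.1 hx
      rw [Set.mem_singleton_iff.1 hy] at hx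
      obtain ⟨c, rfl⟩ := isConj_iff.1 hx
      obtain ⟨k', hk, e⟩ := h.fratt hRQ hR c
      exact e ▸ k k' hk _ hz
    exact eq_top_iff.2 fun x _ => (mem_map_iff_mem (subtype_injective _)).1 (this x.2)
  · obtain ⟨k, hk, e⟩ := h.fratt hRQ hR g
    refine hne (e ▸ cm_iff.2 ?_)
    exact congrArg Subtype.val (hc.is_comm.comm ⟨k, hk⟩ ⟨z, hR h.zR⟩)

theorem sub [Finite G] (hRQ : ∀ q ∈ Q, Commute q b → q ∈ R) {N : Subgroup G} [hN : N.Normal]
    (hR : R ≤ N) :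
    Loc (⟨z, hR h.zR⟩ : N) ⟨b, hR h.bR⟩ (R.subgroupOf N) (Q.subgroupOf N) := by
  have cm : ∀ x y : N, Commute x y ↔ Commute (x : G) y := fun x y => Subtype.ext_iff
  have zp : ∀ x : N, x ∈ zpowers (⟨b, hR h.bR⟩ : N) ↔ (x : G) ∈ zpowers b := fun x => by
    rw [← mem_map_iff_mem (subtype_injective N), MonoidHom.map_zpowers]; rfl
  refine ⟨Subtype.ext h.bb, Subtype.ext h.zz, fun e => h.z1 (congrArg Subtype.val e), h.bR,
    fun x hx => h.RQ hx, fun q hq => (cm _ _).2 (h.Qz q hq), h.pg.comap_subtype,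
    fun c hc r hr => h.nR c ((cm _ _).1 hc) r hr, fun c hc r hr => h.nQ c ((cm _ _).1 hc) r hr,
    fun c hc => (h.nb c ((cm _ _).1 hc)).imp Subtype.ext Subtype.ext,
    fun r hr => (h.sq r hr).imp Subtype.ext Subtype.ext, fun r hr => (cm _ _).2 (h.cb r hr),
    fun r hr hc => (zp _).2 (h.cen r hr fun s hs => (cm r ⟨s, hR hs⟩).1 (hc _ hs)),
    fun X h1 h2 h3 => ?_, fun c hc hk => h.ker c ((cm _ _).1 hc) fun r hr => (zp _).1 (hk ⟨r, hR hr⟩ hr),
    fun q hq h1 h2 => ?_⟩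
  · have k1 : X.map N.subtype ≤ O[{2}, C{z} ⊓ N] := by
      refine H24.pcore_max' (H24.isPi_of_isPGroup Nat.prime_two (h1.map _)) ?_ fun c hc => ?_
      · rintro _ ⟨x, hx, rfl⟩
        exact ⟨mem_centralizer_singleton_iff.2 ((cm _ _).1 (h2 x hx)), x.2⟩
      · refine mem_normalizer_fintype ?_
        rintro _ ⟨x, hx, rfl⟩
        exact ⟨_, h3 ⟨c, hc.2⟩ ((cm _ _).2 (mem_centralizer_singleton_iff.1 hc.1)) x hx, rfl⟩
    have k2 : O[{2}, C{z} ⊓ N] ≤ Q := by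
      refine h.max _ ((H24.pcore_pi _ _).isPGroup Nat.prime_two)
        (fun x hx => mem_centralizer_singleton_iff.1 (H24.pcore_le _ _ hx).1) fun c hc x hx => ?_
      refine (mem_normalizer_iff.1 (H24.N_le_N_pcore _ _ (mem_normalizer_fintype fun y hy => ?_)) x).1 hx
      refine ⟨mem_centralizer_singleton_iff.2 ?_, hN.conj_mem y hy.2 c⟩
      exact (hc.mul_left (mem_centralizer_singleton_iff.1 hy.1)).mul_left hc.inv_left
    exact fun x hx => k2 (k1 ⟨x, hx, rfl⟩)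
  · exact (h.inv_zb (h.cenR hRQ fun r hr => (cm q ⟨r, hR hr⟩).1 (h2 _ (h.RQ hr)))
      (congrArg Subtype.val h1)).imp Subtype.ext Subtype.ext

end Loc

end H16.SY
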