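import Mathlib
import Cfsg.Agent.H16.ZH1
import Cfsg.Agent.H6.XM

/-!
# A large extraspecial subgroup has no invariant cyclic subgroup of order four
-/

set_option autoImplicit false

open Subgroup H15 H15.XP H6.XS Module
open scoped H24 commutatorElement

namespace H16.SY

variable {G : Type*} [Group G] [Finite G]

theorem sit_lx {z : G} {P : Subgroup G} {w : ℕ} (l : LX z P) (hw : 2 ≤ w)
    (hc : Nat.card P = 2 ^ (2 * w + 1))
    (o : ∀ N : Subgroup G, N ≤ C{z} → C{z} ≤ N[N] → IsPGroup 2 N → N ≤ P) :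
    Sit (conjugatesOf z) (fun d => O[{2}, C{d}]) w ∧ O[{2}, C{z}] = P := by
  have e0 : O[{2}, C{z}] = P := le_antisymm
    (o _ (H24.pcore_le _ _) (H24.pcore_nml _ _).norm ((H24.pcore_pi _ _).isPGroup Nat.prime_two))
    (H24.pcore_max' (H24.isPi_of_isPGroup Nat.prime_two l.xs.isPGroup) l.le l.norm)
  have e : ∀ d g : G, O[{2}, C{g * d * g⁻¹}] = H24.cj g O[{2}, C{d}] := fun d g => by
    rw [← H24.cj_C1, H24.pcore_cj]
  have ex : ∀ d ∈ conjugatesOf z, ∃ g : G, g * z * g⁻¹ = d := fun d hd => isConj_iff.1 hd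
  refine ⟨⟨fun d hd g => IsConj.trans hd (isConj_iff.2 ⟨g, rfl⟩), fun d hd e he =>
    isConj_iff.1 (IsConj.trans (IsConj.symm hd) he), fun d hd => ?_, fun d _ g => e d g,
    fun d hd => ?_, fun d _ N h1 h2 h3 =>
      H24.pcore_max' (H24.isPi_of_isPGroup Nat.prime_two h3) h1 h2, hw⟩, e0⟩ <;>
    obtain ⟨g, rfl⟩ := ex d hd <;> simp only [e, e0]
  · exact l.cj g
  · rw [H24.card_cj, hc]

theorem sit_no4 [IsSimpleGroup G] {D : Set G} {Q : G → Subgroup G} {w : ℕ} {z b : G}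
    (h : Sit D Q w) (hw : 3 ≤ w) (hz : z ∈ D) (k : ∃ d ∈ D, d ∈ Q z ∧ d ≠ z) (hb : b ∈ Q z)
    (bb : b * b = z) (nb : ∀ c, Commute c z → c * b * c⁻¹ = b ∨ c * b * c⁻¹ = z * b) : False := by
  obtain ⟨V, _, _, _, -, ⟨F⟩⟩ := h.exists_fr hz
  obtain ⟨E, R, hv, hl⟩ := h.exists_vd hw hz F k
  have q1 : F.q (F.π b) = 1 := (F.q_one h hz hb).2 bb
  have fx : ∀ y ∈ F.ρ.range, y.1 (F.π b) = F.π b := by
    rintro _ ⟨c, rfl⟩
    rw [F.ρ_π c b hb]
    exact (F.π_eq h hz ((mem_normalizer_iff.1 (h.norm hz c.2) b).1 hb) hb).2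
      (nb c (mem_centralizer_singleton_iff.1 c.2))
  have key : ∀ a : V, a ≠ 0 → (∀ y ∈ F.ρ.range, y.1 a = a) →
      InvS F.ρ.range (Submodule.span (ZMod 2) {a}) ∧ Submodule.span (ZMod 2) {a} ≠ ⊥ ∧
        finrank (ZMod 2) (Submodule.span (ZMod 2) {a}) = 1 := fun a h0 h1 => by
    refine ⟨fun y hy v hv => ?_, by simpa using h0, finrank_span_singleton h0⟩
    obtain ⟨c, rfl⟩ := Submodule.mem_span_singleton.1 hv
    rw [map_smul, h1 y hy]
    exact hv
  have hr : ¬ Irr z (Q z) := fun hr => by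
    obtain ⟨k1, k2, k3⟩ := key _ (fun e => by rw [e, map_zero] at q1; exact zero_ne_one q1) fx
    have := ((F.irrV_iff h hz).2 hr _ k1).resolve_left k2
    rw [this, finrank_top, hv.dim] at k3
    omega
  obtain ⟨A, A', hg⟩ := h.good hz hv hl hr
  obtain ⟨a, ha, a', ha', e⟩ := Submodule.mem_sup.1 (hg.compl.sup_eq_top ▸ Submodule.mem_top (x := F.π b))
  obtain ⟨k1, k2, k3⟩ := key a (fun e0 => by
      rw [e0, zero_add] at e
      rw [← e, hg.tsA' _ ha'] at q1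
      exact zero_ne_one q1) fun y hy => by
    have e1 := fx y hy
    rw [← e, map_add] at e1
    have e2 : y.1 a - a = a' - y.1 a' := by rw [sub_eq_sub_iff_add_eq_add, e1, add_comm]
    exact sub_eq_zero.1 ((Submodule.disjoint_def.1 hg.compl.disjoint) _
      (sub_mem (hg.invA y hy a ha) ha) (e2 ▸ sub_mem ha' (hg.invA' y hy a' ha')))
  have := (hg.irr _ k1 ((Submodule.span_singleton_le_iff_mem _ _).2 ha)).resolve_left k2
  rw [this, hg.dimA] at k3
  omega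

theorem Loc.no_big [IsSimpleGroup G] {z b : G} {R Q : Subgroup G} {w : ℕ} (h : Loc z b R Q)
    (hRQ : ∀ q ∈ Q, Commute q b → q ∈ R) (hsq : ∀ q ∈ Q, q * q = 1 ∨ q * q = z) (hw : 3 ≤ w)
    (hc : Nat.card Q = 2 ^ (2 * w + 1)) {g : G} (hn : g * z * g⁻¹ ∈ Q) (hne : g * z * g⁻¹ ≠ z) :
    Q = R := by
  by_contra hx
  obtain ⟨x, x1, x2⟩ : ∃ x ∈ Q, ¬ Commute x b := by
    by_contra k
    push Not at k
    exact hx (le_antisymm (fun q hq => hRQ q hq (k q hq)) h.RQ)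
  have zz : ∀ c, c = 1 ∨ c = z → c ∈ zpowers z := by
    rintro c (rfl | rfl)
    exacts [one_mem _, mem_zpowers _]
  have cen : ∀ c, (∀ q ∈ Q, Commute c q) → c ∈ zpowers z := fun c hc => by
    rcases h.mem_zb.1 (h.cenR hRQ fun r hr => hc r (h.RQ hr)) with e | e | e | e
    · exact zz c (Or.inl e)
    · exact zz c (Or.inr e)
    · exact absurd (e ▸ hc x x1).symm x2
    · refine absurd ?_ x2
      have := ((e ▸ hc x x1 : Commute (b * z) x).symm).mul_right (h.Qz x x1)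
      rwa [h.mzz] at this
  have l : LX z Q := by
    refine ⟨⟨h.ord, h.RQ h.zR, fun x hx => (h.Qz x hx).symm, fun x hx y hy => ?_,
      fun x hx => zz _ (by rw [pow_two]; exact hsq x hx), fun x _ hc => cen x hc⟩, fun e => x2 ?_,
      fun c hc => mem_normalizer_fintype (h.nQ c (mem_centralizer_singleton_iff.1 hc)),
      fun c hc => cen c fun q hq => (mem_centralizer_iff.1 hc q hq).symm⟩
    · have e : ⁅x, y⁆ = (x * x) * ((x⁻¹ * y) * (x⁻¹ * y)) * (y⁻¹ * y⁻¹) := by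
        rw [commutatorElement_def]; group
      rw [e]
      exact mul_mem (mul_mem (zz _ (hsq x hx)) (zz _ (hsq _ (mul_mem (inv_mem hx) hy))))
        (zz _ (hsq _ (inv_mem hy)))
    · obtain ⟨n, rfl⟩ := (e ▸ x1 : x ∈ zpowers z)
      exact h.bz.symm.zpow_left n
  obtain ⟨s, e⟩ := sit_lx l (by omega : 2 ≤ w) hc fun N h1 h2 h3 => h.max N h3
    (fun x hx => mem_centralizer_singleton_iff.1 (h1 hx))
    fun c hc x hx => (mem_normalizer_iff.1 (h2 (mem_centralizer_singleton_iff.2 hc)) x).1 hx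
  refine sit_no4 s hw (IsConj.refl z) ⟨_, isConj_iff.2 ⟨g, rfl⟩, e ▸ hn, hne⟩ (e ▸ h.RQ h.bR) h.bb
    fun c hc => ?_
  rw [← h.bz.eq, ← h.binv]
  exact h.nb c hc

end H16.SY
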