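import Cfsg.Agent.H16.PSL2Inv

/-! # Centralisers of four-groups in `PSL₂(q)`, `q` odd -/

set_option autoImplicit false

namespace H16.TI

open Matrix
open scoped MatrixGroups

theorem psl2_cent_four {F : Type*} [Field F] (h2 : (2 : F) ≠ 0) {x y c : PSL(2, F)} (x1 : x ≠ 1)
    (x2 : x * x = 1) (y1 : y ≠ 1) (y2 : y * y = 1) (hne : y ≠ x) (hxy : y * x = x * y)
    (hx : c * x = x * c) (hy : c * y = y * c) : c * c = 1 := by
  obtain ⟨g, rfl, hg⟩ := exists_lift_of_involution h2 x x1 x2
  obtain ⟨k, rfl, hk⟩ := exists_lift_of_involution h2 y y1 y2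
  obtain ⟨c, rfl⟩ := QuotientGroup.mk_surjective c
  rw [← QuotientGroup.mk_mul, ← QuotientGroup.mk_mul, eq_comm, psl2_mk_eq_iff] at hxy hx hy
  rcases hxy with e | e
  · rcases eq_of_comm_of_sq h2 g k hg hk e with rfl | rfl
    · exact absurd rfl hne
    · exact absurd (mk_neg g) hne
  rcases hx with e1 | e1
  swap
  · exact mk_mul_self_of_sq c (sq_eq_of_anti h2 g c e1)
  rcases hy with e2 | e2
  swap
  · exact mk_mul_self_of_sq c (sq_eq_of_anti h2 k c e2)
  have e3 := sq_eq_of_anti h2 g (c * k) (by rw [mul_assoc, e, mul_neg, ← mul_assoc, e1, mul_assoc])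
  have e4 : c * k * (c * k) = c * c * (k * k) := by
    calc c * k * (c * k) = c * (k * c) * k := by group
      _ = _ := by rw [← e2]; group
  rw [e4, hk, mul_neg, mul_one, neg_inj] at e3
  rw [← QuotientGroup.mk_mul, e3, QuotientGroup.mk_one]

end H16.TI
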