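import Mathlib
import Cfsg.Agent.H20.SoC

/-!
# No 2-component of type `McL` or `Ly`: vocabulary of the reduction
-/

set_option autoImplicit false

namespace H20.So.NM

open Subgroup Equiv Equiv.Perm Cfsg H24 H23 H25.LB H5.Ly
open scoped commutatorElement

variable {G : Type*} [Group G]

/-- a simple group with an involution whose centraliser is `2A_n` -/
def TS (n : ℕ) (M : Type*) [Group M] : Prop :=
  IsSimpleGroup M ∧ ∃ z : M, orderOf z = 2 ∧
    IsNonsplitDoubleCover (C{z} : Subgroup M) (alternatingGroup (Fin n))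

/-- `K / O(K)` is simple with an involution centraliser `2A_n` -/
abbrev Tb (n : ℕ) (K : Subgroup G) : Prop := TS n (K ⧸ pPrimeCore 2 K)

/-- `J` is the `2A_n` component of `C_K(z)` -/
structure Jd (n : ℕ) (K : Subgroup G) (z : G) (J : Subgroup G) : Prop where
  pc : Pc n (K ⊓ C{z}) z J
  cent : K ⊓ C{z} ≤ J ⊔ opp 2 K
  core : opp 2 J ≤ opp 2 K

/-- `K` is a 2-component of `H` of type `McL` (`n = 8`) or `Ly` (`n = 11`) -/
structure Kc (n : ℕ) (H K : Subgroup G) : Prop where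
  hn : n = 8 ∨ n = 11
  comp : IsPCompOf 2 K H
  tb : Tb n K

/-- the involution `u` has the 2-component `M` of type `McL` or `Ly` in its centraliser -/
structure Pq (n : ℕ) (u : G) (M : Subgroup G) : Prop where
  iv : orderOf u = 2
  kc : Kc n C{u} M

/-- Solomon's theorem in all subgroups of `X` -/
def SolH (X : Type*) [Group X] : Prop :=
  ∀ m : ℕ, 8 ≤ m → ∀ (W : Subgroup X) (t : X) (K : Subgroup X), Pc m (W ⊓ C{t}) t K →
    ∃ J, Cn W t K J

/-- the theorem for `X`: there are no proper pump-ups -/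
def MainB (n : ℕ) (X : Type*) [Group X] : Prop :=
  ∀ (t : X) (K L : Subgroup X), Pq n t K → IsPCompOf 2 L ⊤ → K ≤ L → t ∈ N[L] → t ∈ cz L

/-- the theorem for all proper subgroups -/
def IHn (n : ℕ) (X : Type*) [Group X] : Prop :=
  ∀ W : Subgroup X, W ≠ ⊤ → ∀ (t : X) (K L : Subgroup X), t ∈ W → orderOf t = 2 →
    Kc n (W ⊓ C{t}) K → IsPCompOf 2 L W → K ≤ L → t ∈ N[L] → t ∈ cz L

/-- the minimal counterexample: an almost simple group -/
structure Sit (n : ℕ) (E : Subgroup G) : Prop where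
  nml : E.Normal
  simp : IsSimpleGroup E
  nsol : ¬ Sol E
  cen : C[E] = ⊥
  core : pPrimeCore 2 G = ⊥
  ih : IHn n G
  sol : SolH G

/-- no intrinsic component of type `2A_n` -/
def Hno (n : ℕ) (X : Type*) [Group X] : Prop := ∀ (a : X) (L : Subgroup X), ¬ Pr n a L

/-- `L` is the proper pump-up of `J` in `C(z)` with respect to `u` -/
structure Vt (u z : G) (J L : Subgroup G) : Prop where
  comp : IsPCompOf 2 L C{z}
  le : J ≤ L
  nm : u ∈ N[L]
  ncz : u ∉ cz L

/-- there is no pair `q`, `q y` of involutions with components, `y` in the component of `q` -/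
def NoPair (n : ℕ) (X : Type*) [Group X] : Prop :=
  ∀ (q y : X) (K K' : Subgroup X), Pq n q K → y ∈ K → orderOf y = 2 → ¬ Pq n (q * y) K'

theorem Kc.h8 {n : ℕ} {H K : Subgroup G} (h : Kc n H K) : 8 ≤ n := by rcases h.hn with rfl | rfl <;> omega
theorem Kc.h11 {n : ℕ} {H K : Subgroup G} (h : Kc n H K) : n ≤ 11 := by rcases h.hn with rfl | rfl <;> omega
theorem Kc.le {n : ℕ} {H K : Subgroup G} (h : Kc n H K) : K ≤ H := h.comp.1
theorem Pq.le {n : ℕ} {u : G} {M : Subgroup G} (h : Pq n u M) : M ≤ C{u} := h.kc.le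
theorem Jd.le {n : ℕ} {K J : Subgroup G} {z : G} (j : Jd n K z J) : J ≤ K := j.pc.comp.1.trans inf_le_left
theorem Jd.mem {n : ℕ} {K J : Subgroup G} {z : G} (j : Jd n K z J) : z ∈ K := j.le j.pc.mem

theorem Pq.mem_cz [Finite G] {n : ℕ} {u : G} {M : Subgroup G} (h : Pq n u M) : u ∈ cz M :=
  So.mem_cz.2 ⟨C_le_N M (fun k hk => mem_C1.1 (h.le hk)), fun k hk => by
    rw [commutatorElement_eq_one_iff_mul_comm.2 (mem_C1.1 (h.le hk))]; exact one_mem _⟩

theorem Sit.ne_top {n : ℕ} {E : Subgroup G} (s : Sit n E) {z : G} (hz : z ≠ 1) :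
    (C{z} : Subgroup G) ≠ ⊤ := fun h => hz (mem_bot.1 (s.cen.le fun k _ => mem_C1.1 (h.ge (mem_top k))))

end H20.So.NM
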