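import Mathlib
import Cfsg.Agent.H18.K3Red

/-!
# Thin groups with three primes: the frame of a nonsolvable 2-local subgroup
-/

set_option autoImplicit false
set_option linter.unusedSectionVars false

open Cfsg H24 H26 Subgroup H18.K3

namespace H16.K3T

universe u

variable {G : Type u} [Group G]

/-- no involution centralises an elementary abelian group of order nine -/
def Thin (G : Type u) [Group G] : Prop :=
  ∀ t : G, orderOf t = 2 → ∀ B : Subgroup G, IsElementaryAbelian 3 B → B ≤ C{t} → ♯B < 9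

/-- `Q = O₂(N(Q))`, and `L / Q ≅ X` is the socle of `N(Q) / Q` -/
structure Fm (Q L : Subgroup G) {X : Type} [Group X] (φ : L →* X) : Prop where
  two : IsPi {2} Q
  ne : Q ≠ ⊥
  core : O[{2}, N[Q]] = Q
  QL : Q ≤ L
  nml : L ⊴ N[Q]
  sur : Function.Surjective φ
  ker : φ.ker = Q.subgroupOf L
  cen : ∀ g ∈ N[Q], (∀ l ∈ L, g * l * g⁻¹ * l⁻¹ ∈ Q) → g ∈ Q

theorem Fm.nmlQ {Q L : Subgroup G} {X : Type} [Group X] {φ : L →* X} (h : Fm Q L φ) : Q ⊴ L :=
  ⟨h.QL, h.nml.le⟩

theorem Fm.card [Finite G] {Q L : Subgroup G} {X : Type} [Group X] {φ : L →* X} (h : Fm Q L φ) :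
    ♯L = ♯Q * Nat.card X := by
  have h1 := Subgroup.card_eq_card_quotient_mul_card_subgroup φ.ker
  rw [Nat.card_congr (QuotientGroup.quotientKerEquivOfSurjective φ h.sur).toEquiv, h.ker,
    Nat.card_congr (subgroupOfEquivOfLe h.QL).toEquiv] at h1
  rw [h1, mul_comm]

end H16.K3T
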