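import Mathlib
import Cfsg.Agent.H7.SmallTools
import Cfsg.Agent.S0839

/-! The field with four elements; elements of `PSL(3,4)`. -/

set_option autoImplicit false

namespace H16

open Matrix
open scoped MatrixGroups

/-- The field with four elements, `0, 1, w, w+1` coded as `0, 1, 2, 3`. -/
def F4 : Type := Fin 4

namespace F4

instance instDecEqF4 : DecidableEq F4 := inferInstanceAs (DecidableEq (Fin 4))
instance instFintypeF4 : Fintype F4 := inferInstanceAs (Fintype (Fin 4))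

/-- The code of an element. -/
def val (a : F4) : ℕ := Fin.val a

/-- The element with a given code. -/
def mk (n : ℕ) : F4 := Fin.ofNat 4 n

instance instZeroF4 : Zero F4 := ⟨mk 0⟩
instance instOneF4 : One F4 := ⟨mk 1⟩
instance instAddF4 : Add F4 := ⟨fun a b => mk (Nat.xor a.val b.val)⟩
instance instNegF4 : Neg F4 := ⟨fun a => a⟩
instance instMulF4 : Mul F4 := ⟨fun a b => mk (Nat.shiftRight 0x9c78e400 (8 * a.val + 2 * b.val))⟩
instance instInvF4 : Inv F4 := ⟨fun a => a * a⟩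

instance instFieldF4 : Field F4 :=
  Field.ofMinimalAxioms F4 (by decide) (by decide) (by decide) (by decide) (by decide) (by decide)
    (by decide) (by decide) (by decide) (by decide)

theorem card : Fintype.card F4 = 4 := rfl

end F4

/-- Coefficients of `g ^ k` in terms of `g ^ 2, g, 1` when `g ^ 3 = t g ^ 2 - s g + 1`. -/
def chCoef {R : Type*} [CommRing R] (t s : R) : ℕ → R × R × R
  | 0 => (0, 0, 1)
  | k + 1 => (t * (chCoef t s k).1 + (chCoef t s k).2.1, (chCoef t s k).2.2 - s * (chCoef t s k).1,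
      (chCoef t s k).1)

theorem pow_eq_chCoef {R A : Type*} [CommRing R] [Ring A] [Algebra R A] (g : A) (t s : R)
    (h : g ^ 3 = t • g ^ 2 - s • g + 1) (k : ℕ) :
    g ^ k = (chCoef t s k).1 • g ^ 2 + (chCoef t s k).2.1 • g + (chCoef t s k).2.2 • 1 := by
  induction k with
  | zero => simp [chCoef]
  | succ k ih =>
    rw [pow_succ, ih]
    simp only [chCoef, add_mul, smul_mul_assoc, one_mul, ← pow_succ, ← sq, h]
    module

theorem cayley_three {R : Type*} [CommRing R] (g : Matrix (Fin 3) (Fin 3) R) :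
    ∃ t s : R, g ^ 3 = t • g ^ 2 - s • g + g.det • 1 := by
  refine ⟨g 0 0 + g 1 1 + g 2 2, g 0 0 * g 1 1 + g 0 0 * g 2 2 + g 1 1 * g 2 2 - g 0 1 * g 1 0 -
    g 0 2 * g 2 0 - g 1 2 * g 2 1, ?_⟩
  ext i j
  fin_cases i <;> fin_cases j <;>
    simp [pow_succ, Matrix.mul_apply, Fin.sum_univ_three, det_fin_three] <;> ring

theorem psl34_orderOf_ne {F : Type*} [Field F] [Fintype F] (hF : Fintype.card F = 4)
    (g : PSL(3, F)) : orderOf g ≠ 15 := by
  rw [← (H7.pslCongr (FiniteField.ringEquivOfCardEq (hF.trans F4.card.symm))).orderOf_eq]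
  generalize H7.pslCongr (FiniteField.ringEquivOfCardEq (hF.trans F4.card.symm)) g = x
  obtain ⟨g, rfl⟩ := QuotientGroup.mk_surjective x
  obtain ⟨t, s, h⟩ := cayley_three g.1
  rw [g.2, one_smul] at h
  have key : ∀ t s : F4, ∃ k ∈ [3, 4, 5, 7], (chCoef t s k).1 = 0 ∧ (chCoef t s k).2.1 = 0 := by
    decide
  obtain ⟨k, hk, h1, h2⟩ := key t s
  have h3 := pow_eq_chCoef g.1 t s h k
  rw [h1, h2, zero_smul, zero_smul, zero_add, zero_add] at h3
  have h4 : (g : PSL(3, F4)) ^ k = 1 := by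
    rw [← QuotientGroup.mk_pow, QuotientGroup.eq_one_iff, Subgroup.mem_center_iff]
    intro a
    apply Subtype.ext
    change a.1 * g.1 ^ k = g.1 ^ k * a.1
    rw [h3]
    simp
  intro ho
  have := orderOf_dvd_of_pow_eq_one h4
  rw [ho] at this
  simp only [List.mem_cons, List.not_mem_nil, or_false] at hk
  omega

theorem psl34_isConj_std {F : Type*} [Field F] [Fintype F] (hF : Fintype.card F = 4)
    (x : PSL(3, F)) (hx : orderOf x = 2) :
    IsConj x (QuotientGroup.mk (s := Subgroup.center SL(3, F))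
      ⟨!![1, 0, 0; 1, 1, 0; 0, 0, 1], by simp [det_fin_three]⟩) := by
  have : CharP F 2 := charP_of_card_eq_prime_pow (p := 2) (f := 2) hF
  obtain ⟨g, rfl⟩ := QuotientGroup.mk_surjective x
  have hx2 : (g : PSL(3, F)) ^ 2 = 1 := by rw [← hx, pow_orderOf_eq_one]
  have hx3 : ((g ^ 3 : SL(3, F)) : PSL(3, F)) = g := by
    rw [QuotientGroup.mk_pow, pow_succ, hx2, one_mul]
  have h6 : (g ^ 3) ^ 2 = 1 := by
    rw [← QuotientGroup.mk_pow, QuotientGroup.eq_one_iff,
      Matrix.SpecialLinearGroup.mem_center_iff] at hx2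
    obtain ⟨r, hr, h⟩ := hx2
    rw [← pow_mul, mul_comm, pow_mul]
    apply Subtype.ext
    change (g ^ 2).1 ^ 3 = 1
    rw [← h, ← map_pow]
    rw [Fintype.card_fin] at hr
    rw [hr, map_one]
  rw [← hx3] at hx ⊢
  generalize g ^ 3 = h at hx h6
  have hN : (h.1 - 1) * (h.1 - 1) = 0 := by
    have h1 : h.1 * h.1 = 1 := by rw [← sq]; exact congrArg Subtype.val h6
    have h2 : h.1 + h.1 = 0 := by ext i j; simp [CharTwo.add_self_eq_zero]
    have h3 : (1 : Matrix (Fin 3) (Fin 3) F) + 1 = 0 := by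
      ext i j; simp [CharTwo.add_self_eq_zero]
    rw [sub_mul, mul_sub, mul_sub, h1, mul_one, one_mul, mul_one]
    linear_combination (norm := abel) h3 - h2
  have hne : h.1 - 1 ≠ 0 := by
    intro h0
    have : h = 1 := Subtype.ext (sub_eq_zero.1 h0)
    simp [this] at hx
  have hr : (h.1 - 1).rank = 1 := by
    have h1 := Matrix.rank_add_rank_le_card_of_mul_eq_zero hN
    have h2 : (h.1 - 1).rank ≠ 0 := by
      intro h0
      rw [Matrix.rank, Submodule.finrank_eq_zero, LinearMap.range_eq_bot] at h0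
      exact hne (Matrix.toLin'.map_eq_zero_iff.1 h0)
    simp at h1
    omega
  obtain ⟨g, v, hv, hg⟩ : ∃ (g : SL(3, F)) (v : Fin 3 → F), v 0 = 0 ∧
      (g⁻¹ * h * g).1 = 1 + vecMulVec v (Pi.single 0 1) := Cfsg.Agent.S0839.result 1 h ⟨hr, hN⟩
  refine MonoidHom.map_isConj (QuotientGroup.mk' _) ((isConj_iff.2 ⟨g⁻¹, rfl⟩).trans ?_)
  rw [inv_inv]
  have hv0 : v ≠ 0 := by
    rintro rfl
    have h1 : g⁻¹ * h * g = 1 := Subtype.ext (by rw [hg]; simp)
    have h2 : h = 1 := by simpa [mul_assoc, inv_mul_eq_iff_eq_mul] using h1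
    simp [h2] at hx
  generalize g⁻¹ * h * g = k at hg
  symm
  by_cases h1 : v 1 = 0
  · have h2 : v 2 ≠ 0 := fun h2 => hv0 (by ext i; fin_cases i <;> assumption)
    refine isConj_iff.2 ⟨⟨!![1, 0, 0; 0, 0, -(v 2)⁻¹; 0, v 2, 0], by simp [det_fin_three, h2]⟩, ?_⟩
    refine mul_inv_eq_iff_eq_mul.2 (Subtype.ext ?_)
    change _ * _ = k.1 * _
    rw [hg]
    ext i j
    fin_cases i <;> fin_cases j <;>
      simp [Matrix.mul_apply, Fin.sum_univ_three, vecMulVec_apply, hv, h1, Matrix.one_apply]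
  · refine isConj_iff.2 ⟨⟨!![1, 0, 0; 0, v 1, 0; 0, v 2, (v 1)⁻¹], by simp [det_fin_three, h1]⟩, ?_⟩
    refine mul_inv_eq_iff_eq_mul.2 (Subtype.ext ?_)
    change _ * _ = k.1 * _
    rw [hg]
    ext i j
    fin_cases i <;> fin_cases j <;>
      simp [Matrix.mul_apply, Fin.sum_univ_three, vecMulVec_apply, hv, Matrix.one_apply]

end H16
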