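import Mathlib
import Cfsg.Agent.H16.PSL34
import Cfsg.Agent.H16.SymRep

/-! `PSU(4,2) ≅ PSp(4,3)`. -/

set_option autoImplicit false

namespace H16

open Matrix H15 H7 Module

theorem exists_hom_of_rel {G H : Type*} [Group G] [Group H] (R : G → H → Prop)
    (hmul : ∀ g g' k k', R g k → R g' k' → R (g * g') (k * k')) (hex : ∀ g, ∃ k, R g k)
    (huniq : ∀ g k k', R g k → R g k' → k = k') : ∃ φ : G →* H, ∀ g, R g (φ g) := by
  choose φ hφ using hex
  exact ⟨MonoidHom.mk' φ fun a b => huniq _ _ _ (hφ _) (hmul _ _ _ _ (hφ a) (hφ b)), hφ⟩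

theorem F4.card_sq : Fintype.card F4 = 2 ^ 2 := rfl

/-- The non-isotropic point of the unitary space attached to a vector of the symplectic space. -/
def r40 (a b c d : ZMod 3) : Fin 4 → F4 := fun i => F4.mk (Nat.shiftRight
  0x25391d2d3519293d15c9854dc58d49cd894574d4a49464f4e4b4548dc54985c94d89cd45352d1939251d3d29156494f4d474a4b4e4547191e1d161b1a1f15161d1b19171e1f1a151104004401004010100
  (8 * (a.val + 3 * b.val + 9 * c.val + 27 * d.val) + 2 * i.val))

/-- The same, on vectors. -/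
def r40v (y : Fin 2 ⊕ Fin 2 → ZMod 3) : Fin 4 → F4 :=
  r40 (y (.inl 0)) (y (.inl 1)) (y (.inr 0)) (y (.inr 1))

theorem r40_key : ∀ a b c d t : ZMod 3, t ≠ 0 → ¬ (a = 0 ∧ b = 0 ∧ c = 0 ∧ d = 0) →
    (∑ i, r40 a b c d i * r40 a b c d i ^ 2 = 1) ∧ ∃ s : F4, s + s ^ 2 + s * s ^ 2 = 0 ∧
    ∀ a' b' c' d' : ZMod 3, ∃ z : F4, ∀ i, r40 a' b' c' d' i +
      (s * ∑ j, r40 a' b' c' d' j * r40 a b c d j ^ 2) * r40 a b c d i =
      z * r40 (a' + t * (c * a' - a * c' + (d * b' - b * d')) * a)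
        (b' + t * (c * a' - a * c' + (d * b' - b * d')) * b)
        (c' + t * (c * a' - a * c' + (d * b' - b * d')) * c)
        (d' + t * (c * a' - a * c' + (d * b' - b * d')) * d) i := by
  decide +kernel

theorem psu42_model : Nonempty (Cfsg.PSU 4 F4 2 ≃* Cfsg.PSp 2 (ZMod 3)) := by
  let Φ := unForm F4.card_sq 4
  have hH : Φ.IsHerm := unForm_isHerm _ _
  have hN : Φ.Nondeg := unForm_nondeg _ _
  let R : (spForm 2 (ZMod 3)).Isom → Φ.det.ker → Prop := fun g k =>
    ∀ y, ∃ z : F4, k.1.1 (r40v y) = z • r40v (g.1 y)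
  have hmul : ∀ g g' k k', R g k → R g' k' → R (g * g') (k * k') := fun g g' k k' h h' y => by
    obtain ⟨z', hz'⟩ := h' y
    obtain ⟨z, hz⟩ := h (g'.1 y)
    exact ⟨z' * z, by
      change k.1.1 (k'.1.1 _) = _
      rw [hz', map_smul, hz, smul_smul]; rfl⟩
  have hone : ∀ k, R 1 k → k = 1 := fun k h => by
    obtain ⟨z0, h0⟩ := h (Sum.elim ![1, 0] ![0, 0])
    obtain ⟨z1, h1⟩ := h (Sum.elim ![0, 1] ![0, 0])
    obtain ⟨z2, h2⟩ := h (Sum.elim ![1, 1] ![0, 0])
    obtain ⟨z3, h3⟩ := h (Sum.elim ![1, 2] ![0, 0])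
    obtain ⟨z4, h4⟩ := h (Sum.elim ![0, 0] ![1, 1])
    obtain ⟨z5, h5⟩ := h (Sum.elim ![0, 0] ![0, 1])
    simp only [Form.Isom.one_apply] at h0 h1 h2 h3 h4 h5
    rw [show r40v (Sum.elim ![1, 0] ![0, 0]) = Pi.single 0 1 by decide] at h0
    rw [show r40v (Sum.elim ![0, 1] ![0, 0]) = Pi.single 1 1 by decide] at h1
    rw [show r40v (Sum.elim ![1, 1] ![0, 0]) = Pi.single 2 1 by decide] at h2
    rw [show r40v (Sum.elim ![1, 2] ![0, 0]) = Pi.single 3 1 by decide] at h3
    rw [show r40v (Sum.elim ![0, 0] ![1, 1]) = Pi.single 0 1 + Pi.single 1 1 + Pi.single 2 1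
      by decide, map_add, map_add, h0, h1, h2] at h4
    rw [show r40v (Sum.elim ![0, 0] ![0, 1]) = Pi.single 1 1 + Pi.single 2 1 + Pi.single 3 1
      by decide, map_add, map_add, h1, h2, h3] at h5
    have e0 : z0 = z4 := by simpa using congrFun h4 0
    have e1 : z1 = z4 := by simpa using congrFun h4 1
    have e2 : z2 = z4 := by simpa using congrFun h4 2
    have e3 : z3 = z5 := by simpa using congrFun h5 3
    have e4 : z2 = z5 := by simpa using congrFun h5 2
    have hk : ∀ v, k.1.1 v = z4 • v := fun v => by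
      have : v = v 0 • Pi.single 0 1 + v 1 • Pi.single 1 1 + v 2 • Pi.single 2 1 +
          v 3 • Pi.single 3 1 := by
        ext i; fin_cases i <;> simp
      rw [this]
      simp only [map_add, map_smul, h0, h1, h2, h3, e0, e1, e2, e3, ← e4]
      module
    have hd := det_of_scalar k.1 hk
    rw [MonoidHom.mem_ker.1 k.2] at hd
    have hz : z4 = 1 := (by decide : ∀ z : F4, 1 = z ^ 4 → z = 1) _ (by simpa using hd)
    exact Subtype.ext (Form.Isom.ext fun v => by rw [hk, hz, one_smul]; rfl)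
  have hinv : ∀ g k, R g k → R g⁻¹ k⁻¹ := fun g k h y => by
    obtain ⟨z, hz⟩ := h ((g⁻¹).1 y)
    rw [Form.Isom.apply_inv_apply] at hz
    by_cases h0 : z = 0
    · have h1 : r40v ((g⁻¹).1 y) = 0 := by simpa [h0] using hz
      have h2 : ∀ y, r40v y = 0 → y = 0 := by decide +kernel
      have h3 : y = 0 := by simpa using h2 _ h1
      refine ⟨0, ?_⟩
      rw [h3, show r40v 0 = 0 by decide]
      simp
    · refine ⟨z⁻¹, ?_⟩
      change (k.1⁻¹).1 _ = _
      rw [Form.Isom.inv_apply_eq, map_smul, hz, smul_smul, inv_mul_cancel₀ h0, one_smul]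
  have huniq : ∀ g k k', R g k → R g k' → k = k' := fun g k k' h h' => by
    have := hone _ (by simpa using hmul _ _ _ _ (hinv _ _ h) h')
    exact inv_mul_eq_one.1 this
  have hex : ∀ g, ∃ k, R g k := fun g => by
    have hg : g ∈ Subgroup.closure (spForm 2 (ZMod 3)).transvSet := by
      rw [(spForm_isAlt 2).closure_transvSet (spForm_nondeg _ _)]; trivial
    induction hg using Subgroup.closure_induction with
    | one => exact ⟨1, fun y => ⟨1, by simp⟩⟩
    | mul g g' _ _ h h' =>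
      obtain ⟨k, hk⟩ := h
      obtain ⟨k', hk'⟩ := h'
      exact ⟨_, hmul _ _ _ _ hk hk'⟩
    | inv g _ h =>
      obtain ⟨k, hk⟩ := h
      exact ⟨_, hinv _ _ hk⟩
    | mem g hg =>
      obtain ⟨p, t, -, hg⟩ := hg
      by_cases h0 : t = 0 ∨ p = 0
      · refine ⟨1, fun y => ⟨1, ?_⟩⟩
        rw [hg]
        rcases h0 with h0 | h0 <;> simp [h0]
      push Not at h0
      obtain ⟨h1, s, hs, h2⟩ := r40_key (p (.inl 0)) (p (.inl 1)) (p (.inr 0)) (p (.inr 1)) t h0.1
        (fun h => h0.2 (by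
          ext i
          rcases i with i | i <;> fin_cases i
          exacts [h.1, h.2.1, h.2.2.1, h.2.2.2]))
      have h3 : Φ.B (r40v p) (r40v p) = 1 := h1
      have hd : Φ.DilOK (r40v p) s := ⟨by rw [h3, hH.2.1, mul_one, mul_one]; exact hs,
        by simp [Φ, unForm, ofHerm]⟩
      obtain ⟨w, hw1, hw2⟩ := (by decide : ∀ s : F4, s + s ^ 2 + s * s ^ 2 = 0 →
        ∃ w : F4, w * w ^ 2 = 1 ∧ w ^ 4 * (1 + s) = 1) s hs
      obtain ⟨k, hk1, hk2⟩ := exists_scalar_isom hN hH.2.2 (c := w) hw1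
      refine ⟨⟨k * Φ.dilIsom hN _ s hd, ?_⟩, fun y => ?_⟩
      · rw [MonoidHom.mem_ker, map_mul, Units.ext_iff, Units.val_mul, hk2, Form.det_dilIsom, h3]
        simpa using hw2
      · obtain ⟨z, hz⟩ := h2 (y (.inl 0)) (y (.inl 1)) (y (.inr 0)) (y (.inr 1))
        refine ⟨w * z, ?_⟩
        change k.1 ((Φ.dilIsom hN _ s hd).1 _) = _
        rw [hk1, Form.dilIsom_apply, hg, mul_smul w z]
        refine congrArg (w • ·) (funext fun i => (hz i).trans ?_)
        rw [spForm_B, sympForm_eq, Fin.sum_univ_two]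
        rfl
  obtain ⟨φ, hφ⟩ := exists_hom_of_rel R hmul hex huniq
  have := psp_simple (F := ZMod 3) 2 le_rfl (by simp)
  obtain ⟨ψ, hψ⟩ := exists_injective_of_simple
    ((suEquiv F4.card_sq 4).symm.toMonoidHom.comp (φ.comp (spEquiv 2 (ZMod 3)).toMonoidHom))
    (fun g hg => by
      obtain ⟨r, hr, hg⟩ := sp_center_smul (by norm_num) hg
      have : φ (spEquiv 2 (ZMod 3) g) = 1 := huniq _ _ _ (hφ _) fun y => ⟨1, by
        rw [spEquiv_apply, hg, smul_mulVec, one_mulVec]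
        exact (by decide +kernel : ∀ r : ZMod 3, r * r = 1 → ∀ y, r40v y = (1 : F4) • r40v (r • y)) r hr y⟩
      rw [MonoidHom.mem_ker]
      change (suEquiv F4.card_sq 4).symm (φ (spEquiv 2 (ZMod 3) g)) = 1
      rw [this, map_one])
    ⟨(spEquiv 2 (ZMod 3)).symm (altT (spForm_nondeg _ _) (spForm_isAlt 2) (Sum.elim ![1, 0] ![0, 0]) 1),
      fun h => by
      have h1 : φ (altT (spForm_nondeg _ _) (spForm_isAlt 2) (Sum.elim ![1, 0] ![0, 0]) 1) = 1 := by
        simpa using h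
      obtain ⟨z, hz⟩ := hφ (altT (spForm_nondeg _ _) (spForm_isAlt 2) (Sum.elim ![1, 0] ![0, 0]) 1)
        (Sum.elim ![0, 0] ![1, 0])
      rw [h1, altT_apply, spForm_B, sympForm_eq] at hz
      revert z
      decide +kernel⟩
  have hc : Subgroup.center (Cfsg.SU 4 F4 2) = ⊥ := by
    rw [← Subgroup.card_eq_one, card_center_su F4.card_sq 4 (by norm_num)]
    norm_num
  have h1 := card_psp (F := ZMod 3) 2 (by norm_num)
  have h2 := card_su F4.card_sq 4 (by norm_num)
  simp only [ZMod.card, Finset.prod_range_succ, Finset.prod_range_zero] at h1 h2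
  norm_num at h1 h2
  have : Finite (Cfsg.SU 4 F4 2) := inferInstance
  exact ⟨(quotCenterEquivOfBot hc).trans (MulEquiv.ofBijective ψ
    (hψ.bijective_of_nat_card_le (by
      change _ ≤ Nat.card (Cfsg.PSp 2 (ZMod 3)); omega))).symm⟩

theorem psu42_equiv {F K : Type*} [Field F] [Fintype F] [Field K] [Fintype K]
    (hF : Fintype.card F = 4) (hK : Fintype.card K = 3) :
    Nonempty (Cfsg.PSU 4 F 2 ≃* Cfsg.PSp 2 K) := by
  obtain ⟨e⟩ := psu42_model
  obtain ⟨e'⟩ := nonempty_ringEquiv_zmod 3 hK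
  exact ⟨(quotCenterCongr (suCongr (FiniteField.ringEquivOfCardEq (hF.trans F4.card.symm)) 4 2)).trans
    (e.trans (quotCenterCongr (spCongr e')).symm)⟩

end H16
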