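import Mathlib
import Cfsg.Agent.H2.QDefs3
import Cfsg.Agent.H2.QB2

/-! The representation on a chief factor; quadratic automorphisms. -/

set_option autoImplicit false
set_option linter.unusedSectionVars false

namespace H16.QS

open H24 Cfsg Subgroup H2.QD
open H12 (IsQuad QuadInvolved)
open H0.WM H16.QP
open Matrix (ProjGenLinGroup)
open scoped MatrixGroups commutatorElement

universe u

section Aut

open scoped IsMulCommutative

variable {V : Type u} [Group V] [Finite V] [IsMulCommutative V] {p : ℕ} {a b g : MulAut V}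

/-- `a` is a quadratic automorphism -/
abbrev Qd (a : MulAut V) : Prop := IsQuad (MonoidHom.id _) a

theorem Qd.eq (h : Qd a) (v : V) : a (a v * v⁻¹) = a v * v⁻¹ := h v

theorem Qd.pow (h : Qd a) (hV : ∀ v : V, v ^ p = 1) : a ^ p = 1 := by
  have : ∀ (k : ℕ) v, (a ^ k) v = (a v * v⁻¹) ^ k * v := fun k v => by
    induction k with
    | zero => simp
    | succ k ih => rw [pow_succ', MulAut.mul_apply, ih, map_mul, map_pow, h.eq, pow_succ]; group
  ext v
  rw [this, hV, one_mul, MulAut.one_apply]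

theorem Qd.mem_pcore (hp : p.Prime) (hV : ∀ v : V, v ^ p = 1) {K : Subgroup (MulAut V)}
    (hK : ¬ QuadInvolved p K) (ha : a ∈ K) (h : Qd a) : a ∈ O[{p}, K] := by
  haveI := Fact.mk hp
  rw [pcore_singleton hp]
  exact ⟨⟨a, ha⟩, H12.mem_pCore_of_isQuad hV hK (subtype_injective K) (a := ⟨a, ha⟩) h, rfl⟩

/-- the fixed points of a set of automorphisms -/
def Fx (A : Set (MulAut V)) : Subgroup V where
  carrier := {v | ∀ a ∈ A, a v = v}
  mul_mem' := fun hv hw a ha => by rw [map_mul, hv a ha, hw a ha]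
  one_mem' := fun a _ => map_one a
  inv_mem' := fun hv a ha => by rw [map_inv, hv a ha]

theorem mem_Fx1 {v : V} : v ∈ Fx {a} ↔ a v = v := by simp [Fx, ← SetLike.mem_coe]

/-- two quadratic automorphisms in characteristic three whose product has order dividing ten -/
theorem fix_ten (hV : ∀ v : V, v ^ 3 = 1) (ha : Qd a) (hb : Qd b) (h : (a * b) ^ 10 = 1) {v : V}
    (hv : ((a * b) ^ 2) v = v) : ((a * b) ^ 2) (a v) = a v ∧ ((a * b) ^ 2) (b v) = b v := by
  let ρ : MulAut V →* Module.End ℤ (Additive V) :=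
    { toFun := fun g => (MonoidHom.toAdditive g.toMonoidHom).toIntLinearMap
      map_one' := by ext; simp
      map_mul' := fun a b => by ext; simp }
  have hρ : ∀ g w, ρ g (Additive.ofMul w) = Additive.ofMul (g w) := fun _ _ => rfl
  have hq : ∀ a, Qd a → (ρ a - 1) * (ρ a - 1) = 0 := fun a ha => LinearMap.ext fun w => by
    have : (ρ a - 1) w = Additive.ofMul (a w.toMul * w.toMul⁻¹) := by
      rw [ofMul_mul, ofMul_inv, ← sub_eq_add_neg]; rfl
    rw [Module.End.mul_apply, this, LinearMap.sub_apply, hρ, ha.eq, Module.End.one_apply, sub_self,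
      LinearMap.zero_apply]
  have h3 : (3 : Module.End ℤ (Additive V)) = 0 := LinearMap.ext fun w => by
    rw [Module.End.ofNat_apply]; exact hV w.toMul
  have qa := hq a ha
  have qb := hq b hb
  obtain ⟨α, hα⟩ : ∃ α, ρ a = 1 + α := ⟨ρ a - 1, by abel⟩
  obtain ⟨β, hβ⟩ : ∃ β, ρ b = 1 + β := ⟨ρ b - 1, by abel⟩
  rw [hα, add_sub_cancel_left] at qa
  rw [hβ, add_sub_cancel_left] at qb
  set x := ρ ((a * b) ^ 2) with hx
  have x5 : x ^ 5 = 1 := by rw [hx, ← map_pow, ← pow_mul, h, map_one]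
  have e1 : ρ (a * b) * ((1 - β) * (1 - α)) = 1 := by
    rw [map_mul, hα, hβ, show (1 + α) * (1 + β) * ((1 - β) * (1 - α)) =
      (1 + α) * (1 - β * β) * (1 - α) by noncomm_ring, qb, sub_zero, mul_one,
      show (1 + α) * (1 - α) = 1 - α * α by noncomm_ring, qa, sub_zero]
  have e2 : ρ (a * b) + (1 - β) * (1 - α) = 2 + (α * β + β * α) := by
    rw [map_mul, hα, hβ, ← one_add_one_eq_two]; noncomm_ring
  have e3 : (x - 1) * (x - 1) = x * ((2 + (α * β + β * α)) * (2 + (α * β + β * α)) - 4) := by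
    have e4 : (1 - β) * (1 - α) * ρ (a * b) = 1 := by
      have e0 : ρ (a * b)⁻¹ * ρ (a * b) = 1 := by rw [← map_mul, inv_mul_cancel, map_one]
      rw [← left_inv_eq_right_inv e0 e1, e0]
    rw [← e2, hx, map_pow]
    generalize ρ (a * b) = y at e1 e4
    generalize (1 - β) * (1 - α) = z at e1 e4
    rw [show y ^ 2 * ((y + z) * (y + z) - 4) = y ^ 2 * y ^ 2 + y ^ 2 * (y * z) + y ^ 2 * (z * y) +
      y * (y * z) * z - y ^ 2 * 4 by noncomm_ring, e1, e4, mul_one y, e1]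
    noncomm_ring
  have hv' : x (Additive.ofMul v) = Additive.ofMul v := congrArg Additive.ofMul hv
  have key : ∀ y : MulAut V, ρ y * (α * β + β * α) = (α * β + β * α) * ρ y →
      ((a * b) ^ 2) (y v) = y v := fun y hy => by
    generalize α * β + β * α = c at *
    have k1 : ((2 + c) * (2 + c) - 4) (Additive.ofMul v) = 0 := by
      have : x ^ 4 * ((x - 1) * (x - 1)) = (2 + c) * (2 + c) - 4 := by
        rw [e3, ← mul_assoc, ← pow_succ, x5, one_mul]
      rw [← this]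
      simp [hv']
    have k2 : ((x - 1) * (x - 1)) (ρ y (Additive.ofMul v)) = 0 := by
      have : ((2 + c) * (2 + c) - 4) * ρ y = ρ y * ((2 + c) * (2 + c) - 4) := by
        have : Commute (ρ y) c := hy
        exact (((Commute.ofNat_right _ 2).add_right this).mul_right ((Commute.ofNat_right _ 2).add_right
          this)).sub_right (Commute.ofNat_right _ 4) |>.eq.symm
      rw [e3, ← Module.End.mul_apply, mul_assoc, this, ← mul_assoc, Module.End.mul_apply, k1, map_zero]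
    have k3 : x - 1 = (x ^ 3 + 1) * (x - 1) * ((x - 1) * (x - 1)) := by
      have : (x ^ 3 + 1) * (x - 1) * ((x - 1) * (x - 1)) =
          x * x ^ 5 - 1 - 3 * ((x ^ 3 + 1) * (x * x - x)) := by noncomm_ring
      rw [this, x5, h3, zero_mul, sub_zero, mul_one]
    have k4 : (x - 1) (ρ y (Additive.ofMul v)) = 0 := by rw [k3, Module.End.mul_apply, k2, map_zero]
    exact congrArg Additive.toMul (sub_eq_zero.1 k4)
  refine ⟨key a ?_, key b ?_⟩
  · rw [hα, show (1 + α) * (α * β + β * α) = (α * β + β * α) * (1 + α) + (α * α * β - β * (α * α)) by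
      noncomm_ring, qa]; simp
  · rw [hβ, show (1 + β) * (α * β + β * α) = (α * β + β * α) * (1 + β) + (β * β * α - α * (β * β)) by
      noncomm_ring, qb]; simp

end Aut

theorem sq_of_inv {H : Type*} [Group H] {x : H} (h : x⁻¹ * x⁻¹ = 1) : x * x = 1 := by
  rwa [← mul_inv_rev, inv_eq_one] at h

theorem exists_unip {F : Type} [Field F] [Finite F] [DecidableEq F] {x : PGL(2, F)} (h : x * x ≠ 1) :
    ∃ z, ∃ w ∈ Ux z, w ≠ 1 ∧ x⁻¹ * w * (x⁻¹ * w) = 1 := by
  obtain ⟨g, hg⟩ := ProjGenLinGroup.mk_surjective x⁻¹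
  have dg : g.1.det ≠ 0 := by rw [Matrix.det_fin_two]; exact gl2_det_ne g
  have tr : g.1.trace ≠ 0 := fun e => h (by
    rw [Matrix.trace_fin_two] at e
    exact sq_of_inv (hg ▸ H16.mk_mul_self (g := g) (eq_neg_of_add_eq_zero_right e)))
  let A : GL (Fin 2) F := gl2 0 (-g.1.det) 1 g.1.trace (by simpa using dg)
  obtain ⟨c, hc⟩ := conj_of_tr_det (g := A) (h := g) (by rw [Ne, pgl2_mk_eq_one_iff]; simp [A])
    (by rw [hg]; exact fun e => h (sq_of_inv (by rw [e, mul_one]))) (by simp [A]) (by simp [A, Matrix.det_fin_two_of])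
  refine ⟨_, c * transl (-g.1.trace) * c⁻¹, conj_mem_Ux c (transl_mem _), ?_, ?_⟩
  · simpa [conj_eq_one_iff, transl_eq_one_iff] using tr
  · rw [← hg, ← hc, conj_mul, conj_mul, transl, ← map_mul, mk_mul_self, mul_one, mul_inv_cancel]
    simp [A, Matrix.mul_apply, Fin.sum_univ_two]

variable {G : Type u} [Group G] [Finite G] {X P R Y : Subgroup G} {p : ℕ} {x : G}

/-- the action of `X` on the chief factor `V = P / R` -/
structure Rep (X P R : Subgroup G) (p : ℕ) {V : Type u} [Group V] (π : P →* V)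
    (α : X →* MulAut V) : Prop where
  hp : p.Prime
  ch : H2.QD.Chief X P R
  phi : Phi P ≤ R
  pow : ∀ v : V, v ^ p = 1
  surj : ∀ v, ∃ b ∈ P, ap π b = v
  ker : ∀ b ∈ P, ap π b = 1 ↔ b ∈ R
  act : ∀ x ∈ X, ∀ b ∈ P, ap α x (ap π b) = ap π (x * b * x⁻¹)

theorem exists_rep (hc : H2.QD.Chief X P R) (hp : p.Prime) (hP : IsPi {p} P) :
    ∃ (V : Type u) (_ : Group V) (_ : Finite V) (_ : IsMulCommutative V) (π : P →* V)
      (α : X →* MulAut V), Rep X P R p π α := by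
  have hΦ : Phi P ≤ R := by
    rcases hc.min (R ⊔ Phi P) le_sup_left (sup_le hc.lt.le (Phi_le P))
      (norm_sup hc.nR.norm (norm_Phi hc.nP.norm)) with e | e
    · exact le_sup_right.trans e.le
    · exact absurd (Phi_nongen hc.lt.le e.ge) hc.lt.ne
  have hd := (hP.der1_le_Phi hp).trans hΦ
  have hN : P ≤ N[R] := hc.nP.le.trans hc.nR.norm
  let σ : X →* quo X R := ((coset R).comp (inclusion hc.nR.norm)).codRestrict _ fun j => by
    have := cs_mem_quo j.2 (hc.nR.norm j.2)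
    rwa [cs, ap_of_mem _ (hc.nR.norm j.2)] at this
  let π : P →* quo P R := ((coset R).comp (inclusion hN)).codRestrict _ fun b => by
    have := cs_mem_quo b.2 (hN b.2)
    rwa [cs, ap_of_mem _ (hN b.2)] at this
  have hπ : ∀ b ∈ P, ((ap π b : quo P R) : QN R) = cs R b := fun b hb => by
    rw [ap_of_mem _ hb]; exact (ap_of_mem (coset R) (hN hb)).symm
  have sj : ∀ v, ∃ b ∈ P, ap π b = v := fun v => by
    obtain ⟨b, hb, -, e⟩ := mem_quo.1 v.2
    exact ⟨b, hb, Subtype.ext ((hπ b hb).trans e)⟩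
  have kr : ∀ b ∈ P, ap π b = 1 ↔ b ∈ R := fun b hb => by
    rw [Subtype.ext_iff, hπ b hb]; exact cs_eq_one (hN hb)
  refine ⟨quo P R, inferInstance, inferInstance, (abl_quo hN).2 hd, π,
    (H12.conjAct' (quo_norm R hc.nP.norm)).comp σ, hp, hc, hΦ, fun v => ?_, sj, kr, fun x hx b hb => ?_⟩
  · obtain ⟨b, hb, rfl⟩ := sj v
    rw [← ap_pow _ hb, kr _ (pow_mem hb p)]
    exact hΦ (hP.pow_mem_Phi hp hb)
  · apply Subtype.ext
    rw [ap_of_mem _ hx, MonoidHom.comp_apply, H12.coe_conjAct', hπ b hb, hπ _ (hc.nP.conj_mem hx hb),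
      cs, cs, ap_conj _ (hc.nR.norm hx) (hN hb), ap_of_mem _ (hc.nR.norm hx)]
    rfl

namespace Rep

variable {V : Type u} [Group V] [Finite V] [IsMulCommutative V] {π : P →* V} {α : X →* MulAut V}
  (h : Rep X P R p π α)
include h

theorem act' (hx : x ∈ X) {b : G} (hb : b ∈ P) : ap π ⁅x, b⁆ = ap α x (ap π b) * (ap π b)⁻¹ := by
  rw [h.act x hx b hb, ← ap_inv _ hb, ← ap_mul _ (h.ch.nP.conj_mem hx hb) (inv_mem hb)]; rfl

theorem cm (hx : x ∈ X) {b : G} (hb : b ∈ P) : ⁅x, b⁆ ∈ P :=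
  mul_mem (h.ch.nP.conj_mem hx hb) (inv_mem hb)

theorem R_le (W : Subgroup V) : R ≤ pre π W := fun b hb =>
  mem_pre.2 ⟨h.ch.lt.le hb, (h.ker b (h.ch.lt.le hb)).2 hb ▸ one_mem _⟩

theorem irr (W : Subgroup V) (hW : ∀ x ∈ X, ∀ w ∈ W, ap α x w ∈ W) : W = ⊥ ∨ W = ⊤ := by
  refine (h.ch.min (pre π W) (h.R_le W) (pre_le _ _) (le_N_iff.2 fun x hx b hb => mem_pre.2
    ⟨h.ch.nP.conj_mem hx (pre_le _ _ hb), ?_⟩)).imp (fun e => eq_bot_iff.2 fun w hw => ?_)
      fun e => eq_top_iff.2 fun w _ => ?_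
  · rw [← h.act x hx b (pre_le _ _ hb)]; exact hW x hx _ (mem_pre.1 hb).2
  · obtain ⟨b, hb, rfl⟩ := h.surj w
    exact (h.ker b hb).2 (e ▸ mem_pre.2 ⟨hb, hw⟩)
  · obtain ⟨b, hb, rfl⟩ := h.surj w
    exact (mem_pre.1 (e.ge hb)).2

theorem comm_le (hY : Y ≤ X) (h1 : ∀ y ∈ Y, ap α y = 1) : ⁅P, Y⁆ ≤ R := by
  rw [commC, commutator_le]
  intro y hy b hb
  rw [← h.ker _ (h.cm (hY hy) hb), h.act' (hY hy) hb,
    h1 y hy]
  simp

theorem ne_one (hx : x ∈ X) (hn : ¬ ⁅P, zpowers x⁆ ≤ R) : ap α x ≠ 1 := fun e =>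
  hn (h.comm_le (zpowers_le.2 hx) (by rintro _ ⟨k, rfl⟩; simp [ap_zpow _ hx, e]))

theorem qd (hx : x ∈ X) (hq : ⁅⁅P, zpowers x⁆, zpowers x⁆ ≤ R) : Qd (ap α x) := fun v => by
  obtain ⟨b, hb, rfl⟩ := h.surj v
  have h1 := h.cm hx hb
  rw [commC, commC P] at hq
  have := (h.ker _ (h.cm hx h1)).2
    (hq (commutator_mem_commutator (mem_zpowers x) (commutator_mem_commutator (mem_zpowers x) hb)))
  rw [h.act' hx h1, h.act' hx hb] at this
  exact mul_inv_eq_one.1 this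

open scoped IsMulCommutative in
theorem of_qd (hx : x ∈ X) (hq : Qd (ap α x)) : ⁅⁅P, zpowers x⁆, zpowers x⁆ ≤ R := by
  have hd : ∀ W, ⁅P, P⁆ ≤ pre π W := fun W => (h.comm_le h.ch.nP.le fun y hy => MulEquiv.ext fun v => by
    obtain ⟨b, hb, rfl⟩ := h.surj v
    rw [h.act y (h.ch.nP.le hy) b hb, ap_conj _ hy hb, mul_comm (ap π y), mul_inv_cancel_right]
    rfl).trans (h.R_le W)
  have key : ∀ A B : Subgroup G, A ≤ P → ⁅P, P⁆ ≤ B → B ≤ P → x ∈ N[B] → (∀ b ∈ A, ⁅x, b⁆ ∈ B) →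
      ⁅A, zpowers x⁆ ≤ B := fun A B a1 a2 a3 a4 a5 => by
    have := a1.trans (norm_of_der1_le a2 a3)
    rw [commC]
    exact ((le_centQ this).1 (zpowers_le.2 ((mem_centQ this).2 ⟨a4, a5⟩))).2
  refine (comm_mono_left (key P (pre π (Fx {ap α x})) le_rfl (hd _) (pre_le _ _)
    (mem_N_of_finite fun b hb => ?_) fun b hb => ?_)).trans (key _ R (pre_le _ _)
      (by simpa using (hd ⊥).trans fun b hb => (h.ker b (mem_pre.1 hb).1).1 (mem_pre.1 hb).2)
      h.ch.lt.le (h.ch.nR.norm hx) fun b hb => ?_)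
  · obtain ⟨h1, h2⟩ := mem_pre.1 hb
    exact mem_pre.2 ⟨h.ch.nP.conj_mem hx h1, by rw [← h.act x hx b h1, mem_Fx1.1 h2]; exact h2⟩
  · exact mem_pre.2 ⟨h.cm hx hb, by
      rw [h.act' hx hb]; exact mem_Fx1.2 (hq.eq _)⟩
  · obtain ⟨h1, h2⟩ := mem_pre.1 hb
    rw [← h.ker _ (h.cm hx h1), h.act' hx h1,
      mem_Fx1.1 h2, mul_inv_cancel]

theorem fx_cases {Q : Subgroup (MulAut V)} (hQ : img α X ≤ N[Q]) : Fx (Q : Set (MulAut V)) = ⊥ ∨ Q = ⊥ :=
  (h.irr (Fx (Q : Set (MulAut V))) fun x hx w hw a ha => by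
    have := hw _ (conj_mem' (hQ (ap_mem_img α hx hx)) ha)
    rw [MulAut.mul_apply, MulAut.mul_apply, MulAut.inv_def, MulEquiv.symm_apply_eq] at this
    exact this).imp_right fun e => eq_bot_iff.2 fun a ha => MulEquiv.ext fun v => e.ge (mem_top v) a ha

theorem pcore_bot : O[{p}, img α X] = ⊥ := by
  haveI := Fact.mk h.hp
  refine (h.fx_cases (pcore_nml _ _).norm).resolve_left fun e => ?_
  obtain ⟨b, hb, hb'⟩ := SetLike.exists_of_lt h.ch.lt
  have : Nontrivial V := nontrivial_of_ne _ _ ((h.ker b hb).not.2 hb')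
  obtain ⟨n, hn, hV⟩ := (show IsPGroup p V from fun v => ⟨1, by simpa using h.pow v⟩).nontrivial_iff_card.1 this
  obtain ⟨v, hv, h1⟩ := ((pcore_pi {p} (img α X)).isPGroup h.hp).exists_fixed_point_of_prime_dvd_card_of_fixed_point
    V (hV ▸ dvd_pow_self p hn.ne') (a := 1) fun g => map_one (g : MulAut V)
  exact h1 (mem_bot.1 (e.le fun a ha => hv ⟨a, ha⟩)).symm

end Rep

end H16.QS
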