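import Mathlib
import Cfsg.Agent.H16.YD
import Cfsg.Agent.H25.Bender
import Cfsg.Agent.H3.Critical
import Cfsg.Agent.H6.TI2
import Cfsg.Agent.H23.Y0a
import Cfsg.Prelude.Def_ClassificationK

set_option autoImplicit false
set_option linter.unusedVariables false
set_option linter.unusedSectionVars false

open Cfsg Subgroup

namespace H23.Y0

open H16.SY H25.Sym
open scoped commutatorElement

variable {G : Type*} [Group G] [Finite G] {T : Type*} [Group T] [Finite T] {A H : Subgroup T}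
  {z b β : T} {c g : G}

/-- `T` embedded as a self-centralising normal subgroup of `C(z)` -/
structure Em (ι : T →* G) (z : T) : Prop where
  inj : Function.Injective ι
  aut : ∀ c, Commute c (ι z) → ∃ φ : T ≃* T, ∀ x, ι (φ x) = c * ι x * c⁻¹
  cent : ∀ c, Commute c (ι z) → (∀ x, Commute c (ι x)) → c ∈ ι.range
  max : ∀ X : Subgroup G, IsPGroup 2 X → (∀ x ∈ X, Commute x (ι z)) →
    (∀ c, Commute c (ι z) → ∀ x ∈ X, c * x * c⁻¹ ∈ X) → X ≤ ι.range

section
variable {ι : T →* G} (h : Cr z A H) (E : Em ι z)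
include h E

theorem nA (hc : Commute c (ι z)) : ∀ a ∈ A.map ι, c * a * c⁻¹ ∈ A.map ι := by
  rintro _ ⟨a, ha, rfl⟩
  obtain ⟨φ, e⟩ := E.aut c hc
  exact ⟨φ a, characteristic_iff_le_comap.1 h.cA φ ha, e a⟩

theorem nR (hc : Commute c (ι z)) : ∀ a ∈ h.RR.map ι, c * a * c⁻¹ ∈ h.RR.map ι := by
  rintro _ ⟨a, ha, rfl⟩
  obtain ⟨φ, e⟩ := E.aut c hc
  exact ⟨φ a, h.map_RR φ ha, e a⟩

theorem nQ (hc : Commute c (ι z)) : ∀ a ∈ ι.range, c * a * c⁻¹ ∈ ι.range := by
  rintro _ ⟨a, rfl⟩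
  obtain ⟨φ, e⟩ := E.aut c hc
  exact ⟨φ a, e a⟩

theorem cases' {x : T} (e : x = 1 ∨ x = z) : ι x = 1 ∨ ι x = ι z :=
  e.imp (fun e => by rw [e, map_one]) fun e => by rw [e]

theorem twoA {a : G} (ha : a ∈ A.map ι) (e : a * a = 1) : a = 1 ∨ a = ι z := by
  obtain ⟨a, ha, rfl⟩ := ha
  exact cases' h E (h.two ha (E.inj (by rw [map_mul, e, map_one])))

theorem commA {a a' : G} (ha : a ∈ A.map ι) (ha' : a' ∈ A.map ι) : Commute a a' := by
  obtain ⟨a, ha, rfl⟩ := ha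
  obtain ⟨a', ha', rfl⟩ := ha'
  exact (h.comm (h.AH ha) ha').map ι

theorem pow2 (x : T) : ∃ n, ι x ^ 2 ^ n = 1 := by
  obtain ⟨n, hn⟩ := h.hT.1 x
  exact ⟨n, by rw [← map_pow, hn, map_one]⟩

theorem oddA (hc : Commute c (ι z)) (ho : Odd (orderOf c)) (n : ℕ) :
    ∀ a ∈ A.map ι, a ^ 2 ^ n = 1 → Commute c a := by
  induction n with
  | zero => intro a _ e; rw [pow_zero, pow_one] at e; rw [e]; exact Commute.one_right _
  | succ n ih =>
    intro a ha e
    have h1 := ih (a * a) (mul_mem ha ha) (by rw [← pow_two, ← pow_mul, ← pow_succ', e])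
    have h2 := nA h E hc a ha
    have h4 : c * a * c⁻¹ * a⁻¹ * (c * a * c⁻¹ * a⁻¹) = 1 := by
      calc _ = c * a * c⁻¹ * (a⁻¹ * (c * a * c⁻¹)) * a⁻¹ := by group
        _ = c * (a * a) * c⁻¹ * (a * a)⁻¹ := by rw [(commA h E (inv_mem ha) h2).eq]; group
        _ = 1 := by rw [h1.eq]; group
    refine odd_fix (u := c * a * c⁻¹ * a⁻¹) (n := 1) ho (by rw [pow_one, pow_two, h4])
      (by group) ?_
    rcases twoA h E (mul_mem h2 (inv_mem ha)) h4 with e1 | e1 <;> rw [e1]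
    exacts [Commute.one_right _, hc]

variable (hb : b ∈ A) (hbb : b * b = z)
include hb hbb

theorem nb (hc : Commute c (ι z)) : c * ι b * c⁻¹ = ι b ∨ c * ι b * c⁻¹ = (ι b)⁻¹ := by
  obtain ⟨φ, e⟩ := E.aut c hc
  rw [← e b]
  exact (h.nb hb hbb φ).imp (fun e => by rw [e]) fun e => by rw [e, map_inv]

theorem nZ (hc : Commute c (ι z)) : ∀ x ∈ zpowers (ι b), c * x * c⁻¹ ∈ zpowers (ι b) := by
  rintro _ ⟨i, rfl⟩
  simp only
  rw [← conj_zpow]
  rcases nb h E hb hbb hc with e | e <;> rw [e]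
  exacts [zpow_mem (mem_zpowers _) i, zpow_mem (inv_mem (mem_zpowers _)) i]

theorem memA {x : G} (hx : x ∈ ι.range) (h1 : ∀ r ∈ h.RR, Commute x (ι r))
    (h2 : ∀ a ∈ A, Commute x (ι a)) : x ∈ A.map ι := by
  obtain ⟨x, rfl⟩ := hx
  exact ⟨x, h.memA' hb hbb (fun r hr => (h1 r hr).of_map E.inj) fun a ha =>
    (h2 a ha).of_map E.inj, rfl⟩

theorem ker (hc : Commute c (ι z))
    (h1 : ∀ r ∈ h.RR.map ι, c * r * c⁻¹ * r⁻¹ ∈ zpowers (ι b)) : c ∈ ι.range := by
  let K : Subgroup G :=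
    { carrier := {c | Commute c (ι z) ∧ ∀ r ∈ h.RR.map ι, c * r * c⁻¹ * r⁻¹ ∈ zpowers (ι b)}
      one_mem' := ⟨Commute.one_left _, fun r _ => by simp⟩
      mul_mem' := by
        rintro x y ⟨hx, hx'⟩ ⟨hy, hy'⟩
        refine ⟨hx.mul_left hy, fun r hr => ?_⟩
        have : x * y * r * (x * y)⁻¹ * r⁻¹ =
            x * (y * r * y⁻¹ * r⁻¹) * x⁻¹ * (x * r * x⁻¹ * r⁻¹) := by group
        rw [this]; exact mul_mem (nZ h E hb hbb hx _ (hy' r hr)) (hx' r hr)
      inv_mem' := by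
        rintro x ⟨hx, hx'⟩
        refine ⟨hx.inv_left, fun r hr => ?_⟩
        have : x⁻¹ * r * x⁻¹⁻¹ * r⁻¹ = x⁻¹ * (x * r * x⁻¹ * r⁻¹)⁻¹ * x⁻¹⁻¹ := by group
        rw [this]; exact nZ h E hb hbb hx.inv_left _ (inv_mem (hx' r hr)) }
  have hodd : ∀ x ∈ K, Odd (orderOf x) → x = 1 := by
    rintro x ⟨hx, hx'⟩ ho
    have cA : ∀ a ∈ A.map ι, Commute x a := fun a ha => by
      obtain ⟨a', ha', rfl⟩ := ha
      obtain ⟨n, hn⟩ := pow2 h E a'
      exact oddA h E hx ho n _ ⟨a', ha', rfl⟩ hn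
    have fx : ∀ y, x * y * x⁻¹ * y⁻¹ ∈ A.map ι → Commute x y := fun y hy => by
      have h2 := cA _ hy
      obtain ⟨a', ha', e⟩ := hy
      obtain ⟨n, hn⟩ := pow2 h E a'
      exact odd_fix (u := x * y * x⁻¹ * y⁻¹) (n := n) ho (e ▸ hn) (by group) h2
    have cR : ∀ r ∈ h.RR, Commute x (ι r) := fun r hr =>
      fx _ (zpowers_le.2 (mem_map_of_mem ι hb) (hx' _ (mem_map_of_mem ι hr)))
    have cQ : ∀ q, Commute x (ι q) := fun q => by
      have e : x * ι q * x⁻¹ * (ι q)⁻¹ = x * (ι q * x⁻¹ * (ι q)⁻¹) := by group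
      have cj : ∀ y : T, Commute x (ι (q⁻¹ * y * q)) → Commute (ι q * x⁻¹ * (ι q)⁻¹) (ι y) :=
        fun y hy => by
          have := hy.inv_left.conj (ι q)
          rwa [← map_inv, ← map_mul, ← map_mul, show q * (q⁻¹ * y * q) * q⁻¹ = y by group,
            map_inv] at this
      refine fx _ (memA h E hb hbb (mul_mem (nQ h E hx _ ⟨q, rfl⟩) (inv_mem ⟨q, rfl⟩))
        (fun r hr => ?_) fun a ha => ?_) <;> rw [e]
      · exact (cR r hr).mul_left (cj r (cR _ (by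
          simpa using h.map_RR (MulAut.conj q⁻¹) hr)))
      · exact (cA _ (mem_map_of_mem ι ha)).mul_left (cj a (cA _ (mem_map_of_mem ι (by
          simpa using h.nA q⁻¹ ha))))
    obtain ⟨y, rfl⟩ := E.cent x hx cQ
    obtain ⟨n, hn⟩ := pow2 h E y
    exact orderOf_eq_one_iff.1 (Nat.eq_one_of_dvd_coprimes
      ((Nat.coprime_two_right.2 ho).pow_right n) dvd_rfl (orderOf_dvd_of_pow_eq_one hn))
  refine E.max K (fun x => ?_) (fun x hx => hx.1) (fun g hg x hx => ⟨?_, fun r hr => ?_⟩) ⟨hc, h1⟩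
  · obtain ⟨k, m, hm, e⟩ := Nat.exists_eq_two_pow_mul_odd (orderOf_pos (x : G)).ne'
    exact ⟨k, Subtype.ext (hodd _ (pow_mem x.2 _) (hm.of_dvd_nat (orderOf_dvd_of_pow_eq_one (by
      rw [SubgroupClass.coe_pow, ← pow_mul, ← e, pow_orderOf_eq_one]))))⟩
  · exact (hg.mul_left hx.1).mul_left hg.inv_left
  · have : g * x * g⁻¹ * r * (g * x * g⁻¹)⁻¹ * r⁻¹ =
        g * (x * (g⁻¹ * r * g⁻¹⁻¹) * x⁻¹ * (g⁻¹ * r * g⁻¹⁻¹)⁻¹) * g⁻¹ := by group
    rw [this]; exact nZ h E hb hbb hg _ (hx.2 _ (nR h E hg.inv_left r hr))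

theorem loc : Loc (ι z) (ι b) (h.RR.map ι) ι.range where
  bb := by rw [← map_mul, hbb]
  zz := by rw [← map_mul, h.zz, map_one]
  z1 := fun e => h.z1 (E.inj (e.trans (map_one ι).symm))
  bR := mem_map_of_mem ι (h.bR hb hbb)
  RQ := map_le_range _ _
  Qz := by rintro _ ⟨q, rfl⟩; exact (h.cz q).map ι
  pg := h.hT.1.of_surjective _ ι.rangeRestrict_surjective
  nR := fun c hc => nR h E hc
  nQ := fun c hc => nQ h E hc
  nb := fun c hc => nb h E hb hbb hc
  sq := by rintro _ ⟨r, hr, rfl⟩; rw [← map_mul]; exact cases' h E hr.2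
  cb := by rintro _ ⟨r, hr, rfl⟩; exact (h.comm hr.1 hb).map ι
  cen := by
    rintro _ ⟨r, hr, rfl⟩ hc
    rw [← MonoidHom.map_zpowers]
    exact mem_map_of_mem ι (h.cen hb hbb hr fun s hs =>
      (hc _ (mem_map_of_mem ι hs)).of_map E.inj)
  max := E.max
  ker := fun c hc h1 => ker h E hb hbb hc h1
  cq := by
    rintro _ ⟨q, rfl⟩ e hc
    exact cases' h E (central_uniq h.hT h.hz h.hc (mem_center_iff.2 fun s =>
      ((hc _ ⟨s, rfl⟩).of_map E.inj).symm) (E.inj (by rw [map_mul, e, map_one])))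

omit hb hbb in
theorem zmem {x : G} (hx : x ∈ A.map ι) (h1 : x ≠ 1) : ι z ∈ zpowers x := by
  obtain ⟨a, ha, rfl⟩ := hx
  obtain ⟨y, hy, e1, e2⟩ := exists_level (x := ι a) (j := 0) (pow2 h E a) (by simpa using h1)
  rw [← (twoA h E (zpowers_le.2 (mem_map_of_mem ι ha) hy) (by rw [← pow_two]; exact e2)).resolve_left
    (by simpa using e1)]
  exact hy

omit hb hbb in
theorem ti : H6.IsTI (A.map ι) := fun g => by
  by_cases h0 : H22.cj g (A.map ι) ⊓ A.map ι = ⊥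
  · exact Or.inr h0
  left
  obtain ⟨x, hx, h1⟩ := H24.exists_ne_one h0
  have h2 : g⁻¹ * ι z * g ∈ A.map ι := H22.mem_cj.1 (zpowers_le.2 hx.1 (zmem h E hx.2 h1))
  have h3 := (twoA h E h2 (by
    rw [show g⁻¹ * ι z * g * (g⁻¹ * ι z * g) = g⁻¹ * (ι z * ι z) * g by group, ← map_mul, h.zz]
    simp)).resolve_left fun e => h.z1 (E.inj (by
      rw [map_one, show ι z = g * (g⁻¹ * ι z * g) * g⁻¹ by group, e]; simp))
  have h4 : Commute g (ι z) := by
    rw [Commute, SemiconjBy]; conv_lhs => rw [← h3]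
    group
  exact H22.cj_eq_of_le (H22.cj_le_iff.2 (nA h E h4))

theorem nadj (hβ : β ∈ A) (hββ : β * β = b) (hc : Commute (ι b) (g * ι z * g⁻¹)) :
    g * ι z * g⁻¹ = ι z := by
  by_contra hne
  have L := loc h E hb hbb
  set B := A.map ι with hB
  have hzB : ι z ∈ B := mem_map_of_mem ι h.zA
  have htB : g * ι z * g⁻¹ ∉ B := fun e => hne ((twoA h E e (by
    rw [show g * ι z * g⁻¹ * (g * ι z * g⁻¹) = g * (ι z * ι z) * g⁻¹ by group, L.zz]
    simp)).resolve_left fun e => L.z1 (by simpa using e))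
  have hd : H22.cj g B ⊓ B = ⊥ := (ti h E g).resolve_left fun e =>
    htB (e.le (H22.conj_mem_cj hzB))
  have nrm : ∀ x, Commute x (g * ι z * g⁻¹) → ∀ a ∈ H22.cj g B, x * a * x⁻¹ ∈ H22.cj g B :=
    fun x hx a ha => by
      have h1 : Commute (g⁻¹ * x * g) (ι z) := by
        have := hx.conj g⁻¹
        rwa [inv_inv, show g⁻¹ * (g * ι z * g⁻¹) * g = ι z by group] at this
      have := nA h E h1 _ (H22.mem_cj.1 ha)
      rw [H22.mem_cj]; convert this using 1; group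
  have p2 : IsPGroup 2 B := (h.hT.1.to_subgroup A).map ι
  have ab : IsMulCommutative B := ⟨⟨fun x y => Subtype.ext (commA h E x.2 y.2)⟩⟩
  have hcm : ⁅B, H22.cj g B⁆ = ⊥ := by
    refine (H6.elementary_or_commute_of_ti p2 (p2.map _) ab (H24.Abl.map ab _) (ti h E)
      ((ti h E).cj g) (by rw [inf_comm, hd]) (H22.card_cj g B).ge).resolve_left fun e => ?_
    have := e.2 (ι b) ⟨mem_map_of_mem ι hb, H24.mem_N_of_finite (nrm _ hc)⟩
    exact L.z1 (by rw [← L.bb, ← pow_two, this])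
  have cB : ∀ x ∈ H22.cj g B, ∀ a ∈ B, Commute x a := fun x hx a ha =>
    (H24.comm_of_cent (H24.comm_eq_bot.1 hcm) ha hx).symm
  have hS : IsPGroup 2 (H22.cj g B ⊔ ι.range : Subgroup G) :=
    (p2.map _).to_sup_of_normal_right' L.pg fun x hx =>
      H24.mem_N_of_finite (L.nQ x (cB x hx _ hzB))
  have fam := H6.ti_family_comm hS (Set.range fun k => H22.cj k B)
    (by rintro s _ _ ⟨k, rfl⟩; exact ⟨s * k, H22.cj_mul _ _ _⟩)
    (by
      rintro _ ⟨k, rfl⟩
      refine ⟨_, H22.conj_mem_cj (mem_map_of_mem ι hb), fun e => L.z1 ?_⟩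
      rw [conj_pow, pow_two, L.bb] at e; simpa using e)
    (by rintro _ ⟨k, rfl⟩ _ ⟨l, rfl⟩; simp only [H22.card_cj])
    (by
      rintro _ ⟨k, rfl⟩ _ ⟨l, rfl⟩
      have := ((ti h E).cj l) (k * l⁻¹)
      rwa [← H22.cj_mul, inv_mul_cancel_right] at this)
  set γ := g * ι β * g⁻¹ with hγ
  have hγB : γ ∈ H22.cj g B := H22.conj_mem_cj (mem_map_of_mem ι hβ)
  have γ4 : γ ^ 4 = g * ι z * g⁻¹ := by
    rw [hγ, conj_pow, ← map_pow, ← hbb, ← hββ]; simp [pow_succ, mul_assoc]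
  have cR : ∀ r ∈ h.RR.map ι, Commute (γ * γ) r := fun r hr => by
    have hrS : r ∈ H22.cj g B ⊔ ι.range := mem_sup_right (L.RQ hr)
    have h1 : Commute γ (r * γ * r⁻¹) := by
      have h2 : r * γ * r⁻¹ ∈ H22.cj (r * g) B := by
        rw [H22.cj_mul]; exact H22.conj_mem_cj hγB
      by_cases e : H22.cj g B = H22.cj (r * g) B
      · exact H24.Abl.comm (H24.Abl.map ab _) hγB (e.ge h2)
      · refine fam _ ⟨g, rfl⟩ _ ⟨r * g, rfl⟩ le_sup_left ?_ e _ hγB _ h2
        simp only [H22.cj_mul]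
        exact H22.cj_le_iff.2 fun a ha => mul_mem (mul_mem hrS (mem_sup_left ha)) (inv_mem hrS)
    set n := r * γ * r⁻¹ * γ⁻¹ with hn
    have hnR : n ∈ h.RR.map ι := by
      rw [hn, show r * γ * r⁻¹ * γ⁻¹ = r * (γ * r⁻¹ * γ⁻¹) by group]
      exact mul_mem hr (L.nR γ (cB γ hγB _ hzB) _ (inv_mem hr))
    have cn : Commute n γ := h1.symm.mul_left (Commute.refl γ).inv_left
    have pw : ∀ k : ℕ, n ^ k = 1 → Commute r (γ ^ k) := fun k e => by
      have : r * γ ^ k * r⁻¹ = γ ^ k := by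
        rw [← conj_pow, show r * γ * r⁻¹ = n * γ by rw [hn]; group, cn.mul_pow, e, one_mul]
      exact mul_inv_eq_iff_eq_mul.1 this
    have n4 : n ^ 4 = 1 := by
      rw [show 4 = 2 * 2 from rfl, pow_mul, pow_two n, pow_two]
      rcases L.sq n hnR with e | e <;> rw [e]
      exacts [mul_one _, L.zz]
    have h2 : n ∈ H22.cj g B := mul_mem (nrm r (γ4 ▸ pw 4 n4) γ hγB) (inv_mem hγB)
    have n2 : n * n = 1 := (L.sq n hnR).resolve_right fun e => L.z1 (by
      have : ι z ∈ H22.cj g B ⊓ B := ⟨e ▸ mul_mem h2 h2, hzB⟩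
      rwa [hd, mem_bot] at this)
    rw [← pow_two]; exact (pw 2 (by rw [pow_two, n2])).symm
  have hγγ := mul_mem hγB hγB
  have h1 : γ * γ ∈ ι.range := L.ker _ (cB _ hγγ _ hzB) fun r hr => by
    rw [(cR r hr).eq, mul_inv_cancel_right, mul_inv_cancel]; exact one_mem _
  have h2 := memA h E hb hbb h1 (fun r hr => cR _ (mem_map_of_mem ι hr)) fun a ha =>
    cB _ hγγ _ (mem_map_of_mem ι ha)
  exact htB (by rw [← γ4, show 4 = 2 * 2 from rfl, pow_mul, pow_two γ]; exact pow_mem h2 2)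

theorem big (hβ : β ∈ A) (hββ : β * β = b) : Big (ι z) (ι b) (ι β) (h.RR.map ι) ι.range where
  ββ := by rw [← map_mul, hββ]
  βR := by rintro _ ⟨r, hr, rfl⟩; exact (h.comm hr.1 hβ).symm.map ι
  inv := fun c hc e => by
    have h0 := mem_map_of_mem ι hβ
    have h1 := nA h E hc _ h0
    refine twoA h E (mul_mem h1 h0) ?_
    calc _ = c * ι β * c⁻¹ * (ι β * (c * ι β * c⁻¹)) * ι β := by group
      _ = c * (ι β * ι β) * c⁻¹ * (ι β * ι β) := by rw [(commA h E h0 h1).eq]; group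
      _ = 1 := by rw [← map_mul, hββ, e, inv_mul_cancel]
  nadj := fun g hg => nadj h E hb hbb hβ hββ hg
  b3 := by
    rintro hR _ ⟨q, rfl⟩ e hc
    refine cases' h E (h.b3 hb hbb (fun r hr => ?_) (E.inj (by rw [map_mul, e, map_one]))
      (hc.of_map E.inj))
    have := hR _ (mem_map_of_mem ι hr)
    rwa [← MonoidHom.map_zpowers, mem_map_iff_mem E.inj] at this

end

end H23.Y0

namespace H16.SY

theorem hall {G : Type*} [Group G] [Finite G] {z : G} (hz : orderOf z = 2)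
    (hQ : IsOfSymplecticType ↥(generalizedFittingSubgroup ↥(centralizer ({z} : Set G))))
    (hne : ¬ IsExtraspecial 2 ↥(generalizedFittingSubgroup ↥(centralizer ({z} : Set G)))) :
    (∀ c, Commute c z → c = 1 ∨ c = z) ∨
      ∃ (b : G) (R Q : Subgroup G), Loc z b R Q ∧ (Q = R ∨ ∃ β, Big z b β R Q) := by
  set C := centralizer ({z} : Set G) with hC
  set F := generalizedFittingSubgroup C with hF
  let ι : F →* G := C.subtype.comp F.subtype
  have hι : Function.Injective ι := (subtype_injective _).comp (subtype_injective _)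
  have hr : ι.range = H25.Bd.fs C := by rw [MonoidHom.range_comp, range_subtype]
  have mC : ∀ c, c ∈ C ↔ Commute c z := fun c => mem_centralizer_singleton_iff
  have cent : ∀ c, Commute c z → (∀ x, Commute c (ι x)) → c ∈ ι.range := fun c hc h => by
    rw [hr]
    refine H25.Bd.inf_centralizer_fs_le C ⟨(mC c).2 hc, mem_centralizer_iff.2 fun y hy => ?_⟩
    rw [← hr] at hy
    obtain ⟨x, rfl⟩ := hy
    exact (h x).symm
  have cz : ∀ x, Commute (ι x) z := fun x => (mC _).1 x.1.2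
  obtain ⟨z0, hz'⟩ := cent z (Commute.refl z) fun x => (cz x).symm
  rw [← hz'] at hz mC cent cz ⊢
  have hz0 : orderOf z0 = 2 := by rw [← hz, orderOf_injective ι hι]
  have hc0 : z0 ∈ center F := mem_center_iff.2 fun x => (cz x).of_map hι
  have E : H23.Y0.Em ι z0 := by
    refine ⟨hι, fun c hc => ⟨MulAut.conjNormal (⟨c, (mC c).2 hc⟩ : C), fun x => rfl⟩, cent,
      fun X hX h1 h2 => ?_⟩
    rw [hr, H25.Bd.fs_eq]
    exact (H25.Bd.le_fit (fun x hx => (mC x).2 (h1 x hx))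
      (fun c hc => H24.mem_N_of_finite (h2 c ((mC c).1 hc))) hX.isNilpotent).trans le_sup_right
  rcases H23.Y0.pure hQ hz0 hc0 with h | ⟨A, H, h, b, hb, hbb, h1⟩
  · left
    have hx : H3.XS 2 (z0 : C) F :=
      ⟨by rw [← hz0, orderOf_coe], z0.2,
        fun x hx => (h.central ⟨x, hx⟩ (mem_top _)).map F.subtype,
        fun x hx y hy => by
          have := mem_map_of_mem F.subtype (h.comm ⟨x, hx⟩ (mem_top _) ⟨y, hy⟩ (mem_top _))
          rwa [MonoidHom.map_zpowers] at this,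
        fun x hx => by
          have := mem_map_of_mem F.subtype (h.pow ⟨x, hx⟩ (mem_top _))
          rwa [MonoidHom.map_zpowers] at this,
        fun x hx hc => by
          have := mem_map_of_mem F.subtype (h.center_le ⟨x, hx⟩ (mem_top _) fun y _ =>
            Subtype.ext (hc y y.2))
          rwa [MonoidHom.map_zpowers] at this⟩
    have e : zpowers (z0 : C) = F := by
      by_contra e; exact hne (hx.isExtraspecial e)
    have all : ∀ x : F, ι x = 1 ∨ ι x = ι z0 := fun x => by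
      have h1 : (x : C) ∈ zpowers (z0 : C) := e.ge x.2
      rcases (H25.Sym.mem_zp (H25.Sym.sq2 hx.ord)).1 h1 with e1 | e1
      · left; exact congrArg Subtype.val e1
      · right; exact congrArg Subtype.val e1
    intro c hc
    obtain ⟨x, rfl⟩ := cent c hc fun x => by
      rcases all x with e1 | e1 <;> rw [e1]
      exacts [Commute.one_right _, hc]
    exact all x
  · refine Or.inr ⟨ι b, _, _, H23.Y0.loc h E hb hbb, h1.imp (fun e => ?_) ?_⟩
    · rw [e, MonoidHom.range_eq_map]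
    · rintro ⟨β, hβ, e⟩
      exact ⟨ι β, H23.Y0.big h E hb hbb hβ e⟩

end H16.SY
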