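import Mathlib
import Cfsg.Agent.H11.HsG
import Cfsg.Agent.H25.SyG
import Cfsg.Agent.H4.YH1

set_option autoImplicit false

open Cfsg Subgroup

namespace H16.SY

theorem hs_emb {G : Type*} [Group G] [Finite G] [IsSimpleGroup G] {u1 u2 u3 x a : G}
    (o1 : u1 ^ 4 = 1) (o2 : u2 ^ 4 = 1) (o3 : u3 ^ 4 = 1) (c12 : Commute u1 u2)
    (c13 : Commute u1 u3) (c23 : Commute u2 u3) (xx : x * x = 1) (aa : a * a = 1)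
    (xa : (x * a) ^ 4 = 1) (x1 : x * u1 * x⁻¹ = u1) (x2 : x * u2 * x⁻¹ = u1 ^ 3 * u2 ^ 3 * u3 ^ 2)
    (x3 : x * u3 * x⁻¹ = u3 ^ 3) (a1 : a * u1 * a⁻¹ = u1 ^ 3) (a2 : a * u2 * a⁻¹ = u2)
    (a3 : a * u3 * a⁻¹ = u1 ^ 2 * u2 * u3 ^ 3) (hz : u1 * u1 ≠ 1) (S : Sylow 2 G)
    (hS : (S : Subgroup G) = closure {u1, u2, u3, x, a}) :
    ∃ φ : H11.Hs.S0 →* G, H25.Sy.Emb φ := by
  obtain ⟨φ, h1, h2⟩ := H4.YH.exists_hom o1 o2 o3 c12 c13 c23 xx aa xa x1 x2 x3 a1 a2 a3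
  exact ⟨φ, H11.Hs.inj_of (h1 ▸ hz), by rw [h2, ← hS]; exact H24.syl_top_of_sylow Nat.prime_two S, inferInstance⟩

end H16.SY
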