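import Mathlib
import Cfsg.Agent.S0482
import Cfsg.Agent.S0523
import Cfsg.Agent.H0.PCR1
import Cfsg.Agent.H4.YR1

set_option autoImplicit false

open Cfsg Subgroup

namespace H16.SY

theorem rec_cit {G : Type*} [Group G] [Finite G] [IsSimpleGroup G] (hG : ¬ IsMulCommutative G)
    (h2 : PRankLE 2 2 G) (hc : ∀ s : G, orderOf s = 2 → IsPGroup 2 (centralizer ({s} : Set G))) :
    (∃ (F : Type) (_ : Field F) (_ : Fintype F),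
      ((∃ n : ℕ, Fintype.card F = 2 ^ n + 1) ∨ (∃ n : ℕ, Fintype.card F + 1 = 2 ^ n)) ∧
        Nonempty (G ≃* Matrix.ProjectiveSpecialLinearGroup (Fin 2) F)) ∨ Spor.IsoM11 G := by
  rcases Cfsg.Agent.S0482.result hG h2 with ⟨F, _, _, h, -, ⟨e⟩⟩ | ⟨F, _, _, h, ⟨e⟩⟩ | ⟨F, _, _, q, hF, h, ⟨e⟩⟩ |
    ⟨F, _, _, h, ⟨e⟩⟩ | ⟨⟨e⟩⟩ | h
  · obtain ⟨s, h1, h3⟩ := H4.YR.l2 h e
    obtain ⟨k, hk⟩ := IsPGroup.iff_card.1 (hc s h1)
    rw [hk] at h3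
    exact Or.inl ⟨F, _, _, h3.imp (fun h => ⟨k, h.symm⟩) fun h => ⟨k, h.symm⟩, ⟨e⟩⟩
  · exact (H4.YR.no_pow hc h Fintype.one_lt_card (H4.YR.l3 h e)).elim
  · exact (H4.YR.no_pow hc h (H15.two_le_of_card_sq hF) (H4.YR.u3' hF h e)).elim
  · exact (H4.YR.u34 h e hc).elim
  · exact (H4.YR.a7 e hc).elim
  · exact Or.inr (H0.PC.iso_m11 h)

theorem rec_wr {G : Type*} [Group G] [Finite G] [IsSimpleGroup G] (S : Sylow 2 G)
    (hS : IsWreathed (S : Subgroup G))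
    (hc : ∀ s : G, orderOf s = 2 → Nat.card (centralizer ({s} : Set G)) ≤ 96) :
    Spor.IsoM11 G ∨
      (∃ (F : Type) (_ : Field F) (_ : Fintype F), Fintype.card F = 3 ∧
        Nonempty (G ≃* Matrix.ProjectiveSpecialLinearGroup (Fin 3) F)) ∨
      (∃ (F : Type) (_ : Field F) (_ : Fintype F), Fintype.card F = 9 ∧ Nonempty (G ≃* PSU 3 F 3)) := by
  rcases Cfsg.Agent.S0523.result S hS with ⟨F, _, _, h, ⟨e⟩⟩ | ⟨F, _, _, q, hF, h, ⟨e⟩⟩ | h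
  · exact Or.inr (Or.inl ⟨F, _, _, H4.YR.three hc h Fintype.one_lt_card (H4.YR.l3 h e), ⟨e⟩⟩)
  · obtain rfl := H4.YR.three hc h (H15.two_le_of_card_sq hF) (H4.YR.u3' hF h e)
    exact Or.inr (Or.inr ⟨F, _, _, hF, ⟨e⟩⟩)
  · exact Or.inl (H0.PC.iso_m11 h)

end H16.SY
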