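import Mathlib
import Cfsg.Agent.H16.YB
import Cfsg.Agent.H17.ZStar
import Cfsg.Prelude.Def_CaseTheorems

/-!
# The case that no other conjugate of `z` centralizes `b`
-/

set_option autoImplicit false
set_option linter.unusedSectionVars false

open Subgroup H22

namespace H16.SY

variable {G : Type*} [Group G] [Finite G]

theorem not_isolated [IsSimpleGroup G] (hG : ¬ IsMulCommutative G) {z : G} (hz : orderOf z = 2) :
    ∃ g, Commute z (g * z * g⁻¹) ∧ g * z * g⁻¹ ≠ z := by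
  by_contra hn
  push Not at hn
  have hO : Cfsg.pPrimeCore 2 G = ⊥ := by
    refine ((inferInstance : (Cfsg.pPrimeCore 2 G).Normal).eq_bot_or_eq_top).resolve_right fun e => ?_
    have := H17.odd_card_pPrimeCore (G := G)
    rw [e, card_top] at this
    exact (Nat.not_even_iff_odd.2 this) (even_iff_two_dvd.2 (hz ▸ orderOf_dvd_natCard z))
  have hc : z ∈ center G := mem_center_iff.2 fun g => (H17.zstar_central hO ⟨hz, hn⟩ g).eq.symm
  rcases (inferInstance : (center G).Normal).eq_bot_or_eq_top with e | e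
  · rw [e, mem_bot] at hc; rw [hc] at hz; simp at hz
  · exact hG ⟨⟨fun a b => mem_center_iff.1 (e ▸ mem_top b) a⟩⟩

theorem comm_mem {S N : Subgroup G} {a : G} (h : ∀ s ∈ S, s ∈ N ∨ s * a ∈ N) :
    ∀ x ∈ S, ∀ y ∈ S, x * y * x⁻¹ * y⁻¹ ∈ N := by
  have key : ∀ x ∈ S, ∀ y ∈ S, x * y ∈ N ↔ (x ∈ N ↔ y ∈ N) := by
    intro x hx y hy
    by_cases h1 : x ∈ N
    · simp [h1, mul_mem_cancel_left h1]
    · by_cases h2 : y ∈ N
      · simp [h1, h2, mul_mem_cancel_right h2]
      · simp only [h1, h2, iff_true]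
        have := mul_mem ((h x hx).resolve_left h1)
          (inv_mem ((h _ (inv_mem hy)).resolve_left fun e => h2 (inv_mem_iff.1 e)))
        convert this using 1
        group
  intro x hx y hy
  rw [key _ (mul_mem (mul_mem hx hy) (inv_mem hx)) _ (inv_mem hy), key _ (mul_mem hx hy) _ (inv_mem hx),
    key _ hx _ hy, inv_mem_iff, inv_mem_iff]
  tauto

theorem exists_sylow {P : Subgroup G} (hP : IsPGroup 2 P) : ∃ S : Sylow 2 G, P ≤ S :=
  hP.exists_le_sylow

/-- two commuting involutions inverting the elements of order four of each other -/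
structure Na (z b s b' : G) (R Q R' Q' : Subgroup G) : Prop where
  h : Loc z b R Q
  h' : Loc s b' R' Q'
  sz : Commute s z
  sb : ¬ Commute s b
  zb : ¬ Commute z b'

namespace Na

variable {z b s b' r f k q : G} {R Q R' Q' : Subgroup G} (N : Na z b s b' R Q R' Q')
include N

theorem elem (hr : r ∈ R) (hc : Commute r s) : r * r = 1 :=
  (N.h.sq r hr).resolve_right fun e => N.zb (e ▸ (N.h'.cmb hc hc).2 Iff.rfl)

theorem fix_or (h1 : s ∈ N.h.Fx r) : Commute r s ∨ Commute (r * b) s := by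
  rcases h1.2 with e | e
  · exact Or.inl (cm_iff.1 e).symm
  · refine Or.inr (cm_iff.1 ?_).symm
    rw [cj_mul', e, N.h.inv_b' N.sz N.sb, mul_assoc, ← mul_assoc z, ← N.h.bz.eq, N.h.mzz]

theorem fix_inv (hr : r ∈ R) (h2 : r * r = 1) (h1 : s ∈ N.h.Fx r) : Commute r s :=
  (N.fix_or h1).resolve_right fun e => by
    have := N.elem (mul_mem hr N.h.bR) e
    rw [← pow_two, (N.h.cb r hr).mul_pow, pow_two, pow_two, h2, N.h.bb, one_mul] at this
    exact N.h.z1 this

theorem fix_cm (hr : r ∈ R) (hq : q ∈ R) (h1 : s ∈ N.h.Fx r) (h2 : s ∈ N.h.Fx q) : Commute r q := by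
  have k2 : ∀ r ∈ R, ∀ q ∈ R, Commute r s → Commute q s → Commute r q := fun r hr q hq h1 h2 =>
    cm_of_sq (N.elem hr h1) (N.elem hq h2) (N.elem (mul_mem hr hq) (h1.mul_left h2))
  have hb := N.h.bR
  have c1 := N.h.cb r hr
  have c2 := (N.h.cb q hq).symm
  rcases N.fix_or h1 with a | a <;> rcases N.fix_or h2 with a' | a'
  · exact k2 _ hr _ hq a a'
  · have := k2 _ hr _ (mul_mem hq hb) a a'
    rw [N.h.cmr hr hq hb] at this; tauto
  · have := k2 _ (mul_mem hr hb) _ hq a a'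
    rw [N.h.cml hr hb hq] at this; tauto
  · have := k2 _ (mul_mem hr hb) _ (mul_mem hq hb) a a'
    have c3 := (N.h.cb _ (mul_mem hq hb)).symm
    rw [N.h.cml hr hb (mul_mem hq hb), N.h.cmr hr hq hb] at this; tauto


end Na

/-- the situation of this file -/
structure Nad (z b s b' : G) (R Q R' Q' : Subgroup G) : Prop extends Na z b s b' R Q R' Q' where
  hn : ∀ g, Commute b (g * z * g⁻¹) → g * z * g⁻¹ = z
  hn' : ∀ g, Commute b' (g * s * g⁻¹) → g * s * g⁻¹ = s
  cjz : ∃ g, g * s * g⁻¹ = z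

namespace Nad

variable {z b s b' r f k q : G} {R Q R' Q' : Subgroup G} (N : Nad z b s b' R Q R' Q')
include N

theorem key (hf : f ∈ R) (hc : Commute f s) (hk : k * s * k⁻¹ = s * f) : f = 1 ∨ f = z := by
  by_cases h1 : Commute f b'
  · have := N.hn' k (hk ▸ N.h'.bz.mul_right h1.symm)
    exact Or.inl (mul_eq_left.1 (hk ▸ this))
  · have h2 : Commute (f * z) b' := (N.h'.cmb hc N.sz.symm).2 (iff_of_false h1 N.zb)
    have h3 : b * k * s * (b * k)⁻¹ = s * (f * z) := by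
      rw [cj_cj', hk, N.h.cj_by_b (N.sz.mul_left (N.h.Rz hf)), mul_assoc]
      rw [N.h.cmb N.sz (N.h.Rz hf)]
      have := N.sb
      have := N.h.cb f hf
      tauto
    have := N.hn' _ (h3 ▸ N.h'.bz.mul_right h2.symm)
    rw [h3, mul_eq_left, mul_eq_one_iff_eq_inv, N.h.zinv] at this
    exact Or.inr this

theorem sinv : s⁻¹ = s := N.h'.zinv

theorem n_mem (hr : r ∈ R) : s * r * s⁻¹ * r⁻¹ ∈ R := mul_mem (N.h.nR s N.sz r hr) (inv_mem hr)

theorem n_eq : r * s * r⁻¹ = s * (s * r * s⁻¹ * r⁻¹) := by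
  rw [N.sinv, ← mul_assoc, ← mul_assoc, ← mul_assoc, N.h'.zz, one_mul]

theorem n_inv : s * (s * r * s⁻¹ * r⁻¹) * s⁻¹ = (s * r * s⁻¹ * r⁻¹)⁻¹ := by
  rw [← N.n_eq]
  group

theorem fix_of (hr : r ∈ R) (h1 : s * r * s⁻¹ * r⁻¹ * (s * r * s⁻¹ * r⁻¹) = 1) : s ∈ N.h.Fx r := by
  refine ⟨N.sz, N.h.fix_z N.sz hr ?_⟩
  rcases N.key (N.n_mem hr) (cm_iff.1 (N.n_inv.trans (inv_of_sq h1))).symm N.n_eq with e | e <;> rw [e]
  exacts [one_mem _, N.h.zb]

/-- the end with cyclic `R` -/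
theorem cit [IsSimpleGroup G] (hG : ¬ IsMulCommutative G) (hR : ∀ r ∈ R, r ∈ zpowers b)
    (h3 : ∀ q ∈ Q, q * q = 1 → Commute q b → q = 1 ∨ q = z) :
    Cfsg.PRankLE 2 2 G ∧ ∀ s : G, orderOf s = 2 → IsPGroup 2 (centralizer ({s} : Set G)) := by
  have hC : ∀ c, Commute c z → c ∈ Q := fun c hc =>
    N.h.ker c hc fun r hr => hR _ (mul_mem (N.h.nR c hc r hr) (inv_mem hr))
  obtain ⟨S, hS⟩ := exists_sylow N.h.pg
  have one : ∀ x : G, orderOf x = 2 → ∃ g, g * x * g⁻¹ = z := fun x hx => by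
    obtain ⟨g, h1, h2⟩ := thompson hG S (W := centralizer {b}) (a := s) (fun y hy => by
      simp only [mem_centralizer_singleton_iff]
      have := N.h.cmb (N.h.ovr S.2 hS hy) N.sz
      have := N.sb
      change Commute y b ∨ Commute (y * s) b
      tauto) hx
    have h4 : g * x * g⁻¹ * (g * x * g⁻¹) = 1 := by
      rw [← cj_mul', ← pow_two, ← hx, pow_orderOf_eq_one]; group
    refine ⟨g, (h3 _ (hC _ (N.h.ovr S.2 hS h2)) h4 (mem_centralizer_singleton_iff.1 h1)).resolve_left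
      fun e => ?_⟩
    rw [conj_eq_one_iff] at e
    rw [e] at hx; simp at hx
  refine ⟨fun A hA h2 => ?_, fun x hx => ?_⟩
  · by_cases h0 : A = ⊥
    · rw [h0, card_bot]; norm_num
    obtain ⟨⟨a, ha⟩, ha1⟩ := ne_bot_iff_exists_ne_one.1 h0
    obtain ⟨g, hg⟩ := one a (orderOf_eq_prime (h2 a ha) fun e => ha1 (Subtype.ext e))
    rw [← card_cj g]
    have h4 : ∀ y ∈ cj g A, y * y = 1 ∧ Commute y z := by
      rintro _ ⟨y, hy, rfl⟩
      change g * y * g⁻¹ * (g * y * g⁻¹) = 1 ∧ Commute (g * y * g⁻¹) z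
      refine ⟨by rw [← cj_mul', ← pow_two, h2 y hy]; group, hg ▸ (cm_cj g).2 ?_⟩
      exact congrArg Subtype.val (hA.1.1 ⟨y, hy⟩ ⟨a, ha⟩)
    have h5 : ∀ y ∈ cj g A, Commute y b → y ∈ zpowers z := fun y hy e => by
      rcases h3 y (hC y (h4 y hy).2) (h4 y hy).1 e with e | e <;> rw [e]
      exacts [one_mem _, mem_zpowers _]
    have h6 : Nat.card (zpowers z) = 2 := by rw [Nat.card_zpowers, N.h.ord]
    by_cases h7 : ∀ y ∈ cj g A, Commute y b
    · exact (card_le_of_le fun y hy => h5 y hy (h7 y hy)).trans (by rw [h6]; norm_num)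
    push Not at h7
    obtain ⟨y0, hy0, h7⟩ := h7
    have h8 : cj g A ≤ zpowers z ⊔ zpowers y0 := fun y hy => by
      by_cases e : Commute y b
      · exact mem_sup_left (h5 y hy e)
      · have := h5 _ (mul_mem hy hy0) ((N.h.cmb (h4 y hy).2 (h4 y0 hy0).2).2 (iff_of_false e h7))
        exact (mul_mem_cancel_right (mem_sup_right (mem_zpowers y0))).1 (mem_sup_left this)
    refine (card_le_of_le h8).trans ?_
    rw [card_ext, h6]
    · norm_num
    · rintro _ ⟨n, rfl⟩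
      rw [cm_iff.2 ((h4 y0 hy0).2.zpow_right n)]
      exact ⟨n, rfl⟩
    · rw [(h4 y0 hy0).1]; exact one_mem _
    · rintro ⟨n, rfl⟩
      exact h7 (N.h.bz.symm.zpow_left n)
  · obtain ⟨g, hg⟩ := one x hx
    refine (N.h.pg.map (MulAut.conj g⁻¹).toMonoidHom).to_le fun c hc => mem_cj.2 (hC _ ?_)
    rw [inv_inv, ← hg]
    exact (cm_cj g).2 (mem_centralizer_singleton_iff.1 hc)

theorem n_sq (hr : r ∈ R) (h1 : s ∉ N.h.Fx r) : s * r * s⁻¹ * r⁻¹ * (s * r * s⁻¹ * r⁻¹) = z :=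
  (N.h.sq _ (N.n_mem hr)).resolve_left fun e => h1 (N.fix_of hr e)

theorem f_cm (hr : r ∈ R) (h1 : s ∉ N.h.Fx r) : Commute (s * r * s⁻¹ * r⁻¹ * b) s := by
  refine (cm_iff.1 ?_).symm
  have hn := N.n_mem hr
  have h2 : (s * r * s⁻¹ * r⁻¹)⁻¹ = s * r * s⁻¹ * r⁻¹ * z := by
    rw [inv_eq_iff_mul_eq_one, ← mul_assoc _ _ z, N.n_sq hr h1, N.h.zz]
  rw [cj_mul', N.n_inv, h2, N.h.inv_b' N.sz N.sb, mul_assoc _ z, ← mul_assoc z, ← N.h.bz.eq, N.h.mzz]

theorem f_not (hr : r ∈ R) (h1 : s ∉ N.h.Fx r) : s * r * s⁻¹ * r⁻¹ * b ∉ zpowers b := fun e =>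
  h1 ⟨N.sz, N.h.fix_z N.sz hr ((mul_mem_cancel_right (mem_zpowers b)).1 e)⟩

theorem not_f (hr : r ∈ R) (h1 : s ∉ N.h.Fx r) (e : k * s * k⁻¹ = s * (s * r * s⁻¹ * r⁻¹ * b) ∨
    k * s * k⁻¹ = s * (s * r * s⁻¹ * r⁻¹ * b * z)) : False := by
  have hf := mul_mem (N.n_mem hr) N.h.bR
  refine N.f_not hr h1 ?_
  rcases e with e | e
  · rcases N.key hf (N.f_cm hr h1) e with e | e <;> rw [e]
    exacts [one_mem _, N.h.zb]
  · refine (mul_mem_cancel_right N.h.zb).1 ?_
    rcases N.key (mul_mem hf N.h.zR) ((N.f_cm hr h1).mul_left N.sz.symm) e with e | e <;> rw [e]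
    exacts [one_mem _, N.h.zb]

theorem big {β : G} (hB : Big z b β R Q) (hr : r ∈ R) : s ∈ N.h.Fx r := by
  by_contra h1
  have hn := N.n_mem hr
  have e0 := N.n_eq (r := r)
  obtain ⟨n, hnn⟩ : ∃ n, n = s * r * s⁻¹ * r⁻¹ := ⟨_, rfl⟩
  have c1 : Commute (r * s * r⁻¹) z := ((N.h.Rz hr).mul_left N.sz).mul_left (N.h.Rz hr).inv_left
  have c2 : ¬ Commute (r * s * r⁻¹) b := by
    rw [← cm_iff.2 (N.h.cb r hr), cm_cj]; exact N.sb
  have c3 : (r * s * r⁻¹)⁻¹ = r * s * r⁻¹ := by rw [← cj_inv', N.sinv]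
  have e1 : β * r * s * (β * r)⁻¹ =
      r * s * r⁻¹ * (r * s * r⁻¹ * β * (r * s * r⁻¹)⁻¹ * β) * (β * β)⁻¹ := by
    have c4 : r * s * r⁻¹ * (r * s * r⁻¹) = 1 := by rw [← cj_mul', N.h'.zz]; group
    rw [cj_cj', c3]
    generalize r * s * r⁻¹ = y at c4
    calc β * y * β⁻¹ = (y * y) * β * y * β * (β * β)⁻¹ := by rw [c4]; group
      _ = _ := by group
  refine N.not_f hr h1 (k := β * r) ?_
  rw [e1, hB.ββ, N.h.binv]
  rcases hB.inv _ c1 (N.h.inv_b c1 c2) with e | e <;> rw [e, e0, ← hnn]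
  · right; group
  · left; rw [mul_assoc _ z, ← mul_assoc z, ← N.h.bz.eq, N.h.mzz, mul_assoc]

theorem small [IsSimpleGroup G] (hG : ¬ IsMulCommutative G) (hQ : Q = R) (hr : r ∈ R) :
    s ∈ N.h.Fx r := by
  subst hQ
  by_contra h1
  have h := N.h
  have hn := N.n_mem hr
  have e0 := N.n_eq (r := r)
  have en := N.n_sq hr h1
  have ei := N.n_inv (r := r)
  have fs := N.f_cm hr h1
  have fn := N.f_not hr h1
  have nf := fun k => N.not_f (k := k) hr h1
  have hb := h.bR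
  -- the commutator map has an image of order two
  have two : ∀ q ∈ Q, s ∈ h.Fx q ∨ s ∈ h.Fx (q * r) := fun q hq => by
    refine or_iff_not_imp_left.2 fun h2 => N.fix_of (mul_mem hq hr) ?_
    have c : Commute (s * q * s⁻¹ * q⁻¹) (s * r * s⁻¹ * r⁻¹) := by
      have a1 := h.nR s N.sz q hq
      have a2 := h.nR s N.sz r hr
      have a3 : Commute (s * q * s⁻¹) r ↔ Commute q (s * r * s⁻¹) := by
        rw [← cm_cj s, ← cj_cj', N.h'.zz]; simp
      rw [h.cml a1 (inv_mem hq) hn, h.cmr a1 a2 (inv_mem hr), h.cmr (inv_mem hq) a2 (inv_mem hr),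
        cm_cj, Commute.inv_right_iff, Commute.inv_left_iff, Commute.inv_inv_iff, a3]
      tauto
    have e : s * (q * r) * s⁻¹ * (q * r)⁻¹ =
        s * q * s⁻¹ * q⁻¹ * (q * (s * r * s⁻¹ * r⁻¹) * q⁻¹) := by group
    have e2 := N.n_sq hq h2
    have c2 := h.Rz hn
    have c3 := h.Rz (N.n_mem hq)
    rw [e]
    rcases h.cj_cases hq hn with e' | e' <;> rw [e']
    · rw [← pow_two, c.mul_pow, pow_two, pow_two, e2, en, h.zz]
    · rw [← pow_two, (c.mul_right c3).mul_pow, c2.mul_pow, pow_two, pow_two, pow_two, e2, en, h.zz,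
        mul_one, h.zz]
  obtain ⟨n, hnn⟩ : ∃ n, n = s * r * s⁻¹ * r⁻¹ := ⟨_, rfl⟩
  have esr : s * r * s⁻¹ = n * r := by rw [hnn]; group
  rw [← hnn] at hn e0 en ei fs fn nf
  have hf : n * b ∈ Q := mul_mem hn hb
  have ff : (n * b)⁻¹ = n * b := inv_of_sq (N.elem hf fs)
  have sf : s ∈ h.Fx (n * b) := ⟨N.sz, Or.inl (cm_iff.2 fs.symm)⟩
  have cen : ∀ q ∈ Q, s ∈ h.Fx q → Commute q r → q ∈ zpowers b := fun q hq h2 h3 =>
    h.cen q hq fun y hy => by
      rcases two y hy with e | e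
      · exact N.fix_cm hq hy h2 e
      · have := N.fix_cm hq (mul_mem hy hr) h2 e
        rw [h.cmr hq hy hr] at this; tauto
  have fr : ¬ Commute (n * b) r := fun e => fn (cen _ hf sf e)
  have span : ∀ q ∈ Q, (∀ e ∈ [n * b, r], Commute q e) → q ∈ zpowers b := fun q hq h2 => by
    have a1 := h2 (n * b) (by simp)
    refine cen q hq ((two q hq).resolve_right fun e => ?_) (h2 r (by simp))
    have := N.fix_cm (mul_mem hq hr) hf e sf
    rw [h.cml hq hr hf] at this
    exact fr (this.1 a1).symm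
  have kf : ∀ q ∈ Q, s ∈ h.Fx q → q ∈ zpowers b ∨ q * (n * b) ∈ zpowers b := fun q hq h2 => by
    by_cases e : Commute q r
    · exact Or.inl (cen q hq h2 e)
    · refine Or.inr (span _ (mul_mem hq hf) ?_)
      simp only [List.mem_cons, List.not_mem_nil, or_false, forall_eq_or_imp, forall_eq]
      exact ⟨(N.fix_cm hq hf h2 sf).mul_left (Commute.refl _), (h.cml hq hf hr).2 (iff_of_false e fr)⟩
  obtain ⟨S, hS⟩ := exists_sylow (pg_ext (a := s) (k := 1) h.pg (h.nQ s N.sz)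
    (by rw [pow_one, pow_two, N.h'.zz]))
  have hQS : Q ≤ S := le_sup_left.trans hS
  have hsS : s ∈ (S : Subgroup G) := hS (mem_sup_right (mem_zpowers s))
  have Sf : (S : Subgroup G) ≤ h.Fx (n * b) := by
    refine h.le_Fx S.2 hQS {s} (by simp [hsS, sf]) fun g hg h2 => ⟨hg, h.fix_z hg hf ?_⟩
    rw [ff]
    refine (kf _ (h.nR g hg _ hf) (h2 s rfl)).resolve_left fun e => fn ?_
    have := h.cm_zb (h.nR g hg r hr) e
    exact absurd ((cm_cj g).1 this).symm fr
  have SQ : ∀ c ∈ (S : Subgroup G), c ∈ Q ∨ c * s ∈ Q := by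
    have k : ∀ c ∈ (S : Subgroup G), Commute (c * r * c⁻¹) r → c ∈ Q := fun c hc h2 => by
      obtain ⟨c1, c2⟩ := Sf hc
      refine h.ker' c1 [n * b, r] (by simp [hf, hr]) span ?_
      simp only [List.mem_cons, List.not_mem_nil, or_false, forall_eq_or_imp, forall_eq]
      refine ⟨c2, h.fix_z c1 hr (span _ (mul_mem (h.nR c c1 r hr) (inv_mem hr)) ?_)⟩
      simp only [List.mem_cons, List.not_mem_nil, or_false, forall_eq_or_imp, forall_eq]
      refine ⟨(h.cml (h.nR c c1 r hr) (inv_mem hr) hf).2 (iff_of_false (fun e => fr ?_)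
        fun e => fr (Commute.inv_left_iff.1 e).symm), h2.mul_left (Commute.refl r).inv_left⟩
      rw [← cm_cj c]
      rcases c2 with e' | e' <;> rw [e']
      · exact e.symm
      · exact (e.mul_right (h.Rz (h.nR c c1 r hr))).symm
    intro c hc
    refine or_iff_not_imp_left.2 fun h2 => k _ (mul_mem hc hsS) ?_
    obtain ⟨c1, c2⟩ := Sf hc
    rw [cj_cj', esr, cj_mul', h.cml (h.nR c c1 n hn) (h.nR c c1 r hr) hr]
    refine iff_of_false (fun e => fr ?_) fun e => h2 (k c hc e)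
    have a1 : Commute (c * (n * b) * c⁻¹) r := by
      rw [cj_mul']
      refine e.mul_left ?_
      rcases h.nb c c1 with e | e <;> rw [e]
      exacts [(h.cb r hr).symm, (h.cb r hr).symm.inv_left]
    rcases c2 with e' | e' <;> rw [e'] at a1
    · exact a1
    · exact ((h.cm_z hr).1 a1.symm).symm
  -- the subgroup of index two
  have zn : z ∈ zpowers n := en ▸ mul_mem (mem_zpowers n) (mem_zpowers n)
  set N0 := zpowers n ⊔ zpowers r with hN0
  have n0 : n ∈ N0 := mem_sup_left (mem_zpowers n)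
  have r0 : r ∈ N0 := mem_sup_right (mem_zpowers r)
  have z0 : z ∈ N0 := mem_sup_left zn
  have N0Q : N0 ≤ Q := sup_le (zpowers_le.2 hn) (zpowers_le.2 hr)
  have bN0 : b ∉ N0 := fun e => by
    have a0 : ∀ y ∈ zpowers n, Commute y (n * b) := fun y hy => by
      obtain ⟨i, rfl⟩ := hy
      exact ((Commute.refl n).mul_right (h.cb n hn)).zpow_left i
    have b1 : ∀ y ∈ zpowers n, r * y * r⁻¹ ∈ zpowers n := fun y hy => by
      rcases h.cj_cases hr (zpowers_le.2 hn hy) with e | e <;> rw [e]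
      exacts [hy, mul_mem hy zn]
    have b2 : r * r ∈ zpowers n := by
      rcases h.sq r hr with e | e <;> rw [e]
      exacts [one_mem _, zn]
    rcases mem_ext b1 b2 e with e | e
    · have a1 : n * n * n * n = 1 := by rw [mul_assoc, en, h.zz]
      have a2 : Commute n r := by
        by_contra a2
        obtain ⟨i, hi⟩ := e
        obtain ⟨j, rfl | rfl⟩ := Int.even_or_odd' i
        · have : b * b = 1 := by
            rw [← hi]
            simp only [zpow_mul, zpow_two, en]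
            rw [← (Commute.refl z).mul_zpow, h.zz, one_zpow]
          exact h.z1 (h.bb ▸ this)
        · refine a2 ?_
          have a3 := (h.cb r hr).symm
          rw [← hi] at a3
          simp only [zpow_add, zpow_mul, zpow_two, en, zpow_one] at a3
          simpa using ((h.Rz hr).symm.zpow_left j).inv_left.mul_left a3
      exact fr (a2.mul_left (h.cb r hr).symm)
    · have := a0 _ e
      rw [h.cml hb hr hf] at this
      exact fr (this.1 (h.cb _ hf).symm).symm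
  have sN0 : ∀ y ∈ N0, s * y * s⁻¹ ∈ N0 := by
    have : cj s N0 ≤ N0 := by
      rw [hN0, cj, Subgroup.map_sup, MonoidHom.map_zpowers, MonoidHom.map_zpowers]
      refine sup_le (zpowers_le.2 ?_) (zpowers_le.2 ?_)
      · change s * n * s⁻¹ ∈ _
        rw [ei]; exact inv_mem n0
      · change s * r * s⁻¹ ∈ _
        rw [esr]; exact mul_mem n0 r0
    exact fun y hy => this (conj_mem_cj hy)
  set M := N0 ⊔ zpowers s with hM
  have sM : s ∈ M := mem_sup_right (mem_zpowers s)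
  have N0M : N0 ≤ M := le_sup_left
  have bM : b ∉ M := fun e => by
    rcases mem_ext sN0 (N.h'.zz ▸ one_mem _) e with e | e
    · exact bN0 e
    · exact N.sb (h.cb s ((mul_mem_cancel_left hb).1 (N0Q e)))
  have zbN : ∀ q ∈ zpowers b, q ∈ N0 ∨ q * b ∈ N0 := fun q hq => by
    rcases h.mem_zb.1 hq with e | e | e | e <;> rw [e]
    · exact Or.inl (one_mem _)
    · exact Or.inl z0
    · exact Or.inr (h.bb ▸ z0)
    · right; rw [← h.binv, inv_mul_cancel]; exact one_mem _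
  have KN : ∀ q ∈ Q, s ∈ h.Fx q → q ∈ N0 ∨ q * b ∈ N0 := fun q hq h2 => by
    rcases kf q hq h2 with e | e
    · exact zbN q e
    · rcases zbN _ e with e | e
      · right
        rwa [(h.cb n hn).eq, ← mul_assoc, mul_mem_cancel_right n0] at e
      · left
        rwa [mul_assoc, mul_assoc, h.bb, mul_mem_cancel_right (mul_mem n0 z0)] at e
  have QN : ∀ q ∈ Q, q ∈ N0 ∨ q * b ∈ N0 := fun q hq => by
    rcases two q hq with e | e
    · exact KN q hq e
    · rcases KN _ (mul_mem hq hr) e with e | e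
      · exact Or.inl ((mul_mem_cancel_right r0).1 e)
      · right
        rwa [mul_assoc, (h.cb r hr).eq, ← mul_assoc, mul_mem_cancel_right r0] at e
  refine transfer4 hG S (N := M) (comm_mem (a := b) fun c hc => ?_) (hQS hb) (by rw [h.bb, h.zz]) bM
    (fun g hg => ?_) fun g hg => ?_
  · rcases SQ c hc with e | e
    · exact (QN c e).imp (fun e => N0M e) fun e => N0M e
    · rcases QN _ e with e | e
      · exact Or.inl ((mul_mem_cancel_right sM).1 (N0M e))
      · right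
        have : c * b = c * s * b * z * s := by
          rw [mul_assoc _ b z, ← h.inv_b' N.sz N.sb, N.sinv]
          calc c * b = c * (s * s) * b * (s * s) := by rw [N.h'.zz]; group
            _ = _ := by group
        rw [this]
        exact mul_mem (mul_mem (N0M e) (N0M z0)) sM
  · rw [h.bb] at hg ⊢
    rcases SQ _ hg with e | e
    · rw [N.hn g (h.cb _ e).symm]; exact N0M z0
    obtain ⟨k, hk⟩ := N.cjz
    have hu : g * k * s * (g * k)⁻¹ = g * z * g⁻¹ := by rw [cj_cj', hk]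
    have uu := (h.conj g).zz
    obtain ⟨u, hu'⟩ : ∃ u, u = g * z * g⁻¹ := ⟨_, rfl⟩
    rw [← hu'] at hg e hu uu ⊢
    have eu : u = s * (s * u) := by rw [← mul_assoc, N.h'.zz, one_mul]
    have a1 : (u * s)⁻¹ = s * u := by rw [mul_inv_rev, N.sinv, inv_of_sq uu]
    have a2 : s * u ∈ Q := a1 ▸ inv_mem e
    have a3 : s ∈ h.Fx (s * u) := by
      refine ⟨N.sz, ?_⟩
      rw [← eu, N.sinv, ← inv_inv (u * s), a1]
      exact h.inv_cases a2
    refine (mul_mem_cancel_left sM).1 (N0M ((KN _ a2 a3).resolve_right fun a4 => ?_))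
    have a5 : r * (g * k) * s * (r * (g * k))⁻¹ = s * n * (r * (s * u) * r⁻¹) := by
      rw [cj_cj', hu, ← e0, ← cj_mul', ← eu]
    rcases kf _ a2 a3 with a6 | a6
    · rw [cm_iff.2 (h.cm_zb hr a6)] at a5
      refine nf (r * (g * k)) ?_
      rw [a5]
      rcases h.mem_zb.1 a6 with a7 | a7 | a7 | a7 <;> rw [a7] at a4 ⊢
      · exact absurd (by simpa using a4) bN0
      · exact absurd ((mul_mem_cancel_left z0).1 a4) bN0
      · left; group
      · right; group
    · refine nf (g * k) ?_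
      have a8 : s * u = s * u * (n * b) * (n * b) := by rw [mul_assoc, N.elem hf fs, mul_one]
      rw [hu, eu, a8]
      rw [a8] at a4
      rcases h.mem_zb.1 a6 with a7 | a7 | a7 | a7 <;> rw [a7] at a4 ⊢
      · left; group
      · right; rw [(h.Rz hf).eq]
      · refine absurd ?_ bN0
        rwa [mul_assoc, mul_assoc, h.bb, mul_mem_cancel_right (mul_mem n0 z0)] at a4
      · refine absurd ?_ bN0
        rwa [mul_assoc, mul_assoc n, h.bb, mul_mem_cancel_right (mul_mem n0 z0),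
          mul_mem_cancel_right z0] at a4
  · have a1 := h.ti S.2 (g := 1) (by simpa using hQS hb) hg
    simp only [one_mul, inv_one, mul_one] at a1
    have a2 := N.hn g (by rw [← (h.conj g).bb]; exact a1.mul_right a1)
    rcases h.nb g (cm_iff.1 a2) with e | e <;> rw [e]
    · exact h.bb ▸ N0M z0
    · simp

end Nad

theorem caseC [IsSimpleGroup G] (hG : ¬ IsMulCommutative G) {z b : G} {R Q : Subgroup G}
    (h : Loc z b R Q) (hn : ∀ g, Commute b (g * z * g⁻¹) → g * z * g⁻¹ = z)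
    (hAB : Q = R ∨ ∃ β, Big z b β R Q) :
    Cfsg.PRankLE 2 2 G ∧ ∀ s : G, orderOf s = 2 → IsPGroup 2 (centralizer ({s} : Set G)) := by
  obtain ⟨g, h1, h2⟩ := not_isolated hG h.ord
  have hn' : ∀ k, Commute (g * b * g⁻¹) (k * (g * z * g⁻¹) * k⁻¹) →
      k * (g * z * g⁻¹) * k⁻¹ = g * z * g⁻¹ := fun k e => by
    have e1 : k * (g * z * g⁻¹) * k⁻¹ = g * (g⁻¹ * k * g * z * (g⁻¹ * k * g)⁻¹) * g⁻¹ := by group
    rw [e1] at e ⊢
    rw [hn _ ((cm_cj g).1 e)]
  have N : Nad z b (g * z * g⁻¹) (g * b * g⁻¹) R Q _ _ := ⟨⟨h, h.conj g, h1.symm,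
    fun e => h2 (hn g e.symm), fun e => h2 (by simpa [mul_assoc] using
      (hn' g⁻¹ (by simpa [mul_assoc] using e.symm)).symm)⟩, hn, hn', g⁻¹, by group⟩
  have h3 : ∀ r ∈ R, g * z * g⁻¹ ∈ h.Fx r := fun r hr => by
    rcases hAB with e | ⟨β, hB⟩
    exacts [N.small hG e hr, N.big hB hr]
  have h4 : ∀ r ∈ R, r ∈ zpowers b := fun r hr =>
    h.cen r hr fun q hq => N.fix_cm hr hq (h3 r hr) (h3 q hq)
  rcases hAB with rfl | ⟨β, hB⟩
  · exact absurd (h.cb _ (h.ker _ h1.symm fun r hr => h.zb_of_fix hr (h3 r hr).2)) N.sb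
  · exact N.cit hG h4 (hB.b3 h4)

end H16.SY
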