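import Mathlib
import Cfsg.Agent.H16.YC

/-!
# The family of the subgroups `O₂(C(u))` for the conjugates `u` of `z`
-/

set_option autoImplicit false
set_option linter.unusedSectionVars false

open Subgroup H22

namespace H16.SY

variable {G : Type*} [Group G] [Finite G]

/-- `D` is a class of involutions, `Q u = O₂(C(u))` has centre `⟨b u⟩` of order four. -/
structure Fam (D : Set G) (Q : G → Subgroup G) (b : G → G) : Prop where
  loc : ∀ {u}, u ∈ D → Loc u (b u) (Q u) (Q u)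
  cjD : ∀ {u}, u ∈ D → ∀ g, g * u * g⁻¹ ∈ D
  tr : ∀ {u v}, u ∈ D → v ∈ D → ∃ g, g * u * g⁻¹ = v
  cjQ : ∀ {u v g x}, u ∈ D → g * u * g⁻¹ = v → x ∈ Q u → g * x * g⁻¹ ∈ Q v
  cjb : ∀ {u v g}, u ∈ D → g * u * g⁻¹ = v → g * b u * g⁻¹ = b v ∨ g * b u * g⁻¹ = (b v)⁻¹
  ti : ∀ {u v} {P : Subgroup G}, u ∈ D → v ∈ D → IsPGroup 2 P → b u ∈ P → b v ∈ P →
    Commute (b u) (b v)

theorem Loc.exists_fam {z b : G} {Q : Subgroup G} (h : Loc z b Q Q) :
    ∃ (D : Set G) (Q : G → Subgroup G) (b : G → G), Fam D Q b ∧ z ∈ D := by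
  classical
  let D : Set G := {u | ∃ g, g * z * g⁻¹ = u}
  have : ∀ u, ∃ g, u ∈ D → g * z * g⁻¹ = u := fun u => by
    by_cases hu : u ∈ D
    · exact hu.imp fun g hg _ => hg
    · exact ⟨1, fun e => absurd e hu⟩
  choose γ hγ using this
  have hD : ∀ {u}, u ∈ D → ∀ g, g * u * g⁻¹ ∈ D := by
    rintro _ ⟨k, rfl⟩ g
    exact ⟨g * k, cj_cj' _ _ _⟩
  have key : ∀ {u v g}, u ∈ D → g * u * g⁻¹ = v → Commute ((γ v)⁻¹ * g * γ u) z := by
    intro u v g hu e
    have h1 := hγ u hu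
    have h2 := hγ v (e ▸ hD hu g)
    rw [← cm_iff]
    calc _ = (γ v)⁻¹ * (g * (γ u * z * (γ u)⁻¹) * g⁻¹) * γ v := by group
      _ = (γ v)⁻¹ * (γ v * z * (γ v)⁻¹) * γ v := by rw [h1, e, h2]
      _ = z := by group
  refine ⟨D, fun u => cj (γ u) Q, fun u => γ u * b * (γ u)⁻¹, ⟨fun {u} hu => ?_, hD, ?_, ?_, ?_, ?_⟩,
    1, by group⟩
  · have := h.conj (γ u)
    rwa [hγ u hu] at this
  · rintro _ _ ⟨g, rfl⟩ ⟨k, rfl⟩
    exact ⟨k * g⁻¹, by group⟩
  · intro u v g x hu e hx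
    have := h.nQ _ (key hu e) _ (mem_cj.1 hx)
    rw [mem_cj]; convert this using 1; group
  · intro u v g hu e
    have e1 : g * (γ u * b * (γ u)⁻¹) * g⁻¹ =
      γ v * ((γ v)⁻¹ * g * γ u * b * ((γ v)⁻¹ * g * γ u)⁻¹) * (γ v)⁻¹ := by group
    rcases h.nb _ (key hu e) with e' | e' <;> rw [e1, e']
    · exact Or.inl rfl
    · exact Or.inr (cj_inv' _ _)
  · intro u v P _ _ hP h1 h2
    exact h.ti hP h1 h2

namespace Fam

variable {D : Set G} {Q : G → Subgroup G} {b : G → G} (F : Fam D Q b)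
  {u v g x y w a c : G}
include F

theorem cjD' (hu : u ∈ D) (e : g * u * g⁻¹ = v) : v ∈ D := e ▸ F.cjD hu g

theorem cjQ' (hu : u ∈ D) (e : g * u * g⁻¹ = v) (hx : g * x * g⁻¹ ∈ Q v) : x ∈ Q u := by
  have := F.cjQ (g := g⁻¹) (v := u) (F.cjD' hu e) (by rw [← e]; group) hx
  simpa [mul_assoc] using this

theorem cmb_cj (hu : u ∈ D) (e : g * u * g⁻¹ = v) : Commute (g * x * g⁻¹) (b v) ↔ Commute x (b u) := by
  rw [← cm_cj g (x := x)]
  rcases F.cjb hu e with e' | e' <;> rw [e']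
  rw [Commute.inv_right_iff]

theorem b_pow (hu : u ∈ D) : b u ^ 2 ^ 2 = 1 := (F.loc hu).b4

theorem pg_b (hu : u ∈ D) (hv : v ∈ D) (h : Commute (b v) u) : IsPGroup 2 ↥(Q u ⊔ zpowers (b v)) :=
  pg_ext (F.loc hu).pg ((F.loc hu).nQ _ h) (F.b_pow hv)

theorem cm_bb (hu : u ∈ D) (hv : v ∈ D) (h : Commute (b u) v) : Commute (b u) (b v) :=
  F.ti hu hv (F.pg_b hv hu h) (mem_sup_right (mem_zpowers _)) (mem_sup_left (F.loc hv).bR)

theorem cm_sq (hu : u ∈ D) (h : Commute x (b u)) : Commute x u :=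
  (F.loc hu).bb ▸ h.mul_right h

theorem adj (hu : u ∈ D) (hv : v ∈ D) (h : Commute (b u) v) : v ∈ Q u := by
  have h1 : Commute (b v) u := F.cm_sq hu (F.cm_bb hu hv h).symm
  have L := F.loc hu
  have L' := F.loc hv
  refine L.ker v (L'.bb ▸ h1.mul_left h1) fun r hr => ?_
  have hb : b v ∈ Q u ⊔ zpowers (b v) := mem_sup_right (mem_zpowers _)
  have h2 : r * b v * r⁻¹ ∈ Q u ⊔ zpowers (b v) :=
    mul_mem (mul_mem (mem_sup_left hr) hb) (inv_mem (mem_sup_left hr))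
  have h3 : Commute (r * b v * r⁻¹) (b v) := by
    rcases F.cjb hv (g := r) rfl with e | e <;> rw [e] at h2 ⊢
    · exact F.ti (F.cjD hv r) hv (F.pg_b hu hv h1) h2 hb
    · exact (F.ti (F.cjD hv r) hv (F.pg_b hu hv h1) (inv_mem_iff.1 h2) hb).inv_left
  have h4 : r * b v * r⁻¹ * (b v)⁻¹ ∈ Q u := by
    have := mul_mem hr (L.nQ _ h1 _ (inv_mem hr))
    simpa [mul_assoc] using this
  obtain ⟨n, hn⟩ : ∃ n, n = r * b v * r⁻¹ * (b v)⁻¹ := ⟨_, rfl⟩
  have h5 : Commute n (b v) := hn ▸ h3.mul_left (Commute.refl _).inv_left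
  have h6 : r * v * r⁻¹ = n * n * v := by
    have : r * b v * r⁻¹ = n * b v := by rw [hn]; group
    conv_lhs => rw [← L'.bb, cj_mul', this, ← pow_two, h5.mul_pow, pow_two, pow_two, L'.bb]
  have h7 : v * r * v⁻¹ * r⁻¹ = v * (n * n) * v⁻¹ := by
    rw [L'.zinv, mul_assoc, mul_assoc, ← mul_assoc r, h6, ← mul_assoc]
  rw [h7, cm_iff.2 ((F.cm_sq hv h5).symm.mul_right (F.cm_sq hv h5).symm)]
  rcases L.sq n (hn ▸ h4) with e | e <;> rw [e]
  exacts [one_mem _, L.zb]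

theorem adj_iff (hu : u ∈ D) (hv : v ∈ D) : v ∈ Q u ↔ Commute v (b u) :=
  ⟨(F.loc hu).cb v, fun h => F.adj hu hv h.symm⟩

theorem bb (hu : u ∈ D) (hv : v ∈ D) (h : v ∈ Q u) : Commute (b u) (b v) :=
  F.cm_bb hu hv ((F.loc hu).cb v h).symm

theorem symm (hu : u ∈ D) (hv : v ∈ D) (h : v ∈ Q u) : u ∈ Q v :=
  F.adj hv hu (F.cm_sq hu (F.bb hu hv h).symm)

theorem na (hu : u ∈ D) (hv : v ∈ D) (hc : Commute v u) (h : v ∉ Q u) :
    Na u (b u) v (b v) (Q u) (Q u) (Q v) (Q v) :=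
  ⟨F.loc hu, F.loc hv, hc, fun e => h ((F.adj_iff hu hv).2 e),
    fun e => h (F.symm hv hu ((F.adj_iff hv hu).2 e))⟩

theorem mulD (hu : u ∈ D) (hv : v ∈ D) (hc : Commute v u) (h : v ≠ u) : v * u ∈ D := by
  by_cases h1 : v ∈ Q u
  · obtain ⟨x, -, e⟩ := (F.loc hu).exists_swap h1 (F.loc hv).zz (F.loc hv).z1 h
    exact F.cjD' hv e
  · exact F.cjD' hv ((F.loc hu).cj_by_b hc (F.na hu hv hc h1).sb)

theorem sq_I (hu : u ∈ D) (hv : v ∈ D) (h : v ≠ u) (h1 : x ∈ Q u) (h2 : x ∈ Q v) : x * x = 1 :=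
  ((F.loc hu).sq x h1).elim id fun e => ((F.loc hv).sq x h2).resolve_right fun e' =>
    h (e'.symm.trans e)

theorem cm_I (hu : u ∈ D) (hv : v ∈ D) (h : v ≠ u) (h1 : x ∈ Q u) (h2 : x ∈ Q v) (h3 : y ∈ Q u)
    (h4 : y ∈ Q v) : Commute x y :=
  cm_of_sq (F.sq_I hu hv h h1 h2) (F.sq_I hu hv h h3 h4)
    (F.sq_I hu hv h (mul_mem h1 h3) (mul_mem h2 h4))

theorem third (hu : u ∈ D) (hv : v ∈ D) (h : v ∈ Q u) (hne : v ≠ u) (h1 : a ∈ Q u) (h2 : a ∈ Q v) :
    a ∈ Q (v * u) := by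
  have L := F.loc hu
  obtain ⟨x, hx, e⟩ := L.exists_swap h (F.loc hv).zz (F.loc hv).z1 hne
  have h3 := F.cjQ hv e h2
  have h4 : u ∈ Q (v * u) := by
    have := F.cjQ hv e (F.symm hu hv h)
    rwa [cm_iff.2 (L.Rz hx)] at this
  rcases L.cj_cases hx h1 with e' | e' <;> rw [e'] at h3
  · exact h3
  · exact (mul_mem_cancel_right h4).1 h3

theorem bbQ (hu : u ∈ D) (hv : v ∈ D) (h : v ∈ Q u) (hne : v ≠ u)
    (hw : w = b (v * u) ∨ w = (b (v * u))⁻¹) : b v * w ∈ Q u := by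
  have L := F.loc hu
  obtain ⟨x, hx, e⟩ := L.exists_swap h (F.loc hv).zz (F.loc hv).z1 hne
  have h1 : b v * (x * b v * x⁻¹) ∈ Q u := by
    have := mul_mem (mul_mem (L.nQ _ (F.cm_sq hu (F.bb hu hv h).symm) x hx) h) (inv_mem hx)
    have e2 := (F.loc hv).bb
    generalize b v = β at this e2 ⊢
    rw [← e2] at this
    convert this using 1
    group
  have L' := F.loc (F.cjD' hv e)
  have h2 : v * u ∈ Q u := mul_mem h L.zR
  rcases F.cjb hv e with e1 | e1 <;> rcases hw with rfl | rfl <;> rw [e1] at h1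
  · exact h1
  · rw [L'.binv, ← mul_assoc]; exact mul_mem h1 h2
  · rw [L'.binv, ← mul_assoc] at h1; exact (mul_mem_cancel_right h2).1 h1
  · exact h1

theorem lam (hu : u ∈ D) (hv : v ∈ D) (h : v ∈ Q u) (hne : v ≠ u)
    (hw : w = b (v * u) ∨ w = (b (v * u))⁻¹) (hy : y ∈ Q u) (hc : Commute y v) :
    (Commute y (b v) ↔ Commute y w) ∧ (Commute y (b v) ↔ Commute y (b v * w)) := by
  have L := F.loc hu
  have L1 := F.loc hv
  have hD := F.mulD hu hv (L.Rz h) hne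
  have L2 := F.loc hD
  have hm := F.bbQ hu hv h hne hw
  have hc2 := hc.mul_right (L.Rz hy)
  have wv : Commute w v := by
    have := L2.cb v (F.third hu hv h hne h L1.zR)
    rcases hw with rfl | rfl
    exacts [this.symm, this.symm.inv_left]
  have k : ¬ Commute y w → y * w * y⁻¹ = w * (v * u) := fun e => by
    rcases hw with rfl | rfl
    · exact L2.inv_b' hc2 e
    · rw [cj_inv', L2.inv_b hc2 (by simpa using e), inv_inv, L2.binv, L2.mzz]
  by_cases h1 : Commute y (b v) <;> by_cases h2 : Commute y w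
  · simp [h1, h2, h1.mul_right h2]
  · exfalso
    have e : y * (b v * w) * y⁻¹ = b v * w * (v * u) := by rw [cj_mul', cm_iff.2 h1, k h2, mul_assoc]
    rcases L.cj_cases hy hm with e' | e' <;> rw [e] at e'
    · exact L2.z1 (mul_eq_left.1 e')
    · exact L1.z1 (mul_eq_right.1 (mul_left_cancel e'))
  · exfalso
    have e : y * (b v * w) * y⁻¹ = b v * w * v := by
      rw [cj_mul', cm_iff.2 h2, L1.inv_b' hc h1, mul_assoc, ← wv.eq, mul_assoc]
    rcases L.cj_cases hy hm with e' | e' <;> rw [e] at e'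
    · exact L1.z1 (mul_eq_left.1 e')
    · exact hne (mul_left_cancel e')
  · have e : y * (b v * w) * y⁻¹ = b v * w * u := by
      rw [cj_mul', k h2, L1.inv_b' hc h1, mul_assoc, ← mul_assoc v, ← wv.eq, mul_assoc w,
        ← mul_assoc v, L1.zz, one_mul, mul_assoc]
    simp [h1, h2, L.ne_cj e]

theorem wl (hu : u ∈ D) (hv : v ∈ D) (h : v ∈ Q u) (ha : a ∈ Q v) (hy : y ∈ Q u)
    (hn : ¬ Commute y v) (hf : a ∈ (F.loc hu).Fx y) : a ∈ Q u := by
  have L := F.loc hu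
  have L1 := F.loc hv
  have hne : v ≠ u := fun e => hn (e ▸ L.Rz hy)
  have e := L.cj_ne hy h hn
  have h1 : a ∈ Q (v * u) := by
    rcases hf.2 with e' | e'
    · have := F.cjQ hv e ha
      rwa [cm_iff.2 (cm_iff.1 e').symm] at this
    · have := F.cjQ hv e (mul_mem (F.symm hu hv h) ha)
      rwa [← mul_assoc, ← e', inv_mul_cancel_right, mul_inv_cancel_right] at this
  have hD := F.cjD' hv e
  have := F.third hv hD (mul_mem L1.zR (F.symm hu hv h))
    (fun e => L.z1 (mul_eq_left.1 e)) ha h1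
  rwa [mul_assoc, ← (L.Rz h).eq, ← mul_assoc, L1.zz, one_mul] at this

theorem swap (hu : u ∈ D) (hv : v ∈ D) (h : v ∈ Q u) (hne : v ≠ u) :
    ∃ n, n * u * n⁻¹ = v ∧ n * v * n⁻¹ = u := by
  have L := F.loc hu
  have L1 := F.loc hv
  obtain ⟨x, hx, e⟩ := L.exists_swap h L1.zz L1.z1 hne
  obtain ⟨y, hy, e'⟩ := L1.exists_swap (F.symm hu hv h) L.zz L.z1 hne.symm
  have e1 := cm_iff.2 (L.Rz hx)
  have e2 := cm_iff.2 (L1.Rz hy)
  refine ⟨x * y * x, ?_, ?_⟩ <;> rw [cj_cj', cj_cj']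
  · rw [e1, e', cj_mul', e1, e, (L.Rz h).eq, ← mul_assoc, L.zz, one_mul]
  · rw [e, cj_mul' y, e2, e', ← (L.Rz h).eq, ← mul_assoc v, L1.zz, one_mul, e1]

/-- a point adjacent to both members of a non-commuting pair is the base point. -/
theorem zb (hu : u ∈ D) (hc : c ∈ D) (hx : x ∈ Q u) (hy : y ∈ Q u) (hn : ¬ Commute x y)
    (h1 : x ∈ Q c) (h2 : y ∈ Q c) : c = u :=
  mul_left_cancel (((F.loc hc).cj_ne h1 h2 hn).symm.trans ((F.loc hu).cj_ne hx hy hn))

/-- every point has a non-adjacent point. -/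
theorem exists_nadj (hu : u ∈ D) (hv : v ∈ D) (h : v ∈ Q u) (hne : v ≠ u) :
    ∃ q ∈ D, q ∈ Q u ∧ q ∉ Q v := by
  by_contra hn
  push Not at hn
  have L := F.loc hu
  let s : Set G := {y | ∃ c, Commute c u ∧ y = c * b v * c⁻¹}
  have h0 : ∀ c, Commute c u → ∀ q ∈ D, q ∈ Q u → q ∈ Q (c * v * c⁻¹) := fun c hc q hq hq' => by
    have := F.cjQ hv (g := c) rfl (hn _ (F.cjD hq c⁻¹) (L.nQ _ hc.inv_left q hq'))
    simpa [mul_assoc] using this
  have h1 : ∀ y ∈ s, ∀ y' ∈ s, y * y' = y' * y := by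
    rintro _ ⟨c, hc, rfl⟩ _ ⟨c', hc', rfl⟩
    have := F.bb (F.cjD hv c) (F.cjD hv c') (h0 c hc _ (F.cjD hv c') (L.nQ _ hc' v h))
    change Commute _ _
    rcases F.cjb hv (g := c) rfl with e | e <;> rcases F.cjb hv (g := c') rfl with e' | e' <;>
      rw [e, e'] <;> simp [this]
  have h2 : b v ∈ Q u := by
    refine L.max (closure s) ?_ ?_ ?_ (subset_closure ⟨1, Commute.one_left u, by group⟩)
    · rintro ⟨y, hy⟩
      refine ⟨2, Subtype.ext ?_⟩
      simp only [SubmonoidClass.coe_pow, OneMemClass.coe_one]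
      induction hy using closure_induction with
      | mem y hy =>
        obtain ⟨c, -, rfl⟩ := hy
        rw [conj_pow, F.b_pow hv]; group
      | one => exact one_pow _
      | mul y y' hy hy' e e' =>
        have := isMulCommutative_closure h1
        have : Commute y y' := setLike_mul_comm (s := closure s) hy hy'
        rw [this.mul_pow, e, e', one_mul]
      | inv y hy e => rw [inv_pow, e, inv_one]
    · intro y hy
      refine (closure_le (centralizer {u})).2 ?_ hy |> mem_centralizer_singleton_iff.1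
      rintro _ ⟨c, hc, rfl⟩
      exact mem_centralizer_singleton_iff.2
        ((hc.mul_left (F.cm_sq hu (F.bb hu hv h).symm)).mul_left hc.inv_left)
    · intro c hc y hy
      have : cj c (closure s) ≤ closure s := by
        rw [cj, MonoidHom.map_closure]
        refine Subgroup.closure_mono ?_
        rintro _ ⟨_, ⟨c', hc', rfl⟩, rfl⟩
        exact ⟨c * c', hc.mul_left hc', (cj_cj' _ _ _).symm⟩
      exact this (conj_mem_cj hy)
  rcases L.sq _ h2 with e | e <;> rw [(F.loc hv).bb] at e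
  exacts [(F.loc hv).z1 e, hne e]

end Fam

end H16.SY
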