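import Mathlib
import Cfsg.Agent.H16.YF

/-!
# The case that the conjugates of `z` in `Q` commute
-/

set_option autoImplicit false
set_option linter.unusedSectionVars false

open Subgroup H22

namespace H16.SY

variable {G : Type*} [Group G] [Finite G]

theorem Loc.Fx_mul {z b x y c : G} {R Q : Subgroup G} (h : Loc z b R Q) (hy : Commute y z)
    (h1 : c ∈ h.Fx x) (h2 : c ∈ h.Fx y) : c ∈ h.Fx (x * y) := by
  refine ⟨h1.1, ?_⟩
  rw [cj_mul']
  rcases h1.2 with e | e <;> rcases h2.2 with e' | e' <;> rw [e, e']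
  · exact Or.inl rfl
  · exact Or.inr (mul_assoc _ _ _).symm
  · right; rw [mul_assoc, ← hy.eq, mul_assoc]
  · left; rw [mul_assoc, ← mul_assoc z, ← hy.eq, h.mzz]

theorem Loc.Fx_of_cm {z b x c : G} {R Q : Subgroup G} (h : Loc z b R Q) (hc : Commute c z)
    (h1 : Commute c x) : c ∈ h.Fx x := ⟨hc, Or.inl (cm_iff.2 h1)⟩

theorem Loc.cm_Fx {z b x y c : G} {R Q : Subgroup G} (h : Loc z b R Q) (hy : y ∈ R)
    (h1 : c ∈ h.Fx x) : Commute (c * y * c⁻¹) x ↔ Commute y x := by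
  rw [← cm_cj c (x := y)]
  rcases h1.2 with e | e <;> rw [e]
  rw [h.cm_z (h.nR c h1.1 y hy)]

namespace Fam

variable {D : Set G} {Q : G → Subgroup G} {b : G → G} (F : Fam D Q b)
  {u v g x y w a c q : G}
include F

theorem ifix (hu : u ∈ D) (hv : v ∈ D) (h : v ∈ Q u) (hne : v ≠ u)
    (hw : w = b (v * u) ∨ w = (b (v * u))⁻¹) (hg : g ∈ (F.loc hu).Fx v) :
    g ∈ (F.loc hu).Fx (b v * w) ∨ g * (b v * w) * g⁻¹ = b v * w * v ∨
      g * (b v * w) * g⁻¹ = b v * w * v * u := by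
  have L := F.loc hu
  have L1 := F.loc hv
  have hD := F.mulD hu hv (L.Rz h) hne
  have L2 := F.loc hD
  have a1 : v ∈ Q (v * u) := F.third hu hv h hne h L1.zR
  have c1 : Commute (b v) w := by
    have := (F.bb hD hv a1).symm
    rcases hw with rfl | rfl
    exacts [this, this.inv_right]
  have c2 : Commute w v := F.cm_sq hv c1.symm
  have hw' : ∀ y, y = b (v * u) ∨ y = (b (v * u))⁻¹ → y = w ∨ y = w * (v * u) := by
    rintro y (rfl | rfl) <;> rcases hw with rfl | rfl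
    · exact Or.inl rfl
    · right; rw [L2.binv, L2.mzz]
    · exact Or.inr L2.binv
    · exact Or.inl rfl
  have key : ∀ y y', y = b v ∨ y = (b v)⁻¹ → y' = b (v * u) ∨ y' = (b (v * u))⁻¹ →
      g * (b v * w) * g⁻¹ = y * y' → g ∈ (F.loc hu).Fx (b v * w) ∨
        g * (b v * w) * g⁻¹ = b v * w * v ∨ g * (b v * w) * g⁻¹ = b v * w * v * u := by
    intro y y' h1 h2 e
    rw [L1.binv] at h1
    rcases h1 with rfl | rfl <;> rcases hw' y' h2 with rfl | rfl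
    · exact Or.inl ⟨hg.1, Or.inl e⟩
    · right; right; rw [e]; group
    · right; left; rw [e, mul_assoc, ← c2.eq, mul_assoc]
    · refine Or.inl ⟨hg.1, Or.inr ?_⟩
      rw [e, mul_assoc, ← mul_assoc v, ← c2.eq, mul_assoc w, ← mul_assoc v, L1.zz, one_mul, mul_assoc]
  have inv : ∀ {y β : G}, y = β ∨ y = β⁻¹ → y⁻¹ = β ∨ y⁻¹ = β⁻¹ := by
    rintro y β (rfl | rfl)
    exacts [Or.inr rfl, Or.inl (inv_inv _)]
  have e0 := cm_iff.2 hg.1
  rcases hg.2 with e | e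
  · have e' : g * (v * u) * g⁻¹ = v * u := by rw [cj_mul', e, e0]
    refine key _ (g * w * g⁻¹) (F.cjb hv e) ?_ (cj_mul' _ _ _)
    rcases hw with rfl | rfl
    · exact F.cjb hD e'
    · rw [cj_inv']; exact inv (F.cjb hD e')
  · have e' : g * (v * u) * g⁻¹ = v := by rw [cj_mul', e, e0, L.mzz]
    refine key (g * w * g⁻¹) _ ?_ (F.cjb hv e) (by rw [c1.eq, cj_mul'])
    rcases hw with rfl | rfl
    · exact F.cjb hD e'
    · rw [cj_inv']; exact inv (F.cjb hD e')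

theorem lam' (hu : u ∈ D) (hv : v ∈ D) (h : v ∈ Q u) (hne : v ≠ u)
    (hw : w = b (v * u) ∨ w = (b (v * u))⁻¹) (ha : a ∈ Q v) (hc : Commute a u) :
    (Commute a (b u) ↔ Commute a w) ∧ (Commute a (b u) ↔ Commute a (b v * w)) := by
  have h1 := (F.lam hv hu (F.symm hu hv h) hne.symm (w := w)
    (by rwa [← ((F.loc hu).Rz h).eq]) ha hc).1
  refine ⟨h1, h1.trans ⟨fun e => ((F.loc hv).cb a ha).mul_right e, fun e => ?_⟩⟩
  simpa using ((F.loc hv).cb a ha).inv_right.mul_right e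

theorem b0 (hu : u ∈ D) (hv : v ∈ D) (h : v ∈ Q u) (hq : q ∈ D) (h1 : q ∈ Q u) (h2 : Commute q v)
    (h3 : q ∉ Q v) (ha : a ∈ Q v) (h4 : Commute a (b u)) (h5 : a ∈ (F.loc hu).Fx q) : a ∈ Q u := by
  have L := F.loc hu
  have hne : v ≠ u := fun e => h3 (e ▸ h1)
  have hqu : q ≠ u := fun e => h3 (e ▸ F.symm hu hv h)
  have j1 := F.bbQ hu hq h1 hqu (Or.inl rfl)
  have j2 : ¬ Commute v (b q * b (q * u)) := fun e =>
    h3 (F.symm hq hv ((F.adj_iff hq hv).2 ((F.lam hu hq h1 hqu (Or.inl rfl) h h2.symm).2.2 e)))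
  have m1 := F.bbQ hu hv h hne (Or.inl rfl)
  have m2 := (F.lam' hu hv h hne (Or.inl rfl) ha h5.1).2.1 h4
  have m3 : ¬ Commute q (b v * b (v * u)) := fun e =>
    h3 ((F.adj_iff hv hq).2 ((F.lam hu hv h hne (Or.inl rfl) h1 h2).2.2 e))
  have m4 := L.cm_Fx j1 (L.Fx_of_cm h5.1 m2)
  refine F.wl hu hv h ha j1 (fun e => j2 e.symm)
    ((F.ifix hu hq h1 hqu (Or.inl rfl) h5).resolve_right fun e => ?_)
  rcases e with e | e <;> rw [e] at m4
  · rw [L.cml j1 h1 m1] at m4; tauto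
  · rw [L.cml (mul_mem j1 h1) L.zR m1, L.cml j1 h1 m1] at m4
    have := (L.Rz m1).symm
    tauto

section P

variable (hP : ∀ u ∈ D, ∀ x ∈ D, ∀ y ∈ D, x ∈ Q u → y ∈ Q u → Commute x y)
include hP

theorem mul_nadj (hu : u ∈ D) (hv : v ∈ D) (h : v ∈ Q u) (hq : q ∈ D) (h1 : q ∈ Q u) (h3 : q ∉ Q v)
    (hx : x ∈ D) (h4 : x ∈ Q u) (h5 : x ∉ Q v) : x * q ∈ Q v := by
  by_cases e : x = q
  · rw [e, (F.loc hq).zz]; exact one_mem _
  · refine (F.adj_iff hv (F.mulD hq hx (hP u hu x hx q hq h4 h1) e)).2 ?_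
    rw [(F.loc hv).cmb (hP u hu x hx v hv h4 h) (hP u hu q hq v hv h1 h), ← F.adj_iff hv hx,
      ← F.adj_iff hv hq]
    tauto

theorem tv (hu : u ∈ D) (hv : v ∈ D) (h : v ∈ Q u) (hq : q ∈ D) (h1 : q ∈ Q u) (h3 : q ∉ Q v)
    (ha : a ∈ Q v) (h4 : Commute a u) (h5 : ∀ e ∈ D, e ∈ Q u → e ∈ Q v → Commute a e) :
    a ∈ (F.loc hu).Fx q ∨ a * b v ∈ (F.loc hu).Fx q := by
  have L := F.loc hu
  have L1 := F.loc hv
  have Lq := F.loc hq
  have h2 := hP u hu q hq v hv h1 h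
  have key : ∀ c ∈ D, c ∈ Q u → (∀ e ∈ D, e ∈ Q u → e ∈ Q v → c ∈ Q e) → c ∈ Q q → c = u := by
    intro c hc c1 c2 c3
    by_contra hn
    obtain ⟨p, p1, p2, p3⟩ := F.exists_nadj hu hc c1 hn
    by_cases p4 : p ∈ Q v
    · exact p3 (F.symm p1 hc (c2 p p1 p2 p4))
    by_cases e : p = q
    · exact p3 (e ▸ F.symm hq hc c3)
    have p5 := F.mulD hq p1 (hP u hu p p1 q hq p2 h1) e
    have := F.symm p5 hc (c2 _ p5 (mul_mem p2 h1) (F.mul_nadj hP hu hv h hq h1 h3 p1 p2 p4))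
    exact p3 ((mul_mem_cancel_right (F.symm hq hc c3)).1 this)
  by_cases e0 : a * q * a⁻¹ = q
  · exact Or.inl ⟨h4, Or.inl e0⟩
  have q1 := F.cjD hq a
  have q2 := L.nQ a h4 q h1
  have c0 := F.mulD hq q1 (hP u hu _ q1 q hq q2 h1) e0
  have c1 := mul_mem q2 h1
  have c2 : ∀ e ∈ D, e ∈ Q u → e ∈ Q v → a * q * a⁻¹ * q ∈ Q e := fun e he e1 e2 => by
    rw [F.adj_iff he c0, (F.loc he).cmb (hP u hu _ q1 e he q2 e1) (hP u hu q hq e he h1 e1),
      F.cmb_cj he (cm_iff.2 (h5 e he e1 e2))]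
  have eq : ∀ y, a * q * a⁻¹ * q = y → a * q * a⁻¹ = y * q := fun y e => by
    rw [← e, Lq.mzz]
  have eb : a * b v * q * (a * b v)⁻¹ = a * q * a⁻¹ * v := by
    rw [cj_cj', L1.cj_by_b h2 (F.na hv hq h2 h3).sb, cj_mul', cm_iff.2 (L1.Rz ha)]
  have hab : Commute (a * b v) u := h4.mul_left (F.cm_sq hu (F.bb hu hv h).symm)
  by_cases c3 : a * q * a⁻¹ * q ∈ Q q
  · exact Or.inl ⟨h4, Or.inr (by rw [eq _ (key _ c0 c1 c2 c3), (L.Rz h1).eq])⟩
  right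
  by_cases c4 : a * q * a⁻¹ * q = v
  · exact ⟨hab, Or.inl (by rw [eb, eq _ c4, ← h2.eq, L1.mzz])⟩
  have c5 := F.mulD hv c0 (hP u hu _ c0 v hv c1 h) c4
  have := key _ c5 (mul_mem c1 h) (fun e he e1 e2 => mul_mem (c2 e he e1 e2) (F.symm hv he e2))
    (F.mul_nadj hP hu hq h1 hv h (fun e => h3 (F.symm hq hv e)) c0 c1 c3)
  refine ⟨hab, Or.inr ?_⟩
  rw [eb, (L.Rz h1).eq, ← this, mul_assoc _ v q, ← h2.eq, ← mul_assoc, Lq.mzz]

theorem p2 (hu : u ∈ D) (hv : v ∈ D) (h : v ∈ Q u) (hne : v ≠ u) (hw : w ∈ Q u)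
    (h1 : ∀ e ∈ D, e ∈ Q u → Commute w e) (h2 : Commute w (b v)) : w ∈ Q v ∨ w * b u ∈ Q v := by
  have h' := F.symm hu hv h
  obtain ⟨q, q1, q2, q3⟩ := F.exists_nadj hv hu h' hne.symm
  have q4 := hP v hv q q1 u hu q2 h'
  refine (F.tv hP hv hu h' q1 q2 q3 hw (h1 v hv h) fun e he _ e2 => h1 e he e2).imp
    (F.b0 hv hu h' q1 q2 q4 q3 hw h2)
    (F.b0 hv hu h' q1 q2 q4 q3 (mul_mem hw (F.loc hu).bR) (h2.mul_left (F.bb hu hv h)))

theorem caseP (hu : u ∈ D) (hv : v ∈ D) (h : v ∈ Q u) (hne : v ≠ u) : False := by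
  have L := F.loc hu
  have L1 := F.loc hv
  let C0 : Subgroup G := ⨅ e ∈ D ∩ Q u, L.Fx e
  have mC : ∀ {c}, c ∈ C0 ↔ ∀ e ∈ D, e ∈ Q u → c ∈ L.Fx e := by
    intro c; simp [C0, mem_iInf]
  have cu : ∀ c ∈ C0, Commute c u := fun c hc => (mC.1 hc u hu L.zR).1
  have m1 := F.bbQ hu hv h hne (Or.inl rfl)
  have iso : ∀ d ∈ C0, d ∈ L.Fx (b v * b (v * u)) → ∀ r ∈ Q u, ∃ n ∈ Q u, d * r * d⁻¹ = n * r ∧
      (n ∈ Q v ∨ n * b u ∈ Q v) := fun d hd h1 r hr => by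
    have h2 := L.nQ d (cu d hd) r hr
    have h3 := mul_mem h2 (inv_mem hr)
    have h4 : ∀ e ∈ Q u, d ∈ L.Fx e → Commute (d * r * d⁻¹ * r⁻¹) e := fun e he h4 => by
      rw [L.cml h2 (inv_mem hr) he, L.cm_Fx hr h4, Commute.inv_left_iff]
    refine ⟨_, h3, by group, F.p2 hP hu hv h hne h3 (fun e he e1 => h4 e e1 (mC.1 hd e he e1)) ?_⟩
    exact (F.lam hu hv h hne (Or.inl rfl) h3 (h4 v h (mC.1 hd v hv h))).2.2 (h4 _ m1 h1)
  have icm : ∀ n ∈ Q u, ∀ n' ∈ Q u, (n ∈ Q v ∨ n * b u ∈ Q v) → (n' ∈ Q v ∨ n' * b u ∈ Q v) →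
      Commute n n' := fun n hn n' hn' h1 h2 => by
    have hb := L.bR
    have c1 := L.cb n hn
    have c2 := (L.cb n' hn').symm
    have c3 := (L.cb _ (mul_mem hn' hb)).symm
    rcases h1 with h1 | h1 <;> rcases h2 with h2 | h2
    · exact F.cm_I hu hv hne hn h1 hn' h2
    · have := F.cm_I hu hv hne hn h1 (mul_mem hn' hb) h2
      rw [L.cmr hn hn' hb] at this; tauto
    · have := F.cm_I hu hv hne (mul_mem hn hb) h1 hn' h2
      rw [L.cml hn hb hn'] at this; tauto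
    · have := F.cm_I hu hv hne (mul_mem hn hb) h1 (mul_mem hn' hb) h2
      rw [L.cml hn hb (mul_mem hn' hb), L.cmr hn hn' hb] at this; tauto
  have four : ∀ c ∈ C0, c * c * (c * c) ∈ Q u := fun c hc => by
    have hv' := mC.1 hc v hv h
    have h1 : c * c ∈ L.Fx (b v * b (v * u)) := by
      rcases F.ifix hu hv h hne (Or.inl rfl) hv' with e | e | e
      · exact mul_mem e e
      · refine ⟨hv'.1.mul_left hv'.1, ?_⟩
        rw [cj_cj', e, cj_mul', e]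
        rcases hv'.2 with e' | e' <;> rw [e']
        · left; rw [L1.mzz]
        · right; rw [← mul_assoc, L1.mzz]
      · refine ⟨hv'.1.mul_left hv'.1, ?_⟩
        rw [cj_cj', e, cj_mul', cj_mul' c _ v, e, cm_iff.2 hv'.1]
        rcases hv'.2 with e' | e' <;> rw [e']
        · left; rw [mul_assoc _ u v, ← (L.Rz h).eq, ← mul_assoc, L.mzz, L1.mzz]
        · right; rw [← mul_assoc, L.mzz, mul_assoc _ u v, ← (L.Rz h).eq, ← mul_assoc, L1.mzz]
    have h2 := mul_mem hc hc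
    generalize c * c = d at h1 h2
    refine L.ker _ ((cu d h2).mul_left (cu d h2)) fun r hr => ?_
    obtain ⟨n, n1, n2, n3⟩ := iso d h2 h1 r hr
    have n4 := L.nQ d (cu d h2) n n1
    have e : d * d * r * (d * d)⁻¹ * r⁻¹ = d * n * d⁻¹ * n := by
      rw [cj_cj', n2, cj_mul', n2]; group
    rw [e]
    refine L.cen _ (mul_mem n4 n1) fun y hy => ?_
    obtain ⟨n', m2, m3, m4⟩ := iso d⁻¹ (inv_mem h2) (inv_mem h1) y hy
    have : Commute (d * n * d⁻¹) y ↔ Commute n (n' * y) := by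
      rw [← m3, ← cm_cj d⁻¹]; simp [mul_assoc]
    rw [L.cml n4 n1 hy, this, L.cmr n1 m2 hy]
    have := icm n n1 n' m2 n3 m4
    tauto
  have le : C0 ≤ Q u := by
    refine L.max C0 (fun c => ?_) cu fun c hc y hy => mC.2 fun e he e1 => ?_
    · obtain ⟨k, hk⟩ := L.pg ⟨_, four c c.2⟩
      refine ⟨2 + k, Subtype.ext ?_⟩
      have := congrArg Subtype.val hk
      simp only [SubmonoidClass.mk_pow, OneMemClass.coe_one] at this
      simp only [SubmonoidClass.coe_pow, OneMemClass.coe_one]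
      rw [pow_add, pow_mul, ← this]
      congr 1
      rw [show (2 : ℕ) ^ 2 = 4 from rfl]
      simp only [pow_succ, pow_zero, one_mul, mul_assoc]
    · obtain ⟨y1, y2⟩ := mC.1 hy _ (F.cjD he c⁻¹) (L.nQ _ hc.inv_left e e1)
      refine ⟨(hc.mul_left y1).mul_left hc.inv_left, ?_⟩
      have e2 : c * y * c⁻¹ * e * (c * y * c⁻¹)⁻¹ = c * (y * (c⁻¹ * e * c⁻¹⁻¹) * y⁻¹) * c⁻¹ := by group
      rcases y2 with e3 | e3 <;> rw [e2, e3]
      · left; group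
      · right; rw [cj_mul', cm_iff.2 hc]; group
  have h' := F.symm hu hv h
  obtain ⟨a, a1, a2, a3⟩ := F.exists_nadj hv hu h' hne.symm
  obtain ⟨q, q1, q2, q3⟩ := F.exists_nadj hu hv h hne
  have a4 := hP v hv a a1 u hu a2 h'
  have fin : ∀ a', a' ∈ L.Fx q → (∀ e ∈ D, e ∈ Q v → Commute a' e) → Commute a' (b u) :=
    fun a' h1 h2 => L.cb _ (le (mC.2 fun e he e1 => by
      by_cases e2 : e ∈ Q v
      · exact L.Fx_of_cm h1.1 (h2 e he e2)
      by_cases e3 : e = q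
      · exact e3 ▸ h1
      have := L.Fx_mul (L.Rz q2) (L.Fx_of_cm h1.1 (h2 _ (F.mulD q1 he (hP u hu e he q q1 e1 q2) e3)
        (F.mul_nadj hP hu hv h q1 q2 q3 he e1 e2))) h1
      rwa [(F.loc q1).mzz] at this))
  refine a3 ((F.adj_iff hu a1).2 ?_)
  have a5 : ∀ e ∈ D, e ∈ Q v → Commute a e := fun e he e1 => hP v hv a a1 e he a2 e1
  rcases F.tv hP hu hv h q1 q2 q3 a2 a4 fun e he _ e2 => a5 e he e2 with e | e
  · exact fin a e a5
  · have := fin _ e fun e he e1 => (a5 e he e1).mul_left (L1.cb e e1).symm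
    simpa using this.mul_left (F.bb hu hv h).symm.inv_left

end P

end Fam

end H16.SY
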