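import Mathlib
import Cfsg.Agent.H16.YP

/-!
# Non-commuting conjugates of `z` in `Q`
-/

set_option autoImplicit false
set_option linter.unusedSectionVars false

open Subgroup H22

namespace H16.SY

variable {G : Type*} [Group G] [Finite G]

namespace Loc

variable {z b x s t : G} {R Q A : Subgroup G} (h : Loc z b R Q)
include h

theorem ext (hA : A ≤ R) (hz : z ∈ A) (ht : t ∈ R) (hx : x ∈ A ⊔ zpowers t) : x ∈ A ∨ x * t ∈ A := by
  refine mem_ext (fun y hy => ?_) ?_ hx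
  · rcases h.cj_cases ht (hA hy) with e | e <;> rw [e]
    exacts [hy, mul_mem hy hz]
  · rcases h.sq t ht with e | e <;> rw [e]
    exacts [one_mem _, hz]

theorem span1 (ht : t ∈ R) (hx : x ∈ R) (hp : ∀ y ∈ R, Commute y t → Commute y x) :
    x ∈ zpowers b ∨ x * t ∈ zpowers b := by
  have := h.perp [t] (by simpa using ht) hx fun y hy h1 => hp y hy (h1 t (by simp))
  refine h.ext (zpowers_le.2 h.bR) h.zb ht ((sup_le_sup_left ((closure_le _).2 ?_) _ :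
    _ ≤ zpowers b ⊔ zpowers t) this)
  intro y hy
  rw [List.mem_singleton.1 hy]
  exact mem_zpowers t

theorem span2 (ht : t ∈ R) (hs : s ∈ R) (hx : x ∈ R)
    (hp : ∀ y ∈ R, Commute y t → Commute y s → Commute y x) :
    (x ∈ zpowers b ∨ x * t ∈ zpowers b) ∨ x * s ∈ zpowers b ∨ x * s * t ∈ zpowers b := by
  have := h.perp [t, s] (by simp [ht, hs]) hx fun y hy h1 => hp y hy (h1 t (by simp)) (h1 s (by simp))
  have h1 : x ∈ (zpowers b ⊔ zpowers t) ⊔ zpowers s := by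
    refine (sup_le (le_sup_left.trans le_sup_left) ((closure_le _).2 fun y hy => ?_) :
      _ ≤ (zpowers b ⊔ zpowers t) ⊔ zpowers s) this
    simp only [List.mem_cons, List.not_mem_nil, or_false, Set.mem_ofPred_eq] at hy
    rcases hy with rfl | rfl
    exacts [mem_sup_left (mem_sup_right (mem_zpowers _)), mem_sup_right (mem_zpowers _)]
  exact (h.ext (sup_le (zpowers_le.2 h.bR) (zpowers_le.2 ht)) (mem_sup_left h.zb) hs h1).imp
    (h.ext (zpowers_le.2 h.bR) h.zb ht) (h.ext (zpowers_le.2 h.bR) h.zb ht)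

theorem Fx_of_mul {c : G} (hc : Commute c z) (ht : t ∈ R) (h2 : t * t = 1)
    (e : c * t * c⁻¹ * t ∈ zpowers b) : c ∈ h.Fx t :=
  ⟨hc, h.fix_z hc ht (by rwa [inv_of_sq h2])⟩

end Loc

/-- a non-commuting pair of points; `v` and `i` are determined by it. -/
structure Np (D : Set G) (Q : G → Subgroup G) (b : G → G) (z t x v i : G) : Prop where
  F : Fam D Q b
  hz : z ∈ D
  ht : t ∈ D
  hx : x ∈ D
  tz : t ∈ Q z
  xz : x ∈ Q z
  nc : ¬ Commute x t
  ev : x * b t * x⁻¹ = v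
  ei : b z * (b t * v) = i

namespace Np

variable {D : Set G} {Q : G → Subgroup G} {b : G → G} {z t x v i : G} (N : Np D Q b z t x v i)
  {a c e w y : G}
include N

theorem L : Loc z (b z) (Q z) (Q z) := N.F.loc N.hz
theorem Lt : Loc t (b t) (Q t) (Q t) := N.F.loc N.ht
theorem Lx : Loc x (b x) (Q x) (Q x) := N.F.loc N.hx
theorem ne : t ≠ z := fun e => N.nc (e ▸ N.L.Rz N.xz)
theorem xt : x * t * x⁻¹ = t * z := N.L.cj_ne N.xz N.tz N.nc
theorem zt : z ∈ Q t := N.F.symm N.hz N.ht N.tz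
theorem ctz : Commute t z := N.L.Rz N.tz
theorem hD : t * z ∈ D := N.F.cjD' N.ht N.xt
theorem hv : v = b (t * z) ∨ v = (b (t * z))⁻¹ := N.ev ▸ N.F.cjb N.ht N.xt
theorem vv : v * v = t * z := by rw [← N.ev, ← cj_mul', N.Lt.bb, N.xt]
theorem xv : x * v * x⁻¹ = b t := by rw [← N.ev, ← cj_cj', N.Lx.zz]; group
theorem bb : Commute (b z) (b t) := N.F.bb N.hz N.ht N.tz
theorem btz : Commute (b t) z := N.F.cm_sq N.hz N.bb.symm
theorem bv : Commute (b z) v := by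
  rw [← N.ev, ← cm_iff.2 (N.L.cb x N.xz), cm_cj]; exact N.bb
theorem mz : b t * v ∈ Q z := N.F.bbQ N.hz N.ht N.tz N.ne N.hv
theorem kt : b z * v ∈ Q t :=
  N.F.bbQ N.ht N.hz N.zt N.ne.symm (by rw [← N.ctz.eq]; exact N.hv)
theorem tv : Commute (b t) v := by
  simpa using N.bb.symm.inv_right.mul_right (N.Lt.cb _ N.kt).symm
theorem iz : i ∈ Q z := N.ei ▸ mul_mem N.L.bR N.mz
theorem ei' : b t * (b z * v) = i := by rw [← N.ei, ← mul_assoc, ← N.bb.eq, mul_assoc]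
theorem it : i ∈ Q t := N.ei' ▸ mul_mem N.Lt.bR N.kt
theorem cI (h1 : y ∈ Q z) (h2 : y ∈ Q t) (h3 : w ∈ Q z) (h4 : w ∈ Q t) : Commute y w :=
  N.F.cm_I N.hz N.ht N.ne h1 h2 h3 h4
theorem ii : i * i = 1 := N.F.sq_I N.hz N.ht N.ne N.iz N.it
theorem ti : Commute t i := N.cI N.tz N.Lt.zR N.iz N.it
theorem xi : Commute x i := by
  rw [← N.ei, ← cm_iff, cj_mul', cj_mul', N.ev, N.xv, cm_iff.2 (N.L.cb x N.xz), N.tv.eq]
theorem bt_not : b t ∉ Q z := fun h => by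
  rcases N.L.sq _ h with e | e <;> rw [N.Lt.bb] at e
  exacts [N.Lt.z1 e, N.ne e]

theorem lam (hw : w ∈ Q z) (h : Commute w t) : Commute w (b t) ↔ Commute w i := by
  rw [(N.F.lam N.hz N.ht N.tz N.ne N.hv hw h).2, ← N.ei, N.L.cmr hw N.L.bR N.mz]
  have := N.L.cb w hw
  tauto

theorem lamv (hw : w ∈ Q z) (h : Commute w t) : Commute w (b t) ↔ Commute w v :=
  (N.F.lam N.hz N.ht N.tz N.ne N.hv hw h).1

theorem lamv' (ha : a ∈ Q t) (h : Commute a z) : Commute a (b z) ↔ Commute a v :=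
  (N.F.lam' N.hz N.ht N.tz N.ne N.hv ha h).1

theorem lam' (ha : a ∈ Q t) (h : Commute a z) : Commute a (b z) ↔ Commute a i := by
  rw [(N.F.lam N.ht N.hz N.zt N.ne.symm (by rw [← N.ctz.eq]; exact N.hv) ha h).2, ← N.ei',
    N.Lt.cmr ha N.Lt.bR N.kt]
  have := N.Lt.cb a ha
  tauto

theorem sym : ∃ v' i', Np D Q b z x t v' i' :=
  ⟨_, _, N.F, N.hz, N.hx, N.ht, N.xz, N.tz, fun e => N.nc e.symm, rfl, rfl⟩

theorem swp : ∃ n x' v' i', n * z * n⁻¹ = t ∧ n * t * n⁻¹ = z ∧ Np D Q b t z x' v' i' := by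
  obtain ⟨n, h1, h2⟩ := N.F.swap N.hz N.ht N.tz N.ne
  exact ⟨n, n * x * n⁻¹, _, _, h1, h2, N.F, N.ht, N.hz, N.F.cjD N.hx n, N.zt, N.F.cjQ N.hz h1 N.xz,
    by rw [← h2, cm_cj]; exact N.nc, rfl, rfl⟩

theorem btx : b t * x * (b t)⁻¹ = b t * v⁻¹ * x := by rw [← N.ev]; group

theorem m_mem : b t * v⁻¹ ∈ Q z := by
  have := mul_mem (N.L.nQ _ N.btz x N.xz) (inv_mem N.xz)
  rwa [N.btx, mul_inv_cancel_right] at this

theorem m_nc : ¬ Commute (b t * v⁻¹) x := fun h => by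
  have e := cm_iff.2 h.symm
  rw [cj_mul', cj_inv', N.ev, N.xv, mul_inv_eq_iff_eq_mul, mul_assoc, N.tv.symm.inv_left.eq,
    ← mul_assoc, N.Lt.bb, eq_mul_inv_iff_mul_eq, N.vv] at e
  exact N.L.z1 (mul_eq_left.1 e)

theorem step1 (ha : a ∈ Q t) (h : Commute a (b z)) :
    Commute (a * x * a⁻¹) x ∨ Commute (a * b t * x * (a * b t)⁻¹) x := by
  have h1 := N.F.cm_sq N.hz h
  have h2 : Commute a (b t * v⁻¹) := (N.Lt.cb a ha).mul_right ((N.lamv' ha h1).1 h).inv_right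
  rw [cj_cj', N.btx, cj_mul', cm_iff.2 h2, N.L.cml N.m_mem (N.L.nQ a h1 x N.xz) N.xz]
  have := N.m_nc
  tauto

theorem step2 (ha : a ∈ Q t) (h : Commute a (b z)) (h0 : Commute (a * x * a⁻¹) x) (hn : a ∉ Q z) :
    a * x * a⁻¹ * x ∈ Q t ∧ ¬ Commute (a * x * a⁻¹ * x) (b x) := by
  have h1 := N.F.cm_sq N.hz h
  have h2 : a ∉ N.L.Fx x := fun e => hn (N.F.wl N.hz N.ht N.tz ha N.xz N.nc e)
  have h3 := N.F.mulD N.hx (N.F.cjD N.hx a) h0 fun e => h2 ⟨h1, Or.inl e⟩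
  have h4 : a * x * a⁻¹ * x ∈ Q t := by
    rw [N.F.adj_iff N.ht h3, ← cm_iff, cj_cj', N.ev, cj_cj', cj_cj',
      cm_iff.2 ((N.lamv' ha h1).1 h).inv_left, N.xv, cm_iff.2 (N.Lt.cb a ha)]
  refine ⟨h4, fun e => h2 (N.L.Fx_of_mul h1 N.xz N.Lx.zz ?_)⟩
  rw [N.F.zb N.hz h3 N.xz N.tz N.nc (N.F.symm N.hx h3 ((N.F.adj_iff N.hx h3).2 e))
    (N.F.symm N.ht h3 h4)]
  exact N.L.zb

theorem step3 (ha : a ∈ Q t) (h : Commute a (b z)) (h0 : Commute (a * x * a⁻¹) x) (h1 : e ∈ Q z)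
    (h2 : e ∈ Q t) : Commute a e := by
  by_cases hn : a ∈ Q z
  · exact N.cI hn ha h1 h2
  by_contra h3
  have h4 := (N.step2 ha h h0 hn).1
  have h5 := N.L.nQ a (N.F.cm_sq N.hz h) x N.xz
  have h6 := cm_cj a (x := e) (y := x)
  have h7 := N.cI h1 h2 (mul_mem h5 N.xz) h4
  have h8 := N.cI N.tz N.Lt.zR (mul_mem h5 N.xz) h4
  rw [N.Lt.cj_ne ha h2 h3, N.L.cml h1 N.tz h5] at h6
  rw [N.L.cmr h1 h5 N.xz] at h7
  rw [N.L.cmr N.tz h5 N.xz] at h8
  have : ¬ Commute t x := fun e => N.nc e.symm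
  tauto

theorem bp (ha : a ∈ Q t) (h : Commute a (b z)) : a ∈ Q z ∨ a * b t ∈ Q z := by
  have L := N.L
  have key : ∀ a ∈ Q t, Commute a (b z) → Commute (a * x * a⁻¹) x → a ∈ Q z ⊔ zpowers (b t) := by
    intro a ha h h0
    by_cases hn : a ∈ Q z
    · exact mem_sup_left hn
    have k : ∀ y ∈ Q t, Commute y (b z) → Commute (y * x * y⁻¹) x → Commute y a := by
      intro y hy h1 h2
      by_cases h3 : y ∈ Q z
      · exact (N.step3 ha h h0 h3 hy).symm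
      obtain ⟨a1, a2⟩ := N.step2 ha h h0 hn
      obtain ⟨y1, y2⟩ := N.step2 hy h1 h2 h3
      have y3 := mul_mem (L.nQ y (N.F.cm_sq N.hz h1) x N.xz) N.xz
      have e : a * y * x * (a * y)⁻¹ = y * x * y⁻¹ * x * (a * x * a⁻¹) := by
        rw [cj_cj', ← N.Lx.mzz (y * x * y⁻¹), cj_mul' a _ x, cm_iff.2 (N.step3 ha h h0 y3 y1), N.Lx.mzz]
      have c1 := h2.mul_left (Commute.refl x)
      have h4 : a * y ∈ Q z := by
        by_contra h4
        refine (N.step2 (mul_mem ha hy) (h.mul_left h1) (e ▸ c1.mul_left h0) h4).2 ?_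
        rw [e, mul_assoc, N.Lx.cmb c1 (h0.mul_left (Commute.refl x))]
        tauto
      simpa using ((Commute.refl a).inv_right.mul_right (N.step3 ha h h0 h4 (mul_mem ha hy))).symm
    have hb : b t ∈ Q z ⊔ zpowers (b t) := mem_sup_right (mem_zpowers _)
    have hz : z ∈ Q z ⊔ zpowers (b t) := mem_sup_left L.zR
    have hi : i ∈ Q z ⊔ zpowers (b t) := mem_sup_left N.iz
    have hle : zpowers (b t) ≤ Q z ⊔ zpowers (b t) := le_sup_right
    rcases N.Lt.span2 N.zt N.it ha (fun y hy h1 h2 => by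
      have h3 := (N.lam' hy h1).2 h2
      rcases N.step1 hy h3 with e | e
      · exact k y hy h3 e
      · simpa using (k _ (mul_mem hy N.Lt.bR) (h3.mul_left N.bb.symm) e).mul_left
          (N.Lt.cb a ha).symm.inv_left) with (e | e) | e | e
    · exact hle e
    · exact (mul_mem_cancel_right hz).1 (hle e)
    · exact (mul_mem_cancel_right hi).1 (hle e)
    · exact (mul_mem_cancel_right hi).1 ((mul_mem_cancel_right hz).1 (hle e))
  refine mem_ext (L.nQ _ N.btz) (by rw [N.Lt.bb]; exact N.tz) ?_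
  rcases N.step1 ha h with e | e
  · exact key a ha h e
  · exact (mul_mem_cancel_right (mem_sup_right (mem_zpowers _))).1
      (key _ (mul_mem ha N.Lt.bR) (h.mul_left N.bb.symm) e)

theorem bp' (hw : w ∈ Q z) (h : Commute w (b t)) : w ∈ Q t ∨ w * b z ∈ Q t := by
  obtain ⟨n, x', v', i', -, -, N'⟩ := N.swp
  exact N'.bp hw h

theorem lag (hw : w ∈ Q z) (h1 : Commute w t) (h2 : Commute w i) :
    (w ∈ zpowers (b z) ∨ w * t ∈ zpowers (b z)) ∨ w * i ∈ zpowers (b z) ∨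
      w * i * t ∈ zpowers (b z) := by
  have L := N.L
  refine L.span2 N.tz N.iz hw fun y hy h3 h4 => ?_
  have hb := L.bR
  have c1 := L.cb y hy
  have c2 := (L.cb w hw).symm
  have c3 := (L.cb _ (mul_mem hw hb)).symm
  rcases N.bp' hy ((N.lam hy h3).2 h4) with e | e <;>
    rcases N.bp' hw ((N.lam hw h1).2 h2) with e' | e'
  · exact N.cI hy e hw e'
  · have := N.cI hy e (mul_mem hw hb) e'
    rw [L.cmr hy hw hb] at this; tauto
  · have := N.cI (mul_mem hy hb) e hw e'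
    rw [L.cml hy hb hw] at this; tauto
  · have := N.cI (mul_mem hy hb) e (mul_mem hw hb) e'
    rw [L.cml hy hb (mul_mem hw hb), L.cmr hy hw hb] at this; tauto

end Np

end H16.SY
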