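import Mathlib
import Cfsg.Agent.H16.YN

/-!
# The wreathed end
-/

set_option autoImplicit false
set_option linter.unusedSectionVars false

open Subgroup H22

namespace H16.SY

variable {G : Type*} [Group G] [Finite G]

theorem card_le_of_fib {H K : Subgroup G} {α : Type} [Finite α] (φ : H → α)
    (h : ∀ a b : H, φ a = φ b → (a : G)⁻¹ * b ∈ K) : Nat.card H ≤ Nat.card α * Nat.card K := by
  have : Nonempty H := ⟨1⟩
  have e : ∀ a, φ (Function.invFun φ (φ a)) = φ a := fun a => Function.invFun_eq ⟨a, rfl⟩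
  rw [← Nat.card_prod]
  refine Nat.card_le_card_of_injective (fun a => (φ a, ⟨_, h _ a (e a)⟩)) fun a b hab => ?_
  simp only [Prod.mk.injEq, Subtype.mk.injEq] at hab
  obtain ⟨h1, h2⟩ := hab
  rw [h1] at h2
  exact Subtype.ext (mul_left_cancel h2)

theorem cj_sup_zp {A B : Subgroup G} {g a : G} (h1 : ∀ y ∈ A, g * y * g⁻¹ ∈ B)
    (h2 : g * a * g⁻¹ ∈ B) : ∀ y ∈ A ⊔ zpowers a, g * y * g⁻¹ ∈ B := by
  have : cj g (A ⊔ zpowers a) ≤ B := by
    rw [cj, Subgroup.map_sup, MonoidHom.map_zpowers]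
    refine sup_le ?_ (zpowers_le.2 h2)
    rintro _ ⟨y, hy, rfl⟩
    exact h1 y hy
  exact fun y hy => this (conj_mem_cj hy)

theorem cj_zp {B : Subgroup G} {g a : G} (h2 : g * a * g⁻¹ ∈ B) : ∀ y ∈ zpowers a, g * y * g⁻¹ ∈ B := by
  rintro _ ⟨n, rfl⟩
  simpa only [conj_zpow] using zpow_mem h2 n

theorem Loc.ordb {z b : G} {R Q : Subgroup G} (h : Loc z b R Q) : orderOf b = 2 ^ 2 :=
  haveI : Fact (Nat.Prime 2) := ⟨Nat.prime_two⟩
  orderOf_eq_prime_pow (n := 1) (by rw [pow_one, pow_two, h.bb]; exact h.z1) h.b4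

namespace Np

variable {D : Set G} {Q : G → Subgroup G} {b : G → G} {z t x v i : G} (N : Np D Q b z t x v i)
  {a c e w y : G}
include N

theorem t_not : t ∉ zpowers (b z) := fun e => N.nc (N.L.cm_zb N.xz e)

theorem bt_fix (hy : y ∈ Q z) (h : b t ∈ N.L.Fx y) : Commute y t := by
  by_contra hn
  exact N.bt_not (N.F.wl N.hz N.ht N.tz N.Lt.bR hy hn h)

theorem bt_Fx : b t ∈ N.L.Fx t := N.L.Fx_of_cm N.btz N.Lt.bz

theorem endW [IsSimpleGroup G] (hG : ¬ IsMulCommutative G) (hi : i ∈ zpowers (b z)) :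
    ∃ S : Sylow 2 G, Cfsg.IsWreathed (S : Subgroup G) ∧
      ∀ s : G, orderOf s = 2 → Nat.card (centralizer ({s} : Set G)) ≤ 96 := by
  have L := N.L
  have L1 := N.Lt
  have L2 := N.F.loc N.hD
  have ct : ∀ w ∈ Q z, Commute w t → w ∈ zpowers (b z) ∨ w * t ∈ zpowers (b z) := fun w hw h => by
    rcases N.lag hw h (L.cm_zb hw hi) with e | e | e
    · exact e
    · exact Or.inl ((mul_mem_cancel_right hi).1 e)
    · rw [mul_assoc, ← N.ti.eq, ← mul_assoc] at e
      exact Or.inr ((mul_mem_cancel_right hi).1 e)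
  have tx : ¬ Commute t x := fun e => N.nc e.symm
  have bas : ∀ w ∈ Q z, Commute w t → Commute w x → w ∈ zpowers (b z) := fun w hw h1 h2 =>
    (ct w hw h1).resolve_right fun e => by
      have := (L.cm_zb N.xz e).symm
      rw [L.cml hw N.tz N.xz] at this; tauto
  have k : ∀ c ∈ L.Fx t, Commute (c * x * c⁻¹) x → c ∈ Q z := fun c hc h => by
    have h1 := L.nQ c hc.1 x N.xz
    refine L.ker' hc.1 [t, x] (by simp [N.tz, N.xz]) (fun n hn h => bas n hn (h t (by simp)) (h x (by simp))) ?_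
    simp only [List.mem_cons, List.not_mem_nil, or_false, forall_eq_or_imp, forall_eq]
    refine ⟨hc.2, (L.Fx_of_mul hc.1 N.xz N.Lx.zz (bas _ (mul_mem h1 N.xz) ?_
      (h.mul_left (Commute.refl x)))).2⟩
    rw [L.cml h1 N.xz N.tz, L.cm_Fx N.xz hc]
  have hm : b t * v ∈ zpowers (b z) :=
    (mul_mem_cancel_left (mem_zpowers (b z))).1 (N.ei ▸ hi)
  have vi : v⁻¹ = v * (t * z) := by rw [inv_eq_iff_mul_eq_one, ← mul_assoc, N.vv, L2.zz]
  have FQ : ∀ c ∈ L.Fx t, c ∈ Q z ∨ c * b t ∈ Q z := fun c hc => by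
    refine or_iff_not_imp_left.2 fun h => k _ (mul_mem hc N.bt_Fx) ?_
    rw [cj_cj', N.btx, cj_mul', L.cml (L.nQ c hc.1 _ N.m_mem) (L.nQ c hc.1 x N.xz) N.xz]
    refine iff_of_false (fun e => ?_) fun e => h (k c hc e)
    have h1 := L.cm_Fx (L.nQ c⁻¹ hc.1.inv_left x N.xz) hc
    have h2 := (cm_cj c⁻¹).2 e
    simp only [inv_inv, ← mul_assoc, inv_mul_cancel, one_mul, mul_inv_cancel, inv_mul_cancel_right,
      mul_inv_cancel_right] at h1 h2
    have h3 := L.nQ c⁻¹ hc.1.inv_left x N.xz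
    rw [inv_inv] at h3
    rw [vi, ← mul_assoc, Commute.symm_iff, L.cmr h3 N.mz (mul_mem N.tz L.zR), L.cm_z h3] at h2
    exact N.nc (h1.2 (h2.1 (L.cm_zb h3 hm)))
  -- the Sylow subgroup
  set T1 := zpowers (b t) ⊔ zpowers z with hT1
  set T2 := T1 ⊔ zpowers v with hT2
  set T3 := T2 ⊔ zpowers x with hT3
  have b1 : b t ∈ T1 := mem_sup_left (mem_zpowers _)
  have z1 : z ∈ T1 := mem_sup_right (mem_zpowers _)
  have t1 : t ∈ T1 := L1.bb ▸ mul_mem b1 b1
  have v2 : v ∈ T2 := mem_sup_right (mem_zpowers _)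
  have x3 : x ∈ T3 := mem_sup_right (mem_zpowers _)
  have l12 : T1 ≤ T2 := le_sup_left
  have l23 : T2 ≤ T3 := le_sup_left
  have T1Q : T1 ≤ Q t := sup_le (zpowers_le.2 L1.bR) (zpowers_le.2 N.zt)
  have T2C : T2 ≤ centralizer {b t} := sup_le (fun y hy => mem_centralizer_singleton_iff.2
    (L1.cb y (T1Q hy))) (zpowers_le.2 (mem_centralizer_singleton_iff.2 N.tv.symm))
  have zv : Commute v z := N.F.cm_sq N.hz N.bv.symm
  have n1 : ∀ y ∈ T1, v * y * v⁻¹ ∈ T1 :=
    cj_sup_zp (cj_zp (by rw [cm_iff.2 N.tv.symm]; exact b1)) (by rw [cm_iff.2 zv]; exact z1)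
  have n2 : ∀ y ∈ T2, x * y * x⁻¹ ∈ T2 := cj_sup_zp (cj_sup_zp (cj_zp (N.ev ▸ v2))
    (by rw [cm_iff.2 (L.Rz N.xz)]; exact l12 z1)) (N.xv ▸ l12 b1)
  have s2 : x * x ∈ T2 := N.Lx.zz ▸ one_mem _
  have c3 : Nat.card T3 = 32 := by
    rw [card_ext n2 s2, card_ext n1 (N.vv ▸ mul_mem t1 z1), card_ext, Nat.card_zpowers, L1.ordb]
    · rfl
    · exact cj_zp (by rw [cm_iff.2 N.btz.symm]; exact mem_zpowers _)
    · rw [L.zz]; exact one_mem _
    · exact fun e => (L1.inv_zb e L.zz).elim L.z1 N.ne.symm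
    · intro e
      rcases L1.sq v (T1Q e) with e | e <;> rw [N.vv] at e
      exacts [L2.z1 e, L.z1 (mul_eq_left.1 e)]
    · exact fun e => N.nc (N.F.cm_sq N.ht (mem_centralizer_singleton_iff.1 (T2C e)))
  have bz2 : b z ∈ T2 := by
    have h1 : b t * v ∈ T2 := mul_mem (l12 b1) v2
    have h2 : b t * v * (b t * v) = z := by
      rw [← pow_two, N.tv.mul_pow, pow_two, pow_two, L1.bb, N.vv, ← mul_assoc, L1.zz, one_mul]
    rcases L.mem_zb.1 hm with e | e | e | e <;> rw [e] at h1 h2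
    · exact absurd (by simpa using h2.symm) L.z1
    · exact absurd (h2.symm.trans L.zz) L.z1
    · exact h1
    · exact (mul_mem_cancel_right (l12 z1)).1 h1
  have QT : Q z ≤ T3 := by
    have h1 : ∀ w ∈ Q z, Commute w t → w ∈ T3 := fun w hw h => by
      rcases ct w hw h with e | e
      · exact l23 (zpowers_le.2 bz2 e)
      · exact l23 ((mul_mem_cancel_right (l12 t1)).1 (zpowers_le.2 bz2 e))
    intro w hw
    by_cases h : Commute w t
    · exact h1 w hw h
    · exact (mul_mem_cancel_right x3).1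
        (h1 _ (mul_mem hw N.xz) ((L.cml hw N.xz N.tz).2 (iff_of_false h N.nc)))
  have FT : L.Fx t ≤ T3 := fun c hc => (FQ c hc).elim (fun e => QT e)
    fun e => (mul_mem_cancel_right (l23 (l12 b1))).1 (QT e)
  obtain ⟨S, hS⟩ := exists_sylow (N.F.pg_b N.hz N.ht N.btz)
  have QS : Q z ≤ S := le_sup_left.trans hS
  have bS : b t ∈ (S : Subgroup G) := hS (mem_sup_right (mem_zpowers _))
  have xS := QS N.xz
  have vS : v ∈ (S : Subgroup G) := N.ev ▸ mul_mem (mul_mem xS bS) (inv_mem xS)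
  have SF : (S : Subgroup G) ≤ L.Fx t := by
    refine L.le_Fx S.2 QS {b t} (by simp [bS, N.bt_Fx]) fun g hg h => ?_
    have h1 := L.nQ g hg t N.tz
    refine L.Fx_of_mul hg N.tz L1.zz ((ct _ h1 (N.bt_fix h1 (h _ rfl))).resolve_left fun e => ?_)
    exact N.nc ((cm_cj g).1 (L.cm_zb (L.nQ g hg x N.xz) e))
  have ST : (S : Subgroup G) = T3 := le_antisymm (SF.trans FT) (sup_le (sup_le (sup_le
    (zpowers_le.2 bS) (zpowers_le.2 (QS L.zR))) (zpowers_le.2 vS)) (zpowers_le.2 xS))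
  refine ⟨S, ⟨2, le_rfl, by rw [ST, c3]; rfl, ⟨b t, bS⟩, ⟨v, vS⟩, ⟨x, xS⟩, ?_, Subtype.ext N.tv.eq,
    ?_, ?_, Subtype.ext N.ev⟩, fun s hs => ?_⟩
  · rw [← orderOf_coe]; exact L1.ordb
  · rw [eq_bot_iff]
    rintro y ⟨⟨n, h1⟩, ⟨m, h2⟩⟩
    have h3 : (y : G) ∈ zpowers (b t) := ⟨n, by simpa using congrArg Subtype.val h1⟩
    have h4 : (y : G) ∈ zpowers (b (t * z)) := by
      have : (y : G) ∈ zpowers v := ⟨m, by simpa using congrArg Subtype.val h2⟩
      rcases N.hv with e | e <;> rw [e] at this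
      · exact this
      · rwa [zpowers_inv] at this
    have h5 := N.F.sq_I N.ht N.hD (fun e => L.z1 (mul_eq_left.1 e)) (L1.zb_le h3) (L2.zb_le h4)
    refine mem_bot.2 (Subtype.ext ((L1.inv_zb h3 h5).elim id fun e => ?_))
    exact (L2.inv_zb h4 h5).resolve_right fun e' => L.ne_mz t (e.symm.trans e')
  · rw [← orderOf_coe]; exact N.Lx.ord
  have hC : Nat.card (centralizer ({z} : Set G)) ≤ 96 := by
    classical
    have := card_le_of_fib (H := centralizer {z}) (K := T3) (α := Fin 3)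
      (fun c => if Commute (c * t * (c : G)⁻¹) t then 0 else if Commute (c * t * (c : G)⁻¹) x then 1 else 2)
      fun c d hcd => by
        have c1 : Commute (c : G) z := mem_centralizer_singleton_iff.1 c.2
        have d1 : Commute (d : G) z := mem_centralizer_singleton_iff.1 d.2
        have c2 := L.nQ c c1 t N.tz
        have d2 := L.nQ d d1 t N.tz
        have nb : ∀ g, Commute g z → ¬ (Commute (g * t * g⁻¹) t ∧ Commute (g * t * g⁻¹) x) :=
          fun g hg e => N.nc ((cm_cj g).1 (L.cm_zb (L.nQ g hg x N.xz)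
            (bas _ (L.nQ g hg t N.tz) e.1 e.2)))
        have c3 := nb c c1
        have d3 := nb d d1
        have h1 : d * t * (d : G)⁻¹ * (c * t * (c : G)⁻¹) ∈ zpowers (b z) := by
          refine bas _ (mul_mem d2 c2) ((L.cml d2 c2 N.tz).2 ?_) ((L.cml d2 c2 N.xz).2 ?_) <;>
            split_ifs at hcd <;> first | tauto | exact absurd hcd (by decide)
        refine FT (L.Fx_of_mul (c1.inv_left.mul_left d1) N.tz L1.zz ?_)
        have := cj_zp (g := (c : G)⁻¹) (B := zpowers (b z)) (a := b z) (by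
          rcases L.nb _ c1.inv_left with e | e <;> rw [e]
          exacts [mem_zpowers _, inv_mem (mem_zpowers _)]) _ h1
        convert this using 1
        group
    rw [c3] at this
    simpa using this
  obtain ⟨g, h1, h2⟩ := thompson hG S (W := centralizer {b t}) (a := x)
    (fun y hy => (mem_ext n2 s2 (ST.le hy)).imp (fun e => T2C e) fun e => T2C e) hs
  have h3 : g * s * g⁻¹ * (g * s * g⁻¹) = 1 := by
    rw [← cj_mul', ← pow_two, ← hs, pow_orderOf_eq_one]; group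
  have h4 : g * s * g⁻¹ ≠ 1 := fun e => by
    rw [conj_eq_one_iff] at e
    rw [e] at hs; simp at hs
  have h5 : g * s * g⁻¹ ∈ D := by
    generalize g * s * g⁻¹ = y at h1 h2 h3 h4
    have h6 : Commute y (b t) := mem_centralizer_singleton_iff.1 h1
    have h7 := N.F.cm_sq N.ht h6
    rcases FQ y (SF h2) with e | e
    · rcases ct y e h7 with e' | e'
      · exact ((L.inv_zb e' h3).resolve_left h4) ▸ N.hz
      · have h8 : y * t * (y * t) = 1 := by rw [← pow_two, h7.mul_pow, pow_two, pow_two, h3, L1.zz, one_mul]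
        rw [← L1.mzz y]
        rcases L.inv_zb e' h8 with e | e <;> rw [e]
        · rw [one_mul]; exact N.ht
        · rw [← N.ctz.eq]; exact N.hD
    · have h8 : y * b t * (y * b t) = t := by
        rw [← pow_two, h6.mul_pow, pow_two, pow_two, h3, L1.bb, one_mul]
      rcases L.sq _ e with e | e <;> rw [h8] at e
      exacts [absurd e L1.z1, absurd e N.ne]
  obtain ⟨k, hk⟩ := N.F.tr h5 N.hz
  refine le_trans ?_ hC
  rw [← card_cj (k * g)]
  refine card_le_of_le ?_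
  rintro _ ⟨y, hy, rfl⟩
  rw [mem_centralizer_singleton_iff, ← hk, ← cj_cj']
  exact (cm_cj (k * g)).2 (mem_centralizer_singleton_iff.1 hy)

end Np

end H16.SY
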