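import Mathlib
import Cfsg.Agent.H16.YW

/-!
# `Q` of order `32`: common facts, and the points when `i` is not a point
-/

set_option autoImplicit false
set_option linter.unusedSectionVars false

open Subgroup H22

namespace H16.SY

variable {G : Type*} [Group G] [Finite G]

namespace Loc

variable {z b c x y s t u : G} {R Q A : Subgroup G} (h : Loc z b R Q)
include h

theorem zb_cj (hc : Commute c z) (hy : y ∈ zpowers b) : c * y * c⁻¹ ∈ zpowers b :=
  cj_zp (by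
    rcases h.nb _ hc with e | e <;> rw [e]
    exacts [mem_zpowers _, inv_mem (mem_zpowers _)]) _ hy

theorem Fx_b (hc : Commute c z) : c ∈ h.Fx b := ⟨hc, h.binv ▸ h.nb c hc⟩

theorem eq_of_mul (hy : y ∈ R) (h1 : u * u = 1) (h2 : y * y = 1) (e : u * y ∈ zpowers b) :
    u = y ∨ u = y * z := by
  have h3 : Commute u y := by
    have := (h.cm_zb hy e).symm.mul_left (Commute.refl y)
    rwa [mul_assoc, h2, mul_one] at this
  have h4 : u = u * y * y := by rw [mul_assoc, h2, mul_one]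
  rcases h.inv_zb e (by rw [← pow_two, h3.mul_pow, pow_two, pow_two, h1, h2, one_mul]) with e | e <;>
    rw [h4, e]
  · exact Or.inl (one_mul _)
  · exact Or.inr (h.Rz hy).eq.symm

theorem not_ext (hA : A ≤ R) (hz : z ∈ A) (hs : s ∈ R) (hy : y ∈ R) (h1 : A ≤ centralizer {y})
    (h2 : ¬ Commute s y) (hb : b ∉ A) : b ∉ A ⊔ zpowers s := fun e =>
  (h.ext hA hz hs e).elim hb fun e => h2 (by
    have : Commute (b * s) y := mem_centralizer_singleton_iff.1 (h1 e)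
    simpa using (h.cb y hy).symm.inv_left.mul_left this)

end Loc

theorem zp_le_C {a y : G} (h : Commute a y) : zpowers a ≤ centralizer {y} :=
  zpowers_le.2 (mem_centralizer_singleton_iff.2 h)

namespace Np

variable {D : Set G} {Q : G → Subgroup G} {b : G → G} {z t x v i : G} (N : Np D Q b z t x v i)
  {a c e u w y : G}
include N

theorem vinv : v⁻¹ = v * (t * z) := by
  rw [inv_eq_iff_mul_eq_one, ← mul_assoc, N.vv, (N.F.loc N.hD).zz]

theorem v_cases {v' : G} (h : v' = b (t * z) ∨ v' = (b (t * z))⁻¹) : v' = v ∨ v' = v * (t * z) := by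
  rw [← N.vinv]
  rcases h with rfl | rfl <;> rcases N.hv with e | e <;> rw [e] <;> simp

theorem other (hu : u ∈ D) (h1 : u ∈ Q z) (h2 : ¬ Commute u t) :
    ∃ v' i', Np D Q b z t u v' i' ∧ ((v' = v ∧ i' = i) ∨ (v' = v * (t * z) ∧ i' = i * (t * z))) := by
  have N' : Np D Q b z t u _ _ := ⟨N.F, N.hz, N.ht, hu, N.tz, h1, h2, rfl, rfl⟩
  refine ⟨_, _, N', (N.v_cases N'.hv).imp (fun e => ⟨e, by rw [e, N.ei]⟩) fun e => ⟨e, ?_⟩⟩
  rw [e, ← N.ei]; group

theorem swp' : ∃ x' v' i', Np D Q b t z x' v' i' ∧ (i' = i ∨ i' = i * (t * z)) := by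
  obtain ⟨n, x', v', i', -, -, N'⟩ := N.swp
  refine ⟨x', v', i', N', ?_⟩
  rcases N.v_cases (v' := v') (N.ctz.eq ▸ N'.hv) with e | e <;> rw [← N'.ei, e, ← N.ei']
  · exact Or.inl rfl
  · right; group

theorem bm : b z * (b t * v⁻¹) = i * (t * z) := by rw [N.vinv, ← N.ei]; group

theorem tx : ¬ Commute t x := fun e => N.nc e.symm

theorem it_not : i * t ∉ zpowers (b z) := fun e => by
  have := N.L.cm_zb N.xz e
  rw [N.L.cmr N.xz N.iz N.tz] at this
  exact N.nc (this.1 N.xi)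

theorem cm_m (hw : w ∈ Q z) : Commute w (b t * v⁻¹) ↔ (Commute w i ↔ Commute w t) := by
  rw [← N.L.cmr hw N.iz N.tz, ← N.L.cm_z hw (x := i * t), mul_assoc, ← N.bm, N.L.cmr hw N.L.bR N.m_mem]
  have := N.L.cb w hw
  tauto

theorem Fx_i (h1 : c ∈ N.L.Fx t) :
    c ∈ N.L.Fx i ∨ c * i * c⁻¹ = i * t ∨ c * i * c⁻¹ = i * t * z := by
  have L := N.L
  have hb := L.Fx_b h1.1
  have hm := N.mz
  change c ∈ L.Fx i ∨ _
  rw [← N.ei]
  rcases N.F.ifix N.hz N.ht N.tz N.ne N.hv h1 with e | e | e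
  · exact Or.inl (L.Fx_mul (L.Rz hm) hb e)
  · right; rw [cj_mul', e]
    rcases hb.2 with e | e <;> rw [e]
    · left; group
    · right; rw [mul_assoc, ← (L.Rz (mul_mem hm N.tz)).eq]; group
  · right; rw [cj_mul', e]
    rcases hb.2 with e | e <;> rw [e]
    · right; group
    · left; rw [mul_assoc, ← mul_assoc z, ← (L.Rz (mul_mem hm N.tz)).eq, L.mzz]; group

theorem Fx_i' (h1 : c ∈ N.L.Fx t) (h2 : c ∈ N.L.Fx x) : c ∈ N.L.Fx i := by
  have := (N.L.cm_Fx N.iz h2).2 N.xi.symm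
  refine (N.Fx_i h1).resolve_right fun e => N.it_not ?_
  exfalso
  rcases e with e | e <;> rw [e] at this
  · exact N.nc (((N.L.cmr N.xz N.iz N.tz).1 this.symm).1 N.xi)
  · exact N.nc (((N.L.cmr N.xz N.iz N.tz).1 ((N.L.cm_z N.xz).1 this.symm)).1 N.xi)

theorem a_i (ha : a ∈ Q t) (h1 : Commute a z) (h2 : ¬ Commute a (b z)) : a * i * a⁻¹ = i * t :=
  N.Lt.cj_ne ha N.it fun e => h2 ((N.lam' ha h1).2 e)

theorem a_Fx (ha : a ∈ Q t) (h1 : Commute a z) : a ∈ N.L.Fx t := N.L.Fx_of_cm h1 (N.Lt.Rz ha)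

theorem le_Fx {P : Subgroup G} (hP : IsPGroup 2 P) (hQ : Q z ≤ P) (hb : b t ∈ P) (haP : a ∈ P)
    (ha : a ∈ Q t) (h1 : Commute a z) (h2 : ¬ Commute a (b z)) : P ≤ N.L.Fx t := by
  have L := N.L
  refine L.le_Fx hP hQ {b t, a} (by simp [hb, haP, N.bt_Fx, N.a_Fx ha h1]) fun g hg h => ?_
  have h3 := L.nQ g hg t N.tz
  have h4 := h (b t) (by simp)
  have h5 := h a (by simp)
  have h6 := N.bt_fix h3 h4
  have h7 : Commute (g * t * g⁻¹) (b t) := by
    by_contra e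
    have e1 := N.Lt.cj_by_b h6 e
    rcases h4.2 with e2 | e2 <;> rw [e1] at e2
    exacts [N.Lt.z1 (mul_eq_left.1 e2), N.ne (mul_left_cancel e2)]
  have h9 : Commute x (a * (g * t * g⁻¹) * a⁻¹) ↔ Commute x (g * t * g⁻¹) := by
    rcases h5.2 with e | e <;> rw [e]
    rw [L.cm_z N.xz]
  have h10 := L.nQ a h1 _ h3
  have c1 := N.xi
  have c2 := N.nc
  refine L.Fx_of_mul hg N.tz N.Lt.zz ?_
  rcases N.lag h3 h6 ((N.lam h3 h6).1 h7) with (e | e) | e | e
  · exact absurd ((cm_cj g).1 (L.cm_zb (L.nQ g hg x N.xz) e)) N.nc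
  · exact e
  · have e1 := L.cm_zb N.xz e
    have e2 := L.cm_zb N.xz (L.zb_cj h1 e)
    rw [cj_mul', N.a_i ha h1 h2, L.cmr N.xz h10 (mul_mem N.iz N.tz), L.cmr N.xz N.iz N.tz] at e2
    rw [L.cmr N.xz h3 N.iz] at e1
    tauto
  · have e1 := L.cm_zb N.xz e
    have e2 := L.cm_zb N.xz (L.zb_cj h1 e)
    rw [cj_mul', cj_mul' a _ i, N.a_i ha h1 h2, cm_iff.2 (N.Lt.Rz ha), ← mul_assoc, N.Lt.mzz,
      L.cmr N.xz h10 N.iz] at e2
    rw [L.cmr N.xz (mul_mem h3 N.iz) N.tz, L.cmr N.xz h3 N.iz] at e1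
    tauto

theorem bas4 (hw : w ∈ Q z) (h1 : Commute w t) (h3 : ¬ Commute w i) (hy : y ∈ Q z)
    (c1 : Commute y t) (c2 : Commute y i) (c3 : Commute y x) (c4 : Commute y w) :
    y ∈ zpowers (b z) := by
  have L := N.L
  have := c3.symm
  have := c4.symm
  have := N.xi
  have := N.nc
  rcases N.lag hy c1 c2 with (e | e) | e | e
  · exact e
  · have := L.cm_zb N.xz e
    rw [L.cmr N.xz hy N.tz] at this; tauto
  · have := L.cm_zb hw e
    rw [L.cmr hw hy N.iz] at this; tauto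
  · have := L.cm_zb N.xz e
    rw [L.cmr N.xz (mul_mem hy N.iz) N.tz, L.cmr N.xz hy N.iz] at this; tauto

/-- an element fixing `t`, `x` and nearly fixing `w`. -/
theorem mem_Q (hw : w ∈ Q z) (h1 : Commute w t) (h2 : Commute w x) (h3 : ¬ Commute w i)
    (c1 : c ∈ N.L.Fx t) (c2 : c ∈ N.L.Fx x) :
    c ∈ Q z ∨ c * w * c⁻¹ * w⁻¹ * i ∈ zpowers (b z) := by
  have L := N.L
  have c3 := N.Fx_i' c1 c2
  have h4 := L.nQ c c1.1 w hw
  have h5 := mul_mem h4 (inv_mem hw)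
  have k : ∀ e ∈ Q z, c ∈ L.Fx e → Commute (c * w * c⁻¹ * w⁻¹) e := fun e he h => by
    rw [L.cml h4 (inv_mem hw) he, L.cm_Fx hw h, Commute.inv_left_iff]
  by_cases h6 : Commute (c * w * c⁻¹ * w⁻¹) w
  · refine Or.inl (L.ker' c1.1 [t, i, x, w] (by simp [N.tz, N.iz, N.xz, hw]) (fun n hn h =>
      N.bas4 hw h1 h3 hn (h t (by simp)) (h i (by simp)) (h x (by simp)) (h w (by simp))) ?_)
    simp only [List.mem_cons, List.not_mem_nil, or_false, forall_eq_or_imp, forall_eq]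
    exact ⟨c1.2, c3.2, c2.2, L.fix_z c1.1 hw
      (N.bas4 hw h1 h3 h5 (k t N.tz c1) (k i N.iz c3) (k x N.xz c2) h6)⟩
  · exact Or.inr (N.bas4 hw h1 h3 (mul_mem h5 N.iz) ((k t N.tz c1).mul_left N.ti.symm)
      ((k i N.iz c3).mul_left (Commute.refl i)) ((k x N.xz c2).mul_left N.xi.symm)
      ((L.cml h5 N.iz hw).2 (iff_of_false h6 fun e => h3 e.symm)))

variable (hi : i ∉ zpowers (b z))
include hi

theorem exists_w : ∃ w ∈ Q z, Commute w t ∧ Commute w x ∧ ¬ Commute w i := by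
  have : ∃ w ∈ Q z, Commute w t ∧ ¬ Commute w i := by
    by_contra hn
    push Not at hn
    exact (N.L.span1 N.tz N.iz hn).elim hi N.it_not
  obtain ⟨w, hw, h1, h2⟩ := this
  by_cases h3 : Commute w x
  · exact ⟨w, hw, h1, h3, h2⟩
  · refine ⟨w * t, mul_mem hw N.tz, h1.mul_left (Commute.refl t),
      (N.L.cml hw N.tz N.xz).2 (iff_of_false h3 N.tx), ?_⟩
    rw [N.L.cml hw N.tz N.iz]
    have := N.ti
    tauto

theorem exists_a : ∃ a ∈ Q t, Commute a z ∧ ¬ Commute a (b z) := by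
  obtain ⟨w, hw, h1, -, h2⟩ := N.exists_w hi
  obtain ⟨n, e1, e2⟩ := N.F.swap N.hz N.ht N.tz N.ne
  refine ⟨n * w * n⁻¹, N.F.cjQ N.hz e1 hw, by rw [← e2, cm_cj]; exact h1, ?_⟩
  rw [N.F.cmb_cj N.ht e2, N.lam hw h1]
  exact h2

theorem iD_iff : (i * z ∈ D ↔ i ∈ D) ∧ (i * t ∈ D ↔ i ∈ D) ∧ (i * t * z ∈ D ↔ i ∈ D) := by
  obtain ⟨w, hw, h1, -, h2⟩ := N.exists_w hi
  obtain ⟨a, ha, h3, h4⟩ := N.exists_a hi
  have e1 := N.L.cj_ne hw N.iz h2
  have e2 := N.a_i ha h3 h4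
  have k : ∀ {g y y' : G}, g * y * g⁻¹ = y' → (y' ∈ D ↔ y ∈ D) := fun {g y y'} e =>
    ⟨fun h => N.F.cjD' h (g := g⁻¹) (by rw [← e]; group), fun h => N.F.cjD' h e⟩
  refine ⟨k e1, k e2, k (g := a * w) ?_⟩
  rw [cj_cj', e1, cj_mul', e2, cm_iff.2 h3]

theorem hi_of {i' : G} (h : i' = i ∨ i' = i * (t * z)) :
    i' ∉ zpowers (b z) ∧ i' ∉ zpowers (b t) ∧ (i' ∈ D ↔ i ∈ D) := by
  have L := N.L
  have h1 : i ∉ zpowers (b t) := fun e => (N.Lt.inv_zb e N.ii).elim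
    (fun e => hi (e ▸ one_mem _)) fun e => N.it_not (by rw [e, N.Lt.zz]; exact one_mem _)
  rcases h with rfl | rfl
  · exact ⟨hi, h1, Iff.rfl⟩
  · refine ⟨fun e => N.it_not ?_, fun e => ?_, by rw [← mul_assoc]; exact (N.iD_iff hi).2.2⟩
    · rwa [← mul_assoc, mul_mem_cancel_right L.zb] at e
    · rw [N.ctz.eq, ← mul_assoc, mul_mem_cancel_right N.Lt.zb] at e
      rcases L.eq_of_mul L.zR N.ii L.zz (u := i) (by
        rcases N.Lt.inv_zb e (N.F.sq_I N.hz N.ht N.ne (mul_mem N.iz L.zR) (mul_mem N.it N.zt))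
          with e | e
        · rw [e]; exact one_mem _
        · exact absurd (by rw [← e, ← mul_assoc, N.ii, one_mul]; exact L.zb) N.it_not) with e | e
      · exact hi (e ▸ L.zb)
      · exact hi (by rw [e, L.zz]; exact one_mem _)

variable (hD : i ∉ D)
include hD

theorem DI (he : e ∈ D) (h1 : e ∈ Q z) (h2 : e ∈ Q t) : e = z ∨ e = t ∨ e = t * z := by
  have L := N.L
  have ee := (N.F.loc he).zz
  obtain ⟨k1, k2, k3⟩ := N.iD_iff hi
  rcases N.lag h1 (N.Lt.Rz h2) (N.cI h1 h2 N.iz N.it) with (e | e) | e | e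
  · exact Or.inl ((L.inv_zb e ee).resolve_left (N.F.loc he).z1)
  · exact Or.inr (L.eq_of_mul N.tz ee N.Lt.zz e)
  · rcases L.eq_of_mul N.iz ee N.ii e with e | e <;> rw [e] at he
    exacts [absurd he hD, absurd (k1.1 he) hD]
  · rw [mul_assoc] at e
    rcases L.eq_of_mul (mul_mem N.iz N.tz) ee (N.F.sq_I N.hz N.ht N.ne (mul_mem N.iz N.tz)
      (mul_mem N.it N.Lt.zR)) e with e | e <;> rw [e] at he
    exacts [absurd (k2.1 he) hD, absurd (k3.1 he) hD]

theorem lemA (hu : u ∈ D) (h : u * x * t ∈ zpowers (b z)) : False := by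
  have L := N.L
  have h0 : u ∈ Q z := (mul_mem_cancel_right N.xz).1 ((mul_mem_cancel_right N.tz).1 (L.zb_le h))
  have x1 := N.F.cjD N.hx (b t)
  rw [N.btx] at x1
  have k : ∀ y ∈ Q z, Commute u y ↔ (Commute x y ↔ Commute t y) := fun y hy => by
    have := (L.cm_zb hy h).symm
    rw [L.cml (mul_mem h0 N.xz) N.tz hy, L.cml h0 N.xz hy] at this
    tauto
  have c1 : Commute u (b t * v⁻¹ * x) := by
    rw [L.cmr h0 N.m_mem N.xz, N.cm_m h0, k i N.iz, k t N.tz, k x N.xz]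
    have := N.xi; have := N.ti; have := N.nc; have := N.tx; have := Commute.refl t
    have := Commute.refl x
    tauto
  have h1 : u * (b t * v⁻¹ * x) * i ∈ zpowers (b z) := by
    have e : u * (b t * v⁻¹ * x) * i = u * x * t * (b z)⁻¹ := by
      have e1 : b t * v⁻¹ = (b z)⁻¹ * (i * (t * z)) := by rw [← N.bm]; group
      rw [e1, ← N.xt]
      have a1 := (L.cb x N.xz).inv_right.eq
      have a2 := (L.cb t N.tz).inv_right.eq
      calc _ = u * (b z)⁻¹ * (i * x) * (t * i) := by group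
        _ = u * ((b z)⁻¹ * x) * (i * i) * t := by rw [← N.xi.eq, N.ti.eq]; group
        _ = u * x * ((b z)⁻¹ * t) := by rw [N.ii, ← a1]; group
        _ = _ := by rw [← a2]; group
    rw [e]; exact mul_mem h (inv_mem (mem_zpowers _))
  by_cases e : u = b t * v⁻¹ * x
  · rw [← e, (N.F.loc hu).zz, one_mul] at h1
    exact hi h1
  · have h2 := N.F.mulD x1 hu c1 e
    rcases L.eq_of_mul N.iz (N.F.loc h2).zz N.ii h1 with e | e <;> rw [e] at h2
    exacts [hD h2, hD ((N.iD_iff hi).1.1 h2)]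

theorem lemB (hu : u ∈ D) (h0 : u ∈ Q z) (h1 : ¬ Commute u t) (h2 : Commute u i) :
    (u = x ∨ u = x * z) ∨ u = b t * v⁻¹ * x ∨ u = b t * v⁻¹ * x * z := by
  have L := N.L
  have uu := (N.F.loc hu).zz
  have x1 := N.F.cjD N.hx (b t)
  rw [N.btx] at x1
  have x2 := mul_mem N.m_mem N.xz
  have x3 : ¬ Commute (b t * v⁻¹ * x) t := by
    rw [← N.btx, L.cm_Fx N.xz N.bt_Fx]; exact N.nc
  have e0 : u * (b t * v⁻¹ * x) = u * x * i * t * (b z)⁻¹ := by
    have e1 : b t * v⁻¹ = (b z)⁻¹ * (i * (t * z)) := by rw [← N.bm]; group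
    rw [e1, ← N.xt]
    have a1 := (L.cb _ (mul_mem (mul_mem N.xz N.iz) N.tz)).inv_right.eq
    calc _ = u * (b z)⁻¹ * (i * x) * t := by group
      _ = u * ((b z)⁻¹ * (x * i * t)) := by rw [← N.xi.eq]; group
      _ = _ := by rw [← a1]; group
  rcases N.lag (mul_mem h0 N.xz) ((L.cml h0 N.xz N.tz).2 (iff_of_false h1 N.nc))
    (h2.mul_left N.xi) with (e | e) | e | e
  · exact Or.inl (L.eq_of_mul N.xz uu N.Lx.zz e)
  · exact (N.lemA hi hD hu e).elim
  · obtain ⟨v', i', N', k⟩ := N.other x1 x2 x3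
    obtain ⟨k1, -, k2⟩ := N.hi_of hi (k.imp And.right And.right)
    refine (N'.lemA k1 (fun e => hD (k2.1 e)) hu ?_).elim
    rw [e0, mul_assoc, ← (L.cb t N.tz).inv_right.eq, ← mul_assoc, N.Lt.mzz]
    exact mul_mem e (inv_mem (mem_zpowers _))
  · exact Or.inr (L.eq_of_mul x2 uu (N.F.loc x1).zz (e0 ▸ mul_mem e (inv_mem (mem_zpowers _))))

end Np

end H16.SY
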