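import Mathlib
import Cfsg.Agent.H16.YU

/-!
# The end with a subgroup of index two
-/

set_option autoImplicit false
set_option linter.unusedSectionVars false

open Subgroup H22

namespace H16.SY

variable {G : Type*} [Group G] [Finite G]

/-- the subgroup generated by the points of `Q u` -/
def Q0 (D : Set G) (Q : G → Subgroup G) (u : G) : Subgroup G := closure (D ∩ Q u)

section
variable {D : Set G} {Q : G → Subgroup G} {b : G → G} {u v g y : G}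

theorem mem_Q0 (h1 : y ∈ D) (h2 : y ∈ Q u) : y ∈ Q0 D Q u := subset_closure ⟨h1, h2⟩

theorem Q0_le : Q0 D Q u ≤ Q u := (closure_le _).2 Set.inter_subset_right

theorem Fam.cjQ0 (F : Fam D Q b) (hu : u ∈ D) (e : g * u * g⁻¹ = v) (hy : y ∈ Q0 D Q u) :
    g * y * g⁻¹ ∈ Q0 D Q v := by
  have : cj g (Q0 D Q u) ≤ Q0 D Q v := by
    rw [cj, Q0, MonoidHom.map_closure, closure_le]
    rintro _ ⟨y, ⟨h1, h2⟩, rfl⟩
    exact mem_Q0 (F.cjD h1 g) (F.cjQ hu e h2)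
  exact this (conj_mem_cj hy)

end

namespace Np

variable {D : Set G} {Q : G → Subgroup G} {b : G → G} {z t x v i : G} (N : Np D Q b z t x v i)
  {a c e u w y : G}
include N

theorem x2_i (ha : a ∈ Q t) (h1 : Commute a z) (h2 : ¬ Commute a (b z)) :
    ¬ Commute (a * x * a⁻¹) i := fun e => by
  have h3 : a * (i * t) * a⁻¹ = i := by
    rw [cj_mul', N.a_i ha h1 h2, cm_iff.2 (N.Lt.Rz ha), N.Lt.mzz]
  rw [← h3, cm_cj, N.L.cmr N.xz N.iz N.tz] at e
  exact N.nc (e.1 N.xi)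

theorem inv_v (h1 : Commute c (t * z)) (h2 : ¬ Commute c v) : c * v * c⁻¹ = v⁻¹ := by
  have L2 := N.F.loc N.hD
  rcases N.hv with e | e <;> rw [e] at h2 ⊢
  · exact L2.inv_b h1 h2
  · rw [cj_inv', L2.inv_b h1 fun e => h2 e.inv_right]

theorem m_Q0 : b t * v⁻¹ ∈ Q0 D Q z := by
  have := mul_mem (mem_Q0 (N.F.cjD N.hx (b t)) (N.L.nQ _ N.btz x N.xz)) (mem_Q0 N.hx N.xz)
  rwa [N.btx, N.Lx.mzz] at this

theorem ib_Q0 : i * b z ∈ Q0 D Q z := by
  have h1 := mul_mem N.m_Q0 (mem_Q0 N.ht N.tz)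
  have e : b t * v⁻¹ * t = i * b z := by
    have e1 : b t * v⁻¹ = (b z)⁻¹ * (i * (t * z)) := by rw [← N.bm]; group
    rw [e1, N.ctz.eq, mul_assoc, mul_assoc, N.Lt.mzz, N.L.binv, (N.L.cb i N.iz).eq, mul_assoc,
      ← mul_assoc z, ← (N.L.Rz N.iz).eq, N.L.mzz]
  rwa [e] at h1

theorem Q_le {M : Subgroup G} (ha : a ∈ Q t) (h1 : Commute a z) (h2 : ¬ Commute a (b z))
    (hb : b z ∈ M) (ht : t ∈ M) (hx : x ∈ M) (hi' : i ∈ M) (hx2 : a * x * a⁻¹ ∈ M) : Q z ≤ M := by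
  have L := N.L
  replace hb := zpowers_le.2 hb
  have x2 := L.nQ a h1 x N.xz
  have k1 : ∀ y ∈ Q z, Commute y t → Commute y i → y ∈ M := by
    intro y hy h1 h2
    rcases N.lag hy h1 h2 with (e | e) | e | e
    · exact hb e
    · exact (mul_mem_cancel_right ht).1 (hb e)
    · exact (mul_mem_cancel_right hi').1 (hb e)
    · exact (mul_mem_cancel_right hi').1 ((mul_mem_cancel_right ht).1 (hb e))
  have k2 : ∀ y ∈ Q z, ¬ Commute y t → y ∈ M := by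
    intro y hy h3
    by_cases h4 : Commute y i
    · exact (mul_mem_cancel_right hx).1 (k1 _ (mul_mem hy N.xz)
        ((L.cml hy N.xz N.tz).2 (iff_of_false h3 N.nc)) (h4.mul_left N.xi))
    · refine (mul_mem_cancel_right hx2).1 (k1 _ (mul_mem hy x2) ((L.cml hy x2 N.tz).2
        (iff_of_false h3 ?_)) ((L.cml hy x2 N.iz).2 (iff_of_false h4 (N.x2_i ha h1 h2))))
      rw [L.cm_Fx N.xz (N.a_Fx ha h1)]; exact N.nc
  intro y hy
  by_cases h3 : Commute y t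
  · refine (mul_mem_cancel_right hx).1 (k2 _ (mul_mem hy N.xz) ?_)
    rw [L.cml hy N.xz N.tz]
    have := N.nc
    tauto
  · exact k2 y hy h3

variable (hi : i ∉ zpowers (b z))
include hi

theorem Q_Q0 (hy : y ∈ Q z) : y ∈ Q0 D Q z ∨ y * b z ∈ Q0 D Q z := by
  have L := N.L
  obtain ⟨a, ha, h1, h2⟩ := N.exists_a hi
  have hb : b z ∈ Q0 D Q z ⊔ zpowers (b z) := mem_sup_right (mem_zpowers _)
  exact L.ext Q0_le (mem_Q0 N.hz L.zR) L.bR (N.Q_le ha h1 h2 hb (mem_sup_left (mem_Q0 N.ht N.tz))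
    (mem_sup_left (mem_Q0 N.hx N.xz)) ((mul_mem_cancel_right hb).1 (mem_sup_left N.ib_Q0))
    (mem_sup_left (mem_Q0 (N.F.cjD N.hx a) (L.nQ a h1 x N.xz))) hy)

variable (hD : i ∉ D)
include hD

theorem npt (ha : a ∈ Q t) (h1 : Commute a z) (h2 : ¬ Commute a (b z)) (hu : u ∈ D) (h3 : u ∈ Q z)
    (h4 : ¬ Commute u t) : ∃ c, (c = 1 ∨ c = b t ∨ c = a ∨ c = a * b t) ∧
      (u = c * x * c⁻¹ ∨ u = c * x * c⁻¹ * z) := by
  have L := N.L
  by_cases h5 : Commute u i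
  · rcases N.lemB hi hD hu h3 h4 h5 with e | e
    · exact ⟨1, Or.inl rfl, by simpa using e⟩
    · exact ⟨b t, by simp, N.btx ▸ e⟩
  have h6 := L.nQ _ h1.inv_left u h3
  have e0 : u = a * (a⁻¹ * u * a⁻¹⁻¹) * a⁻¹ := by group
  have h7 : Commute (a⁻¹ * u * a⁻¹⁻¹) i := by
    rw [← cm_cj a, ← e0, N.a_i ha h1 h2, L.cmr h3 N.iz N.tz]; tauto
  have e1 := cm_iff.2 h1
  rcases N.lemB hi hD (N.F.cjD hu a⁻¹) h6 (by
    rw [L.cm_Fx h3 (inv_mem (N.a_Fx ha h1))]; exact h4) h7 with (e | e) | e | e <;> rw [e] at e0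
  · exact ⟨a, by simp, Or.inl e0⟩
  · exact ⟨a, by simp, Or.inr (by rw [e0, cj_mul', e1])⟩
  · exact ⟨a * b t, by simp, Or.inl (by rw [e0, cj_cj', N.btx])⟩
  · exact ⟨a * b t, by simp, Or.inr (by rw [e0, cj_cj', N.btx, cj_mul', e1])⟩

theorem b_Q0 : b z ∉ Q0 D Q z := by
  have L := N.L
  obtain ⟨a, ha, h1, h2⟩ := N.exists_a hi
  obtain ⟨w, hw, w1, w2, w3⟩ := N.exists_w hi
  have x2 := L.nQ a h1 x N.xz
  have x3 : ¬ Commute (a * x * a⁻¹) t := by rw [L.cm_Fx N.xz (N.a_Fx ha h1)]; exact N.nc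
  set U1 := zpowers z ⊔ zpowers t with hU1
  set U2 := U1 ⊔ zpowers x with hU2
  set U3 := U2 ⊔ zpowers (b t * v⁻¹) with hU3
  set U4 := U3 ⊔ zpowers (a * x * a⁻¹) with hU4
  have q0 : zpowers z ≤ Q z := zpowers_le.2 L.zR
  have q1 : U1 ≤ Q z := sup_le q0 (zpowers_le.2 N.tz)
  have q2 : U2 ≤ Q z := sup_le q1 (zpowers_le.2 N.xz)
  have q3 : U3 ≤ Q z := sup_le q2 (zpowers_le.2 N.m_mem)
  have z1 : z ∈ U1 := mem_sup_left (mem_zpowers z)
  have z2 : z ∈ U2 := mem_sup_left z1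
  have z3 : z ∈ U3 := mem_sup_left z2
  have z4 : z ∈ U4 := mem_sup_left z3
  have t4 : t ∈ U4 := mem_sup_left (mem_sup_left (mem_sup_left (mem_sup_right (mem_zpowers t))))
  have x4 : x ∈ U4 := mem_sup_left (mem_sup_left (mem_sup_right (mem_zpowers x)))
  have m4 : b t * v⁻¹ ∈ U4 := mem_sup_left (mem_sup_right (mem_zpowers _))
  have a4 : a * x * a⁻¹ ∈ U4 := mem_sup_right (mem_zpowers _)
  have cz : ∀ y ∈ Q z, zpowers z ≤ centralizer {y} := fun y hy => zp_le_C (L.Rz hy).symm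
  have b0 : b z ∉ zpowers z := by
    rintro ⟨n, hn⟩
    have := L.bb
    simp only at hn
    rw [← hn, ← (Commute.refl z).mul_zpow, L.zz, one_zpow] at this
    exact L.z1 this.symm
  have b1 : b z ∉ U1 := L.not_ext q0 (mem_zpowers z) N.tz N.xz (cz x N.xz) N.tx b0
  have b2 : b z ∉ U2 := L.not_ext q1 z1 N.xz N.tz (sup_le (cz t N.tz) (zp_le_C (Commute.refl t))) N.nc b1
  have b3 : b z ∉ U3 := L.not_ext q2 z2 N.m_mem hw
    (sup_le (sup_le (cz w hw) (zp_le_C w1.symm)) (zp_le_C w2.symm))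
    (fun e => w3 (((N.cm_m hw).1 e.symm).2 w1)) b2
  have b4 : b z ∉ U4 := L.not_ext q3 z3 x2 N.iz (sup_le (sup_le (sup_le (cz i N.iz) (zp_le_C N.ti))
    (zp_le_C N.xi)) (zp_le_C ((N.cm_m N.iz).2 (iff_of_true (Commute.refl i) N.ti.symm)).symm))
    (N.x2_i ha h1 h2) b3
  refine fun e => b4 ((closure_le U4).2 ?_ e)
  have k : ∀ u ∈ D, u ∈ Q z → ¬ Commute u t → u ∈ U4 := fun u hu h3 h4 => by
    obtain ⟨c, hc, e⟩ := N.npt hi hD ha h1 h2 hu h3 h4
    have : c * x * c⁻¹ ∈ U4 := by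
      rcases hc with rfl | rfl | rfl | rfl
      · simpa using x4
      · rw [N.btx]; exact mul_mem m4 x4
      · exact a4
      · rw [cj_cj', N.btx, cj_mul', cj_mul' a, cj_inv', cm_iff.2 (N.Lt.cb a ha),
          N.inv_v ((N.Lt.Rz ha).mul_right h1) fun e => h2 ((N.lamv' ha h1).2 e), inv_inv]
        refine mul_mem ?_ a4
        have := mul_mem m4 (mul_mem t4 z4)
        rwa [N.vinv, ← mul_assoc (b t) v, (N.F.loc N.hD).mzz] at this
    rcases e with e | e <;> rw [e]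
    exacts [this, mul_mem this z4]
  have k2 : ∀ u ∈ D, u ∈ Q z → Commute u t → Commute u x → u ∈ U4 := fun u hu h3 h4 h5 => by
    refine (mul_mem_cancel_right x4).1 (k _ (N.F.mulD N.hx hu h5 fun e => N.nc (e ▸ h4))
      (mul_mem h3 N.xz) ?_)
    rw [L.cml h3 N.xz N.tz]
    have := N.nc
    tauto
  rintro u ⟨hu, h3⟩
  by_cases h4 : Commute u t
  · by_cases h5 : Commute u x
    · exact k2 u hu h3 h4 h5
    by_cases h6 : u = t
    · exact h6 ▸ t4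
    exact (mul_mem_cancel_right t4).1 (k2 _ (N.F.mulD N.ht hu h4 h6) (mul_mem h3 N.tz)
      (h4.mul_left (Commute.refl t)) ((L.cml h3 N.tz N.xz).2 (iff_of_false h5 N.tx)))
  · exact k u hu h3 h4

theorem endU [IsSimpleGroup G] (hG : ¬ IsMulCommutative G) : False := by
  have : Fact (Nat.Prime 2) := ⟨Nat.prime_two⟩
  have L := N.L
  have L1 := N.Lt
  have F := N.F
  obtain ⟨a, ha, a1, a2⟩ := N.exists_a hi
  obtain ⟨w, hw, w1, w2, w3⟩ := N.exists_w hi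
  obtain ⟨x', v', i', N', hi'⟩ := N.swp'
  obtain ⟨-, j1, j2⟩ := N.hi_of hi hi'
  have t0 := N'.b_Q0 j1 fun e => hD (j2.1 e)
  have zt0 : z ∈ Q0 D Q t := mem_Q0 N.hz N.zt
  have tt0 : t ∈ Q0 D Q t := mem_Q0 N.ht L1.zR
  have t1 : i * b t ∈ Q0 D Q t := by
    have := N'.ib_Q0
    rcases hi' with e | e <;> rw [e] at this
    · exact this
    · rwa [mul_assoc, (L1.cb _ (mul_mem L1.zR N.zt)).eq, ← mul_assoc,
        mul_mem_cancel_right (mul_mem tt0 zt0)] at this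
  have mC : ∀ {y : G}, y ∈ centralizer {z} ↔ Commute y z := mem_centralizer_singleton_iff
  set T := (Q0 D Q t ⊓ centralizer {z}) ⊔ Q0 D Q z with hT
  have l0 : Q0 D Q z ≤ T := le_sup_right
  have l1 : ∀ y ∈ Q0 D Q t, Commute y z → y ∈ T := fun y h1 h2 => mem_sup_left ⟨h1, mC.2 h2⟩
  have zT : z ∈ T := l0 (mem_Q0 N.hz L.zR)
  have tT : t ∈ T := l0 (mem_Q0 N.ht N.tz)
  have xT : x ∈ T := l0 (mem_Q0 N.hx N.xz)
  have bT : b z ∉ T := fun e => by
    have := coe_mul_of_left_le_normalizer_right (Q0 D Q t ⊓ centralizer {z}) (Q0 D Q z)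
      fun y hy => mem_normalizer_of_conj_mem fun q hq => F.cjQ0 N.hz (cm_iff.2 (mC.1 hy.2)) hq
    rw [hT, ← SetLike.mem_coe, this] at e
    obtain ⟨y, ⟨y1, -⟩, q, hq, e⟩ := e
    simp only at e
    have y2 : y ∈ Q z := (mul_mem_cancel_right (Q0_le hq)).1 (e ▸ L.bR)
    have y3 : y ∈ Q t := Q0_le y1
    have yy := F.sq_I N.hz N.ht N.ne y2 y3
    have k : ∀ s, s * s = 1 → s ∈ Q z → y * s ∈ zpowers (b z) → ∀ A : Subgroup G, z ∈ A →
        (y ∈ A ↔ s ∈ A) := fun s h1 h2 h3 A hA => by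
      rcases L.eq_of_mul h2 yy h1 h3 with e | e <;> rw [e]
      exact mul_mem_cancel_right hA
    have ni : i ∉ Q0 D Q t := fun e => t0 ((mul_mem_cancel_left e).1 t1)
    refine N.b_Q0 hi hD (e ▸ mul_mem ?_ hq)
    rcases N.lag y2 (L1.Rz y3) (N.cI y2 y3 N.iz N.it) with (e | e) | e | e
    · exact (k 1 (one_mul 1) (one_mem _) (by simpa using e) _ (mem_Q0 N.hz L.zR)).2 (one_mem _)
    · exact (k t L1.zz N.tz e _ (mem_Q0 N.hz L.zR)).2 (mem_Q0 N.ht N.tz)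
    · exact absurd ((k i N.ii N.iz e _ zt0).1 y1) ni
    · exact absurd ((mul_mem_cancel_right tt0).1 ((k _ (F.sq_I N.hz N.ht N.ne (mul_mem N.iz N.tz)
        (mul_mem N.it L1.zR)) (mul_mem N.iz N.tz) (mul_assoc y i t ▸ e) _ zt0).1 y1)) ni
  have bbT : b t * b z ∈ T := by
    have := mul_mem (l1 _ t1 ((L.Rz N.iz).mul_left N.btz)) (l0 N.ib_Q0)
    rwa [(L1.cb i N.it).eq, mul_assoc, ← mul_assoc i, N.ii, one_mul] at this
  have nT : ∀ c ∈ L.Fx t, ∀ y ∈ T, c * y * c⁻¹ ∈ T := by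
    have k : ∀ c, Commute c z → c * t * c⁻¹ = t → ∀ y ∈ T, c * y * c⁻¹ ∈ T := fun c h1 h2 => by
      have : cj c T ≤ T := by
        rw [hT, cj, Subgroup.map_sup]
        refine sup_le ?_ ?_
        · rintro _ ⟨y, ⟨y1, y2⟩, rfl⟩
          exact l1 _ (F.cjQ0 N.ht h2 y1) ((h1.mul_left (mC.1 y2)).mul_left h1.inv_left)
        · rintro _ ⟨y, y1, rfl⟩
          exact l0 (F.cjQ0 N.hz (cm_iff.2 h1) y1)
      exact fun y hy => this (conj_mem_cj hy)
    rintro c ⟨h1, h2 | h2⟩ y hy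
    · exact k c h1 h2 y hy
    · have := k (x * c) ((L.Rz N.xz).mul_left h1)
        (by rw [cj_cj', h2, cj_mul', N.xt, cm_iff.2 (L.Rz N.xz), L.mzz]) y hy
      rwa [cj_cj', mul_mem_cancel_right (inv_mem xT), mul_mem_cancel_left xT] at this
  have bF : b z ∈ L.Fx t := L.Fx_of_cm L.bz (L.cb t N.tz).symm
  set S1 := T ⊔ zpowers (b z) with hS1
  have m1 : ∀ y ∈ S1, y ∈ T ∨ y * b z ∈ T := fun y hy => mem_ext (nT _ bF) (L.bb.symm ▸ zT) hy
  have TS : T ≤ S1 := le_sup_left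
  have bS1 : b z ∈ S1 := mem_sup_right (mem_zpowers _)
  have QS1 : Q z ≤ S1 := fun y hy => (N.Q_Q0 hi hy).elim (fun e => TS (l0 e))
    fun e => (mul_mem_cancel_right bS1).1 (TS (l0 e))
  have btS1 : b t ∈ S1 := (mul_mem_cancel_right bS1).1 (TS bbT)
  have AS1 : ∀ y ∈ Q t, Commute y z → y ∈ S1 := fun y hy h => (N'.Q_Q0 j1 hy).elim
    (fun e => TS (l1 y e h)) fun e => (mul_mem_cancel_right btS1).1 (TS (l1 _ e (h.mul_left N.btz)))
  have nS1 : ∀ c ∈ L.Fx t, ∀ y ∈ S1, c * y * c⁻¹ ∈ S1 := fun c hc =>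
    cj_sup_zp (fun y hy => TS (nT c hc y hy)) (QS1 (L.nQ c hc.1 _ L.bR))
  obtain ⟨S, hS⟩ := exists_sylow (P := (Q t ⊓ centralizer {z}) ⊔ Q z)
    (IsPGroup.to_sup_of_normal_right' L1.pg.to_inf_left L.pg
      fun y hy => mem_normalizer_of_conj_mem (L.nQ y (mC.1 hy.2)))
  have QS : Q z ≤ S := le_sup_right.trans hS
  have AS : ∀ y ∈ Q t, Commute y z → y ∈ (S : Subgroup G) :=
    fun y h1 h2 => hS (mem_sup_left ⟨h1, mC.2 h2⟩)
  have btS := AS _ L1.bR N.btz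
  have SF : (S : Subgroup G) ≤ L.Fx t := N.le_Fx S.2 QS btS (AS a ha a1) ha a1 a2
  have dec : ∀ s ∈ L.Fx t, ∃ c ∈ Q t, Commute c z ∧ c⁻¹ * s ∈ L.Fx x := fun s hs => by
    obtain ⟨c, hc, e⟩ := N.npt hi hD ha a1 a2 (F.cjD N.hx s) (L.nQ s hs.1 x N.xz)
      (by rw [L.cm_Fx N.xz hs]; exact N.nc)
    have : c ∈ Q t ∧ Commute c z := by
      rcases hc with rfl | rfl | rfl | rfl
      exacts [⟨one_mem _, Commute.one_left z⟩, ⟨L1.bR, N.btz⟩, ⟨ha, a1⟩,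
        ⟨mul_mem ha L1.bR, a1.mul_left N.btz⟩]
    refine ⟨c, this.1, this.2, this.2.inv_left.mul_left hs.1, ?_⟩
    rw [cj_cj']
    rcases e with e | e <;> rw [e]
    · left; group
    · right; rw [cj_mul', cm_iff.2 this.2.inv_left]; group
  have two : ∀ s ∈ L.Fx t, ∀ s' ∈ L.Fx t, s ∉ S1 → s' ∉ S1 → s * s' ∈ S1 := by
    intro s hs s' hs' h1 h2
    obtain ⟨c, c1, c2, c3⟩ := dec s hs
    obtain ⟨d, d1, d2, d3⟩ := dec s' hs'
    have c4 := mul_mem (inv_mem (N.a_Fx c1 c2)) hs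
    have d4 := mul_mem (inv_mem (N.a_Fx d1 d2)) hs'
    have c5 := (N.mem_Q hw w1 w2 w3 c4 c3).resolve_left fun e =>
      h1 ((mul_mem_cancel_left (inv_mem (AS1 c c1 c2))).1 (QS1 e))
    have d5 := (N.mem_Q hw w1 w2 w3 d4 d3).resolve_left fun e =>
      h2 ((mul_mem_cancel_left (inv_mem (AS1 d d1 d2))).1 (QS1 e))
    have e : s * s' = c * (c⁻¹ * s * d * (c⁻¹ * s)⁻¹) * (c⁻¹ * s * (d⁻¹ * s')) := by group
    rw [e]
    refine mul_mem (mul_mem (AS1 c c1 c2) (nS1 _ c4 d (AS1 d d1 d2))) (QS1 ?_)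
    refine (N.mem_Q hw w1 w2 w3 (mul_mem c4 d4) (mul_mem c3 d3)).resolve_right fun e => ?_
    have c6 := N.Fx_i' c4 c3
    generalize c⁻¹ * s = c' at c3 c4 c5 c6 e
    generalize d⁻¹ * s' = d' at d3 d4 d5 e
    have e1 := mul_mem (mul_mem (inv_mem (L.zb_cj c4.1 d5)) e) (inv_mem c5)
    have e2 : (c' * (d' * w * d'⁻¹ * w⁻¹ * i) * c'⁻¹)⁻¹ * (c' * d' * w * (c' * d')⁻¹ * w⁻¹ * i) *
      (c' * w * c'⁻¹ * w⁻¹ * i)⁻¹ = (c' * i * c'⁻¹)⁻¹ := by group
    rw [e2, inv_mem_iff] at e1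
    rcases c6.2 with e3 | e3 <;> rw [e3] at e1
    exacts [hi e1, hi ((mul_mem_cancel_right L.zb).1 e1)]
  have cm1 : ∀ s ∈ L.Fx t, ∀ y ∈ S1, s * y * s⁻¹ * y⁻¹ ∈ T := fun s hs y hy => by
    rcases m1 y hy with e | e
    · exact mul_mem (nT s hs y e) (inv_mem e)
    · have e1 : s * y * s⁻¹ * y⁻¹ =
        s * (y * b z) * s⁻¹ * ((s * b z * s⁻¹)⁻¹ * b z) * (y * b z)⁻¹ := by group
      rw [e1]
      refine mul_mem (mul_mem (nT s hs _ e) ?_) (inv_mem e)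
      rcases L.nb s hs.1 with e | e <;> rw [e]
      · simp
      · rw [inv_inv, L.bb]; exact zT
  refine transfer4 hG S (N := T) (fun s hs s' hs' => ?_) (QS L.bR) (by rw [L.bb, L.zz]) bT
    (fun g hg => ?_) fun g hg => ?_
  · by_cases h1 : s' ∈ S1
    · exact cm1 s (SF hs) s' h1
    by_cases h2 : s ∈ S1
    · have := inv_mem (cm1 s' (SF hs') s h2)
      convert this using 1; group
    · have := inv_mem (cm1 s⁻¹ (inv_mem (SF hs)) _ (two s (SF hs) s' (SF hs') h2 h1))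
      convert this using 1; group
  · rw [L.bb] at hg ⊢
    have hs := F.cjD N.hz g
    generalize g * z * g⁻¹ = s at hg hs
    have s1 := SF hg
    by_cases h1 : s ∈ Q z
    · exact l0 (mem_Q0 hs h1)
    have A := F.na N.hz hs s1.1 h1
    have s2 := (A.fix_inv N.tz L1.zz s1).symm
    by_cases h2 : s ∈ Q t
    · exact l1 s (mem_Q0 hs h2) s1.1
    by_cases h3 : s ∈ Q (t * z)
    · have := l1 _ (mem_Q0 (F.cjD hs x) (F.cjQ N.hD (g := x)
        (by rw [cj_mul', N.xt, cm_iff.2 (L.Rz N.xz), L.mzz]) h3))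
        (((L.Rz N.xz).mul_left s1.1).mul_left (L.Rz N.xz).inv_left)
      rwa [mul_mem_cancel_right (inv_mem xT), mul_mem_cancel_left xT] at this
    exfalso
    have s3 : ¬ Commute s v := fun e => h3 ((F.adj_iff N.hD hs).2 (by
      rcases N.hv with e' | e' <;> rw [e'] at e
      exacts [e, Commute.inv_right_iff.1 e]))
    have s4 : Commute s i := by
      rw [← cm_iff, ← N.ei, cj_mul', cj_mul', L.inv_b' s1.1 A.sb,
        L1.inv_b' s2 (F.na N.ht hs s2 h2).sb, N.inv_v (s2.mul_right s1.1) s3, N.vinv]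
      have c1 : Commute t v := (F.cm_sq N.ht N.tv.symm).symm
      calc _ = b z * z * (b t * (t * v) * t * z) := by group
        _ = b z * (z * (b t * v) * z) := by rw [c1.eq, ← mul_assoc (b t), L1.mzz]; group
        _ = _ := by rw [← (L.Rz N.mz).eq, L.mzz]
    have x1 := L.nQ s s1.1 x N.xz
    have s5 := (N.lemB hi hD (F.cjD N.hx s) x1 (by rw [L.cm_Fx N.xz s1]; exact N.nc)
      (by rw [L.cm_Fx N.xz (L.Fx_of_cm s1.1 s4)]; exact N.xi)).resolve_left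
      fun e => N.nc (A.fix_cm N.xz N.tz ⟨s1.1, e⟩ s1)
    have c1 := mul_mem (inv_mem N.bt_Fx) s1
    have c2 : (b t)⁻¹ * s ∈ L.Fx x := by
      refine ⟨c1.1, ?_⟩
      rw [cj_cj', ← N.btx] at *
      rcases s5 with e | e <;> rw [e]
      · left; group
      · right; rw [cj_mul', cm_iff.2 N.btz.inv_left]; group
    rcases N.mem_Q hw w1 w2 w3 c1 c2 with e | e
    · exact A.sb (by simpa using N.bb.symm.mul_left (L.cb _ e))
    have e1 := L.zb_cj N.btz e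
    have e2 : b t * w * (b t)⁻¹ = w * t := L1.cj_by_b w1 fun e => w3 ((N.lam hw w1).1 e)
    have e3 : b t * ((b t)⁻¹ * s * w * ((b t)⁻¹ * s)⁻¹ * w⁻¹ * i) * (b t)⁻¹ =
      s * w * s⁻¹ * (b t * w * (b t)⁻¹)⁻¹ * (b t * i * (b t)⁻¹) := by group
    rw [e3, e2, cm_iff.2 (L1.cb i N.it).symm] at e1
    have xw := mul_mem N.xz hw
    have sw := L.nQ s s1.1 w hw
    suffices h : s * (x * w) * s⁻¹ * (x * w)⁻¹ ∈ zpowers (b z) from N.nc (by
      simpa using (A.fix_cm xw N.tz ⟨s1.1, L.fix_z s1.1 xw h⟩ s1).mul_left w1.inv_left)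
    have k1 : ∀ y ∈ Q z, Commute y (s * w * s⁻¹) ↔ (Commute y i ↔ (Commute y w ↔ Commute y t)) := by
      intro y hy
      have := L.cm_zb hy e1
      rw [L.cmr hy (mul_mem sw (inv_mem (mul_mem hw N.tz))) N.iz,
        L.cmr hy sw (inv_mem (mul_mem hw N.tz)), Commute.inv_right_iff, L.cmr hy hw N.tz] at this
      clear * - this
      tauto
    have k2 : ∀ y ∈ Q z, Commute y (s * x * s⁻¹) ↔ ((Commute y i ↔ Commute y t) ↔ Commute y x) := by
      intro y hy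
      rcases s5 with e | e <;> rw [e]
      · rw [L.cmr hy N.m_mem N.xz, N.cm_m hy]
      · rw [L.cm_z hy, L.cmr hy N.m_mem N.xz, N.cm_m hy]
    refine L.cen _ (mul_mem (L.nQ s s1.1 _ xw) (inv_mem xw)) fun y hy => Commute.symm ?_
    rw [L.cmr hy (L.nQ s s1.1 _ xw) (inv_mem xw), Commute.inv_right_iff, cj_mul', L.cmr hy x1 sw,
      L.cmr hy N.xz hw, k1 y hy, k2 y hy]
    clear * - hy
    tauto
  · have hu := F.cjD N.hz g
    have h1 : b (g * z * g⁻¹) ∈ (S : Subgroup G) := by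
      rcases F.cjb N.hz (g := g) rfl with e | e <;> rw [e] at hg
      exacts [hg, inv_mem_iff.1 hg]
    have h2 := F.adj N.hz hu (F.cm_sq hu (F.ti N.hz hu S.2 (QS L.bR) h1))
    have h3 := F.adj N.ht hu (F.cm_sq hu (F.ti N.ht hu S.2 btS h1))
    have vT : v * b z ∈ T := by
      have := mul_mem (inv_mem (l0 N.m_Q0)) bbT
      simpa [mul_assoc] using this
    have h4 := F.cjb N.hz (g := g) rfl
    rcases N.DI hi hD hu h2 h3 with e | e | e <;> rw [e] at h4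
    · rcases h4 with e | e <;> rw [e]
      · rw [L.bb]; exact zT
      · simp
    · rcases h4 with e | e <;> rw [e]
      · exact bbT
      · rw [L1.binv, L1.bz.eq, mul_assoc]; exact mul_mem tT bbT
    · rcases N.v_cases h4 with e | e <;> rw [e]
      · exact vT
      · rw [mul_assoc, (L.cb _ (mul_mem N.tz L.zR)).eq, ← mul_assoc]
        exact mul_mem vT (mul_mem tT zT)

end Np

end H16.SY
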