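import Mathlib
import Cfsg.Agent.H16.YV

/-!
# The end with Sylow subgroup `4³ : D₈`
-/

set_option autoImplicit false
set_option linter.unusedSectionVars false

open Subgroup H22

namespace H16.SY

variable {G : Type*} [Group G] [Finite G]

namespace Loc

variable {z b c y s : G} {R Q : Subgroup G} (h : Loc z b R Q)
include h

theorem Fx_of_zb (hy : y ∈ R) (e : y * s ∈ zpowers b) (hc : c ∈ h.Fx s) : c ∈ h.Fx y := by
  refine ⟨hc.1, h.fix_z hc.1 hy ?_⟩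
  have e1 : c * y * c⁻¹ * y⁻¹ = c * (y * s) * c⁻¹ * (c * s * c⁻¹)⁻¹ * y⁻¹ := by group
  have e2 := h.zb_cj hc.1 e
  rcases hc.2 with e3 | e3 <;> rw [e1, e3]
  · rw [mul_assoc, ← mul_inv_rev]; exact mul_mem e2 (inv_mem e)
  · rw [mul_assoc, ← mul_inv_rev, ← mul_assoc y s z]; exact mul_mem e2 (inv_mem (mul_mem e h.zb))

theorem cm_Fx' (hy : y ∈ R) (hc : c ∈ h.Fx s) : Commute (c * s * c⁻¹) y ↔ Commute s y := by
  rcases hc.2 with e | e <;> rw [e]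
  rw [Commute.symm_iff, h.cm_z hy, Commute.symm_iff]

theorem inv3 : b⁻¹ = b ^ 3 := by
  rw [inv_eq_iff_mul_eq_one, ← pow_succ', h.b4]

end Loc

namespace Np

variable {D : Set G} {Q : G → Subgroup G} {b : G → G} {z t x v i : G} (N : Np D Q b z t x v i)
  {a c e u w y v' j : G}
include N

theorem Fx_lag (h1 : c ∈ N.L.Fx t) (h2 : c ∈ N.L.Fx i) (hy : y ∈ Q z) (h3 : Commute y t)
    (h4 : Commute y i) : c ∈ N.L.Fx y := by
  rcases N.lag hy h3 h4 with (e | e) | e | e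
  · exact N.L.Fx_of_zb (s := 1) hy (by simpa using e) (N.L.Fx_of_cm h1.1 (Commute.one_right c))
  · exact N.L.Fx_of_zb hy e h1
  · exact N.L.Fx_of_zb hy e h2
  · exact N.L.Fx_of_zb hy (mul_assoc y i t ▸ e) (N.L.Fx_mul N.ctz h2 h1)

theorem I_cases (h1 : y ∈ Q z) (h2 : y ∈ Q t) : ((y = 1 ∨ y = z) ∨ y = t ∨ y = t * z) ∨
    (y = i ∨ y = i * z) ∨ y = i * t ∨ y = i * t * z := by
  have L := N.L
  have yy := N.F.sq_I N.hz N.ht N.ne h1 h2
  rcases N.lag h1 (N.Lt.Rz h2) (N.cI h1 h2 N.iz N.it) with (e | e) | e | e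
  · exact Or.inl (Or.inl (L.inv_zb e yy))
  · exact Or.inl (Or.inr (L.eq_of_mul N.tz yy N.Lt.zz e))
  · exact Or.inr (Or.inl (L.eq_of_mul N.iz yy N.ii e))
  · exact Or.inr (Or.inr (L.eq_of_mul (mul_mem N.iz N.tz) yy (N.F.sq_I N.hz N.ht N.ne
      (mul_mem N.iz N.tz) (mul_mem N.it N.Lt.zR)) (mul_assoc y i t ▸ e)))

variable (hi : i ∉ zpowers (b z)) (hD : i ∈ D)
include hi hD

theorem x_ni : ¬ Commute x (b i) := fun e => hi (by
  rw [N.F.zb N.hz hD N.xz N.tz N.nc ((N.F.adj_iff hD N.hx).2 e) (N.F.symm N.ht hD N.it)]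
  exact N.L.zb)

theorem exists_y : ∃ y ∈ Q t, Commute y i ∧ ¬ Commute y (b i) := by
  obtain ⟨x', v', i', N', hi'⟩ := N.swp'
  obtain ⟨-, j1, j2⟩ := N.hi_of hi hi'
  have h1 := N'.x_ni j1 (j2.2 hD)
  have h2 := N'.xi
  rcases hi' with rfl | rfl
  · exact ⟨x', N'.xz, h2, h1⟩
  obtain ⟨w, hw, w1, -, w2⟩ := N.exists_w hi
  obtain ⟨a, ha, a1, a2⟩ := N.exists_a hi
  have e : a * w * i * (a * w)⁻¹ = i * (t * z) := by
    rw [cj_cj', N.L.cj_ne hw N.iz w2, cj_mul', N.a_i ha a1 a2, cm_iff.2 a1, mul_assoc]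
  have e1 : x' = a * w * ((a * w)⁻¹ * x' * (a * w)⁻¹⁻¹) * (a * w)⁻¹ := by group
  refine ⟨(a * w)⁻¹ * x' * (a * w)⁻¹⁻¹, N.Lt.nQ _ ((N.Lt.Rz ha).mul_left w1).inv_left _ N'.xz, ?_, ?_⟩
  · rwa [e1, ← e, cm_cj] at h2
  · rwa [e1, N.F.cmb_cj hD e] at h1

theorem exists_u3 (ha : a ∈ Q t) (a1 : Commute a z) (a2 : ¬ Commute a (b z)) (aa : a * a = 1) :
    ∃ u, (u = b i ∨ u = (b i)⁻¹) ∧ a * u * a⁻¹ = b z ^ 2 * b t * u ^ 3 := by
  have L := N.L
  have L1 := N.Lt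
  have L3 := N.F.loc hD
  have ne : i ≠ t := fun e => N.it_not (by rw [e, L1.zz]; exact one_mem _)
  have h1 := N.F.cjb hD (N.a_i ha a1 a2)
  have h2 := N.F.bbQ N.ht hD N.it ne h1
  have c1 := (N.F.bb N.hz hD N.iz).symm
  have c2 := (N.F.bb N.ht hD N.it).symm
  have c3 : Commute (a * b i * a⁻¹) (b z) := by
    rw [← Commute.inv_right_iff, ← L.inv_b a1 a2, cm_cj]; exact c1
  have c4 : Commute (b i) (a * b i * a⁻¹) := by
    have := N.F.bb (N.F.cjD' hD (N.a_i ha a1 a2)) hD (N.F.third N.ht hD N.it ne N.it L3.zR)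
    rcases h1 with e | e <;> rw [e]
    exacts [this.symm, this.symm.inv_right]
  have h3 : b i * (a * b i * a⁻¹) * b t ∈ Q z := by
    refine (N.bp h2 (c1.mul_left c3)).resolve_left fun e => ?_
    have : b i * (a * b i * a⁻¹) * (b i * (a * b i * a⁻¹)) = t := by
      rw [← pow_two, c4.mul_pow, pow_two, pow_two, ← cj_mul', L3.bb, N.a_i ha a1 a2, ← mul_assoc, N.ii,
        one_mul]
    rcases L.sq _ e with e | e <;> rw [this] at e
    exacts [L1.z1 e, N.ne e]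
  obtain ⟨y, y1, y2, y3⟩ := N.exists_y hi hD
  have y4 : ¬ Commute y (b i * (a * b i * a⁻¹) * b t) := fun e => y3 (by
    rw [(N.F.lam N.ht hD N.it ne h1 y1 y2).2]
    simpa using e.mul_right (L1.cb y y1).inv_right)
  have y5 := L1.Rz y1
  have a3 := cm_iff.2 (L1.cb a ha)
  have a4 := cm_iff.2 a1
  have a5 : a * (a * b i * a⁻¹) * a⁻¹ = b i := by rw [← cj_cj', aa]; group
  have k : ∀ s, b i * (a * b i * a⁻¹) * b t = s → a * b i * a⁻¹ = (b i)⁻¹ * s * (b t)⁻¹ :=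
    fun s e => by rw [← e]; group
  have cz := N.F.cm_sq N.hz c1
  have ct := N.F.cm_sq N.ht c2
  have e3 : (b i)⁻¹ * i = b i := by rw [inv_mul_eq_iff_eq_mul, L3.bb]
  have e4 : t * (b t)⁻¹ = b t := by rw [mul_inv_eq_iff_eq_mul, L1.bb]
  have no : ∀ β, (β = b t ∨ β = (b t)⁻¹) → a * b i * a⁻¹ = b i * z * β → False := fun β hβ e => by
    have b1 : a * β * a⁻¹ = β := by
      rcases hβ with rfl | rfl
      exacts [a3, by rw [cj_inv', a3]]
    have b2 : z * β * z * β = t := by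
      rcases hβ with rfl | rfl
      · rw [← N.btz.eq, L.mzz, L1.bb]
      · rw [← N.btz.inv_left.eq, L.mzz, ← mul_inv_rev, L1.bb, L1.zinv]
    rw [e, cj_mul', cj_mul', e, a4, b1] at a5
    refine L1.z1 (mul_eq_left.1 (b2 ▸ ?_ : b i * t = b i))
    conv_rhs => rw [← a5]
    group
  rcases N.I_cases h3 (mul_mem h2 L1.bR) with ((e | e) | e | e) | (e | e) | e | e
  · exact (y4 (e ▸ Commute.one_right y)).elim
  · refine ⟨_, Or.inr rfl, ?_⟩
    rw [cj_inv', k _ e, pow_two, L.bb, inv_pow, ← L3.inv3, inv_inv, mul_inv_rev, mul_inv_rev, inv_inv,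
      inv_inv, L.zinv, ← mul_assoc, N.btz.eq]
  · exact (y4 (by rw [e]; exact y5)).elim
  · refine ⟨_, Or.inl rfl, ?_⟩
    rw [k _ e, pow_two, L.bb, ← L3.inv3, N.ctz.eq, mul_assoc, mul_assoc, e4,
      (cz.mul_right c2).inv_left.eq]
  · exact (y4 (by rw [e]; exact y2)).elim
  · exact (no _ (Or.inr rfl) (by rw [k _ e, ← mul_assoc, e3])).elim
  · exact (y4 (by rw [e]; exact y2.mul_right y5)).elim
  · exact (no _ (Or.inl rfl) (by
      rw [k _ e, mul_assoc i, N.ctz.eq, ← mul_assoc, ← mul_assoc, e3, mul_assoc _ t, e4])).elim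

variable (N2 : Np D Q b z x t v' j) (hj : j ∉ zpowers (b z)) (hjD : j ∈ D)
include N2 hj hjD

theorem j_ni : ¬ Commute j i := fun h => by
  have L := N.L
  have c1 := N2.ti
  have c2 := N.xi
  have c3 := N.nc
  rcases N.lag N2.iz N2.xi.symm h with (e | e) | e | e
  · exact hj e
  · have := L.cm_zb N.xz e
    rw [L.cmr N.xz N2.iz N.tz] at this; tauto
  · refine N.x_ni hi hD ((N.F.adj_iff hD N.hx).1 (N.F.symm N.hx hD ?_))
    rcases L.eq_of_mul N.iz N2.ii N.ii e with e | e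
    · exact e ▸ N2.it
    · exact (mul_mem_cancel_right N2.zt).1 (e ▸ N2.it)
  · have := L.cm_zb N.xz e
    rw [L.cmr N.xz (mul_mem N2.iz N.iz) N.tz, L.cmr N.xz N2.iz N.iz] at this; tauto

theorem cx (hc : c ∈ N.L.Fx j) : Commute (c * x * c⁻¹) x := by
  have L := N.L
  have ne : j ≠ z := fun e => hj (e ▸ L.zb)
  have h1 : x ∈ Q j := N.F.symm N.hx hjD N2.it
  have h2 := L.nQ c hc.1 x N.xz
  rcases hc.2 with e | e
  · exact N.F.cm_I N.hz hjD ne h2 (N.F.cjQ hjD e h1) N.xz h1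
  · exact N.F.cm_I N.hz (N.F.cjD' hjD e) (fun e => (N.F.loc hjD).z1 (mul_eq_right.1 e)) h2
      (N.F.cjQ hjD e h1) N.xz (N.F.third N.hz hjD N2.iz ne N.xz h1)

theorem bt_j : b t * j * (b t)⁻¹ = j * t := N.Lt.cj_by_b N2.xi.symm
  fun e => N.j_ni hi hD N2 hj hjD ((N.lam N2.iz N2.xi.symm).1 e)

theorem exists_a' : ∃ a ∈ Q t, Commute a z ∧ ¬ Commute a (b z) ∧ a ∈ N.L.Fx j ∧ a * a = 1 := by
  have L := N.L
  have L1 := N.Lt
  have jt := N2.xi.symm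
  have k : ∃ a ∈ Q t, Commute a z ∧ ¬ Commute a (b z) ∧ a ∈ L.Fx j := by
    obtain ⟨a, ha, a1, a2⟩ := N.exists_a hi
    have n1 := mul_mem (L.nQ a a1 j N2.iz) N2.iz
    have n2 : a * j * a⁻¹ * j ∈ Q t := by
      have := mul_mem ha (L1.nQ j jt _ (inv_mem ha))
      rw [inv_of_sq N2.ii] at this
      simpa only [mul_assoc] using this
    have e0 : a * j * a⁻¹ = a * j * a⁻¹ * j * j := by rw [mul_assoc _ j j, N2.ii, mul_one]
    have nn := N.F.sq_I N.hz N.ht N.ne n1 n2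
    have n3 : Commute a (a * j * a⁻¹ * j) := by
      by_contra h
      have e1 := L1.cj_ne ha n2 h
      have e2 : a * a * j * (a * a)⁻¹ = t * j := by
        rw [cj_cj', e0, cj_mul', e1]
        nth_rewrite 2 [e0]
        rw [(L1.Rz n2).eq, mul_assoc t, ← mul_assoc _ _ j, nn, one_mul]
      rcases L1.sq a ha with e | e <;> rw [e] at e2
      · exact L1.z1 (by simpa using e2.symm)
      · rw [cm_iff.2 jt.symm] at e2
        exact L1.z1 (mul_eq_right.1 e2.symm)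
    have ai : ¬ Commute a i := fun e => a2 ((N.lam' ha a1).2 e)
    have at' := L1.Rz ha
    have eb : a * b t * j * (a * b t)⁻¹ = a * j * a⁻¹ * j * j * t := by
      rw [cj_cj', N.bt_j hi hD N2 hj hjD, cj_mul', cm_iff.2 at', ← e0]
    have hb : a * b t ∈ Q t ∧ Commute (a * b t) z ∧ ¬ Commute (a * b t) (b z) :=
      ⟨mul_mem ha L1.bR, a1.mul_left N.btz, fun e => a2 (by simpa using e.mul_left N.bb.symm.inv_left)⟩
    rcases N.I_cases n1 n2 with (e | e | e) | (e | e) | e | e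
    · exact ⟨a, ha, a1, a2, L.Fx_of_mul a1 N2.iz N2.ii (by
        rcases e with e | e <;> rw [e]
        exacts [one_mem _, L.zb])⟩
    · exact ⟨_, hb.1, hb.2.1, hb.2.2, hb.2.1, Or.inl (by rw [eb, e, ← jt.eq, L1.mzz])⟩
    · exact ⟨_, hb.1, hb.2.1, hb.2.2, hb.2.1, Or.inr (by
        rw [eb, e, N.ctz.eq, mul_assoc z, ← jt.eq, ← mul_assoc, L1.mzz, (L.Rz N2.iz).eq])⟩
    · exact absurd (e ▸ n3) ai
    · exact absurd (L.mzz i ▸ (e ▸ n3).mul_right a1) ai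
    · exact absurd (L1.mzz i ▸ (e ▸ n3).mul_right at') ai
    · have := (e ▸ n3).mul_right a1
      rw [L.mzz] at this
      exact absurd (L1.mzz i ▸ this.mul_right at') ai
  obtain ⟨a, ha, a1, a2, a3⟩ := k
  rcases L1.sq a ha with e | e
  · exact ⟨a, ha, a1, a2, a3, e⟩
  · refine ⟨a * i, mul_mem ha N.it, a1.mul_left (L.Rz N.iz), fun e => a2 ?_,
      mul_mem a3 ⟨L.Rz N.iz, L.cj_cases N.iz N2.iz⟩, ?_⟩
    · simpa using e.mul_left (L.cb i N.iz).inv_left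
    · calc a * i * (a * i) = a * i * a⁻¹ * (a * a) * i := by group
        _ = 1 := by rw [N.a_i ha a1 a2, e, L1.mzz, N.ii]

theorem endH : ∃ (u1 u2 u3 x a : G) (S : Sylow 2 G), u1 ^ 4 = 1 ∧ u2 ^ 4 = 1 ∧ u3 ^ 4 = 1 ∧
    Commute u1 u2 ∧ Commute u1 u3 ∧ Commute u2 u3 ∧ x * x = 1 ∧ a * a = 1 ∧ (x * a) ^ 4 = 1 ∧
    x * u1 * x⁻¹ = u1 ∧ x * u2 * x⁻¹ = u1 ^ 3 * u2 ^ 3 * u3 ^ 2 ∧ x * u3 * x⁻¹ = u3 ^ 3 ∧
    a * u1 * a⁻¹ = u1 ^ 3 ∧ a * u2 * a⁻¹ = u2 ∧ a * u3 * a⁻¹ = u1 ^ 2 * u2 * u3 ^ 3 ∧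
    u1 * u1 ≠ 1 ∧ (S : Subgroup G) = closure {u1, u2, u3, x, a} := by
  have : Fact (Nat.Prime 2) := ⟨Nat.prime_two⟩
  have L := N.L
  have L1 := N.Lt
  have L3 := N.F.loc hD
  have F := N.F
  obtain ⟨a, ha, a1, a2, a3, aa⟩ := N.exists_a' hi hD N2 hj hjD
  obtain ⟨u, hu, a4⟩ := N.exists_u3 hi hD ha a1 a2 aa
  have c1 := F.bb N.hz hD N.iz
  have c2 := F.bb N.ht hD N.it
  have cz := F.cm_sq N.hz c1.symm
  have ct := F.cm_sq N.ht c2.symm
  have ji := N.j_ni hi hD N2 hj hjD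
  have jt := N2.xi.symm
  have jx := N2.ti.symm
  have uu : u ^ 2 = i := by
    rcases hu with rfl | rfl
    · rw [pow_two, L3.bb]
    · rw [inv_pow, pow_two, L3.bb, L3.zinv]
  have mC : ∀ {y : G}, y ∈ centralizer {z} ↔ Commute y z := mem_centralizer_singleton_iff
  obtain ⟨S, hS⟩ := exists_sylow (pg_ext (A := (Q t ⊓ centralizer {z}) ⊔ Q z) (a := b i)
    (IsPGroup.to_sup_of_normal_right' L1.pg.to_inf_left L.pg
      fun y hy => mem_normalizer_of_conj_mem (L.nQ y (mC.1 hy.2))) (by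
      have : cj (b i) ((Q t ⊓ centralizer {z}) ⊔ Q z) ≤ (Q t ⊓ centralizer {z}) ⊔ Q z := by
        rw [cj, Subgroup.map_sup]
        refine sup_le_sup ?_ ?_
        · rintro _ ⟨y, ⟨y1, y2⟩, rfl⟩
          exact ⟨L1.nQ _ ct y y1, mC.2 ((cz.mul_left (mC.1 y2)).mul_left cz.inv_left)⟩
        · rintro _ ⟨y, y1, rfl⟩
          exact L.nQ _ cz y y1
      exact fun y hy => this (conj_mem_cj hy)) (F.b_pow hD))
  have QS : Q z ≤ S := (le_sup_right.trans le_sup_left).trans hS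
  have AS : ∀ y ∈ Q t, Commute y z → y ∈ (S : Subgroup G) :=
    fun y h1 h2 => hS (mem_sup_left (mem_sup_left ⟨h1, mC.2 h2⟩))
  have btS := AS _ L1.bR N.btz
  have biS : b i ∈ (S : Subgroup G) := hS (mem_sup_right (mem_zpowers _))
  refine ⟨b z, b t, u, x, a, S, L.b4, L1.b4, ?_, N.bb, ?_, ?_, N.Lx.zz, aa, ?_,
    cm_iff.2 (L.cb x N.xz), ?_, ?_, L.inv3 ▸ L.inv_b a1 a2, cm_iff.2 (L1.cb a ha), a4,
    L.bb.symm ▸ L.z1, le_antisymm ?_ ((closure_le _).2 ?_)⟩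
  · rw [show 4 = 2 * 2 from rfl, pow_mul, uu, pow_two, N.ii]
  · rcases hu with rfl | rfl
    exacts [c1, c1.inv_right]
  · rcases hu with rfl | rfl
    exacts [c2, c2.inv_right]
  · have e : (x * a) ^ 2 = x * (a * x * a⁻¹) := by rw [inv_of_sq aa, pow_two]; group
    rw [show 4 = 2 * 2 from rfl, pow_mul, e, (N.cx hi hD N2 hj hjD a3).symm.mul_pow, pow_two, pow_two,
      ← cj_mul', N.Lx.zz]
    group
  · rw [N.ev, uu, ← L.inv3, ← L1.inv3, N.bb.inv_inv.eq, ← N.ei]; group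
  · have e := L3.inv_b N.xi (N.x_ni hi hD)
    rcases hu with rfl | rfl
    · rw [e, L3.inv3]
    · rw [cj_inv', e, inv_pow, ← L3.inv3]
  · set M : Subgroup G := closure {b z, b t, u, x, a} with hM
    have m1 : b z ∈ M := subset_closure (by simp)
    have m2 : b t ∈ M := subset_closure (by simp)
    have m3 : u ∈ M := subset_closure (by simp)
    have m4 : x ∈ M := subset_closure (by simp)
    have m5 : a ∈ M := subset_closure (by simp)
    have m6 : b i ∈ M := by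
      rcases hu with rfl | rfl
      exacts [m3, inv_mem_iff.1 m3]
    have QM : Q z ≤ M := N.Q_le ha a1 a2 m1 (L1.bb ▸ mul_mem m2 m2) m4 (uu ▸ pow_mem m3 2)
      (mul_mem (mul_mem m5 m4) (inv_mem m5))
    have k0 : ∀ c ∈ L.Fx t, c ∈ L.Fx i → Commute (c * j * c⁻¹) j → Commute (c * j * c⁻¹) x → c ∈ M := by
      intro c h1 h2 h3 h4
      have j1 := L.nQ c h1.1 j N2.iz
      have x1 := L.nQ c h1.1 x N.xz
      have h5 : c ∈ L.Fx j := L.Fx_of_mul h1.1 N2.iz N2.ii (N.bas4 N2.iz jt ji (mul_mem j1 N2.iz)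
        ((L.cml j1 N2.iz N.tz).2 (L.cm_Fx N2.iz h1)) ((L.cml j1 N2.iz N.iz).2 (L.cm_Fx N2.iz h2))
        (h4.mul_left jx) (h3.mul_left (Commute.refl j)))
      have h6 : c ∈ L.Fx x := L.Fx_of_mul h1.1 N.xz N.Lx.zz (N.bas4 N2.iz jt ji (mul_mem x1 N.xz)
        ((L.cml x1 N.xz N.tz).2 (L.cm_Fx N.xz h1)) ((L.cml x1 N.xz N.iz).2 (L.cm_Fx N.xz h2))
        ((N.cx hi hD N2 hj hjD h5).mul_left (Commute.refl x))
        ((L.cml x1 N.xz N2.iz).2 (L.cm_Fx N.xz h5)))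
      refine QM ((N.mem_Q N2.iz jt jx ji h1 h6).resolve_right fun e => hi ?_)
      exact (mul_mem_cancel_left (L.zb_of_fix N2.iz h5.2)).1 e
    have k1 : ∀ c ∈ L.Fx t, c ∈ L.Fx i → Commute (c * j * c⁻¹) j → c ∈ M := by
      intro c h1 h2 h3
      by_cases h4 : Commute (c * j * c⁻¹) x
      · exact k0 c h1 h2 h3 h4
      have j1 := L.nQ c h1.1 j N2.iz
      have t1 := L.nQ c h1.1 t N.tz
      have e : c * b t * j * (c * b t)⁻¹ = c * j * c⁻¹ * (c * t * c⁻¹) := by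
        rw [cj_cj', N.bt_j hi hD N2 hj hjD, cj_mul']
      refine (mul_mem_cancel_right m2).1 (k0 _ (mul_mem h1 N.bt_Fx)
        (mul_mem h2 (L.Fx_of_cm N.btz (L1.cb i N.it).symm)) ?_ ?_) <;> rw [e]
      · exact h3.mul_left ((L.cm_Fx' N2.iz h1).2 jt.symm)
      · rw [L.cml j1 t1 N.xz, L.cm_Fx' N.xz h1]
        exact iff_of_false h4 N.tx
    have k2 : ∀ c ∈ L.Fx t, c ∈ L.Fx i → c ∈ M := by
      intro c h1 h2
      by_cases h3 : Commute (c * j * c⁻¹) j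
      · exact k1 c h1 h2 h3
      have N3 : Np D Q b z i j _ _ := ⟨F, N.hz, hD, hjD, N.iz, N2.iz, ji, rfl, rfl⟩
      have h4 := N.Fx_lag h1 h2 N3.m_mem (ct.mul_left ((jt.mul_left ct).mul_left jt.inv_left).inv_left)
        ((N3.cm_m N.iz).2 (iff_of_true N3.ti (Commute.refl i))).symm
      refine (mul_mem_cancel_right m6).1 (k1 _ (mul_mem h1 (L.Fx_of_cm cz ct))
        (mul_mem h2 (L.Fx_of_cm cz L3.bz)) ?_)
      rw [cj_cj', N3.btx, cj_mul', L.cml (L.nQ c h1.1 _ N3.m_mem) (L.nQ c h1.1 j N2.iz) N2.iz,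
        L.cm_Fx' N2.iz h4]
      exact iff_of_false N3.m_nc h3
    intro c hc
    have h1 := N.le_Fx S.2 QS btS (AS a ha a1) ha a1 a2 hc
    have e1 : a * (i * t) * a⁻¹ = i := by
      rw [cj_mul', N.a_i ha a1 a2, cm_iff.2 (L1.Rz ha), L1.mzz]
    rcases N.Fx_i h1 with e | e
    · exact k2 c h1 e
    refine (mul_mem_cancel_left m5).1 (k2 _ (mul_mem (N.a_Fx ha a1) h1) ⟨a1.mul_left h1.1, ?_⟩)
    rw [cj_cj']
    rcases e with e | e <;> rw [e]
    · exact Or.inl e1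
    · right; rw [cj_mul', e1, cm_iff.2 a1]
  · intro y hy
    simp only [Set.mem_insert_iff, Set.mem_singleton_iff] at hy
    rcases hy with rfl | rfl | rfl | rfl | rfl
    · exact QS L.bR
    · exact btS
    · rcases hu with rfl | rfl
      exacts [biS, inv_mem biS]
    · exact QS N.xz
    · exact AS _ ha a1

end Np

end H16.SY
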