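import Mathlib
import Cfsg.Agent.H16.YS

/-!
# The three ends
-/

set_option autoImplicit false

open Subgroup

namespace H16.SY

theorem core {G : Type*} [Group G] [Finite G] [IsSimpleGroup G] (hG : ¬ IsMulCommutative G)
    {z b : G} {R Q : Subgroup G} (h : Loc z b R Q) (hAB : Q = R ∨ ∃ β, Big z b β R Q) :
    (Cfsg.PRankLE 2 2 G ∧ ∀ s : G, orderOf s = 2 → IsPGroup 2 (centralizer ({s} : Set G))) ∨
    (∃ S : Sylow 2 G, Cfsg.IsWreathed (S : Subgroup G) ∧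
      ∀ s : G, orderOf s = 2 → Nat.card (centralizer ({s} : Set G)) ≤ 96) ∨
    ∃ (u1 u2 u3 x a : G) (S : Sylow 2 G), u1 ^ 4 = 1 ∧ u2 ^ 4 = 1 ∧ u3 ^ 4 = 1 ∧
      Commute u1 u2 ∧ Commute u1 u3 ∧ Commute u2 u3 ∧ x * x = 1 ∧ a * a = 1 ∧ (x * a) ^ 4 = 1 ∧
      x * u1 * x⁻¹ = u1 ∧ x * u2 * x⁻¹ = u1 ^ 3 * u2 ^ 3 * u3 ^ 2 ∧ x * u3 * x⁻¹ = u3 ^ 3 ∧
      a * u1 * a⁻¹ = u1 ^ 3 ∧ a * u2 * a⁻¹ = u2 ∧ a * u3 * a⁻¹ = u1 ^ 2 * u2 * u3 ^ 3 ∧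
      u1 * u1 ≠ 1 ∧ (S : Subgroup G) = closure {u1, u2, u3, x, a} := by
  rcases hAB with rfl | ⟨β, hB⟩
  swap
  · exact Or.inl (caseC hG h hB.nadj (Or.inr ⟨β, hB⟩))
  obtain ⟨D, Q', b', F, hz⟩ := h.exists_fam
  by_cases h1 : ∀ g, Commute (b' z) (g * z * g⁻¹) → g * z * g⁻¹ = z
  · exact Or.inl (caseC hG (F.loc hz) h1 (Or.inl rfl))
  push Not at h1
  obtain ⟨g, h1, h2⟩ := h1
  by_cases hP : ∀ u ∈ D, ∀ x ∈ D, ∀ y ∈ D, x ∈ Q' u → y ∈ Q' u → Commute x y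
  · exact (F.caseP hP hz (F.cjD hz g) (F.adj hz (F.cjD hz g) h1) h2).elim
  push Not at hP
  obtain ⟨u, hu, x, hx, t, ht, h3, h4, h5⟩ := hP
  have N : Np D Q' b' u t x _ _ := ⟨F, hu, ht, hx, h4, h3, h5, rfl, rfl⟩
  obtain ⟨v', j, N2⟩ := N.sym
  right
  by_cases hi : b' u * (b' t * (x * b' t * x⁻¹)) ∈ zpowers (b' u)
  · exact Or.inl (N.endW hG hi)
  by_cases hj : j ∈ zpowers (b' u)
  · exact Or.inl (N2.endW hG hj)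
  exact Or.inr (N.endH hi (by_contra fun e => N.endU hi e hG) N2 hj
    (by_contra fun e => N2.endU hj e hG))

end H16.SY
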