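import Mathlib
import Cfsg.Agent.H16.ZH2
import Cfsg.Agent.H16.YZ
import Cfsg.Agent.H16.YH
import Cfsg.Agent.H11.HsZ
import Cfsg.Prelude.Def_Spor_Conway
import Cfsg.Prelude.Def_Local

/-!
# The Higman-Sims section
-/

set_option autoImplicit false

open Subgroup H15 H15.XP H6.XS Module
open scoped H24 commutatorElement

namespace H16.SY

variable {G : Type*} [Group G] [Finite G]

theorem Loc.hs_simple [IsSimpleGroup G] (hG : ¬ IsMulCommutative G) {z b : G} {R Q : Subgroup G}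
    (h : Loc z b R Q) (e : Q = R) (hc : Nat.card R = 64) (k : ∃ c, Commute c z ∧ c ∉ R) :
    Cfsg.Spor.IsoHS G := by
  obtain ⟨c, c1, c2⟩ := k
  rcases core hG h (Or.inl e) with ⟨-, h2⟩ | ⟨S, -, h2⟩ | ⟨u1, u2, u3, x, a, S, o1, o2, o3, c12, c13,
    c23, xx, aa, xa, x1, x2, x3, a1, a2, a3, h1, h2⟩
  · refine absurd (e ▸ h.max _ (h2 z h.ord) (fun x hx => mem_centralizer_singleton_iff.1 hx)
      (fun c hc x hx => ?_) (mem_centralizer_singleton_iff.2 c1)) c2
    exact mul_mem (mul_mem (mem_centralizer_singleton_iff.2 hc) hx)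
      (inv_mem (mem_centralizer_singleton_iff.2 hc))
  · have l : R ≤ C{z} := fun r hr => mem_centralizer_singleton_iff.2 (h.Rz hr)
    have h3 := h2 z h.ord
    obtain ⟨m, hm⟩ := card_dvd_of_le l
    have h4 : 0 < Nat.card C{z} := Nat.card_pos
    have h5 : m = 1 := by rw [hc] at hm; omega
    rw [h5, mul_one] at hm
    exact absurd (eq_of_le_of_card_ge l hm.le ▸ mem_centralizer_singleton_iff.2 c1) c2
  · obtain ⟨φ, hφ⟩ := hs_emb o1 o2 o3 c12 c13 c23 xx aa xa x1 x2 x3 a1 a2 a3 h1 S h2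
    exact H11.Hs.isoHS hφ

theorem Loc.hs_ncl {z b : G} {R Q : Subgroup G} (h : Loc z b R Q)
    (hRQ : ∀ q ∈ Q, Commute q b → q ∈ R) (hsq : ∀ q ∈ Q, q * q = 1 ∨ q * q = z)
    (hc : Nat.card Q = 128) (hx : ∃ x ∈ Q, ¬ Commute x b) (hR : R ≤ normalClosure {z}) {g : G}
    (hn : g * z * g⁻¹ ∈ R) (hne : g * z * g⁻¹ ≠ z) :
    Cfsg.Spor.IsoHS (normalClosure ({z} : Set G)) := by
  obtain ⟨k1, k2⟩ := h.simple_ncl hRQ hR hn hne
  obtain ⟨k, hk, ek⟩ := h.fratt hRQ hR g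
  have ext : ∀ x ∈ Q, ¬ Commute x b → Q = R ⊔ zpowers x := fun x x1 x2 => by
    refine le_antisymm (fun q hq => ?_) (sup_le h.RQ (zpowers_le.2 x1))
    by_cases e : Commute q b
    · exact mem_sup_left (hRQ q hq e)
    · have := hRQ _ (mul_mem hq x1) ((h.cmb (h.Qz q hq) (h.Qz x x1)).2 (iff_of_false e x2))
      exact (Subgroup.mul_mem_cancel_right _ (mem_sup_right (mem_zpowers x))).1 (mem_sup_left this)
  have cR : Nat.card R = 64 := by
    obtain ⟨x, x1, x2⟩ := hx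
    have := card_ext (A := R) (a := x) (h.nR x (h.Qz x x1))
      (by rcases hsq x x1 with e | e <;> rw [e]; exacts [one_mem _, h.zR]) fun e => x2 (h.cb x e)
    rw [← ext x x1 x2, hc] at this
    omega
  have hN : (normalClosure ({z} : Set G)).Normal := inferInstance
  generalize normalClosure ({z} : Set G) = N at *
  have h' := h.sub hRQ hR
  refine h'.hs_simple k2 ?_ ((Nat.card_congr (subgroupOfEquivOfLe hR).toEquiv).trans cR)
    ⟨⟨g⁻¹ * b * g⁻¹⁻¹, hN.conj_mem _ (hR h.bR) _⟩, Subtype.ext ?_, fun e => ?_⟩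
  · by_cases hQ : Q ≤ N
    · refine h'.no_big (w := 3) (fun q hq e => hRQ q hq (congrArg Subtype.val e))
        (fun q hq => (hsq q hq).imp Subtype.ext Subtype.ext) le_rfl
        ((Nat.card_congr (subgroupOfEquivOfLe hQ).toEquiv).trans hc) (g := ⟨k, hk⟩) ?_
        fun e => hne (ek ▸ congrArg Subtype.val e)
      exact (ek ▸ h.RQ hn : k * z * k⁻¹ ∈ Q)
    · refine le_antisymm (fun (x : N) hx => hRQ (x : G) hx (by_contra fun e => hQ ?_)) h'.RQ
      rw [ext (x : G) hx e]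
      exact sup_le hR (zpowers_le.2 x.2)
  · have := ((cm_cj g⁻¹).2 (h.cb _ hn)).symm
    rwa [show g⁻¹ * (g * z * g⁻¹) * g⁻¹⁻¹ = z by group] at this
  · have e := h.sq (g⁻¹ * b * g⁻¹⁻¹) e
    rw [← cj_mul', h.bb] at e
    rcases e with e | e
    · exact h.z1 (conj_eq_one_iff.1 e)
    · exact hne (by nth_rewrite 1 [← e]; group)

theorem std_of {e : G} {L : Subgroup G} (ee : e * e = 1) (e1 : e ≠ 1) (hp : Group.IsPerfect L)
    (hn : C{e} ≤ N[L]) (hc : ∀ c, c ∈ C[L] ↔ c = 1 ∨ c = e) (he : e ∈ L)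
    (hs : IsSimpleGroup (L ⧸ center L)) :
    Cfsg.IsStandardSubgroup L ∧ Nat.card (center L) = 2 := by
  have o : orderOf e = 2 := orderOf_eq_prime (by rw [pow_two, ee]) e1
  have hC : C[L] = zpowers e := by ext c; rw [hc, H25.Sym.mem_zp ee]
  have hN : N[zpowers e] ≤ C{e} := fun g hg => by
    rcases (H25.Sym.mem_zp ee).1 ((mem_normalizer_iff.1 hg e).1 (mem_zpowers e)) with k | k
    · exact absurd (conj_eq_one_iff.1 k) e1
    · exact mem_centralizer_singleton_iff.2 (cm_iff.1 k)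
  have hZ : (center L).map L.subtype = zpowers e := by
    rw [← hC]
    refine le_antisymm ?_ fun c h1 => ?_
    · rintro _ ⟨c, h1, rfl⟩
      exact mem_centralizer_iff.2 fun x hx => congrArg Subtype.val (mem_center_iff.1 h1 ⟨x, hx⟩)
    · exact ⟨⟨c, (zpowers_le.2 he) (hC ▸ h1)⟩,
        mem_center_iff.2 fun x => Subtype.ext (mem_centralizer_iff.1 h1 x x.2), rfl⟩
  refine ⟨⟨⟨hp, hs⟩, ⟨by rw [hC, Nat.card_zpowers, o]; exact even_two, fun g hg => ?_⟩,
    fun g _ k => ?_, le_antisymm (H24.N_le_NC _) (by rw [hC]; exact hN.trans hn)⟩, ?_⟩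
  · rw [hC] at hg ⊢
    have : zpowers e ⊓ (zpowers e).map (MulAut.conj g).toMonoidHom = ⊥ := by
      refine (eq_bot_iff_forall _).2 fun x hx => ((H25.Sym.mem_zp ee).1 hx.1).resolve_right ?_
      rintro rfl
      obtain ⟨y, h1, h2⟩ := hx.2
      rcases (H25.Sym.mem_zp ee).1 h1 with rfl | rfl
      · exact e1 (by simpa using h2.symm)
      · refine hg (mem_normalizer_fintype fun n hn => ?_)
        obtain ⟨m, rfl⟩ := hn
        have : Commute g y := cm_iff.1 h2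
        exact (cm_iff.2 (this.zpow_right m)).symm ▸ zpow_mem (mem_zpowers y) m
    rw [this]
    simp
  · have k1 : L.map (MulAut.conj g).toMonoidHom ≤ zpowers e := by
      rw [← hC]
      exact commutator_eq_bot_iff_le_centralizer.1 (by rw [commutator_comm]; exact k)
    have k2 : L = zpowers e := by
      refine (eq_of_le_of_card_ge (zpowers_le.2 he) ?_).symm
      rw [← H24.card_cj g L]
      exact card_le_of_le k1
    have : center L = ⊤ := map_injective (subtype_injective L) (by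
      rw [hZ, ← MonoidHom.range_eq_map, range_subtype, k2])
    have k3 : Subsingleton (L ⧸ center L) := by
      rw [this]; exact QuotientGroup.subsingleton_quotient_top
    exact not_subsingleton _ k3
  · rw [← card_map_of_injective (subtype_injective L), hZ, Nat.card_zpowers, o]

/-- local data around a non-central involution `e` of `Q z` outside the class of `z` -/
structure HD (D : Set G) (Q : G → Subgroup G) (z e b : G) : Prop where
  sit : Sit D Q 4
  hz : z ∈ D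
  he : e ∈ Q z
  ee : e * e = 1
  e1 : e ≠ 1
  eD : e ∉ D
  hb : b ∈ Q z
  bb : b * b = z
  be : Commute b e
  tr : ∀ e' ∈ Q z, e' * e' = 1 → e' ≠ 1 → e' ∉ D → ∃ c, Commute c z ∧ c * e' * c⁻¹ = e
  o2 : ∀ N : Subgroup G, IsPGroup 2 N → (∀ x ∈ N, Commute x z ∧ Commute x e) →
    (∀ c, Commute c z → Commute c e → ∀ x ∈ N, c * x * c⁻¹ ∈ N) → N ≤ Q z
  nb : ∀ c, Commute c z → Commute c e → c * b * c⁻¹ * b⁻¹ ∈ closure {z, e}
  ker : ∀ c, Commute c z → Commute c e →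
    (∀ r ∈ Q z, Commute r e → Commute r b → c * r * c⁻¹ * r⁻¹ ∈ closure {b, e}) → c ∈ Q z
  gen : ∀ r ∈ Q z, Commute r e → Commute r b →
    r ∈ closure {n | n ∈ D ∧ n ∈ Q z ∧ e ∈ Q n ∧ Commute n b}

namespace HD

variable {D : Set G} {Q : G → Subgroup G} {z e b : G} (h : HD D Q z e b)
include h

theorem ze : Commute z e := (mem_centralizer_singleton_iff.1 (h.sit.le h.hz h.he)).symm
theorem ez : e ≠ z := fun k => h.eD (k ▸ h.hz)
theorem zeD : z * e ∉ D := fun k => h.eD ((h.sit.mul_mem_D h.hz h.he h.e1 h.ez).1 k)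
theorem Qz {q : G} (hq : q ∈ Q z) : Commute q z := mem_centralizer_singleton_iff.1 (h.sit.le h.hz hq)

theorem cases {x y : G} (hx : x ∈ Q z) (hy : y ∈ Q z) : x * y * x⁻¹ = y ∨ x * y * x⁻¹ = y * z :=
  (h.Qz hy).eq ▸ h.sit.cj_or h.hz hx hy

theorem perp (l : List G) (hl : ∀ t ∈ l, t ∈ Q z) {x : G} (hx : x ∈ Q z)
    (k : ∀ y ∈ Q z, (∀ t ∈ l, Commute y t) → Commute y x) : x ∈ zpowers z ⊔ closure {t | t ∈ l} :=
  perp_perp (h.sit.sq h.hz) (fun _ hx _ hy => h.cases hx hy) (fun _ hx => h.Qz hx)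
    (fun x _ k => (h.sit.mem_zp h.hz).2 (h.sit.eq_or h.hz
      (mem_centralizer_iff.2 fun y hy => (k y hy).eq.symm))) l hl x hx k

theorem cj {n : G} (h1 : n ∈ D) (h3 : e ∈ Q n) : ∃ k, Commute k e ∧ k * z * k⁻¹ = n := by
  obtain ⟨g, rfl⟩ := h.sit.trans z h.hz n h1
  rw [h.sit.eqv z h.hz, H24.mem_cj] at h3
  obtain ⟨c, c1, c2⟩ := h.tr _ h3 (by
      rw [show g⁻¹ * e * g * (g⁻¹ * e * g) = g⁻¹ * (e * e) * g by group, h.ee]; group)
    (fun k => h.e1 (by rw [show e = g * (g⁻¹ * e * g) * g⁻¹ by group, k]; group))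
    fun k => h.eD (by simpa [mul_assoc] using h.sit.conj _ k g)
  refine ⟨g * c⁻¹, cm_iff.1 ?_, by rw [cj_cj', cm_iff.2 c1.inv_left]⟩
  nth_rewrite 1 [← c2]
  group

theorem card_P : Nat.card ↥(Q z ⊓ C{e}) = 256 := by
  obtain ⟨x, x1, x2⟩ := h.sit.exists_swap h.hz h.he h.e1 h.ez
  have nc : ∀ y, y * e * y⁻¹ = z * e → y ∉ C{e} := fun y k1 k2 => by
    rw [cm_iff.2 (mem_centralizer_singleton_iff.1 k2)] at k1
    exact h.sit.ne_one h.hz (right_eq_mul.1 k1)
  have k := card_ext (A := Q z ⊓ C{e}) (a := x) (fun y hy => mem_inf.2 ⟨mul_mem (mul_mem x1 hy.1) (inv_mem x1), by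
      rcases h.cases x1 hy.1 with k | k <;> rw [k]
      exacts [hy.2, mul_mem hy.2 (mem_centralizer_singleton_iff.2 h.ze)]⟩)
    ⟨mul_mem x1 x1, by
      rcases h.sit.sq_or h.hz x1 with k | k <;> rw [k]
      exacts [one_mem _, mem_centralizer_singleton_iff.2 h.ze]⟩ fun k => nc x x2 k.2
  have : Q z ⊓ C{e} ⊔ zpowers x = Q z := by
    refine le_antisymm (sup_le inf_le_left (zpowers_le.2 x1)) fun q hq => ?_
    rcases h.sit.cj_or h.hz hq h.he with k | k
    · exact mem_sup_left ⟨hq, mem_centralizer_singleton_iff.2 (cm_iff.1 k)⟩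
    · refine (Subgroup.mul_mem_cancel_right _ (mem_sup_right (mem_zpowers x))).1
        (mem_sup_left ⟨mul_mem hq x1, mem_centralizer_singleton_iff.2 (cm_iff.1 ?_)⟩)
      rw [cj_cj', x2, cj_mul', k, cm_iff.2 (h.Qz hq), ← mul_assoc, h.sit.sq h.hz, one_mul]
  rw [this, h.sit.card z h.hz] at k
  omega

section

variable {Y : Type*} [Group Y] [Finite Y] {φ : C{e} →* Y} (hs : Function.Surjective φ)
  (hk : ∀ x, φ x = 1 ↔ (x : G) = 1 ∨ (x : G) = e)
include hk

omit h [Finite G] [Finite Y] in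
theorem φ_eq {x y : C{e}} : φ x = φ y ↔ (x : G) = y ∨ (x : G) = y * e := by
  rw [eq_comm, ← inv_mul_eq_one, ← map_inv, ← map_mul, hk]
  simp only [Subgroup.coe_mul, Subgroup.coe_inv, inv_mul_eq_iff_eq_mul, mul_one]

omit [Finite Y] in
theorem cm_z {c : C{e}} :
    Commute (φ c) (φ ⟨z, mem_centralizer_singleton_iff.2 h.ze⟩) ↔ Commute (c : G) z := by
  rw [← cm_iff, ← map_inv, ← map_mul, ← map_mul, φ_eq hk, ← cm_iff]
  exact or_iff_left fun k => h.zeD (k ▸ h.sit.conj z h.hz c)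

omit [Finite Y] in
theorem cm_Q {x y : C{e}} (hx : (x : G) ∈ Q z) (hy : (y : G) ∈ Q z) :
    Commute (φ x) (φ y) ↔ Commute (x : G) y := by
  rw [← cm_iff, ← map_inv, ← map_mul, ← map_mul, φ_eq hk, ← cm_iff]
  refine or_iff_left fun k => ?_
  rcases h.cases hx hy with k' | k'
  · exact h.e1 (left_eq_mul.1 (k'.symm.trans k))
  · exact h.ez (mul_left_cancel (k.symm.trans k'))

omit h [Finite G] [Finite Y] in
theorem mem_zp {x y : C{e}} :
    φ x ∈ zpowers (φ y) ↔ (x : G) ∈ closure {(y : G), e} := by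
  have e0 : φ ⟨e, H24.self_mem_C1 e⟩ = 1 := (hk _).2 (Or.inr rfl)
  constructor
  · rintro ⟨n, hn⟩
    have : φ x = φ (y ^ n) := by rw [map_zpow]; exact hn.symm
    have k : ((y ^ n : C{e}) : G) ∈ closure {(y : G), e} := zpow_mem (subset_closure (by simp)) n
    rcases (φ_eq hk).1 this with k' | k' <;> rw [k']
    exacts [k, mul_mem k (subset_closure (by simp))]
  · intro k
    have : closure {(y : G), e} ≤ ((zpowers (φ y)).comap φ).map (Subgroup.subtype _) := by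
      rw [closure_le, Set.insert_subset_iff, Set.singleton_subset_iff]
      exact ⟨⟨y, mem_zpowers _, rfl⟩, ⟨⟨e, H24.self_mem_C1 e⟩, by rw [SetLike.mem_coe, mem_comap, e0]; exact one_mem _, rfl⟩⟩
    exact (mem_map_iff_mem (subtype_injective _)).1 (this k)

omit h [Finite G] [Finite Y] in
theorem mem_im {A : Subgroup G} (hA : e ∈ A) {x : C{e}} :
    φ x ∈ (A.subgroupOf C{e}).map φ ↔ (x : G) ∈ A := by
  refine ⟨fun ⟨y, h1, h2⟩ => ?_, fun k => ⟨x, k, rfl⟩⟩
  rcases (φ_eq hk).1 h2.symm with k | k <;> rw [k]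
  exacts [h1, mul_mem h1 hA]

include hs in
theorem loc : Loc (φ ⟨z, mem_centralizer_singleton_iff.2 h.ze⟩)
    (φ ⟨b, mem_centralizer_singleton_iff.2 h.be⟩) (((Q z ⊓ C{b}).subgroupOf C{e}).map φ)
    (((Q z).subgroupOf C{e}).map φ) := by
  have eR : e ∈ Q z ⊓ C{b} := ⟨h.he, mem_centralizer_singleton_iff.2 h.be.symm⟩
  have ce : ∀ x : C{e}, Commute (x : G) e := fun x => mem_centralizer_singleton_iff.1 x.2
  have zb : z ∈ closure {b, e} := h.bb ▸ mul_mem (subset_closure (by simp)) (subset_closure (by simp))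
  have bz : Commute b z := h.Qz h.hb
  have nQ : ∀ c : G, Commute c z → ∀ q ∈ Q z, c * q * c⁻¹ ∈ Q z := fun c hc q hq =>
    (mem_normalizer_iff.1 (h.sit.norm h.hz (mem_centralizer_singleton_iff.2 hc)) q).1 hq
  have nb : ∀ c : C{e}, Commute (c : G) z →
      φ c * φ ⟨b, mem_centralizer_singleton_iff.2 h.be⟩ * (φ c)⁻¹ = φ ⟨b, mem_centralizer_singleton_iff.2 h.be⟩ ∨
      φ c * φ ⟨b, mem_centralizer_singleton_iff.2 h.be⟩ * (φ c)⁻¹ =
        (φ ⟨b, mem_centralizer_singleton_iff.2 h.be⟩)⁻¹ := fun c hc => by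
    have k := (mem_zp hk (x := c * ⟨b, mem_centralizer_singleton_iff.2 h.be⟩ * c⁻¹ *
      ⟨b, mem_centralizer_singleton_iff.2 h.be⟩⁻¹) (y := ⟨z, mem_centralizer_singleton_iff.2 h.ze⟩)).2
      (h.nb c hc (ce c))
    rw [H25.Sym.mem_zp (by rw [← map_mul]; exact (hk _).2 (Or.inl (h.sit.sq h.hz)))] at k
    simp only [map_mul, map_inv, mul_inv_eq_iff_eq_mul (b := φ ⟨b, _⟩), one_mul] at k
    refine k.imp id fun k => k.trans (eq_inv_of_mul_eq_one_left ?_)
    rw [← map_mul, ← map_mul]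
    refine (hk _).2 (Or.inl ?_)
    change z * b * b = 1
    rw [mul_assoc, h.bb, h.sit.sq h.hz]
  refine ⟨by rw [← map_mul]; exact congrArg φ (Subtype.ext h.bb),
    by rw [← map_mul]; exact (hk _).2 (Or.inl (h.sit.sq h.hz)),
    fun k => ((hk _).1 k).elim (h.sit.ne_one h.hz) h.ez.symm,
    ⟨_, ⟨h.hb, H24.self_mem_C1 b⟩, rfl⟩, map_mono fun x hx => hx.1, ?_,
    (h.sit.two h.hz).comap_subtype.map φ, fun c hc => ?_, fun c hc => ?_, fun c hc => ?_, ?_, ?_, ?_,
    fun X h1 h2 h3 x hx => ?_, fun c hc k => ?_, ?_⟩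
  · rintro _ ⟨q, hq, rfl⟩
    exact (h.cm_z hk).2 (h.Qz hq)
  · obtain ⟨c, rfl⟩ := hs c
    rintro _ ⟨r, hr, rfl⟩
    have hc' := (h.cm_z hk).1 hc
    refine ⟨c * r * c⁻¹, ⟨nQ c hc' r hr.1, mem_centralizer_singleton_iff.2 ?_⟩, by simp⟩
    refine (h.cm_Q hk (x := c * r * c⁻¹) (y := ⟨b, mem_centralizer_singleton_iff.2 h.be⟩)
      (nQ c hc' r hr.1) h.hb).1 ?_
    have k : Commute (φ r) (φ ⟨b, mem_centralizer_singleton_iff.2 h.be⟩) :=
      (h.cm_Q hk hr.1 h.hb).2 (mem_centralizer_singleton_iff.1 hr.2)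
    rw [map_mul, map_mul, map_inv]
    rw [← cm_cj (φ c)] at k
    rcases nb c hc' with e | e <;> rw [e] at k
    exacts [k, by simpa using k.inv_right]
  · obtain ⟨c, rfl⟩ := hs c
    rintro _ ⟨r, hr, rfl⟩
    exact ⟨c * r * c⁻¹, nQ c ((h.cm_z hk).1 hc) r hr, by simp⟩
  · obtain ⟨c, rfl⟩ := hs c
    exact nb c ((h.cm_z hk).1 hc)
  · rintro _ ⟨r, hr, rfl⟩
    rw [← map_mul]
    exact (h.sit.sq_or h.hz hr.1).imp (fun k => (hk _).2 (Or.inl k)) fun k => congrArg φ (Subtype.ext k)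
  · rintro _ ⟨r, hr, rfl⟩
    exact (h.cm_Q hk hr.1 h.hb).2 (mem_centralizer_singleton_iff.1 hr.2)
  · rintro _ ⟨r, hr, rfl⟩ k
    rw [mem_zp hk]
    have := h.perp [b, e] (by simp [h.hb, h.he]) hr.1 fun y hy k' => by
      have y1 : y ∈ C{e} := mem_centralizer_singleton_iff.2 (k' e (by simp))
      exact ((h.cm_Q hk (y := ⟨y, y1⟩) hr.1 hy).1
        (k _ ⟨⟨y, y1⟩, ⟨hy, mem_centralizer_singleton_iff.2 (k' b (by simp))⟩, rfl⟩)).symm
    exact (sup_le (zpowers_le.2 zb) (Subgroup.closure_mono fun t ht => by simpa using ht) : _ ≤ closure {b, e}) this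
  · obtain ⟨x, rfl⟩ := hs x
    have kp : IsPGroup 2 φ.ker := fun y => ⟨1, Subtype.ext (Subtype.ext (by
      rcases (hk y).1 y.2 with k | k <;> simp [pow_two, k, h.ee]))⟩
    refine ⟨x, h.o2 ((X.comap φ).map (Subgroup.subtype _)) ((h1.comap_of_ker_isPGroup φ kp).map _)
      ?_ (fun c c1 c2 => ?_) ⟨x, hx, rfl⟩, rfl⟩
    · rintro _ ⟨y, hy, rfl⟩
      exact ⟨(h.cm_z hk).1 (h2 _ hy), ce y⟩
    · rintro _ ⟨y, hy, rfl⟩
      refine ⟨⟨c, mem_centralizer_singleton_iff.2 c2⟩ * y * ⟨c, mem_centralizer_singleton_iff.2 c2⟩⁻¹, ?_, rfl⟩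
      rw [SetLike.mem_coe, mem_comap, map_mul, map_mul, map_inv]
      exact h3 _ ((h.cm_z hk).2 c1) _ hy
  · obtain ⟨c, rfl⟩ := hs c
    refine ⟨c, h.ker c ((h.cm_z hk).1 hc) (ce c) fun r r1 r2 r3 => ?_, rfl⟩
    have := k _ ⟨⟨r, mem_centralizer_singleton_iff.2 r2⟩, ⟨r1, mem_centralizer_singleton_iff.2 r3⟩, rfl⟩
    rw [← map_inv, ← map_inv, ← map_mul, ← map_mul, ← map_mul, mem_zp hk] at this
    exact this
  · rintro _ ⟨r, hr, rfl⟩ - k
    rw [← H25.Sym.mem_zp (by rw [← map_mul]; exact (hk _).2 (Or.inl (h.sit.sq h.hz))), mem_zp hk]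
    have := h.perp [e] (by simp [h.he]) hr fun y hy k' => by
      have y1 : y ∈ C{e} := mem_centralizer_singleton_iff.2 (k' e (by simp))
      exact ((h.cm_Q hk (y := ⟨y, y1⟩) hr hy).1 (k _ ⟨⟨y, y1⟩, hy, rfl⟩)).symm
    exact (sup_le (zpowers_le.2 (subset_closure (by simp)))
      (Subgroup.closure_mono fun t ht => by simp at ht; simp [ht]) : _ ≤ closure {z, e}) this

include hs in
theorem std : ∃ L : Subgroup G, Cfsg.IsStandardSubgroup L ∧ Nat.card (center L) = 2 ∧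
    Nonempty (L ⧸ center L ≃* Cfsg.Spor.HS) := by
  have l := h.loc hs hk
  have eR : e ∈ Q z ⊓ C{b} := ⟨h.he, mem_centralizer_singleton_iff.2 h.be.symm⟩
  have ce : ∀ x : C{e}, Commute (x : G) e := fun x => mem_centralizer_singleton_iff.1 x.2
  set z' : C{e} := ⟨z, mem_centralizer_singleton_iff.2 h.ze⟩ with hz'
  set b' : C{e} := ⟨b, mem_centralizer_singleton_iff.2 h.be⟩ with hb'
  set M := normalClosure ({z'} : Set C{e}) with hM
  have zM : z' ∈ M := subset_normalClosure rfl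
  have gen : ∀ r : C{e}, (r : G) ∈ Q z ⊓ C{b} → r ∈ M := fun r hr => by
    have : closure {n | n ∈ D ∧ n ∈ Q z ∧ e ∈ Q n ∧ Commute n b} ≤ M.map (Subgroup.subtype _) := by
      refine (closure_le _).2 fun n hn => ?_
      obtain ⟨k, k1, rfl⟩ := h.cj hn.1 hn.2.2.1
      exact ⟨_, (normalClosure_normal (s := {z'})).conj_mem _ zM ⟨k, mem_centralizer_singleton_iff.2 k1⟩, rfl⟩
    exact (mem_map_iff_mem (subtype_injective _)).1
      (this (h.gen r hr.1 (ce r) (mem_centralizer_singleton_iff.1 hr.2)))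
  have eM : (⟨e, H24.self_mem_C1 e⟩ : C{e}) ∈ M := gen _ eR
  have hmap : M.map φ = normalClosure {φ z'} := by rw [hM, map_normalClosure _ _ hs, Set.image_singleton]
  obtain ⟨n, n1, n2, n3, n4, n5⟩ : ∃ n, n ∈ D ∧ n ∈ Q z ∧ e ∈ Q n ∧ Commute n b ∧ n ≠ z := by
    by_contra k
    push Not at k
    have : closure {n | n ∈ D ∧ n ∈ Q z ∧ e ∈ Q n ∧ Commute n b} ≤ zpowers z :=
      (closure_le _).2 fun n hn => k n hn.1 hn.2.1 hn.2.2.1 hn.2.2.2 ▸ mem_zpowers _
    exact ((h.sit.mem_zp h.hz).1 (this (h.gen e h.he (Commute.refl e) h.be.symm))).elim h.e1 h.ez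
  obtain ⟨k, k1, rfl⟩ := h.cj n1 n3
  set k' : C{e} := ⟨k, mem_centralizer_singleton_iff.2 k1⟩ with hk'
  have hRQ : ∀ q ∈ ((Q z).subgroupOf C{e}).map φ, Commute q (φ b') →
      q ∈ ((Q z ⊓ C{b}).subgroupOf C{e}).map φ := by
    rintro _ ⟨q, hq, rfl⟩ k
    exact ⟨q, ⟨hq, mem_centralizer_singleton_iff.2 ((h.cm_Q hk hq h.hb).1 k)⟩, rfl⟩
  have hR : ((Q z ⊓ C{b}).subgroupOf C{e}).map φ ≤ normalClosure {φ z'} :=
    hmap ▸ map_mono fun r hr => gen r hr
  have hn : φ k' * φ z' * (φ k')⁻¹ ∈ ((Q z ⊓ C{b}).subgroupOf C{e}).map φ :=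
    ⟨k' * z' * k'⁻¹, ⟨n2, mem_centralizer_singleton_iff.2 n4⟩, by simp⟩
  have hne : φ k' * φ z' * (φ k')⁻¹ ≠ φ z' := fun e => n5 (cm_iff.2 ((h.cm_z hk).1 (cm_iff.1 e)))
  obtain ⟨s1, s2⟩ := l.simple_ncl hRQ hR hn hne
  obtain ⟨f⟩ := l.hs_ncl hRQ (by
      rintro _ ⟨r, hr, rfl⟩
      rw [← map_mul]
      exact (h.sit.sq_or h.hz hr).imp (fun k => (hk _).2 (Or.inl k))
        fun k => congrArg φ (Subtype.ext k)) (by
      have k1 : φ.ker = zpowers ⟨e, H24.self_mem_C1 e⟩ := by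
        ext x
        rw [MonoidHom.mem_ker, hk, H25.Sym.mem_zp (Subtype.ext h.ee), Subtype.ext_iff, Subtype.ext_iff]
        rfl
      have k2 : Nat.card ((Q z).subgroupOf C{e}) = 256 := by
        rw [← h.card_P, ← card_map_of_injective (subtype_injective C{e}), subgroupOf_map_subtype]
      have k3 : φ.ker ≤ (Q z).subgroupOf C{e} := k1 ▸ zpowers_le.2 h.he
      have k4 := (φ.ker.subgroupOf ((Q z).subgroupOf C{e})).card_mul_index
      rw [Nat.card_congr (subgroupOfEquivOfLe k3).toEquiv, k2, ← relIndex, relIndex_ker, k1,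
        Nat.card_zpowers, orderOf_eq_prime (p := 2) (by rw [pow_two]; exact Subtype.ext h.ee)
          fun k => h.e1 (congrArg Subtype.val k)] at k4
      omega) (by
      by_contra k
      push Not at k
      have := h.perp [e] (by simp [h.he]) h.hb fun y hy k' =>
        (h.cm_Q hk (x := ⟨y, mem_centralizer_singleton_iff.2 (k' e (by simp))⟩) (y := b') hy h.hb).1
          (k _ ⟨_, hy, rfl⟩)
      have k2 : b ∈ closure {z, e} := (sup_le (zpowers_le.2 (subset_closure (by simp)))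
        (Subgroup.closure_mono fun t ht => by simp at ht; simp [ht]) : _ ≤ closure {z, e}) this
      rcases (H25.Sym.mem_zp l.zz).1 ((mem_zp hk (x := b') (y := z')).2 k2) with k3 | k3
      · exact l.z1 (by rw [← l.bb, k3, one_mul])
      · exact l.z1 (by rw [← l.bb, k3, l.zz])) hR hn hne
  have eL : e ∈ M.map (Subgroup.subtype _) := ⟨_, eM, rfl⟩
  have hc : ∀ c, c ∈ C[M.map (Subgroup.subtype C{e})] ↔ c = 1 ∨ c = e := fun c => by
    constructor
    · intro hc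
      have c1 : c ∈ C{e} := mem_centralizer_singleton_iff.2 (mem_centralizer_iff.1 hc e eL).symm
      have c2 : ∀ y ∈ normalClosure {φ z'}, Commute y (φ ⟨c, c1⟩) := by
        rw [← hmap]
        rintro _ ⟨y, hy, rfl⟩
        exact Commute.map (Subtype.ext (mem_centralizer_iff.1 hc y ⟨y, hy, rfl⟩)) φ
      have c3 := hR (l.zb_le (l.cenR hRQ fun r hr => (c2 r (hR hr)).symm))
      refine (hk ⟨c, c1⟩).1 ?_
      rcases (center (normalClosure ({φ z'} : Set Y))).normal_of_characteristic.eq_bot_or_eq_top with k | k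
      · exact congrArg Subtype.val ((eq_bot_iff_forall _).1 k ⟨_, c3⟩
          (mem_center_iff.2 fun y => Subtype.ext (c2 y y.2)))
      · exact absurd ⟨⟨fun x y => mem_center_iff.1 (k ▸ mem_top y) x⟩⟩ s2
    · rintro (rfl | rfl)
      · exact one_mem _
      · refine mem_centralizer_iff.2 ?_
        rintro _ ⟨y, -, rfl⟩
        exact ce y
  let ι := (M.equivMapOfInjective _ (subtype_injective C{e})).symm
  let ψ : M.map (Subgroup.subtype C{e}) →* normalClosure ({φ z'} : Set Y) :=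
    ((MulEquiv.subgroupCongr hmap).toMonoidHom.comp (φ.subgroupMap M)).comp ι.toMonoidHom
  have ψs : Function.Surjective ψ :=
    ((MulEquiv.subgroupCongr hmap).surjective.comp (φ.subgroupMap_surjective M)).comp ι.surjective
  have ιv : ∀ x, ((ι x : C{e}) : G) = x := fun x =>
    congrArg Subtype.val (ι.symm_apply_apply x)
  have ψk : center _ = ψ.ker := by
    ext x
    have : x ∈ ψ.ker ↔ φ (ι x) = 1 := Subtype.ext_iff
    rw [this, hk, ιv, ← hc, mem_center_iff, mem_centralizer_iff]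
    exact ⟨fun k y hy => congrArg Subtype.val (k ⟨y, hy⟩), fun k y => Subtype.ext (k y y.2)⟩
  have g := QuotientGroup.liftEquiv _ ψs ψk
  have hp : Group.IsPerfect (M.map (Subgroup.subtype C{e})) := by
    obtain ⟨x, x1, x2⟩ := l.exists_swap hn (by rw [← cj_mul', l.zz]; group)
      (fun e => l.z1 (conj_eq_one_iff.1 e)) hne
    obtain ⟨x, x3, rfl⟩ := x1
    have a1 : z' = ⁅x, k' * z' * k'⁻¹⁆ := by
      have a2 : ¬ Commute (x : G) (k * z * k⁻¹) := fun e => l.ne_cj x2 (by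
        have := (h.cm_Q hk (y := k' * z' * k'⁻¹) x3.1 n2).2 e
        simpa using this)
      have a3 : (x : G) * (k * z * k⁻¹) * (x : G)⁻¹ = z * (k * z * k⁻¹) :=
        (h.sit.cj_or h.hz x3.1 n2).resolve_left fun e => a2 (cm_iff.1 e)
      refine Subtype.ext ?_
      change z = x * (k * z * k⁻¹) * (x : G)⁻¹ * (k * z * k⁻¹)⁻¹
      rw [a3, mul_inv_cancel_right]
    have a4 : M ≤ ⁅M, M⁆ := normalClosure_le_normal (Set.singleton_subset_iff.2 (a1 ▸
      commutator_mem_commutator (gen x x3) (gen _ ⟨n2, mem_centralizer_singleton_iff.2 n4⟩)))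
    have : Group.IsPerfect M := isPerfect_iff.2 (le_antisymm (commutator_le_left M M) a4)
    exact Group.IsPerfect.map _
  obtain ⟨a, a'⟩ := std_of h.ee h.e1 hp (H24.nml_map_subtype M).norm hc eL g.isSimpleGroup
  exact ⟨_, a, a', ⟨g.trans f⟩⟩

end

theorem exists_std : ∃ L : Subgroup G, Cfsg.IsStandardSubgroup L ∧ Nat.card (center L) = 2 ∧
    Nonempty (L ⧸ center L ≃* Cfsg.Spor.HS) := by
  have : (zpowers (⟨e, H24.self_mem_C1 e⟩ : C{e})).Normal := ⟨fun n hn g => by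
    obtain ⟨k, rfl⟩ := hn
    have : Commute g (⟨e, H24.self_mem_C1 e⟩ : C{e}) :=
      Subtype.ext (mem_centralizer_singleton_iff.1 g.2)
    rw [cm_iff.2 (this.zpow_right k)]
    exact zpow_mem (mem_zpowers _) k⟩
  refine h.std (φ := QuotientGroup.mk' (zpowers ⟨e, H24.self_mem_C1 e⟩))
    (QuotientGroup.mk'_surjective _) fun x => ?_
  rw [QuotientGroup.mk'_apply, QuotientGroup.eq_one_iff, H25.Sym.mem_zp (Subtype.ext h.ee),
    Subtype.ext_iff, Subtype.ext_iff]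
  rfl

end HD

end H16.SY
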