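import Mathlib
import Cfsg.Agent.H6.XZB

/-!
# The case with 75 points: facts on codes
-/

set_option autoImplicit false
set_option synthInstance.maxSize 100000

namespace H16.ZH

open H6.XS

theorem rook1 {X : Type*} {i k i' k' : X → ℕ}
    (adj : ∀ a b, (i a = i b ∨ k a = k b) ↔ (i' a = i' b ∨ k' a = k' b))
    (ex : ∀ a b, ∃ c, i c = i a ∧ k c = k b) (ni : ∀ a, ∃ b, i b ≠ i a) (nk : ∀ a, ∃ b, k b ≠ k a)
    {u v : X} (h1 : i u = i v) (h2 : k u ≠ k v) (h3 : i' u = i' v) (a b : X) :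
    i a = i b ↔ i' a = i' b := by
  have cor : ∀ a b c, i a = i b → k a ≠ k b → k a = k c → i a ≠ i c →
      (i' a = i' b ∧ k' a ≠ k' b ∧ k' a = k' c ∧ i' a ≠ i' c) ∨
      (i' a ≠ i' b ∧ k' a = k' b ∧ k' a ≠ k' c ∧ i' a = i' c) := fun a b c e1 e2 e3 e4 => by
    have := adj a b; have := adj a c; have := adj b c; omega
  have exc : ∀ a, ∃ c, k a = k c ∧ i a ≠ i c := fun a => by
    obtain ⟨d, hd⟩ := ni a
    obtain ⟨c, c1, c2⟩ := ex d a
    exact ⟨c, by omega, by omega⟩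
  have exb : ∀ a, ∃ b, i a = i b ∧ k a ≠ k b := fun a => by
    obtain ⟨d, hd⟩ := nk a
    obtain ⟨c, c1, c2⟩ := ex a d
    exact ⟨c, by omega, by omega⟩
  have B : ∀ a b d, i a = i b → k a ≠ k b → i' a = i' b → i a = i d → k a ≠ k d → i' a = i' d :=
    fun a b d e1 e2 e3 e4 e5 => by
      obtain ⟨c, c1, c2⟩ := exc a
      have := cor a b c e1 e2 c1 c2; have := cor a d c e4 e5 c1 c2; omega
  have row0 : ∀ c d, i c = i u → i d = i u → k c ≠ k d → i' c = i' d := fun c d e1 e2 e3 => by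
    by_cases e : k c = k u
    · exact B c v d (by omega) (by omega)
        (B v u c h1.symm h2.symm h3.symm (by omega) (by omega)).symm (by omega) e3
    · exact B c u d e1 e (B u v c h1 h2 h3 e1.symm (by omega)).symm (by omega) e3
  have row : ∀ a b, i a = i b → k a ≠ k b → i' a = i' b := fun a b e1 e2 => by
    by_cases e : i a = i u
    · exact row0 a b e (by omega) e2
    · obtain ⟨c, c1, c2⟩ := ex u a
      obtain ⟨d, d1, d2⟩ := exb c
      have := row0 c d c1 (by omega) d2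
      have := cor c d a d1 d2 c2 (by omega)
      have := cor a b c e1 e2 c2.symm (by omega)
      omega
  obtain ⟨d, d1, d2⟩ := exb a
  have := row a d d1 d2
  constructor
  · intro e
    by_cases e' : k a = k b
    · have := row b d (by omega) (by omega); omega
    · exact row a b e e'
  · intro e
    by_contra e'
    have := adj a b
    have := cor a d b d1 d2 (by omega) e'
    omega

theorem rook {X : Type*} [Nonempty X] {i k i' k' : X → ℕ}
    (adj : ∀ a b, (i a = i b ∨ k a = k b) ↔ (i' a = i' b ∨ k' a = k' b))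
    (ex : ∀ a b, ∃ c, i c = i a ∧ k c = k b) (ni : ∀ a, ∃ b, i b ≠ i a) (nk : ∀ a, ∃ b, k b ≠ k a) :
    (∀ a b, i a = i b ↔ i' a = i' b) ∨
      ((∀ a b, i a = i b ↔ k' a = k' b) ∧ ∀ a b, k a = k b ↔ i' a = i' b) := by
  obtain ⟨u⟩ := ‹Nonempty X›
  obtain ⟨d, hd⟩ := ni u
  obtain ⟨w, w1, w2⟩ := ex d u
  obtain ⟨d', hd'⟩ := nk u
  obtain ⟨v, v1, v2⟩ := ex u d'
  by_cases e : i' u = i' v
  · exact Or.inl (rook1 adj ex ni nk v1.symm (by omega) e)
  · have := adj u v; have := adj u w; have := adj v w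
    refine Or.inr ⟨rook1 (u := u) (v := v) (fun a b => (adj a b).trans or_comm) ex ni nk v1.symm
      (by omega) (by omega), rook1 (u := u) (v := w) (fun a b => or_comm.trans (adj a b))
      (fun a b => (ex b a).imp fun _ => And.symm) nk ni w2.symm (by omega) (by omega)⟩

/-- the fifteen points -/
def N15 : List ℕ := [1, 14, 15, 33, 34, 68, 71, 128, 140, 162, 175, 198, 203, 231, 235]

/-- the five lines -/
def lines : List (ℕ × ℕ) := [(1, 14), (33, 198), (34, 128), (68, 175), (71, 140)]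

/-- the involution with the fixed space of dimension six -/
def Tm : List ℕ := [1, 2, 6, 10, 122, 32, 66, 128]

/-- first ruling -/
def im (a : ℕ) : ℕ := 583716340840590088491751248020803643878433167836801298709008114717816980264052833690065250098545836844302567607856392024252457699969678047136197356260032253929491453444047532550192457540553924124741467019832016841072509063660568576 >>> (3 * a) % 8

/-- second ruling -/
def kr (a : ℕ) : ℕ := 389663422630149390619243937640566957694952488085436897078365211714655347222029019541537405044069423798195598408780716593846924356980829238654870448063666210577237624515209348448917331258067069847816200234277278525047031148994101248 >>> (3 * a) % 8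

/-- generators -/
def Ms : List (List ℕ) := d75.pts.flatMap Pt.R

/-- words moving the other singular vectors to `2` -/
def trW : List (ℕ × List ℕ) := [(2, []), (3, [1]), (4, [1, 9, 2, 10]), (5, [1, 11, 2, 10]), (6, [1, 13, 4, 10]), (7, [1, 13, 5, 10]), (8, [1, 11, 6, 10, 4]), (9, [1, 11, 6, 10]), (10, [1, 11, 2, 11, 1]), (11, [1, 11, 2, 11]), (12, [1, 9, 2]), (13, [1, 9]), (16, [1, 11, 4]), (21, [1, 11]), (25, [1, 11, 6]), (29, [1, 11, 2]), (32, [10, 2, 9]), (35, [10, 6, 12]), (40, [10, 2, 9, 1]), (42, [10, 6, 12, 1]), (65, [1, 12, 1]), (67, [1, 12, 3]), (69, [1, 12]), (70, [1, 12, 2]), (113, [1, 14, 1]), (119, [1, 14, 2]), (122, [1, 14, 3]), (125, [1, 14]), (130, [10]), (136, [10, 3, 13, 1]), (138, [10, 3, 9, 3]), (142, [1, 13, 4]), (147, [10, 1]), (152, [10, 3, 13]), (155, [10, 3, 9, 2]), (159, [1, 13, 5]), (160, [10, 2]), (168, [10, 3, 9, 1]), (170, [10, 6, 14, 1]), (173, [1, 13, 6]), (176, [10, 3, 9]), (179, [10, 6, 14]),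 (181, [1, 13, 7]), (184, [10, 3]), (196, [10, 4]), (201, [1, 13]), (205, [10, 6, 11, 1]), (207, [10, 5, 9, 1]), (208, [10, 5]), (217, [10, 6, 11]), (218, [10, 5, 9]), (221, [1, 13, 1]), (229, [10, 6]), (233, [1, 13, 2]), (236, [10, 4, 10]), (238, [10, 4, 11]), (240, [10, 5, 10]), (243, [10, 4, 11, 1]), (245, [1, 13, 3]), (249, [10, 7])]

/-- words fixing `2` and moving `1` to the fifteen points -/
def stW : List (ℕ × List ℕ) := [(1, []), (14, [2, 9]), (15, [9]), (33, [13, 2, 13]), (34, [4, 13, 2, 13]), (68, [2, 12]), (71, [12]), (128, [4, 9, 2, 12]), (140, [4, 13]), (162, [6, 9, 2, 12]), (175, [6, 13]), (198, [9, 2, 12]), (203, [13]), (231, [9, 2, 13]), (235, [2, 13])]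

theorem tr_w : ∀ a < 256, qN a = 0 → a ≠ 0 → a ∉ d75.S →
    ∃ p ∈ trW, app (evM Ms p.2) a = 2 := by
  have : ∀ a < 256, qN a = 0 → a ≠ 0 → a ∉ d75.S →
      ∃ p ∈ trW, p.1 = a ∧ app (evM Ms p.2) a = 2 := by decide +kernel
  exact fun a h1 h2 h3 h4 => (this a h1 h2 h3 h4).imp fun _ h => ⟨h.1, h.2.2⟩

theorem st_w : ∀ n ∈ N15, ∃ p ∈ stW, app (evM Ms p.2) 1 = n ∧ app (evM Ms p.2) 2 = 2 := by
  decide +kernel

theorem mem_N : ∀ a < 256, a ∈ N15 ↔ a ∈ d75.S ∧ polN a 2 = 0 ∧ a ^^^ 2 ∉ d75.S := by decide +kernel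

theorem N_lt : ∀ a ∈ N15, a < 256 ∧ a ∈ d75.S ∧ polN a 2 = 0 ∧ polN a 104 = 0 := by decide +kernel

theorem S_lt : ∀ a ∈ d75.S, a < 256 ∧ im a < 5 ∧ kr a < 5 := by decide +kernel

theorem S_bit : ∀ a < 256, a ∈ d75.S ↔ 67055438608915452263037189201257770022372747941827317474297410432012219760642 >>> a % 2 = 1 := by
  decide +kernel

theorem adjS : ∀ a ∈ d75.S, ∀ b ∈ d75.S, (a = b ∨ a ^^^ b ∈ d75.S) ↔ (im a = im b ∨ kr a = kr b) := by
  intro a ha b hb
  rw [S_bit _ (xor_lt (S_lt a ha).1 (S_lt b hb).1)]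
  revert a b
  suffices h : ∀ a ∈ d75.S, ∀ b ∈ d75.S, (a = b ∨ 67055438608915452263037189201257770022372747941827317474297410432012219760642 >>> (a ^^^ b) % 2 = 1) ↔
    (im a = im b ∨ kr a = kr b) from fun a ha b hb => h a ha b hb
  decide +kernel

theorem exS : ∀ i < 5, ∀ j < 5, ∃ a ∈ d75.S, im a = i ∧ kr a = j := by decide +kernel

theorem perpN : ∀ a < 256, (∀ n ∈ N15, polN a n = 0) → qN a = 1 → a = 104 ∨ a = 106 := by
  decide +kernel

theorem spanN : ∀ a < 256, polN a 2 = 0 → polN a 104 = 0 →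
    ∃ m < 64, app [1, 14, 33, 34, 68, 128] m = a := by decide +kernel

theorem tv0 : ∀ x1 ∈ N15, ∀ x2 ∈ N15, x1 ^^^ x2 ∈ N15 → (x1 = 1 ∨ x2 = 14 ∨ x1 ^^^ x2 = 15) →
    ∀ y1 ∈ N15, ∀ y2 ∈ N15, y1 ^^^ y2 ∈ N15 → (y1 = 34 ∨ y2 = 128 ∨ y1 ^^^ y2 = 162) →
    ∀ β ∈ [104, 106],
    (∀ m ∈ [21, 38, 55, 26, 31, 62], app [x1, x2, y1, y2, 2, β] m ∈ N15) →
    (∀ p ∈ [(21, 62), (38, 31), (55, 26)],
      app [x1, x2, y1, y2, 2, β] p.1 = app [1, 14, 34, 128, 2, 104] p.1 ∨
      app [x1, x2, y1, y2, 2, β] p.2 = app [1, 14, 34, 128, 2, 104] p.2 ∨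
      app [x1, x2, y1, y2, 2, β] (p.1 ^^^ p.2) = app [1, 14, 34, 128, 2, 104] (p.1 ^^^ p.2)) →
    [x1, x2, y1, y2, 2, β] = [1, 14, 34, 128, 2, 104] := by decide +kernel

theorem t20 : ∀ x ∈ d75.S, (∀ n ∈ N15, polN x n = polN 41 n) → ∀ y ∈ d75.S,
    (∀ n ∈ N15, polN y n = polN 17 n) → x ^^^ y ∈ d75.S →
    (∀ i < 8, app [1, 14, 33, 34, 68, 128, x, y] ([1, 13, 75, 68, 129, 5, 91, 32].getD i 0) =
      app idM (2 ^ i)) ∨
    ∀ i < 8, app [1, 14, 33, 34, 68, 128, x, y] ([1, 13, 75, 68, 129, 5, 91, 32].getD i 0) =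
      app Tm (2 ^ i) := by decide +kernel

theorem lineC : ∀ c < 256, ∀ p ∈ lines, polN p.1 c = 0 ∨ polN p.2 c = 0 ∨ polN (p.1 ^^^ p.2) c = 0 := by
  decide +kernel

theorem perpU : ∀ c ∈ [4, 133], ∀ v < 256, qN v = 0 → app Tm v = v →
    (∀ u < 256, polN u 2 = 0 → polN u 104 = 0 → polN u c = 0 → polN u v = 0) → v = 0 ∨ v = 2 := by
  decide +kernel

theorem fixT : ∀ u < 256, polN u 2 = 0 → polN u 104 = 0 → app Tm u = u := by decide +kernel

/-- a map of the codes that comes from a member of `H` -/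
structure Au (f : ℕ → ℕ) : Prop where
  lt : ∀ a, f a < 256
  xor : ∀ a b, f (a ^^^ b) = f a ^^^ f b
  q : ∀ a < 256, qN (f a) = qN a
  pol : ∀ a < 256, ∀ b < 256, polN (f a) (f b) = polN a b
  S : ∀ a < 256, f a ∈ d75.S ↔ a ∈ d75.S
  inj : ∀ a < 256, ∀ b < 256, f a = f b → a = b
  surj : ∀ b < 256, ∃ a < 256, f a = b

namespace Au

variable {f : ℕ → ℕ} (h : Au f)
include h

theorem zero : f 0 = 0 := by
  have := h.xor 0 0
  simpa using this

theorem app : ∀ (l : List ℕ) (m : ℕ), f (app l m) = app (l.map f) m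
  | [], _ => h.zero
  | a :: l, m => by
    rw [List.map_cons, H6.XS.app, H6.XS.app, h.xor, app l]
    rcases Nat.mod_two_eq_zero_or_one m with e | e <;> simp [e, h.zero]

theorem N (e : f 2 = 2) {a : ℕ} (ha : a < 256) : f a ∈ N15 ↔ a ∈ N15 := by
  rw [mem_N _ (h.lt a), mem_N _ ha, h.S a ha, ← h.pol a ha 2 (by omega), ← h.S _ (xor_lt ha (by omega)),
    h.xor, e]

theorem nb (e : f 2 = 2) : f 104 = 104 ∨ f 104 = 106 := by
  refine perpN _ (h.lt _) (fun n hn => ?_) (by rw [h.q _ (by omega)]; rfl)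
  obtain ⟨a, a1, rfl⟩ := h.surj n (N_lt n hn).1
  rw [h.pol _ (by omega) _ a1]
  exact (by decide : ∀ a ∈ N15, polN 104 a = 0) a ((h.N e a1).1 hn)

theorem tv (e : f 2 = 2)
    (k : ∀ p ∈ lines, f p.1 = p.1 ∨ f p.2 = p.2 ∨ f (p.1 ^^^ p.2) = p.1 ^^^ p.2) :
    ∀ n ∈ N15, f n = n := by
  have hn : ∀ n ∈ N15, f n ∈ N15 := fun n hn => (h.N e (N_lt n hn).1).2 hn
  have hl : ∀ m, H6.XS.app [f 1, f 14, f 34, f 128, 2, f 104] m =
      f (H6.XS.app [1, 14, 34, 128, 2, 104] m) := fun m => by rw [h.app]; simp [e]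
  have := tv0 (f 1) (hn _ (by decide)) (f 14) (hn _ (by decide))
    (by rw [← h.xor]; exact hn _ (by decide)) (by rw [← h.xor]; exact k (1, 14) (by decide))
    (f 34) (hn _ (by decide)) (f 128) (hn _ (by decide))
    (by rw [← h.xor]; exact hn _ (by decide)) (by rw [← h.xor]; exact k (34, 128) (by decide))
    (f 104) (by simpa using h.nb e)
    (fun m hm => by
      rw [hl]
      exact hn _ ((by decide : ∀ m ∈ [21, 38, 55, 26, 31, 62],
        H6.XS.app [1, 14, 34, 128, 2, 104] m ∈ N15) m hm))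
    (fun p hp => by
      simp only [hl]
      simp only [List.mem_cons, List.not_mem_nil, or_false] at hp
      rcases hp with rfl | rfl | rfl
      exacts [k (33, 198) (by decide), k (68, 175) (by decide), k (71, 140) (by decide)])
  intro n hn
  obtain ⟨m, -, rfl⟩ := (by decide +kernel :
    ∀ n ∈ N15, ∃ m < 64, H6.XS.app [1, 14, 34, 128, 2, 104] m = n) n hn
  rw [← hl, this]

theorem t2 (k : ∀ n ∈ N15, f n = n) :
    (∀ i < 8, f (2 ^ i) = H6.XS.app idM (2 ^ i)) ∨ ∀ i < 8, f (2 ^ i) = H6.XS.app Tm (2 ^ i) := by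
  have hp : ∀ a < 256, ∀ n ∈ N15, polN (f a) n = polN a n := fun a ha n hn => by
    rw [← h.pol a ha n (N_lt n hn).1, k n hn]
  have hl : ∀ i < 8, H6.XS.app [1, 14, 33, 34, 68, 128, f 41, f 17]
      ([1, 13, 75, 68, 129, 5, 91, 32].getD i 0) = f (2 ^ i) := fun i hi => by
    rw [← (by decide : ∀ i < 8, H6.XS.app [1, 14, 33, 34, 68, 128, 41, 17]
      ([1, 13, 75, 68, 129, 5, 91, 32].getD i 0) = 2 ^ i) i hi, h.app]
    simp only [List.map_cons, List.map_nil]
    rw [k 1 (by decide), k 14 (by decide), k 33 (by decide), k 34 (by decide), k 68 (by decide),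
      k 128 (by decide)]
  exact (t20 (f 41) ((h.S _ (by omega)).2 (by decide)) (hp _ (by omega)) (f 17)
    ((h.S _ (by omega)).2 (by decide)) (hp _ (by omega))
    (by rw [← h.xor]; exact (h.S _ (by decide)).2 (by decide))).imp
    (fun e i hi => (hl i hi).symm.trans (e i hi)) fun e i hi => (hl i hi).symm.trans (e i hi)

theorem dich : (∀ a ∈ d75.S, ∀ b ∈ d75.S, im a = im b ↔ im (f a) = im (f b)) ∨
    ((∀ a ∈ d75.S, ∀ b ∈ d75.S, im a = im b ↔ kr (f a) = kr (f b)) ∧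
      ∀ a ∈ d75.S, ∀ b ∈ d75.S, kr a = kr b ↔ im (f a) = im (f b)) := by
  have : Nonempty {a // a ∈ d75.S} := ⟨⟨1, by decide⟩⟩
  have := rook (X := {a // a ∈ d75.S}) (i := fun a => im a) (k := fun a => kr a)
    (i' := fun a => im (f a)) (k' := fun a => kr (f a)) (fun a b => by
      have a1 := (S_lt a a.2).1
      have b1 := (S_lt b b.2).1
      rw [← adjS a a.2 b b.2, ← adjS _ ((h.S a a1).2 a.2) _ ((h.S b b1).2 b.2), ← h.xor,
        h.S _ (xor_lt a1 b1)]
      exact or_congr_left ⟨fun e => by rw [e], h.inj a a1 b b1⟩)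
    (fun a b => by
      obtain ⟨c, c1, c2⟩ := exS _ (S_lt a a.2).2.1 _ (S_lt b b.2).2.2
      exact ⟨⟨c, c1⟩, c2⟩)
    (fun a => by
      obtain ⟨c, c1, c2, -⟩ := exS ((im a + 1) % 5) (by omega) 0 (by omega)
      exact ⟨⟨c, c1⟩, by have := (S_lt a a.2).2.1; simp only; omega⟩)
    (fun a => by
      obtain ⟨c, c1, -, c2⟩ := exS 0 (by omega) ((kr a + 1) % 5) (by omega)
      exact ⟨⟨c, c1⟩, by have := (S_lt a a.2).2.2; simp only; omega⟩)
  simpa only [Subtype.forall] using this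

end Au

end H16.ZH
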