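import Mathlib
import Cfsg.Agent.H16.ZH4
import Cfsg.Agent.H20.XA0

/-!
# The case with 75 points: the exceptional involution does not occur
-/

set_option autoImplicit false
set_option linter.unusedSectionVars false
set_option synthInstance.maxSize 100000

namespace H16.ZH

open Subgroup H24 H15 H15.XP Module H6.XS H20.XA

theorem Au.fix2 {f : ℕ → ℕ} (h : Au f) (e : f (H6.XS.app Tm 4) = H6.XS.app Tm (f 4)) : f 2 = 2 := by
  have e1 : f 2 = f 4 ^^^ H6.XS.app Tm (f 4) := by rw [← e, ← h.xor]; rfl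
  refine e1.trans ((by decide +kernel : ∀ u < 256, qN (u ^^^ H6.XS.app Tm u) = 0 →
    u ^^^ H6.XS.app Tm u ≠ 0 → u ^^^ H6.XS.app Tm u = 2) _ (h.lt 4) ?_ ?_)
  · rw [← e1, h.q 2 (by omega)]; rfl
  · rw [← e1, ← h.zero]
    exact fun k => absurd (h.inj 2 (by omega) 0 (by omega) k) (by omega)

theorem card_le_list {G : Type*} [Group G] (A : Subgroup G) (l : List G) (h : ∀ x ∈ A, x ∈ l) :
    Nat.card A ≤ l.length := by
  classical
  calc Nat.card A = (A : Set G).ncard := rfl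
    _ ≤ (l.toFinset : Set G).ncard := Set.ncard_le_ncard (fun x hx => by simpa using h x hx)
    _ ≤ _ := by rw [Set.ncard_coe_finset]; exact l.toFinset_card_le

variable {G : Type*} [Group G] [Finite G] {D : Set G} {Q : G → Subgroup G} {z : G}
variable {V : Type*} [AddCommGroup V] [Module (ZMod 2) V] [Finite V]
variable {F : Fr z (Q z) V} {E : V → Submodule (ZMod 2) V} {R : V → Subgroup (ofQuad F.q).Isom}
variable {c : ℕ → V} (h : FC D Q z F E R c d75) {M N : List ℕ} {a b : ℕ} {x y : G}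
include h

theorem au (g : C{z}) (hM : Rp c (F.ρ g) M) : Au (app M) := by
  have hc := h.cs.cd
  have lt := app_lt hM.1
  refine ⟨lt, app_xor M, fun a ha => ?_, fun a ha b hb => ?_, fun a ha => ?_, fun a ha b hb e => ?_,
    fun b hb => ?_⟩
  · rw [← cast_inj2 (qN_lt _) (qN_lt _), ← hc.qq _ (lt a), ← hc.qq a ha, ← hM.2 a ha, mq]
  · rw [← cast_inj2 (polN_lt _ _) (polN_lt _ _), ← hc.pol (lt a) (lt b), ← hc.pol ha hb, ← hM.2 a ha,
      ← hM.2 b hb, mp]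
  · rw [← h.cs.memS _ (lt a), ← h.cs.memS a ha, ← hM.2 a ha]
    refine ⟨fun k => ?_, h.vd.inv _ ⟨g, rfl⟩ _⟩
    have := h.vd.inv _ (inv_mem ⟨g, rfl⟩) _ k
    rwa [Form.Isom.inv_apply_apply] at this
  · rw [← hc.eq_iff ha hb, ← (F.ρ g).1.injective.eq_iff, hM.2 a ha, hM.2 b hb, e]
  · obtain ⟨a, a1, a2⟩ := hc.surj ((F.ρ g).1.symm (c b))
    exact ⟨a, a1, by rw [← hc.eq_iff (lt a) hb, ← hM.2 a a1, a2, LinearEquiv.apply_symm_apply]⟩

theorem lift (a : ℕ) : ∃ x ∈ Q z, F.π x = c a := F.π_surj _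

theorem code (x : G) : ∃ a < 256, F.π x = c a :=
  (h.cs.cd.surj _).imp fun _ k => ⟨k.1, k.2.symm⟩

theorem π_cj (g : C{z}) (hM : Rp c (F.ρ g) M) (hx : x ∈ Q z) (ha : a < 256) (e : F.π x = c a) :
    F.π (g * x * (g : G)⁻¹) = c (app M a) := by rw [← F.ρ_π g x hx, e, hM.2 a ha]

theorem fix_of (g : C{z}) (hM : Rp c (F.ρ g) M) (hx : x ∈ Q z) (ha : a < 256) (e : F.π x = c a)
    (k : g * x = x * g) : app M a = a := by
  rw [← h.cs.cd.eq_iff (app_lt hM.1 a) ha, ← hM.2 a ha, ← e, ρ_fix F h.sit h.mem g hx k]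

theorem cm_of (hx : x ∈ Q z) (hy : y ∈ Q z) (ha : a < 256) (hb : b < 256) (e : F.π x = c a)
    (e' : F.π y = c b) : x * y = y * x ↔ polN a b = 0 := by
  rw [← F.pol_π x hx y hy, e, e', h.cs.cd.pol0 ha hb]

theorem sq_of (hx : x ∈ Q z) (ha : a < 256) (e : F.π x = c a) : x * x = 1 ↔ qN a = 0 := by
  rw [← F.q_π x hx, e, h.cs.cd.q0 ha]

theorem sq_of' (hx : x ∈ Q z) (ha : a < 256) (e : F.π x = c a) : x * x = z ↔ qN a = 1 := by
  rw [← F.q_one h.sit h.mem hx, e, h.cs.cd.q1 ha]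

theorem π_mul' (hx : x ∈ Q z) (hy : y ∈ Q z) (ha : a < 256) (hb : b < 256) (e : F.π x = c a)
    (e' : F.π y = c b) : F.π (x * y) = c (a ^^^ b) := by
  rw [F.π_mul x hx y hy, e, e', h.cs.cd.add a ha b hb]

theorem mem_S (hx : x ∈ Q z) (ha : a < 256) (e : F.π x = c a) : a ∈ d75.S ↔ x ∈ D ∧ x ≠ z := by
  rw [← h.cs.memS a ha, ← e, F.mem_VV h.sit h.mem hx]

theorem one_or (g : C{z}) (hM : Rp c (F.ρ g) M) (k : ∀ n ∈ N15, app M n = n) :
    (g : G) ∈ Q z ∨ Rp c (F.ρ g) Tm := by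
  have hc := h.cs.cd
  have lt : ∀ i < 8, 2 ^ i < 256 := by decide
  refine ((au h g hM).t2 k).imp (fun e => (F.ker g).1 (hc.ext (hc.rp idM_ok fun i hi => ?_) hc.rp_one))
    fun e => hc.rp (by decide) fun i hi => ?_
  all_goals rw [hM.2 _ (lt i hi), e i hi]

theorem fix2 (g k : C{z}) (hM : Rp c (F.ρ g) M) (hT : Rp c (F.ρ k) Tm)
    (e : (g : G) * k = k * g) : app M 2 = 2 := by
  have e1 : F.ρ g * F.ρ k = F.ρ k * F.ρ g := by
    rw [← map_mul, ← map_mul]; exact congrArg _ (Subtype.ext e)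
  have := h.cs.cd.uniq (hM.mul hT) (e1 ▸ hT.mul hM)
  exact (au h g hM).fix2 (by rw [← app_cmp, this, app_cmp])

omit h in
/-- the stabiliser of the first ruling -/
def KK (hc : Cd F.q c) : Subgroup (ofQuad F.q).Isom where
  carrier := {g | ∀ a < 256, ∀ b < 256, ∀ a' < 256, ∀ b' < 256, g.1 (c a) = c a' → g.1 (c b) = c b' →
    ((a ∈ d75.S ∧ b ∈ d75.S ∧ im a = im b) ↔ (a' ∈ d75.S ∧ b' ∈ d75.S ∧ im a' = im b'))}
  one_mem' := fun a ha b hb a' ha' b' hb' e1 e2 => by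
    obtain rfl := (hc.eq_iff ha ha').1 e1
    obtain rfl := (hc.eq_iff hb hb').1 e2
    rfl
  mul_mem' := fun {g k} hg hk a ha b hb a' ha' b' hb' e1 e2 => by
    obtain ⟨u, u1, u2⟩ := hc.surj (k.1 (c a))
    obtain ⟨v, v1, v2⟩ := hc.surj (k.1 (c b))
    exact (hk a ha b hb u u1 v v1 u2.symm v2.symm).trans
      (hg u u1 v v1 a' ha' b' hb' (u2 ▸ e1) (v2 ▸ e2))
  inv_mem' := fun {g} hg a ha b hb a' ha' b' hb' e1 e2 =>
    (hg a' ha' b' hb' a ha b hb (by rw [← e1, Form.Isom.apply_inv_apply])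
      (by rw [← e2, Form.Isom.apply_inv_apply])).symm

theorem mem_KK (g : C{z}) (hM : Rp c (F.ρ g) M)
    (k : ∀ a ∈ d75.S, ∀ b ∈ d75.S, im a = im b ↔ im (app M a) = im (app M b)) :
    F.ρ g ∈ KK h.cs.cd := fun a ha b hb a' ha' b' hb' e1 e2 => by
  have u := au h g hM
  rw [hM.2 a ha, h.cs.cd.eq_iff (u.lt a) ha'] at e1
  rw [hM.2 b hb, h.cs.cd.eq_iff (u.lt b) hb'] at e2
  rw [← e1, ← e2, u.S a ha, u.S b hb]
  exact and_congr_right fun k1 => and_congr_right fun k2 => k a k1 b k2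

theorem mul_KK (g k : C{z}) (h1 : F.ρ g ∉ KK h.cs.cd) (h2 : F.ρ k ∉ KK h.cs.cd) :
    F.ρ g * F.ρ k ∈ KK h.cs.cd := by
  obtain ⟨M, hM⟩ := h.cs.cd.exists_rp (F.ρ g)
  obtain ⟨N, hN⟩ := h.cs.cd.exists_rp (F.ρ k)
  have k1 := ((au h g hM).dich.resolve_left fun e => h1 (mem_KK h g hM e)).2
  have k2 := ((au h k hN).dich.resolve_left fun e => h2 (mem_KK h k hN e)).1
  rw [← map_mul]
  refine mem_KK h (g * k) (map_mul F.ρ g k ▸ hM.mul hN) fun a ha b hb => ?_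
  rw [app_cmp, app_cmp, k2 a ha b hb]
  exact k1 _ (((au h k hN).S a (S_lt a ha).1).2 ha) _ (((au h k hN).S b (S_lt b hb).1).2 hb)

theorem exists_inv (t0 : C{z}) (h0 : Rp c (F.ρ t0) Tm) : ∃ X : C{z}, Rp c (F.ρ X) Tm ∧
    (X : G) * X = 1 ∧ ∃ k ∈ [4, 133], ∀ a ∈ Q z, ∀ u < 256, F.π a = c u → polN u 2 = 0 →
      polN u 104 = 0 → polN u k = 0 → X * a = a * X := by
  have hc := h.cs.cd
  have s := h.sit
  have hz := h.mem
  obtain ⟨t, t1, -, t2⟩ := adj F s hz t0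
    (LinearMap.ker (pol F.q (c 2)) ⊓ LinearMap.ker (pol F.q (c 104))) fun v hv => by
      obtain ⟨u, u1, rfl⟩ := hc.surj v
      rw [h0.2 u u1, fixT u u1 ((hc.pol0 u1 (by omega)).1 ((pol_comm _ _ _).trans hv.1))
        ((hc.pol0 u1 (by omega)).1 ((pol_comm _ _ _).trans hv.2))]
  rw [← t1] at h0
  replace t2 : ∀ a ∈ Q z, ∀ u < 256, F.π a = c u → polN u 2 = 0 → polN u 104 = 0 → t * a = a * t :=
    fun a a1 u u1 e e1 e2 => t2 a a1 (e ▸ ⟨(pol_comm _ _ _).trans ((hc.pol0 u1 (by omega)).2 e1),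
      (pol_comm _ _ _).trans ((hc.pol0 u1 (by omega)).2 e2)⟩)
  have sQ : (t : G) * t ∈ Q z := (F.ker (t * t)).1 (by
    rw [map_mul]; exact hc.ext (h0.mul h0) hc.rp_one)
  obtain ⟨σ, σ1, σ2⟩ := code h ((t : G) * t)
  have key : ∀ x ∈ Q z, ∀ a < 256, F.π x = c a → polN (a ^^^ app Tm a) 2 = 0 →
      polN (a ^^^ app Tm a) 104 = 0 → ∃ m ∈ Q z, F.π m = c (a ^^^ app Tm a) ∧
        t * x * (t : G)⁻¹ = x * m ∧ t * t * x * ((t : G) * t)⁻¹ = x * (m * m) :=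
    fun x x1 a a1 e e1 e2 => by
      have m1 := mul_mem (inv_mem x1) (cQ s hz t.2 x1)
      have m2 := π_mul' h (inv_mem x1) (cQ s hz t.2 x1) a1 (app_lt h0.1 a) (by rw [F.π_inv x1, e])
        (π_cj h t h0 x1 a1 e)
      have m3 := t2 _ m1 _ (xor_lt a1 (app_lt h0.1 a)) m2 e1 e2
      have m4 : t * x * (t : G)⁻¹ = x * (x⁻¹ * (t * x * (t : G)⁻¹)) := by group
      generalize x⁻¹ * (t * x * (t : G)⁻¹) = m at m1 m2 m3 m4
      refine ⟨m, m1, m2, m4, ?_⟩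
      calc _ = t * (t * x * (t : G)⁻¹) * (t : G)⁻¹ := by group
        _ = t * (x * m) * (t : G)⁻¹ := by rw [m4]
        _ = t * x * (t : G)⁻¹ * (t * m) * (t : G)⁻¹ := by group
        _ = _ := by rw [m3, m4]; group
  obtain ⟨x, x1, x2⟩ := lift h 4
  obtain ⟨y, y1, y2⟩ := lift h 16
  obtain ⟨m, m1, m2, m3, m4⟩ := key x x1 4 (by omega) x2 (by decide) (by decide)
  obtain ⟨n, n1, n2, -, n4⟩ := key y y1 16 (by omega) y2 (by decide) (by decide)
  rw [(sq_of h m1 (by decide) m2).2 (by decide), mul_one, mul_inv_eq_iff_eq_mul] at m4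
  rw [(sq_of' h n1 (by decide) n2).2 (by decide)] at n4
  obtain rfl : σ = 2 := by
    refine (by decide +kernel : ∀ σ < 256, (∀ n ∈ N15, polN n σ = 0) → polN σ 4 = 0 →
      polN σ 16 ≠ 0 → σ = 2) σ σ1 (fun n hn => ?_) ((cm_of h sQ x1 σ1 (by omega) σ2 x2).1 m4)
      fun e => ?_
    · obtain ⟨k1, -, k2, k3⟩ := N_lt n hn
      obtain ⟨a, a1, a2⟩ := lift h n
      rw [← cm_of h a1 sQ k1 σ1 a2 σ2, ← mul_assoc, ← t2 a a1 n k1 a2 k2 k3, mul_assoc,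
        ← t2 a a1 n k1 a2 k2 k3, mul_assoc]
    · rw [(cm_of h sQ y1 σ1 (by omega) σ2 y2).2 e, mul_inv_cancel_right] at n4
      exact s.ne_one hz (left_eq_mul.1 n4)
  have sq : t * x * (t * x) = 1 ∨ t * x * (t * x) = z := by
    have e1 : t * x * (t * x) = x * (m * (t * t)) * x := by
      rw [← mul_assoc x, ← m3]; group
    have e2 := π_mul' h m1 sQ (by decide) σ1 m2 σ2
    have xx := (sq_of h x1 (by omega) x2).2 (by decide)
    rcases (F.π_eq_zero _ (mul_mem m1 sQ)).1 (e2.trans hc.zero) with e | e <;> rw [e1, e]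
    · exact Or.inl (by rw [mul_one, xx])
    · exact Or.inr (by rw [mem_C1.1 (s.le hz x1), mul_assoc, xx, mul_one])
  have fin : ∀ x (x1 : x ∈ Q z) (k : ℕ), k ∈ [4, 133] → F.π x = c k → t * x * (t * x) = 1 →
      ∃ X : C{z}, Rp c (F.ρ X) Tm ∧ (X : G) * X = 1 ∧ ∃ k ∈ [4, 133], ∀ a ∈ Q z, ∀ u < 256,
        F.π a = c u → polN u 2 = 0 → polN u 104 = 0 → polN u k = 0 → X * a = a * X :=
    fun x x1 k k1 k2 k3 => ⟨t * ⟨x, s.le hz x1⟩, by rw [ρ_mul F s hz t x1]; exact h0, k3, k, k1,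
      fun a a1 u u1 e e1 e2 e3 => by
        change t * x * a = a * (t * x)
        rw [mul_assoc, ← (cm_of h a1 x1 u1 ((by decide : ∀ k ∈ [4, 133], k < 256) k k1) e k2).2 e3,
          ← mul_assoc, t2 a a1 u u1 e e1 e2, mul_assoc]⟩
  rcases sq with e | e
  · exact fin x x1 4 (by decide) x2 e
  obtain ⟨a, a1, a2⟩ := lift h 129
  refine fin (x * a) (mul_mem x1 a1) 133 (by decide) (π_mul' h x1 a1 (by omega) (by omega) x2 a2) ?_
  have e1 : a * (t * x) = t * x * a := by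
    rw [← mul_assoc, ← t2 a a1 129 (by omega) a2 (by decide) (by decide), mul_assoc,
      (cm_of h a1 x1 (by omega) (by omega) a2 x2).2 (by decide), mul_assoc]
  calc _ = t * x * (a * (t * x)) * a := by group
    _ = t * x * (t * x) * (a * a) := by rw [e1]; group
    _ = 1 := by rw [e, (sq_of' h a1 (by omega) a2).2 (by decide), s.sq hz]

theorem noT [IsSimpleGroup G] (t0 : C{z}) : ¬ Rp c (F.ρ t0) Tm := fun h0 => by
  have hc := h.cs.cd
  have s := h.sit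
  have hz := h.mem
  obtain ⟨X, X1, X2, k, k1, k2⟩ := exists_inv h t0 h0
  have k3 : k < 256 := (by decide : ∀ k ∈ [4, 133], k < 256) k k1
  obtain ⟨d, d1, d2, d3, d4, d5⟩ := tf F s hz (KK hc) (mul_KK h) X (fun e => by
    have := e 1 (by omega) 48 (by omega) _ (by decide) _ (by decide) (X1.2 1 (by omega))
      (X1.2 48 (by omega))
    revert this
    decide +kernel) (Or.inl X2)
  replace d5 : ∀ a ∈ Q z, ∀ u < 256, F.π a = c u → polN u 2 = 0 → polN u 104 = 0 → polN u k = 0 →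
      d * a = a * d := fun a a1 u u1 e e1 e2 e3 => d5 a a1 (k2 a a1 u u1 e e1 e2 e3)
  by_cases dQ : d ∈ Q z
  · obtain ⟨v, v1, v2⟩ := code h d
    have := (mem_S h dQ v1 v2).2 ⟨d1, d2⟩
    rcases perpU k k1 v v1 ((sq_of h dQ v1 v2).1 (s.sq d1)) (fix_of h X X1 dQ v1 v2 d4.symm)
      (fun u u1 e1 e2 e3 => by
        obtain ⟨a, a1, a2⟩ := lift h u
        exact (cm_of h a1 dQ u1 v1 a2 v2).1 (d5 a a1 u u1 a2 e1 e2 e3).symm) with rfl | rfl <;>
    exact absurd this (by decide)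
  have zQ : z ∉ Q d := fun e => dQ (s.symm d1 hz e)
  have gen : ∀ (g : C{z}), g * (X : G) = X * g ∨ (g * d = d * g ∧ Rp c (F.ρ ⟨d, d3⟩) Tm) →
      (∀ a ∈ Q z, d * a = a * d → F.π (g * a * (g : G)⁻¹ * a⁻¹) = c 0 ∨
        F.π (g * a * (g : G)⁻¹ * a⁻¹) = c 2) → (g : G) ∈ Q z ∨ Rp c (F.ρ g) Tm := fun g g1 g2 => by
    obtain ⟨M, hM⟩ := hc.exists_rp (F.ρ g)
    have u := au h g hM
    have fx : ∀ n ∈ N15, polN n k = 0 → app M n = n := fun n hn e => by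
      obtain ⟨n1, n2, n3, n4⟩ := N_lt n hn
      obtain ⟨a, a1, a2⟩ := lift h n
      have e1 := π_mul' h (cQ s hz g.2 a1) (inv_mem a1) (u.lt n) n1 (π_cj h g hM a1 n1 a2)
        (by rw [F.π_inv a1, a2])
      have e2 : app M n = (app M n ^^^ n) ^^^ n := by
        rw [Nat.xor_assoc, Nat.xor_self, Nat.xor_zero]
      have e3 := (u.S n n1).2 n2
      rcases g2 a a1 (d5 a a1 n n1 a2 n3 n4 e) with e4 | e4 <;>
        rw [e1, hc.eq_iff (xor_lt (u.lt n) n1) (by omega)] at e4 <;> rw [e4] at e2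
      · rw [e2, Nat.zero_xor]
      · rw [e2, Nat.xor_comm] at e3
        exact absurd e3 ((mem_N n n1).1 hn).2.2
    refine one_or h g hM (u.tv (g1.elim (fix2 h g X hM X1) fun e => fix2 h g ⟨d, d3⟩ hM e.2 e.1)
      fun p hp => ?_)
    obtain ⟨p1, p2, p3⟩ := (by decide : ∀ p ∈ lines, p.1 ∈ N15 ∧ p.2 ∈ N15 ∧ p.1 ^^^ p.2 ∈ N15) p hp
    exact (lineC k k3 p hp).imp (fx _ p1) (Or.imp (fx _ p2) (fx _ p3))
  have dT := (gen ⟨d, d3⟩ (Or.inl d4) fun a _ e => Or.inl (by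
    change F.π (d * a * d⁻¹ * a⁻¹) = _
    rw [e, mul_inv_cancel_right, mul_inv_cancel, F.π_one, hc.zero])).resolve_left dQ
  have hI : ∀ i ∈ Q z, i ∈ Q d → F.π i = c 0 ∨ F.π i = c 2 := fun i i1 i2 => by
    obtain ⟨v, v1, v2⟩ := code h i
    rw [v2]
    refine (perpU k k1 v v1 ((sq_of h i1 v1 v2).1 ((s.sq_or hz i1).resolve_right fun e =>
      zQ (e ▸ mul_mem i2 i2))) (fix_of h ⟨d, d3⟩ dT i1 v1 v2 (mem_C1.1 (s.le d1 i2)).symm)
      fun u u1 e1 e2 e3 => ?_).imp (congrArg c) (congrArg c)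
    obtain ⟨a, a1, a2⟩ := lift h u
    refine (cm_of h a1 i1 u1 v1 a2 v2).1 (mul_inv_eq_iff_eq_mul.1
      ((s.cj_or hz a1 i1).resolve_right fun e => zQ ?_))
    have := cQ s d1 (mem_C1.2 (d5 a a1 u u1 a2 e1 e2 e3).symm) i2
    rwa [e, mul_mem_cancel_right i2] at this
  obtain ⟨e, e1, e2⟩ := lift h 2
  have hI' : ∀ i ∈ Q z, i ∈ Q d → i = 1 ∨ i = z ∨ i = e ∨ i = z * e := fun i i1 i2 => by
    rcases hI i i1 i2 with k | k
    · exact ((F.π_eq_zero i i1).1 (k.trans hc.zero)).imp id Or.inl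
    · exact Or.inr (Or.inr ((F.π_eq s hz i1 e1).1 (k.trans e2.symm)))
  have c1 := s.card_cent d1 (s.sq hz) (mem_C1_comm.1 d3)
  have c2 := card_le_list (Q d ⊓ C{z}) [1, z, e, z * e, 1 * d, z * d, e * d, z * e * d] fun y hy => by
    rcases gen ⟨y, hy.2⟩ (Or.inr ⟨mem_C1.1 (s.le d1 hy.1), dT⟩) (fun a a1 a2 => hI _
      (mul_mem (cQ s hz hy.2 a1) (inv_mem a1)) (by
        change y * a * y⁻¹ * a⁻¹ ∈ _
        rw [show y * a * y⁻¹ * a⁻¹ = y * (a * y⁻¹ * a⁻¹) by group]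
        exact mul_mem hy.1 (cQ s d1 (mem_C1.2 a2.symm) (inv_mem hy.1)))) with k | k
    · rcases hI' y k hy.1 with k | k | k | k <;> simp [k]
    · have : y * d⁻¹ ∈ Q z := (F.ker (⟨y, hy.2⟩ * ⟨d, d3⟩⁻¹)).1 (by
        rw [map_mul, map_inv, hc.ext k dT, mul_inv_cancel])
      rcases hI' _ this (mul_mem hy.1 (inv_mem (s.mem d1))) with k | k | k | k <;>
        rw [mul_inv_eq_iff_eq_mul] at k <;> simp [k]
  simp only [List.length_cons, List.length_nil] at c2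
  omega

end H16.ZH
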