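import Mathlib
import Cfsg.Agent.H16.ZH3
import Cfsg.Agent.H16.ZH5

/-!
# The case with 75 points: the local data
-/

set_option autoImplicit false
set_option linter.unusedSectionVars false

namespace H16.ZH

open Subgroup H24 H15 H15.XP Module H6.XS H20.XA

theorem fix_odd {P V : Type*} [Group P] [MulAction P V] (hP : IsPGroup 2 P) (Ω : Set V)
    (hΩ : Odd Ω.ncard) (h : ∀ g : P, ∀ v ∈ Ω, g • v ∈ Ω) : ∃ v ∈ Ω, ∀ g : P, g • v = v := by
  have := Fact.mk Nat.prime_two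
  let S : SubMulAction P V := ⟨Ω, fun g _ hv => h g _ hv⟩
  have : Finite S := Set.finite_of_ncard_ne_zero (s := Ω) fun e => by simp [e] at hΩ
  obtain ⟨v, hv⟩ := hP.nonempty_fixed_point_of_prime_not_dvd_card S
    (Nat.two_dvd_ne_zero.2 (Nat.odd_iff.1 hΩ))
  exact ⟨v, v.2, fun g => congrArg Subtype.val (hv g)⟩

variable {G : Type*} [Group G] [Finite G] {D : Set G} {Q : G → Subgroup G} {z : G}
variable {V : Type*} [AddCommGroup V] [Module (ZMod 2) V] [Finite V]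
variable {F : Fr z (Q z) V} {E : V → Submodule (ZMod 2) V} {R : V → Subgroup (ofQuad F.q).Isom}
variable {c : ℕ → V} (h : FC D Q z F E R c d75)
include h

theorem word (w : List ℕ) : ∃ g : C{z}, Rp c (F.ρ g) (evM Ms w) := by
  obtain ⟨_, ⟨g, rfl⟩, k⟩ := h.cs.cd.evM (K := F.ρ.range) (Ms := Ms) (fun M hM => by
    obtain ⟨p, p1, p2⟩ := List.mem_flatMap.1 hM
    obtain ⟨k1, k2⟩ := h.cs.pt p p1
    obtain ⟨y, y1, y2⟩ := k2.toR M p2
    exact ⟨y, h.vd.le _ ((h.cs.memS _ k2.lt).2 k1) y1, y2⟩) w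
  exact ⟨g, k⟩

theorem adj_e {e x : G} (he : e ∈ Q z) (e2 : F.π e = c 2) (g : C{z}) (hx : x ∈ Q z)
    (k : F.π (g * x * (g : G)⁻¹) = c 2) :
    ∃ g' : C{z}, F.ρ g' = F.ρ g ∧ g' * x * (g' : G)⁻¹ = e := by
  have s := h.sit
  have hz := h.mem
  rcases (F.π_eq s hz (cQ s hz g.2 hx) he).1 (k.trans e2.symm) with k | k
  · exact ⟨g, rfl, k⟩
  obtain ⟨k1, k2⟩ : e ≠ 1 ∧ e ≠ z := not_or.1 fun k => by
    rw [← F.π_eq_zero e he, e2, ← h.cs.cd.zero, h.cs.cd.eq_iff (by omega) (by omega)] at k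
    omega
  obtain ⟨y, y1, y2⟩ := s.exists_swap hz he k1 k2
  refine ⟨⟨y, s.le hz y1⟩ * g, by rw [map_mul, (F.ker ⟨y, s.le hz y1⟩).2 y1, one_mul], ?_⟩
  change y * g * x * (y * g)⁻¹ = e
  rw [H16.SY.cj_cj', k, zc s hz (s.le hz y1), y2, ← mul_assoc, s.sq hz, one_mul]

theorem hd [IsSimpleGroup G] : ∃ e b, H16.SY.HD D Q z e b := by
  have hc := h.cs.cd
  have s := h.sit
  have hz := h.mem
  obtain ⟨e, e1, e2⟩ := lift h 2
  obtain ⟨b, b1, b2⟩ := lift h 104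
  have ne : e ≠ 1 ∧ e ≠ z := not_or.1 fun k => by
    rw [← F.π_eq_zero e e1, e2, ← hc.zero, hc.eq_iff (by omega) (by omega)] at k
    omega
  have bb : b * b = z := (sq_of' h b1 (by omega) b2).2 (by decide)
  have f2 : ∀ (g : C{z}) M, Rp c (F.ρ g) M → Commute (g : G) e → app M 2 = 2 := fun g M hM k =>
    fix_of h g hM e1 (by omega) e2 k
  have fin : ∀ (g : C{z}) M, Rp c (F.ρ g) M → (∀ n ∈ N15, app M n = n) → (g : G) ∈ Q z :=
    fun g M hM k => (one_or h g hM k).resolve_right (noT h g)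
  have sub : ∀ {A : Subgroup G} {x : G}, z ∈ A → x ∈ Q z → F.π x ∈ F.im A → x ∈ A :=
    fun {A x} a1 a2 a3 => (F.sub_im s hz a1 ▸ (⟨a2, a3⟩ : x ∈ F.sub (F.im A)) : x ∈ A ⊓ Q z).1
  refine ⟨e, b, s, hz, e1, (sq_of h e1 (by omega) e2).2 (by decide), ne.1,
    fun k => absurd ((mem_S h e1 (by omega) e2).2 ⟨k, ne.2⟩) (by decide), b1, bb,
    (cm_of h b1 e1 (by omega) (by omega) b2 e2).2 (by decide), fun x x1 x2 x3 x4 => ?_,
    fun N n1 n2 n3 => ?_, fun g g1 g2 => ?_, fun g g1 g2 k => ?_, fun r r1 r2 r3 => ?_⟩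
  · obtain ⟨a, a1, a2⟩ := code h x
    obtain ⟨p, -, p2⟩ := tr_w a a1 ((sq_of h x1 a1 a2).1 x2) (fun k => by
      rw [k, hc.zero, F.π_eq_zero x x1] at a2
      exact a2.elim x3 fun k => x4 (k ▸ hz)) fun k => x4 ((mem_S h x1 a1 a2).1 k).1
    obtain ⟨g, hg⟩ := word h p.2
    obtain ⟨g', -, k⟩ := adj_e h e1 e2 g x1 (by rw [π_cj h g hg x1 a1 a2, p2])
    exact ⟨g', mem_C1.1 g'.2, k⟩
  · have nz : N ≤ C{z} := fun x hx => mem_C1.2 (n2 x hx).1
    letI : MulAction N V := MulAction.compHom V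
      ((((ofQuad F.q).Isom.subtype).comp F.ρ).comp (inclusion nz))
    have sm : ∀ (x : N) (v : V), x • v = (F.ρ ⟨x, nz x.2⟩).1 v := fun _ _ => rfl
    obtain ⟨_, ⟨n, hn, rfl⟩, k⟩ := fix_odd n1 (c '' (N15.toFinset : Set ℕ)) (by
      rw [Set.InjOn.ncard_image fun a ha b hb k => (hc.eq_iff (N_lt a (by simpa using ha)).1
        (N_lt b (by simpa using hb)).1).1 k, Set.ncard_coe_finset]
      decide) (by
      rintro x _ ⟨n, hn, rfl⟩
      obtain ⟨M, hM⟩ := hc.exists_rp (F.ρ ⟨x, nz x.2⟩)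
      have hn' : n ∈ N15 := by simpa using hn
      refine ⟨app M n, ?_, by rw [sm, hM.2 n (N_lt n hn').1]⟩
      simpa using ((au h _ hM).N (f2 _ M hM (n2 x x.2).2) (N_lt n hn').1).2 hn')
    have tr : ∀ n ∈ N15, ∃ g : C{z}, Commute (g : G) e ∧ (F.ρ g).1 (c 1) = c n := fun n hn => by
      obtain ⟨p, -, p1, p2⟩ := st_w n hn
      obtain ⟨g, hg⟩ := word h p.2
      obtain ⟨g', k1, k2⟩ := adj_e h e1 e2 g e1 (by rw [π_cj h g hg e1 (by omega) e2, p2])
      exact ⟨g', H16.SY.cm_iff.1 k2, by rw [k1, hg.2 1 (by omega), p1]⟩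
    have mv : ∀ (g : C{z}) v, Commute (g : G) e → (∀ x : N, x • v = v) →
        ∀ x : N, x • (F.ρ g).1 v = (F.ρ g).1 v := fun g v g1 k x => by
      have := k ⟨_, n3 (g⁻¹ : C{z}) (mem_C1.1 (g⁻¹).2) g1.inv_left x x.2⟩
      rw [sm] at this ⊢
      nth_rewrite 2 [← this]
      rw [← Form.Isom.mul_apply, ← Form.Isom.mul_apply, ← map_mul, ← map_mul]
      congr 3
      exact Subtype.ext (by simp [mul_assoc])
    obtain ⟨g, g1, g2⟩ := tr n (by simpa using hn)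
    have k1 := mv g⁻¹ _ g1.inv_left k
    rw [← g2, map_inv, Form.Isom.inv_apply_apply] at k1
    intro x hx
    obtain ⟨M, hM⟩ := hc.exists_rp (F.ρ ⟨x, nz hx⟩)
    refine fin ⟨x, nz hx⟩ M hM fun n hn => ?_
    obtain ⟨g, g1, g2⟩ := tr n hn
    have k2 := mv g _ g1 k1 ⟨x, hx⟩
    rwa [g2, sm, hM.2 n (N_lt n hn).1, hc.eq_iff (app_lt hM.1 n) (N_lt n hn).1] at k2
  · obtain ⟨M, hM⟩ := hc.exists_rp (F.ρ ⟨g, mem_C1.2 g1⟩)
    have k := π_mul' h (cQ s hz (mem_C1.2 g1) b1) (inv_mem b1) (app_lt hM.1 104) (b := 104) (by omega)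
      (π_cj h _ hM b1 (by omega) b2) (by rw [F.π_inv b1, b2])
    refine sub (subset_closure (by simp)) (mul_mem (cQ s hz (mem_C1.2 g1) b1) (inv_mem b1)) ?_
    rcases (au h _ hM).nb (f2 _ M hM g2) with k' | k' <;> rw [k, k']
    · exact (show c 0 ∈ _ from hc.zero ▸ zero_mem _)
    · exact ⟨e, subset_closure (by simp), e1, e2⟩
  · obtain ⟨M, hM⟩ := hc.exists_rp (F.ρ ⟨g, mem_C1.2 g1⟩)
    have u := au h _ hM
    refine fin _ M hM fun n hn => ?_
    obtain ⟨n1, -, n3, n4⟩ := N_lt n hn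
    obtain ⟨a, a1, a2⟩ := lift h n
    have k1 := k a a1 ((cm_of h a1 e1 n1 (by omega) a2 e2).2 n3) ((cm_of h a1 b1 n1 (by omega) a2 b2).2 n4)
    have k2 := π_mul' h (cQ s hz (mem_C1.2 g1) a1) (inv_mem a1) (u.lt n) n1
      (π_cj h _ hM a1 n1 a2) (by rw [F.π_inv a1, a2])
    have k3 : closure {b, e} ≤ F.sub (Submodule.span (ZMod 2) {c 104, c 2}) := by
      rw [closure_le, Set.insert_subset_iff, Set.singleton_subset_iff]
      exact ⟨⟨b1, b2 ▸ Submodule.subset_span (by simp)⟩, e1, e2 ▸ Submodule.subset_span (by simp)⟩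
    obtain ⟨i, j, k4⟩ := Submodule.mem_span_pair.1 (k3 k1).2
    have k5 : ∃ v ∈ [0, 2, 104, 106], c v = i • c 104 + j • c 2 := by
      rcases z2 i with rfl | rfl <;> rcases z2 j with rfl | rfl
      · exact ⟨0, by simp, by simp [hc.zero]⟩
      · exact ⟨2, by simp, by simp⟩
      · exact ⟨104, by simp, by simp⟩
      · exact ⟨106, by simp, by simpa using hc.add 104 (by omega) 2 (by omega)⟩
    obtain ⟨v, v1, v2⟩ := k5
    exact (by decide +kernel : ∀ n ∈ N15, ∀ m ∈ N15, m ^^^ n ∈ [0, 2, 104, 106] → m = n) n hn _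
      ((u.N (f2 _ M hM g2) n1).2 hn) ((hc.eq_iff ((by decide : ∀ v ∈ [0, 2, 104, 106], v < 256) v v1)
        (xor_lt (u.lt n) n1)).1 (v2.trans (k4.trans k2)) ▸ v1)
  · obtain ⟨a, a1, a2⟩ := code h r
    obtain ⟨m, -, rfl⟩ := spanN a a1 ((cm_of h r1 e1 a1 (by omega) a2 e2).1 r2)
      ((cm_of h r1 b1 a1 (by omega) a2 b2).1 r3)
    refine sub (subset_closure ⟨hz, s.mem hz, e1, (mem_C1.1 (s.le hz b1)).symm⟩) r1 ?_
    have pt : ∀ n ∈ N15, c n ∈ F.im (closure {n | n ∈ D ∧ n ∈ Q z ∧ e ∈ Q n ∧ Commute n b}) :=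
      fun n hn => by
        obtain ⟨n1, n2, -, n4⟩ := N_lt n hn
        obtain ⟨d, d1, d2, d3, d4⟩ := (h.cs.memS n n1).2 n2
        refine ⟨d, subset_closure ⟨d1, d2, ?_, (cm_of h d2 b1 n1 (by omega) d4 b2).2 n4⟩, d2, d4⟩
        obtain ⟨p, -, p1, p2⟩ := st_w n hn
        obtain ⟨g, hg⟩ := word h p.2
        have k := (h.vd.eqE _ ⟨g, rfl⟩ _ ((h.cs.memS 1 (by omega)).2 (by decide)) (c 2)).2
          (((h.cs.pt _ List.mem_cons_self).2.memE 2 (by omega)).2 (by decide))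
        rw [hg.2 1 (by omega), hg.2 2 (by omega), p1, p2, ← d4, h.lift.eqE d d1 d2 d3] at k
        obtain ⟨x, x1, x2, x3⟩ := k
        rcases (F.π_eq s hz x2 e1).1 (x3.trans e2.symm) with rfl | rfl
        · exact x1
        · exact (mul_mem_cancel_left (s.symm hz d1 d2)).1 x1
    rw [a2]
    generalize F.im _ = W at pt ⊢
    have : ∀ l : List ℕ, (∀ n ∈ l, n ∈ N15) → ∀ m, c (app l m) ∈ W := fun l => by
      induction l with
      | nil => exact fun _ _ => (show c 0 ∈ W from hc.zero ▸ zero_mem _)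
      | cons n l ih =>
        intro hl m
        have l1 := (N_lt n (hl n (by simp))).1
        have l2 := app_lt' l (fun x hx => (N_lt x (hl x (by simp [hx]))).1) (m / 2)
        have l3 := ih (fun x hx => hl x (by simp [hx])) (m / 2)
        rw [app]
        rcases Nat.mod_two_eq_zero_or_one m with e | e <;> rw [e]
        · simpa using l3
        · rw [one_mul, hc.add _ l1 _ l2]
          exact add_mem (pt n (hl n (by simp))) l3
    exact this _ (by decide) m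

end H16.ZH
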