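import Mathlib
import Cfsg.Agent.H16.K3T0
import Cfsg.Agent.H18.K3Fr
import Cfsg.Agent.H15.K317
import Cfsg.Agent.H17.K3C
import Cfsg.Agent.H4.K3C5
import Cfsg.Agent.H6.K3C7
import Cfsg.Agent.H24.K3E8

/-!
# Simple groups of order `p 3^a 2^b`: the thin case
-/

set_option autoImplicit false
set_option linter.unusedSectionVars false

open Cfsg H24 H26 Subgroup H18.K3

namespace H16.K3T

universe u

variable {G : Type u} [Group G] [Finite G] {p a b : ℕ}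

theorem fpf_p (h : KT G p a b) {Q : Subgroup G} (hQ : IsPi {2} Q) {x : G} (hx : orderOf x = p) :
    Q ⊓ C{x} = ⊥ := by
  rw [h.cent_p hx, eq_bot_iff]
  intro g hg
  have h1 := orderOf_dvd_of_mem_zpowers hg.2
  rw [hx] at h1
  rcases (Nat.dvd_prime h.prime).1 h1 with e | e
  · exact mem_bot.2 (orderOf_eq_one_iff.1 e)
  · have := hQ p h.prime (e ▸ Subgroup.orderOf_dvd_natCard Q hg.1)
    exact absurd (Set.mem_singleton_iff.1 this).symm h.ne2

/-- the thin case of the classification of simple groups of order `p 3^a 2^b` -/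
theorem thin (h : KT G p a b) (th : Thin G)
    (IH : ∀ (H : Type u) [Group H] [Finite H], Nat.card H < Nat.card G → IsK3 H → H8.K3.Concl H) :
    H8.K3.Concl G := by
  have := h.simple
  by_cases hs : H12.NG.Sol2 G
  · exact H17.K3.of_sol2 h.na ⟨p, a, b, h.prime, h.card⟩ hs
  obtain ⟨T, hT, h1, hns⟩ : ∃ T : Subgroup G, IsPi {2} T ∧ T ≠ ⊥ ∧ ¬ Sol N[T] := by
    by_contra hc
    refine hs ?_
    rintro _ ⟨T, hT, h1, rfl⟩
    by_contra hn
    exact hc ⟨T, isPi_of_isPGroup Nat.prime_two hT, h1, hn⟩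
  obtain ⟨Q, L, Q1, Q2, hO, QL, hL, hC, hX⟩ := frame h th IH hT h1 hns
  rcases hX with ⟨rfl, φ, hφ, hk⟩ | ⟨F, _, _, hF, φ, hφ, hk⟩
  · exact H4.K3.case5 h th ⟨Q2, Q1, hO, QL, hL, hφ, hk, hC⟩
  rcases hF with ⟨hF, rfl⟩ | ⟨hF, rfl⟩ | ⟨hF, rfl⟩
  · exact H6.K3.case7 h th hF ⟨Q2, Q1, hO, QL, hL, hφ, hk, hC⟩
  · exact H24.K3.case8 h th hF ⟨Q2, Q1, hO, QL, hL, hφ, hk, hC⟩
  · exact (H15.K3.no17 ⟨QL, hL.le⟩ Q2 Q1 hF φ hφ hk (fun x _ hx => fpf_p h Q2 hx)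
      fun y _ hy u hu v hv u1 v1 u2 v2 huv => h.no4 th hy
        (orderOf_eq_prime (by rw [pow_two, u2]) u1) (orderOf_eq_prime (by rw [pow_two, v2]) v1)
        hu.2 hv.2 huv).elim

end H16.K3T
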