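import Mathlib
import Cfsg.Agent.H28.NDF

/-! # S1739, doubling end: the second factor -/

set_option autoImplicit false
set_option linter.unusedSectionVars false

namespace H28.ND

open Subgroup Equiv Equiv.Perm Cfsg H24 H23 H25.LB H5.Ly H20.So
open scoped commutatorElement

variable {G : Type*} [Group G] [Finite G] {n : ℕ} {t x y g k a b : G}
  {K K' L H D Q Q' R T P : Subgroup G} {J J' : G → Subgroup G} {ι θ : SS →* G}

namespace NDJx

/-- the conjugate of `θ` by `g` -/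
def cg (g : G) (θ : SS →* G) : SS →* G := (MulAut.conj g).toMonoidHom.comp θ

theorem cg_ap (g : G) (θ : SS →* G) (u : SS) : cg g θ u = g * θ u * g⁻¹ := rfl
theorem cg_t (ht : t * t = 1) (u : SS) : cg t θ u = t * θ u * t := by rw [cg_ap, iv_inv ht]
theorem cg_map (g : G) (θ : SS →* G) (A : Subgroup SS) : cj g (A.map θ) = A.map (cg g θ) := map_map _ _ _
theorem cg_range (g : G) (θ : SS →* G) : cj g θ.range = (cg g θ).range := by
  rw [MonoidHom.range_eq_map, cg_map, ← MonoidHom.range_eq_map]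
theorem cg_inj (g : G) (h : Function.Injective θ) : Function.Injective (cg g θ) :=
  (MulAut.conj g).injective.comp h

theorem t3 (ht : t * t = 1) (w : G) : t * (t * w * t) * t = w := by
  rw [← mul_assoc, ← mul_assoc, ht, one_mul, mul_assoc, ht, mul_one]
theorem cjcj (ht : t * t = 1) (X : Subgroup G) : cj t (cj t X) = X := by rw [← cj_mul, ht, cj_one]
theorem mem_t (ht : t * t = 1) {X : Subgroup G} : x ∈ cj t X ↔ t * x * t ∈ X := by rw [mem_cj, iv_inv ht]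
theorem tN (ht : t * t = 1) {X : Subgroup G} : x ∈ N[cj t X] ↔ t * x * t ∈ N[X] := by
  rw [← cj_N, mem_t ht]
theorem tC (ht : t * t = 1) {X : Subgroup G} : x ∈ C[cj t X] ↔ t * x * t ∈ C[X] := by
  rw [← cj_C, mem_t ht]
theorem tN' (ht : t * t = 1) {X : Subgroup G} : t * x * t ∈ N[cj t X] ↔ x ∈ N[X] := by rw [tN ht, t3 ht]
theorem tC' (ht : t * t = 1) {X : Subgroup G} : t * x * t ∈ C[cj t X] ↔ x ∈ C[X] := by rw [tC ht, t3 ht]
theorem tP (p : P0 t θ P) (ht : t * t = 1) (hx : x ∈ P) : t * x * t ∈ P := by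
  have := conj_mem p.tN hx; rwa [iv_inv ht] at this
theorem tmul (ht : t * t = 1) (a b : G) : t * (a * b) * t = t * a * t * (t * b * t) := by
  calc _ = t * a * (t * t) * b * t := by rw [ht]; group
    _ = _ := by group

theorem inj (w : Wr t J ι θ) (m : Md t K J ι) (ht : t * t = 1) : Function.Injective θ := fun u v e =>
  (w.uq m ht (v := 1) (v' := 1) (by rw [e])).1
theorem s2P (p : P0 t θ P) : cj t θ.range ≤ P := cj_le_of_mem_N p.s1 p.tN
theorem s12 (w : Wr t J ι θ) (ht : t * t = 1) : θ.range ≤ C[cj t θ.range] := by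
  rintro _ ⟨u, rfl⟩ y hy
  obtain ⟨v, rfl⟩ := cg_range t θ ▸ hy
  rw [cg_t ht, w.cm]
theorem s21 (w : Wr t J ι θ) (ht : t * t = 1) : cj t θ.range ≤ C[θ.range] := cents_symm (s12 w ht)
theorem dj12 (w : Wr t J ι θ) (ht : t * t = 1) (h1 : x ∈ θ.range) (h2 : x ∈ cj t θ.range) : x = 1 := by
  obtain ⟨u, rfl⟩ := h1
  obtain ⟨v, e⟩ := cg_range t θ ▸ h2
  rw [w.dj u v (by rw [← e, cg_t ht]), map_one]
theorem z2m (ht : t * t = 1) (u : SS) : t * θ u * t ∈ cj t θ.range := (mem_t ht).2 ⟨u, (t3 ht _).symm⟩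
theorem nz2 (w : Wr t J ι θ) (m : Md t K J ι) (ht : t * t = 1) : t * θ zS * t ∉ θ.range := fun h => by
  have := dj12 w ht h (z2m ht zS)
  rw [← cg_t ht, map_eq_one_iff _ (cg_inj t (inj w m ht))] at this
  exact absurd this (by decide)

theorem nS2 (p : Pe t θ P) (ht : t * t = 1) : P ≤ N[cj t θ.range] := fun _ hx =>
  (tN ht).2 (p.nS (tP p.toP0 ht hx))
theorem dich2 (p : Pe t θ P) (ht : t * t = 1) (hx : x ∈ P) : x ∈ N[cj t (EE θ)] ∨
    cj x (cj t (EE θ)) = cj t (E₁.map θ) ∧ cj x (cj t (E₁.map θ)) = cj t (EE θ) := by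
  have e : ∀ X : Subgroup G, cj x (cj t X) = cj t (cj (t * x * t) X) := fun X => by
    rw [← cj_mul, ← cj_mul, ← mul_assoc, ← mul_assoc, ht, one_mul]
  exact (p.dich _ (tP p.toP0 ht hx)).imp (tN ht).2 fun h => ⟨by rw [e, h.1], by rw [e, h.2]⟩
theorem inn2 (p : Pe t θ P) (ht : t * t = 1) (hx : x ∈ P) (hn : x ∈ N[cj t (EE θ)]) :
    ∃ s, x * (t * θ s * t) ∈ C[cj t θ.range] := by
  obtain ⟨s, h⟩ := p.inn _ ⟨tP p.toP0 ht hx, (tN ht).1 hn⟩
  exact ⟨s, (tC ht).2 (by rwa [tmul ht, t3 ht])⟩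
theorem sw1 (p : Pe t θ P) (hx : x ∈ P) (hy : y ∈ P) (h1 : x ∉ N[EE θ]) (h2 : y ∉ N[EE θ]) :
    x * y ∈ N[EE θ] := mem_N_iff_cj.2 (by
  rw [cj_mul, ((p.dich y hy).resolve_left h2).1, ((p.dich x hx).resolve_left h1).2])
theorem sw2 (p : Pe t θ P) (ht : t * t = 1) (hx : x ∈ P) (hy : y ∈ P) (h1 : x ∉ N[cj t (EE θ)])
    (h2 : y ∉ N[cj t (EE θ)]) : x * y ∈ N[cj t (EE θ)] := mem_N_iff_cj.2 (by
  rw [cj_mul, ((dich2 p ht hy).resolve_left h2).1, ((dich2 p ht hx).resolve_left h1).2])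
theorem cN2 : C[cj t θ.range] ≤ N[cj t (EE θ)] := norm_of_cent (C_anti (cj_mono t (map_le_range _ _)))
theorem cN1 : C[θ.range] ≤ N[EE θ] := norm_of_cent (C_anti (map_le_range _ _))
theorem c1 (p : Pe t θ P) (w : Wr t J ι θ) (ht : t * t = 1) (hx : x ∈ P) (hc : x ∈ C[cj t θ.range])
    (hn : x ∈ N[EE θ]) : ∃ u, x = θ u ∨ x = θ u * (t * θ zS * t) :=
  w.cS2 ht (p.ker ⟨⟨hx, hn⟩, cN2 hc⟩) hc
theorem pz1 (p : P0 t θ P) (hx : x ∈ P) : x * θ zS = θ zS * x := H24.mem_C1.1 (p.le hx).1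
theorem pz2 (p : P0 t θ P) (hx : x ∈ P) : x * (t * θ zS * t) = t * θ zS * t * x := H24.mem_C1.1 (p.le hx).2
/-- `S₁⟨z₂⟩` is centralised by `C_P(S₁)` -/
theorem c1c (p : Pe t θ P) (w : Wr t J ι θ) (ht : t * t = 1) (hx : x ∈ P) (hc : x ∈ C[cj t θ.range])
    (hn : x ∈ N[EE θ]) (hy : y ∈ P) (hy' : y ∈ C[θ.range]) : x * y = y * x := by
  obtain ⟨u, rfl | rfl⟩ := c1 p w ht hx hc hn
  · exact hy' _ ⟨u, rfl⟩
  · rw [mul_assoc, ← pz2 p.toP0 hy, ← mul_assoc, hy' _ ⟨u, rfl⟩, mul_assoc]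
theorem c2c (p : Pe t θ P) (w : Wr t J ι θ) (ht : t * t = 1) (hx : x ∈ P) (hc : x ∈ C[θ.range])
    (hn : x ∈ N[cj t (EE θ)]) (hy : y ∈ P) (hy' : y ∈ C[cj t θ.range]) : x * y = y * x := by
  have := c1c p w ht (tP p.toP0 ht hx) ((tC' ht).2 hc) ((tN ht).1 hn) (tP p.toP0 ht hy) ((tC ht).1 hy')
  rw [← tmul ht, ← tmul ht] at this
  simpa using this

end NDJx

end H28.ND
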