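import Mathlib
import Cfsg.Agent.H16.NM0

set_option autoImplicit false
set_option linter.unusedSectionVars false

namespace H20.So.NM

open Subgroup Equiv Equiv.Perm Cfsg H24 H23 H25.LB H5.Ly
open scoped commutatorElement

universe u

variable {G : Type*} [Group G] [Finite G] {n : ℕ} {E H W K K' M M' J L D : Subgroup G}
  {t u v q w y z b x : G}

/-! ### NMD -/
namespace NMDx

/-- `F` is the projection `W → W / O(W)` -/
structure Md {Γ : Type*} [Group Γ] (W : Subgroup G) (F : G → Γ) : Prop where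
  mul : ∀ {x y : G}, x ∈ W → y ∈ W → F (x * y) = F x * F y
  one : ∀ {x : G}, x ∈ W → (F x = 1 ↔ x ∈ opp 2 W)

theorem mem_core {x : G} (hx : x ∈ W) : (⟨x, hx⟩ : W) ∈ pPrimeCore 2 W ↔ x ∈ opp 2 W :=
  ⟨fun h => ⟨_, h, rfl⟩, fun ⟨y, hy, e⟩ => (Subtype.ext e : y = ⟨x, hx⟩) ▸ hy⟩

theorem exF (W : Subgroup G) : ∃ F : G → W ⧸ pPrimeCore 2 W, Md W F := by
  classical
  refine ⟨fun g => if h : g ∈ W then piO 2 W ⟨g, h⟩ else 1, fun {x y} hx hy => ?_, fun {x} hx => ?_⟩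
  · simp only [dif_pos hx, dif_pos hy, dif_pos (mul_mem hx hy), ← map_mul]; rfl
  · simp only [dif_pos hx]
    rw [← MonoidHom.mem_ker, ker_piO, mem_core]

theorem cm {Γ : Type*} [Group Γ] {x y z w : Γ} (h1 : Commute z x) (h2 : Commute z y)
    (h3 : Commute z w) (h4 : Commute w x) (h5 : Commute w y) : ⁅x * z, y * w⁆ = ⁅x, y⁆ := by
  have e1 : z * (y * w) * z⁻¹ = y * w := by rw [(h2.mul_right h3).eq, mul_inv_cancel_right]
  have e2 : w * x⁻¹ * w⁻¹ = x⁻¹ := by rw [h4.inv_right.eq, mul_inv_cancel_right]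
  calc ⁅x * z, y * w⁆ = x * (z * (y * w) * z⁻¹) * x⁻¹ * (y * w)⁻¹ := by
        simp only [commutatorElement_def]; group
    _ = x * y * (w * x⁻¹ * w⁻¹) * y⁻¹ := by rw [e1]; group
    _ = ⁅x, y⁆ := by rw [e2, commutatorElement_def]

theorem z2 {p : G} (hp : p ∈ L) (hc : p ∈ cz L) : ∃ k : ℕ, p ^ 2 ^ k ∈ opp 2 L := by
  obtain ⟨a, c, e, ha, hc', ⟨k, hk⟩, ho⟩ := two_odd p
  have c1 : zpowers c ≤ L := zpowers_le.2 (zpowers_le.2 hp hc')
  have c2 : zpowers c ≤ cz L := zpowers_le.2 (zpowers_le.2 hc hc')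
  have hO : L ≤ N[opp 2 L] := le_normalizer_opp 2 (norm_self L)
  have : zpowers c ⊔ opp 2 L ≤ opp 2 L := by
    refine le_opp (sup_le c1 (opp_le 2 L)) ?_ (cop_sup ?_ (opp_cop 2 L) (c1.trans hO))
    · refine norm_of_comm_le_right ((comm_sup_le ?_ (comm_le_right hO) (c1.trans hO)
        (norm_self _)).trans le_sup_right)
      exact (commutator_mono le_rfl c2).trans (t2_comm_le L)
    · rw [Nat.card_zpowers]; exact Nat.coprime_two_right.2 ho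
  have cc : Commute a c := by
    obtain ⟨i, rfl⟩ := ha
    obtain ⟨j, rfl⟩ := hc'
    exact Commute.zpow_zpow_self _ _ _
  refine ⟨k, ?_⟩
  rw [e, cc.mul_pow, hk, one_mul]
  exact pow_mem (this (mem_sup_left (mem_zpowers c))) _

theorem ex_map {A B Γ : Type*} [Group A] [Group B] [Group Γ] (h : A →* Γ) (e : B →* Γ)
    (he : Function.Injective e) (hr : ∀ a, h a ∈ e.range) :
    ∃ f : A →* B, ∀ a b, f a = b ↔ h a = e b := by
  refine ⟨(MonoidHom.ofInjective he).symm.toMonoidHom.comp (h.codRestrict e.range hr), fun a b => ?_⟩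
  rw [MonoidHom.comp_apply, MulEquiv.coe_toMonoidHom, MulEquiv.symm_apply_eq, Subtype.ext_iff]
  rfl

namespace Md
variable {Γ : Type*} [Group Γ] {F : G → Γ} (m : Md W F)
include m

theorem F1 : F 1 = 1 := (m.one (one_mem _)).2 (one_mem _)
theorem inv (hx : x ∈ W) : F x⁻¹ = (F x)⁻¹ :=
  eq_inv_of_mul_eq_one_left (by rw [← m.mul (inv_mem hx) hx, inv_mul_cancel, m.F1])
theorem comm (hx : x ∈ W) (hy : y ∈ W) : F ⁅x, y⁆ = ⁅F x, F y⁆ := by
  rw [commutatorElement_def, m.mul (mul_mem (mul_mem hx hy) (inv_mem hx)) (inv_mem hy),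
    m.mul (mul_mem hx hy) (inv_mem hx), m.mul hx hy, m.inv hx, m.inv hy, commutatorElement_def]
theorem conj (hx : x ∈ W) (hy : y ∈ W) : F (x * y * x⁻¹) = F x * F y * (F x)⁻¹ := by
  rw [m.mul (mul_mem hx hy) (inv_mem hx), m.mul hx hy, m.inv hx]
theorem pow (hx : x ∈ W) (k : ℕ) : F (x ^ k) = F x ^ k := by
  induction k with
  | zero => simp [m.F1]
  | succ k ih => rw [pow_succ, m.mul (pow_mem hx k) hx, ih, pow_succ]
theorem commute (hx : x ∈ W) (hy : y ∈ W) : Commute (F x) (F y) ↔ ⁅x, y⁆ ∈ opp 2 W := by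
  rw [← m.one (comm_le_of_le le_rfl le_rfl (commutator_mem_commutator hx hy)), m.comm hx hy,
    commutatorElement_eq_one_iff_commute]

/-- preimages -/
def pre (X : Subgroup Γ) : Subgroup G where
  carrier := {g | g ∈ W ∧ F g ∈ X}
  one_mem' := ⟨one_mem _, m.F1 ▸ one_mem _⟩
  mul_mem' := fun ha hb => ⟨mul_mem ha.1 hb.1, m.mul ha.1 hb.1 ▸ mul_mem ha.2 hb.2⟩
  inv_mem' := fun ha => ⟨inv_mem ha.1, m.inv ha.1 ▸ inv_mem ha.2⟩

theorem sup {E : Subgroup G} (hE : E ≤ W) (hx : x ∈ E ⊔ opp 2 W) : ∃ e ∈ E, F e = F x := by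
  obtain ⟨a, ha, o, ho, rfl⟩ :=
    (mem_sup_of_norm' (hE.trans (le_normalizer_opp 2 (norm_self W)))).1 hx
  exact ⟨a, ha, by rw [m.mul (hE ha) (opp_le 2 W ho), (m.one (opp_le 2 W ho)).2 ho, mul_one]⟩

variable (hbW : b ∈ W) (hL : IsPCompOf 2 L W) (hne : b ∉ N[L])
include hbW hL hne

theorem cc {p q : G} (hp : p ∈ L) (hq : q ∈ L) : Commute (F p) (F (b * q * b⁻¹)) :=
  (m.commute (hL.1 hp) (mul_mem (mul_mem hbW (hL.1 hq)) (inv_mem hbW))).2
    ((pcomp_eq_or_comm_le hL (pc_cj_mem hL hbW)).resolve_left (fun e => hne (mem_N_iff_cj.2 e.symm))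
      (commutator_mem_commutator hp (conj_mem_cj b hq)))

theorem bW {q : G} (hq : q ∈ L) : b * q * b⁻¹ ∈ W := mul_mem (mul_mem hbW (hL.1 hq)) (inv_mem hbW)

/-- the diagonal map -/
def dm : L →* Γ where
  toFun p := F p * F (b * p * b⁻¹)
  map_one' := by simp [m.F1]
  map_mul' p q := by
    have e : b * ((p * q : L) : G) * b⁻¹ = b * p * b⁻¹ * (b * q * b⁻¹) := by
      rw [Subgroup.coe_mul]; group
    rw [e, Subgroup.coe_mul, m.mul (hL.1 p.2) (hL.1 q.2), m.mul (m.bW hbW hL hne p.2) (m.bW hbW hL hne q.2)]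
    exact (m.cc hbW hL hne q.2 p.2).mul_mul_mul_comm _ _

theorem dm_apply (p : L) : m.dm hbW hL hne p = F p * F (b * p * b⁻¹) := rfl

theorem of_eq {p q : G} (hp : p ∈ L) (hq : q ∈ L) (e : F p = F (b * q * b⁻¹)) : p ∈ cz L :=
  mem_cz_of hL (norm_self L hp) fun k hk => (m.commute (hL.1 hk) (hL.1 hp)).1 (e ▸ m.cc hbW hL hne hk hq)

theorem ker {p : L} (h : m.dm hbW hL hne p = 1) : (p : G) ∈ cz L := by
  refine m.of_eq hbW hL hne p.2 (inv_mem p.2) ?_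
  rw [dm_apply, mul_eq_one_iff_eq_inv, ← m.inv (m.bW hbW hL hne p.2)] at h
  rw [h]; congr 1; group

omit hbW hne in
theorem cz_comm {p k : G} (hp : p ∈ L) (hc : p ∈ cz L) (hk : k ∈ L) : Commute (F p) (F k) :=
  ((m.commute (hL.1 hk) (hL.1 hp)).2 (opp_le_opp hL ((mem_cz.1 hc).2 k hk))).symm

theorem core {p : G} (hp : p ∈ L) (h : p ∈ opp 2 L) : m.dm hbW hL hne ⟨p, hp⟩ = 1 := by
  have h1 := opp_le_opp hL h
  rw [dm_apply, (m.one (hL.1 hp)).2 h1, (m.one (m.bW hbW hL hne hp)).2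
    (H24.conj_mem (le_normalizer_opp 2 (norm_self W) hbW) h1), one_mul]

theorem key (hb : b * b = 1) : ∃ D, IsPCompOf 2 D (W ⊓ C{b}) ∧ D ≤ L ⊔ cj b L ∧
    (∀ p, ∃ d ∈ D, F d = m.dm hbW hL hne p) ∧ (∀ d ∈ D, ∃ p, m.dm hbW hL hne p = F d) ∧
      opp 2 D ≤ opp 2 W := by
  obtain ⟨D, hD, h1, h2⟩ := t2_rel hL hbW hb hne
  have hL' := pc_cj_mem hL hbW
  have h3 : D ≤ L ⊔ cj b L := le_of_pGen_of_le_sup_cop
    (norm_sup (opp_le_normalizer_pcomp hL) (opp_le_normalizer_pcomp hL')) (opp_cop 2 W)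
    (pcomp_pGen_eq hD) h1
  have DW : D ≤ W := hD.1.trans inf_le_left
  have k1 : ∀ p, ∃ d ∈ D, F d = m.dm hbW hL hne p := fun p => by
    obtain ⟨d, hd, e⟩ := m.sup DW (h2 p p.2)
    exact ⟨d, hd, by rw [e, m.mul (hL.1 p.2) (m.bW hbW hL hne p.2), dm_apply]⟩
  have dec : ∀ d ∈ D, ∃ (p : L) (z : G), z ∈ L ∧ z ∈ cz L ∧ F d = m.dm hbW hL hne p * F z := by
    intro d hd
    obtain ⟨p, hp, _, hq0, rfl⟩ := (mem_sup_of_norm (pc_le_N hL hL')).1 (h3 hd)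
    obtain ⟨q, hq, rfl⟩ := mem_cj'.1 hq0
    have e0 : b * (p * (b * q * b⁻¹)) * b⁻¹ = p * (b * q * b⁻¹) := by
      rw [← mem_C1.1 (hD.1 hd).2, mul_inv_cancel_right]
    have e1 : b * p * b⁻¹ * q = p * (b * q * b⁻¹) := by
      rw [← e0]
      calc b * p * b⁻¹ * q = b * p * (b⁻¹ * (b * b)) * q * (b * b)⁻¹ := by rw [hb]; group
        _ = _ := by group
    have e2 := congrArg F e1
    rw [m.mul (m.bW hbW hL hne hp) (hL.1 hq), m.mul (hL.1 hp) (m.bW hbW hL hne hq),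
      ← (m.cc hbW hL hne hq hp).eq] at e2
    have hz : q⁻¹ * p ∈ L := mul_mem (inv_mem hq) hp
    have e3 : F (q⁻¹ * p) = F (b * (p * q⁻¹) * b⁻¹) := by
      rw [show b * (p * q⁻¹) * b⁻¹ = b * p * b⁻¹ * (b * q * b⁻¹)⁻¹ by group,
        m.mul (m.bW hbW hL hne hp) (inv_mem (m.bW hbW hL hne hq)), m.inv (m.bW hbW hL hne hq),
        m.mul (inv_mem (hL.1 hq)) (hL.1 hp), m.inv (hL.1 hq), eq_mul_inv_iff_mul_eq, mul_assoc,
        ← e2, inv_mul_cancel_left]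
    refine ⟨⟨q, hq⟩, q⁻¹ * p, hz, m.of_eq hbW hL hne hz (mul_mem hp (inv_mem hq)) e3, ?_⟩
    rw [dm_apply, mul_assoc (F _) (F _) (F _), ← (m.cc hbW hL hne hz hq).eq, ← mul_assoc (F _) (F _) (F _), ← m.mul (hL.1 hq) (hL.1 hz),
      mul_inv_cancel_left, m.mul (hL.1 hp) (m.bW hbW hL hne hq)]
  have zc : ∀ {z : G}, z ∈ L → z ∈ cz L → ∀ p, Commute (F z) (m.dm hbW hL hne p) :=
    fun hz hc p => (m.cz_comm hL hz hc p.2).mul_right (m.cc hbW hL hne hz p.2)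
  have k2 : D ≤ m.pre (m.dm hbW hL hne).range := by
    refine hD.perfect.ge.trans (commutator_le.2 fun d hd d' hd' => ?_)
    obtain ⟨p, z, hz, hc, e⟩ := dec d hd
    obtain ⟨p', z', hz', hc', e'⟩ := dec d' hd'
    refine ⟨comm_le_of_le DW DW (commutator_mem_commutator hd hd'), ⁅p, p'⁆, ?_⟩
    rw [m.comm (DW hd) (DW hd'), e, e', cm (zc hz hc p) (zc hz hc p') (m.cz_comm hL hz hc hz')
      (zc hz' hc' p) (zc hz' hc' p'), map_commutatorElement]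
  refine ⟨D, hD, h3, k1, fun d hd => (k2 hd).2, fun o ho => ?_⟩
  have oD := opp_le 2 D
  let R : Subgroup G :=
    { carrier := {p | ∃ hp : p ∈ L, ∃ o ∈ opp 2 D, F o = m.dm hbW hL hne ⟨p, hp⟩}
      one_mem' := ⟨one_mem _, 1, one_mem _, by rw [m.F1]; exact (map_one _).symm⟩
      mul_mem' := by
        rintro a c ⟨ha, o, ho, e⟩ ⟨hc, o', ho', e'⟩
        refine ⟨mul_mem ha hc, o * o', mul_mem ho ho', ?_⟩
        rw [m.mul (DW (oD ho)) (DW (oD ho')), e, e', ← map_mul]; rfl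
      inv_mem' := by
        rintro a ⟨ha, o, ho, e⟩
        refine ⟨inv_mem ha, o⁻¹, inv_mem ho, ?_⟩
        rw [m.inv (DW (oD ho)), e, ← map_inv]; rfl }
  have RL : R ≤ L := fun p hp => hp.1
  have RN : L ≤ N[R] := le_N_iff.2 (by
    rintro a ha c ⟨hc, o, ho, e⟩
    obtain ⟨d, hd, e'⟩ := k1 ⟨a, ha⟩
    refine ⟨mul_mem (mul_mem ha hc) (inv_mem ha), d * o * d⁻¹,
      H24.conj_mem (le_normalizer_opp 2 (norm_self D) hd) ho, ?_⟩
    rw [m.conj (DW hd) (DW (oD ho)), e, e', ← map_mul, ← map_inv, ← map_mul]; rfl)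
  rcases pc_nml hL RL RN with e | e
  · exfalso
    refine pcomp_not_le_cop hD (Y := opp 2 D ⊔ opp 2 W)
      (cop_sup (opp_cop 2 D) (opp_cop 2 W) ((oD.trans DW).trans (le_normalizer_opp 2 (norm_self W))))
      fun d hd => ?_
    obtain ⟨p, hp⟩ := (k2 hd).2
    obtain ⟨_, o, ho, e1⟩ := e.ge p.2
    have : o⁻¹ * d ∈ opp 2 W := by
      rw [← m.one (mul_mem (inv_mem (DW (oD ho))) (DW hd)), m.mul (inv_mem (DW (oD ho))) (DW hd),
        m.inv (DW (oD ho)), e1, ← hp, inv_mul_cancel]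
    rw [← mul_inv_cancel_left o d]
    exact mul_mem (mem_sup_left ho) (mem_sup_right this)
  · obtain ⟨p, hp⟩ := (k2 (oD ho)).2
    obtain ⟨k, hk⟩ := z2 p.2 (e ⟨p.2, o, ho, hp.symm⟩)
    have e1 : F (o ^ 2 ^ k) = 1 := by
      rw [m.pow (DW (oD ho)), ← hp, ← map_pow]
      exact m.core hbW hL hne (pow_mem p.2 _) hk
    rw [m.one (pow_mem (DW (oD ho)) _)] at e1
    have hodd := odd_orderOf_of_mem (odd_opp D) ho
    have : o ∈ zpowers (o ^ 2 ^ k) :=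
      mem_zpowers_pow_iff.2 (Nat.Coprime.pow_left k (Nat.coprime_two_left.2 hodd))
    exact zpowers_le.2 e1 this

theorem key' (hb : b * b = 1) (hD : IsPCompOf 2 D (W ⊓ C{b})) (hc : ¬ D ≤ cz L) :
    D ≤ L ⊔ cj b L ∧ (∀ p, ∃ d ∈ D, F d = m.dm hbW hL hne p) ∧
      (∀ d ∈ D, ∃ p, m.dm hbW hL hne p = F d) ∧ opp 2 D ≤ opp 2 W := by
  obtain ⟨D0, hD0, h1, h2, h3, h4⟩ := m.key hbW hL hne hb
  by_cases e : D0 = D
  · exact e ▸ ⟨h1, h2, h3, h4⟩
  refine (hc fun d hd => ?_).elim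
  have dN := lbal1 hb hbW hD hL hd
  have dW : d ∈ W := (hD.1 hd).1
  have D0W : D0 ≤ W := hD0.1.trans inf_le_left
  have dec : ∀ q ∈ L, ∃ z ∈ L, z ∈ cz L ∧ F d * F q * (F d)⁻¹ = F q * F z := by
    intro q hq
    have hq' := H24.conj_mem dN hq
    obtain ⟨d0, hd0, e0⟩ := h2 ⟨q, hq⟩
    have c1 : Commute (F d0) (F d) :=
      (m.commute (D0W hd0) dW).2 (h4 ((mem_cz.1 (ne_le_cz hD0 hD e hd)).2 d0 hd0))
    have e1 : m.dm hbW hL hne ⟨d * q * d⁻¹, hq'⟩ = m.dm hbW hL hne ⟨q, hq⟩ := by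
      have e2 : b * (d * q * d⁻¹) * b⁻¹ = d * (b * q * b⁻¹) * d⁻¹ := by
        have := mem_C1.1 (hD.1 hd).2
        calc b * (d * q * d⁻¹) * b⁻¹ = (b * d) * q * (b * d)⁻¹ := by group
          _ = _ := by rw [← this]; group
      rw [← e0, ← mul_inv_cancel_right (F d0) (F d), c1.eq, e0, dm_apply, dm_apply]
      simp only
      rw [e2, m.conj dW (hL.1 hq), m.conj dW (m.bW hbW hL hne hq)]
      group
    have hz : q⁻¹ * (d * q * d⁻¹) ∈ L := mul_mem (inv_mem hq) hq'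
    refine ⟨_, hz, m.ker hbW hL hne (p := ⟨_, hz⟩) ?_, ?_⟩
    · have : (⟨_, hz⟩ : L) = (⟨q, hq⟩ : L)⁻¹ * ⟨d * q * d⁻¹, hq'⟩ := rfl
      rw [this, map_mul, map_inv, e1, inv_mul_cancel]
    · rw [← m.mul (hL.1 hq) (hL.1 hz), mul_inv_cancel_left, m.conj dW (hL.1 hq)]
  have k : L ≤ m.pre C{F d} := by
    refine hL.perfect.ge.trans (commutator_le.2 fun q hq q' hq' => ?_)
    obtain ⟨z, hz, hc, e⟩ := dec q hq
    obtain ⟨z', hz', hc', e'⟩ := dec q' hq'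
    refine ⟨comm_le_of_le hL.1 hL.1 (commutator_mem_commutator hq hq'), ?_⟩
    rw [H24.mem_C1_comm, H24.mem_C1_iff_conj, m.comm (hL.1 hq) (hL.1 hq'), conjugate_commutatorElement,
      e, e', cm (m.cz_comm hL hz hc hq) (m.cz_comm hL hz hc hq') (m.cz_comm hL hz hc hz')
      (m.cz_comm hL hz' hc' hq) (m.cz_comm hL hz' hc' hq')]
  exact mem_cz_of hL dN fun q hq => (m.commute (hL.1 hq) dW).1 (mem_C1.1 (k hq).2)

end Md
end NMDx

open NMDx

theorem tri (hb : b * b = 1) (hbW : b ∈ W) (hD : IsPCompOf 2 D (W ⊓ C{b})) :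
    ∃ L, IsPCompOf 2 L W ∧ ¬ D ≤ cz L ∧ (b ∈ N[L] → D ≤ L) := by
  by_cases h : ∃ L, IsPCompOf 2 L W ∧ ¬ D ≤ cz L
  · obtain ⟨L, hL, hc⟩ := h
    exact ⟨L, hL, hc, fun hn => (pump hb hbW hD hL hn).resolve_right hc⟩
  push Not at h
  exfalso
  have h1 : play 2 W ≤ cmod D (opp 2 W) := play_le_of fun K hK =>
    le_cmod ((commC D K).le.trans (((commutator_mono le_rfl (h K hK)).trans (t2_comm_le K)).trans
      (opp_le_opp hK))) (hK.1.trans (le_normalizer_opp 2 (norm_self W)))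
  have h2 := comm_le_of_le_cmod ((hD.le_play.trans (lbal1' hb hbW)).trans h1)
  rw [hD.perfect] at h2
  exact pcomp_not_le_cop hD (opp_cop 2 W) h2
theorem diag_le (hb : b * b = 1) (hbW : b ∈ W) (hD : IsPCompOf 2 D (W ⊓ C{b}))
    (hL : IsPCompOf 2 L W) (hne : b ∉ N[L]) (hc : ¬ D ≤ cz L) : D ≤ L ⊔ cj b L := by
  obtain ⟨F, m⟩ := exF W
  exact (m.key' hbW hL hne hb hD hc).1
theorem diag_map (hb : b * b = 1) (hbW : b ∈ W) (hD : IsPCompOf 2 D (W ⊓ C{b}))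
    (hL : IsPCompOf 2 L W) (hne : b ∉ N[L]) (hc : ¬ D ≤ cz L) :
    ∃ f : L ⧸ pPrimeCore 2 L →* D ⧸ pPrimeCore 2 D, Function.Surjective f ∧ f.ker ≤ center _ ∧
      IsPGroup 2 f.ker ∧ ∀ (p : L) (d : D), f (p : L ⧸ pPrimeCore 2 L) = (d : D ⧸ pPrimeCore 2 D) ↔
        (p : G) * (b * p * b⁻¹) * (d : G)⁻¹ ∈ opp 2 W := by
  obtain ⟨F, m⟩ := exF W
  obtain ⟨-, h2, h3, h4⟩ := m.key' hbW hL hne hb hD hc
  have DW : D ≤ W := hD.1.trans inf_le_left
  let e0 : D →* W ⧸ pPrimeCore 2 W :=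
    { toFun := fun d => F d
      map_one' := m.F1
      map_mul' := fun a c => m.mul (DW a.2) (DW c.2) }
  have ke : pPrimeCore 2 D = e0.ker := by
    ext d
    rw [MonoidHom.mem_ker]
    show _ ↔ F d = 1
    rw [m.one (DW d.2), mem_core d.2]
    refine ⟨fun h => h4 h, fun h => ?_⟩
    exact opp_inf_le DW ⟨h, d.2⟩
  let e := QuotientGroup.lift (pPrimeCore 2 D) e0 ke.le
  have he : Function.Injective e := (QuotientGroup.injective_lift_iff _ _ _).2 ke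
  let h := QuotientGroup.lift (pPrimeCore 2 L) (m.dm hbW hL hne) fun p hp =>
    m.core hbW hL hne p.2 ((mem_core p.2).1 hp)
  obtain ⟨f, hf⟩ := ex_map h e he fun a => by
    obtain ⟨p, rfl⟩ := QuotientGroup.mk_surjective a
    obtain ⟨d, hd, e1⟩ := h2 p
    exact ⟨(⟨d, hd⟩ : D), e1⟩
  have kf : ∀ p : L, (p : L ⧸ pPrimeCore 2 L) ∈ f.ker → (p : G) ∈ cz L := fun p hp =>
    m.ker hbW hL hne (((hf _ _).1 hp).trans (map_one e))
  refine ⟨f, fun y => ?_, fun a ha => ?_, fun a => ?_, fun p d => ?_⟩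
  · obtain ⟨d, rfl⟩ := QuotientGroup.mk_surjective y
    obtain ⟨p, e1⟩ := h3 d d.2
    exact ⟨p, (hf _ _).2 e1⟩
  · obtain ⟨p, rfl⟩ := QuotientGroup.mk_surjective a
    refine mem_center_iff.2 fun c => ?_
    obtain ⟨k, rfl⟩ := QuotientGroup.mk_surjective c
    rw [← commutatorElement_eq_one_iff_mul_comm]
    exact (map_commutatorElement (piO 2 L) k p).symm.trans ((QuotientGroup.eq_one_iff _).2
      ((mem_core (⁅k, p⁆ : L).2).2 ((mem_cz.1 (kf p ha)).2 k k.2)))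
  · obtain ⟨a, ha⟩ := a
    obtain ⟨p, rfl⟩ := QuotientGroup.mk_surjective a
    obtain ⟨k, hk⟩ := z2 p.2 (kf p ha)
    refine ⟨k, Subtype.ext ?_⟩
    exact (map_pow (piO 2 L) p _).symm.trans ((QuotientGroup.eq_one_iff _).2
      ((mem_core (p ^ 2 ^ k : L).2).2 hk))
  · rw [hf, ← m.one (mul_mem (mul_mem (hL.1 p.2) (m.bW hbW hL hne p.2)) (inv_mem (DW d.2))),
      m.mul (mul_mem (hL.1 p.2) (m.bW hbW hL hne p.2)) (inv_mem (DW d.2)),
      m.mul (hL.1 p.2) (m.bW hbW hL hne p.2), m.inv (DW d.2), mul_inv_eq_one]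
    rfl

end H20.So.NM
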