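import Mathlib
import Cfsg.Agent.H16.NM0

/-!
# No 2-component of type `McL` or `Ly`: transfers
-/

set_option autoImplicit false
set_option linter.unusedSectionVars false

namespace H20.So.NM

open Subgroup Equiv Equiv.Perm Cfsg H24 H23 H25.LB H5.Ly
open scoped commutatorElement

universe u

namespace NMTx

theorem cen_map {A B : Type*} [Group A] [Group B] (e : A ≃* B) :
    (center A).map e.toMonoidHom = center B := by
  ext y
  obtain ⟨x, rfl⟩ := e.surjective y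
  constructor
  · rintro ⟨x', hx, e'⟩
    rw [← e']
    refine mem_center_iff.2 fun g => ?_
    obtain ⟨g, rfl⟩ := e.surjective g
    change e g * e x' = e x' * e g
    rw [← map_mul, ← map_mul, mem_center_iff.1 hx g]
  · intro h
    refine ⟨x, mem_center_iff.2 fun g => e.injective ?_, rfl⟩
    rw [map_mul, map_mul, mem_center_iff.1 h (e g)]

theorem dc_congr {A B K : Type*} [Group A] [Group B] [Group K] (h : IsNonsplitDoubleCover A K)
    (e : A ≃* B) : IsNonsplitDoubleCover B K := by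
  obtain ⟨h1, ⟨θ⟩, h3⟩ := h
  have hm : ∀ x : A, e x ∈ center B ↔ x ∈ center A := fun x => by
    rw [← cen_map e]
    exact mem_map_iff_mem (f := e.toMonoidHom) e.injective
  refine ⟨?_, ⟨(QuotientGroup.congr _ _ e (cen_map e)).symm.trans θ⟩, fun L hL => ?_⟩
  · rw [← cen_map e, card_map_of_injective e.injective, h1]
  · refine h3 (L.comap e.toMonoidHom) (isComplement'_of_disjoint_and_mul_eq_univ ?_ ?_)
    · refine disjoint_def.2 fun {x} hx hx' => e.injective ?_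
      rw [map_one]
      exact disjoint_def.1 hL.disjoint ((hm x).2 hx) hx'
    · refine Set.eq_univ_of_forall fun x => ?_
      obtain ⟨a, ha, b, hb, e'⟩ := (hL.mul_eq.ge (Set.mem_univ (e x)) :)
      obtain ⟨a, rfl⟩ := e.surjective a
      obtain ⟨b, rfl⟩ := e.surjective b
      exact ⟨a, (hm a).1 ha, b, hb, e.injective (by rw [← e']; exact map_mul e a b)⟩

theorem f_equiv {G G' : Type*} [Group G] [Finite G] [Group G'] [Finite G'] (f : G →* G')
    (hf : Function.Surjective f) (hk : (Nat.card f.ker).Coprime 2) :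
    Nonempty (G ⧸ pPrimeCore 2 G ≃* G' ⧸ pPrimeCore 2 G') :=
  ⟨(QuotientGroup.quotientMulEquivOfEq (by
      rw [← MonoidHom.comap_ker, ker_piO, comap_pPrimeCore_of_cop_ker hf hk])).trans
    (QuotientGroup.quotientKerEquivOfSurjective ((piO 2 G').comp f) ((piO_surj 2 G').comp hf))⟩

theorem f_equiv' {G G' : Type*} [Group G] [Finite G] [Group G'] [Finite G'] (f : G →* G')
    (K : Subgroup G) (hk : (Nat.card ↥(K ⊓ f.ker)).Coprime 2) :
    Nonempty (K ⧸ pPrimeCore 2 K ≃* K.map f ⧸ pPrimeCore 2 (K.map f)) :=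
  f_equiv (f.subgroupMap K) (f.subgroupMap_surjective K) (by
    rwa [ker_subgroupMap, card_subgroupOf, inf_comm])

theorem cover_equiv {G : Type*} [Group G] [Finite G] {L K : Subgroup G} (hle : L ≤ K)
    (hc : K ≤ L ⊔ opp 2 K) : Nonempty (L ⧸ pPrimeCore 2 L ≃* K ⧸ pPrimeCore 2 K) := by
  have hs : Function.Surjective ((QuotientGroup.mk' (pPrimeCore 2 K)).comp (inclusion hle)) := fun x => by
    obtain ⟨a, rfl⟩ := QuotientGroup.mk'_surjective _ x
    obtain ⟨l, o, h1, rfl⟩ := sb_dec hc hle a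
    exact ⟨l, by rw [map_mul, show QuotientGroup.mk' _ o = 1 from (QuotientGroup.eq_one_iff o).2 h1, mul_one]; rfl⟩
  refine ⟨(QuotientGroup.quotientMulEquivOfEq ?_).trans (QuotientGroup.quotientKerEquivOfSurjective _ hs)⟩
  ext x
  rw [MonoidHom.mem_ker, MonoidHom.comp_apply, QuotientGroup.mk'_apply, QuotientGroup.eq_one_iff]
  constructor
  · intro hx
    obtain ⟨y, hy, e⟩ := opp_le_of_cover hle hc (mem_map_of_mem L.subtype hx)
    rwa [show inclusion hle x = y from Subtype.ext e.symm]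
  · intro hx
    obtain ⟨y, hy, e⟩ := opp_inf_le (p := 2) hle ⟨mem_map_of_mem K.subtype hx, x.2⟩
    rwa [show x = y from Subtype.ext e.symm]

end NMTx

open NMTx

variable {G : Type*} [Group G] [Finite G] {n : ℕ} {E H W K K' M M' J L D : Subgroup G}
  {t u v q w y z b x : G}

/-! ### NMT -/
theorem TS.of_equiv {A B : Type*} [Group A] [Group B] (h : TS n A) (e : A ≃* B) : TS n B := by
  obtain ⟨hs, z, hz, hd⟩ := h
  refine ⟨e.isSimpleGroup_congr.1 hs, e z, by rw [e.orderOf_eq, hz], ?_⟩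
  have e1 : (C{z} : Subgroup A).map e.toMonoidHom = C{e z} := by
    ext y
    obtain ⟨x, rfl⟩ := e.surjective y
    refine (mem_map_iff_mem (f := e.toMonoidHom) e.injective).trans ?_
    rw [So.mem_C1, So.mem_C1, ← map_mul, ← map_mul, e.injective.eq_iff]
  exact dc_congr hd (((C{z} : Subgroup A).equivMapOfInjective e.toMonoidHom e.injective).trans
    (MulEquiv.subgroupCongr e1))
theorem tb_cover (hle : L ≤ K) (hc : K ≤ L ⊔ opp 2 K) : Tb n L ↔ Tb n K := by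
  obtain ⟨e⟩ := cover_equiv hle hc
  exact ⟨fun h => TS.of_equiv h e, fun h => TS.of_equiv h e.symm⟩
theorem tb_map {G' : Type*} [Group G'] [Finite G'] (f : G →* G') (K : Subgroup G)
    (hk : Odd (Nat.card ↥(K ⊓ f.ker))) : Tb n (K.map f) ↔ Tb n K := by
  obtain ⟨e⟩ := f_equiv' f K (cop_two_iff_odd.2 hk)
  exact ⟨fun h => TS.of_equiv h e.symm, fun h => TS.of_equiv h e⟩
theorem Kc.cj (h : Kc n H K) (g : G) : Kc n (H24.cj g H) (H24.cj g K) :=
  ⟨h.hn, pc_cj h.comp g, (tb_map (MulAut.conj g).toMonoidHom K (sb_odd.2 fun _ hx _ =>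
    (map_eq_one_iff _ (MulAut.conj g).injective).1 hx.2)).2 h.tb⟩
theorem Pq.cj (h : Pq n u M) (g : G) : Pq n (g * u * g⁻¹) (H24.cj g M) :=
  ⟨iv_conj h.iv g, by
    have := h.kc.cj g
    rwa [cj_C1] at this⟩
theorem Kc.kx (h : Kc n H K) (hW : K ≤ (K ⊓ W) ⊔ opp 2 K) : Kc n (H ⊓ W) (Kx K W) :=
  ⟨h.hn, (kx_comp h.comp hW).1,
    (tb_cover ((pGen_le _ _).trans inf_le_left) (kx_comp h.comp hW).2).2 h.tb⟩
theorem Kc.up (h : Kc n H K) (hL : IsPCompOf 2 L W) (hle : K ≤ L) (hc : L ≤ K ⊔ opp 2 L) :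
    Kc n W L := ⟨h.hn, hL, (tb_cover hle hc).1 h.tb⟩
theorem Kc.two (h : Kc n H K) {k : ℕ} (hx : x ∈ K) (hc : x ∈ cz K) (h2 : x ^ 2 ^ k = 1) :
    x = 1 :=
  eq_one_of_two_odd h2 (odd_orderOf_of_mem (odd_opp K) (simple_cz h.comp h.tb.1 ⟨hx, hc⟩))
theorem Jd.cj (j : Jd n K z J) (g : G) : Jd n (H24.cj g K) (g * z * g⁻¹) (H24.cj g J) := by
  refine ⟨?_, ?_, ?_⟩
  · have := j.pc.cj g
    rwa [cj_inf, cj_C1] at this
  · rw [← cj_C1, ← cj_inf, opp_cj, ← cj_sup]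
    exact cj_mono g j.cent
  · rw [opp_cj, opp_cj]
    exact cj_mono g j.core
theorem NMTx.c_le (j : Jd n K z J) : K ⊓ C{z} ≤ J ⊔ opp 2 (K ⊓ C{z}) := fun _ hx =>
  t2_ded j.pc.comp.1 (j.cent hx) hx.2
theorem Jd.le_of (j : Jd n K z J) (h : L ≤ K ⊓ C{z}) (hL : pGen 2 L = L) : L ≤ J :=
  le_of_pGen_of_le_sup_cop (opp_le_normalizer_pcomp j.pc.comp) (opp_cop 2 _) hL (h.trans (c_le j))
theorem Jd.mem_two (j : Jd n K z J) {k : ℕ} (hx : x ∈ K) (hz : x ∈ C{z}) (h2 : x ^ 2 ^ k = 1) :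
    x ∈ J :=
  mem_of_two (opp_le_normalizer_pcomp j.pc.comp) (odd_opp _) h2 (c_le j ⟨hx, hz⟩)
theorem Jd.norm (j : Jd n K z J) (hx : x ∈ N[K]) (hz : x ∈ C{z}) : x ∈ N[J] := by
  have j' := j.cj x
  rw [cj_of_mem_N hx, mem_C1_iff_conj.1 hz] at j'
  exact mem_N_iff_cj.2 (le_antisymm (j.le_of j'.pc.comp.1 (pcomp_pGen_eq j'.pc.comp))
    (j'.le_of j.pc.comp.1 (pcomp_pGen_eq j.pc.comp)))
theorem Jd.cz_of (j : Jd n K z J) (hx : x ∈ cz K) (hz : x ∈ C{z}) : x ∈ cz J :=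
  cz_sub j.le hx (j.norm (cz_le K hx) hz)
theorem Kc.pcJ (h : Kc n H K) (j : Jd n K z J) : Pc n (H ⊓ C{z}) z J := by
  refine ⟨j.pc.iv, j.pc.mem, j.pc.comp.trans (inf_le_inf_right _ h.le) ?_, inf_le_right, j.pc.ty⟩
  have := isSubnormal_subgroupOf_of_le (pcomp_subnormal h.comp) (inf_le_left : H ⊓ C{z} ≤ H)
  convert this using 1
  ext x
  exact ⟨fun h => h.1, fun h => ⟨h, x.2.2⟩⟩
theorem Kc.split (h : Kc n H K) (hw : w * w = 1) (hm : w ∈ K ⊔ cz K) :
    ∃ y ∈ K, y * y = 1 ∧ w * y = y * w ∧ w * y ∈ cz K := by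
  have hN : K ≤ N[cz K] := (norm_self K).trans (N_le_N_cz K)
  obtain ⟨k, hk, c, hc, rfl⟩ := (mem_sup_of_norm' hN).1 hm
  have hcj : ∀ {g a : G}, g ∈ K → a ∈ cz K → g * a * g⁻¹ ∈ cz K := fun hg ha => conj_mem (hN hg) ha
  have hkk : k * k ∈ opp 2 K := by
    refine simple_cz h.comp h.tb.1 (mem_inf.2 ⟨mul_mem hk hk, ?_⟩)
    have e : k * k = (k * c * (k * c)) * (c⁻¹ * (k⁻¹ * c⁻¹ * k⁻¹⁻¹)) := by group
    rw [e, hw, one_mul]
    exact mul_mem (inv_mem hc) (hcj (inv_mem hk) (inv_mem hc))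
  obtain ⟨m, ⟨r, rfl⟩, hm2⟩ := a_inv (odd_opp K) hkk
  have hy : k ^ (2 * r + 1) ∈ K := pow_mem hk _
  have h1 : k * c * k ^ (2 * r + 1) ∈ cz K := by
    have e : k * c * k ^ (2 * r + 1) = k * c * k⁻¹ * (k * k) ^ (r + 1) := by
      rw [← sq, ← pow_mul]; group
    rw [e]
    exact mul_mem (hcj hk hc) (pow_mem (opp_le_cz' K hkk) _)
  generalize k ^ (2 * r + 1) = y at hm2 hy h1
  generalize k * c = w at hw h1
  have h2 : ⁅y, w⁆ ∈ opp 2 K := by
    have := (So.mem_cz.1 h1).2 y hy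
    convert this using 1
    simp only [commutatorElement_def]; group
  obtain ⟨o, ho, e⟩ := dh1 (odd_opp K) hm2 hw h2
  refine ⟨o * y * o⁻¹, mul_mem (mul_mem (opp_le 2 K ho) hy) (inv_mem (opp_le 2 K ho)), ?_, e.symm, ?_⟩
  · calc o * y * o⁻¹ * (o * y * o⁻¹) = o * (y * y) * o⁻¹ := by group
      _ = 1 := by rw [hm2]; group
  · have e2 : w * (o * y * o⁻¹) = w * y * (y⁻¹ * o * y⁻¹⁻¹) * o⁻¹ := by group
    rw [e2]
    exact mul_mem (mul_mem h1 (hcj (inv_mem hy) (opp_le_cz' K ho))) (inv_mem (opp_le_cz' K ho))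

end H20.So.NM
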