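import Mathlib
import Cfsg.Agent.H16.NM0
import Cfsg.Agent.H16.NMT
import Cfsg.Agent.H16.NMD

/-!
# No 2-component of type `McL` or `Ly`: involutions centralising a component and a vertical pump-up
-/

set_option autoImplicit false
set_option linter.unusedSectionVars false

namespace H20.So.NM

open Subgroup Equiv Equiv.Perm Cfsg H24 H23 H25.LB H5.Ly
open scoped commutatorElement

universe u

variable {G : Type*} [Group G] [Finite G] {n : ℕ} {E H W K K' M M' J L D : Subgroup G}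
  {t u v q w y z b x : G}

namespace NMAx

theorem C_symm (h : x ∈ C{y}) : y ∈ C{x} := mem_C1.2 (mem_C1.1 h).symm

theorem norm_kx (hx : x ∈ N[K]) (hv : x ∈ C{v}) : x ∈ N[Kx K C{v}] := by
  apply normalizer_le_normalizer_pGen 2
  have h1 : zpowers x ≤ N[K] := zpowers_le.2 hx
  have h2 : zpowers x ≤ N[(C{v} : Subgroup G)] := norm_C1 (zpowers_le.2 hv)
  exact norm_inf h1 h2 (mem_zpowers x)

theorem kx_le (K W : Subgroup G) : Kx K W ≤ K := (pGen_le _ _).trans inf_le_left

theorem kx_le' (K W : Subgroup G) : Kx K W ≤ W := (pGen_le _ _).trans inf_le_right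

theorem kx_mono (h : K ≤ L) (W : Subgroup G) : Kx K W ≤ Kx L W :=
  pGen_mono 2 (inf_le_inf_right _ h)

theorem not_both {R : Subgroup G} (hR : ¬ Sol R) (h1 : R ≤ K) (h2 : R ≤ cz K) : False :=
  hR ((sol_inf_cz K).of_le (le_inf h1 h2))

theorem cz_swap {R : Subgroup G} (hR : R ≤ C{u}) (h : R ≤ cz K) : R ≤ cz (cj u K) := by
  intro x hx
  rw [cz_cj]
  have e : x = u * x * u⁻¹ := by rw [← mem_C1.1 (hR hx)]; simp
  rw [e]
  exact conj_mem_cj u (h hx)

theorem mem_cz_of_le (h : K ≤ C{z}) : z ∈ cz K :=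
  So.mem_cz.2 ⟨C_le_N K (fun k hk => mem_C1.1 (h hk)), fun k hk => by
    rw [commutatorElement_eq_one_iff_mul_comm.2 (mem_C1.1 (h hk))]; exact one_mem _⟩

end NMAx

open NMAx

theorem Sit.lemA (s : Sit n E) (h : Pq n u M) (j : Jd n M z J) (hL : Vt u z J L)
    (hv : orderOf v = 2) (hu : v ∈ C{u}) (hz : v ∈ C{z}) (hc : v ∈ cz M) : v ∉ cz L := by
  intro hcL
  have v2 := a_sq (iv_mul hv)
  have u2 := iv_mul h.iv
  have z2 := iv_mul j.pc.iv
  have huv : u ∈ C{v} := C_symm hu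
  have hzv : z ∈ C{v} := C_symm hz
  have hcM := cover1 v2 hc
  have kM : Kc n (C{v} ⊓ C{u}) (Kx M C{v}) := by rw [inf_comm]; exact h.kc.kx hcM
  have zM : z ∈ Kx M C{v} := mem_pGen ⟨j.mem, hzv⟩ (a_sq z2)
  obtain ⟨cL, covL⟩ := kx_comp hL.comp (cover1 v2 hcL)
  rw [inf_comm] at cL
  have hcJ : v ∈ cz J := j.cz_of hc hz
  have nsJ : ¬ Sol (Kx J C{v}) := not_sol (kx_comp j.pc.comp (cover1 v2 hcJ)).1
  have JM : Kx J C{v} ≤ Kx M C{v} := kx_mono j.le _
  have JL : Kx J C{v} ≤ Kx L C{v} := kx_mono hL.le _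
  obtain ⟨M1, c1, nc1, le1⟩ := tri u2 huv kM.comp
  by_cases hn : u ∈ N[M1]
  · have hle := le1 hn
    have ucz : u ∈ cz M1 := s.ih C{v} (s.ne_top (iv_ne hv)) u _ M1 huv h.iv kM c1 hle hn
    rcases pump z2 hzv cL c1 (norm_self M1 (hle zM)) with e | e
    · exact hL.ncz (cz_of_cover (kx_le _ _) covL hL.nm (cz_sub e ucz (norm_kx hL.nm huv)))
    · exact not_both nsJ (JM.trans hle) (JL.trans e)
  · have hle := diag_le u2 huv kM.comp c1 hn nc1
    have c2 : IsPCompOf 2 (cj u M1) C{v} := pc_cj_mem c1 huv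
    have Ju : Kx J C{v} ≤ C{u} := (kx_le _ _).trans (j.le.trans h.le)
    have key : Kx J C{v} ≤ cz M1 → False := by
      intro e1
      have e2 : Kx J C{v} ≤ cz (cj u M1) := cz_swap Ju e1
      have nW : (C{v} : Subgroup G) ≤ N[opp 2 C{v}] :=
        (norm_self _).trans (normalizer_le_normalizer_opp 2 _)
      have aux : ∀ P : Subgroup G, IsPCompOf 2 P C{v} → Kx J C{v} ≤ cz P →
          P ≤ cmod (Kx J C{v}) (opp 2 C{v}) := by
        intro P hP e y hy
        refine mem_cmod.2 ⟨nW (hP.1 hy), fun k hk => ?_⟩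
        rw [← commutatorElement_inv]
        exact inv_mem (opp_le_opp hP ((So.mem_cz.1 (e hk)).2 y hy))
      have hY := hle.trans (sup_le (aux _ c1 e1) (aux _ c2 e2))
      refine not_both nsJ JM fun x hx => mem_cz_of kM.comp (norm_self _ (JM hx)) fun k hk => ?_
      apply opp_inf_le'
      refine mem_inf.2 ⟨?_, ?_⟩
      · rw [← commutatorElement_inv]
        exact inv_mem ((mem_cmod.1 (hY hk)).2 x hx)
      · exact (kM.le (t2_comm (norm_self _ (JM hx)) hk)).2
    rcases pump z2 hzv cL c1 (lbal1 u2 huv kM.comp c1 zM) with e | e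
    · rcases pump z2 hzv cL c2 (lbal1 u2 huv kM.comp c2 zM) with e' | e'
      · exact hn (mem_N_iff_cj.2 (pc_eq_of_not_sol c2 c1 e' e (not_sol cL)))
      · have := cz_swap Ju (JL.trans e')
        rw [← cj_mul, u2, cj_one] at this
        exact key this
    · exact key (JL.trans e)

end H20.So.NM
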