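import Mathlib
import Cfsg.Agent.H16.NM0
import Cfsg.Agent.H24.AltMult
import Cfsg.Agent.H3.Transfer

set_option autoImplicit false
set_option linter.unusedSectionVars false

namespace H20.So.NM

open Subgroup Equiv Equiv.Perm Cfsg H24 H23 H25.LB H5.Ly
open scoped commutatorElement

universe u

variable {G : Type*} [Group G] [Finite G] {n : ℕ} {E H W K K' M M' J L D : Subgroup G}
  {t u v q w y z b x : G}

namespace NMSx

theorem card_comap {A B : Type*} [Group A] [Finite A] [Group B] [Finite B] (f : A →* B)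
    (hf : Function.Surjective f) (K : Subgroup B) :
    Nat.card (K.comap f) = Nat.card f.ker * Nat.card K := by
  have h1 := (K.comap f).card_mul_index
  have h2 := K.card_mul_index
  have h3 := f.ker.card_mul_index
  rw [index_comap_of_surjective K hf] at h1
  rw [index_ker, MonoidHom.range_eq_top.2 hf, Subgroup.card_top] at h3
  refine Nat.eq_of_mul_eq_mul_right (Nat.pos_of_ne_zero K.index_ne_zero_of_finite) ?_
  rw [h1, mul_assoc, h2, h3]

theorem dc_perf (hn : 8 ≤ n) {B : Type*} [Group B] [Finite B]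
    (hB : IsNonsplitDoubleCover B (alternatingGroup (Fin n))) : commutator B = ⊤ := by
  obtain ⟨h2, ⟨e⟩, h3⟩ := hB
  let π : B →* alternatingGroup (Fin n) := e.toMonoidHom.comp (QuotientGroup.mk' _)
  have hπ : Function.Surjective π := e.surjective.comp (QuotientGroup.mk'_surjective _)
  have hk : π.ker = center B := by
    ext x; simp [π]
  have hA := commutator_alternatingGroup_eq_top (α := Fin n) (by simp; omega)
  have h1 : (commutator B).map π = ⊤ := by
    rw [map_commutator_eq, MonoidHom.range_eq_top.2 hπ]; exact hA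
  have h4 : commutator B ⊔ center B = ⊤ := by
    rw [← hk, ← comap_map_eq, h1, comap_top]
  have : Fact (Nat.card (center B)).Prime := ⟨h2 ▸ Nat.prime_two⟩
  rcases ((commutator B).subgroupOf (center B)).eq_bot_or_eq_top_of_prime_card with h | h
  · refine (h3 (commutator B) (isComplement'_of_disjoint_and_mul_eq_univ
      (subgroupOf_eq_bot.1 h).symm ?_)).elim
    rw [← normal_mul, sup_comm, h4, coe_top]
  · rw [← h4, sup_eq_left.2 (subgroupOf_eq_top.1 h)]

theorem odd_idx (hn : 8 ≤ n) {B : Type*} [Group B] [Finite B] {z : B} (hz : orderOf z = 2)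
    (h : IsNonsplitDoubleCover (C{z} : Subgroup B) (alternatingGroup (Fin n))) :
    Odd (C{z} : Subgroup B).index := by
  refine odd_index hz fun y y2 e hne => ?_
  obtain ⟨θ, hθ⟩ := exists_theta (N := n) hn le_rfl h (z := ⟨z, self_mem_C1 z⟩)
    (fun e => iv_ne hz (congrArg Subtype.val e))
    (mem_center_iff.2 fun g => Subtype.ext (So.mem_C1.1 g.2))
  obtain ⟨x, hx⟩ := θ.surjective ⟨y, So.mem_C1.2 e⟩
  have x2 : x * x = 1 := θ.injective (by
    rw [map_mul, hx, map_one]; exact Subtype.ext (iv_mul y2))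
  obtain ⟨k, hk, e1⟩ := p_l1 hn (x := x.1)
    (by rw [← map_mul, ← Subgroup.coe_mul, x2, Subgroup.coe_one, map_one]) fun e2 => by
      rcases pr_eq_one e2 with e3 | e3
      · rw [show x = 1 from Subtype.ext e3, map_one] at hx
        exact iv_ne y2 (congrArg Subtype.val hx).symm
      · rw [show x = ⟨zz, zz_mem n⟩ from Subtype.ext e3, hθ] at hx
        exact hne (congrArg Subtype.val hx).symm
  have e2 : (⟨k, sb_mem.2 hk⟩ : Mn n n) * x * (⟨k, sb_mem.2 hk⟩ : Mn n n)⁻¹ = ⟨zz, zz_mem n⟩ * x :=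
    Subtype.ext e1
  have e3 := congrArg (fun a => (θ a).1) e2
  simp only [map_mul, map_inv, hx, hθ, Subgroup.coe_mul, Subgroup.coe_inv] at e3
  exact ⟨_, (θ ⟨k, sb_mem.2 hk⟩).2, e3.trans e.symm⟩

end NMSx

open NMSx

/-! ### NMS -/
theorem schur_dc (hn : 8 ≤ n) {A B : Type*} [Group A] [Finite A] [Group B] [Finite B] (f : A →* B)
    (hf : Function.Surjective f) (hk : f.ker ≤ center A) (hp : commutator A = ⊤)
    (hB : IsNonsplitDoubleCover B (alternatingGroup (Fin n))) : Function.Injective f := by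
  obtain ⟨h2, ⟨e⟩, -⟩ := hB
  let π : A →* B ⧸ center B := (QuotientGroup.mk' _).comp f
  have hπ : Function.Surjective π := (QuotientGroup.mk'_surjective _).comp hf
  have hZ : π.ker = (center B).comap f := by
    ext x; simp [π]
  have h1 : ⁅π.ker, (⊤ : Subgroup A)⁆ ≤ center A := by
    refine le_trans (commutator_le.2 fun a ha b _ => ?_) hk
    rw [hZ] at ha
    rw [MonoidHom.mem_ker, map_commutatorElement, commutatorElement_eq_one_iff_mul_comm]
    exact (mem_center_iff.1 ha _).symm
  have h3 : ⁅⁅π.ker, (⊤ : Subgroup A)⁆, (⊤ : Subgroup A)⁆ = ⊥ :=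
    comm_eq_bot.2 (h1.trans (center_le_centralizer _))
  have h4 := three_subgroup (A := ⊤) (B := π.ker) (K := ⊤) (by rwa [commC ⊤ π.ker]) h3
  have h5 : π.ker ≤ center A := by
    rw [← commutator_def, hp, comm_eq_bot', coe_top, centralizer_univ] at h4
    exact h4
  have h6 := H24.AltMult.card_le_two n (by omega) (by omega) (by omega) π.ker h5 (hp ▸ le_top)
    ((QuotientGroup.quotientKerEquivOfSurjective π hπ).trans e)
  rw [hZ, card_comap f hf, h2] at h6
  exact f.ker_eq_bot_iff.1 (eq_bot_of_card_le _ (by omega))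

theorem schur_ts (hn : 8 ≤ n) {A B : Type*} [Group A] [Finite A] [Group B] [Finite B] (f : A →* B)
    (hf : Function.Surjective f) (hk : f.ker ≤ center A) (h2 : IsPGroup 2 f.ker)
    (hp : commutator A = ⊤) (hB : TS n B) : Function.Injective f := by
  obtain ⟨-, z, hz, h⟩ := hB
  have h1 := odd_idx hn hz h
  rw [← index_comap_of_surjective _ hf] at h1
  have hC : ⁅(C{z} : Subgroup B), (C{z} : Subgroup B)⁆ = C{z} := by
    rw [der1_eq_map, dc_perf hn h, H24.map_subtype_top]
  generalize (C{z} : Subgroup B) = X at h h1 hC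
  have h3 : ⁅X.comap f, X.comap f⁆.map f = X := by
    rw [map_commutator, map_comap_eq_self_of_surjective hf, hC]
  have h4 : X.comap f = ⁅X.comap f, X.comap f⁆ ⊔ f.ker := by rw [← comap_map_eq, h3]
  have h5 : ⁅⁅X.comap f, X.comap f⁆, ⁅X.comap f, X.comap f⁆⁆ = ⁅X.comap f, X.comap f⁆ := by
    conv_rhs => rw [h4, der1_sup_of_cent (hk.trans (center_le_centralizer _)),
      comm_eq_bot.2 (hk.trans (center_le_centralizer _)), sup_bot_eq]
  have hle : f.ker ≤ X.comap f := h4 ▸ le_sup_right
  have h7 := fun x (hx : x ∈ f.ker) => H3.pow_index_mem_commutator_of_center (hle hx) (hk hx)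
    (hp.ge (mem_top x))
  generalize ⁅X.comap f, X.comap f⁆ = Y at h3 h5 h7
  let g : Y →* X := (f.comp Y.subtype).codRestrict X fun y => h3.le ⟨y, y.2, rfl⟩
  have h6 : Function.Injective g := schur_dc hn g
    (fun x => by
      obtain ⟨y, hy, e⟩ := h3.ge x.2
      exact ⟨⟨y, hy⟩, Subtype.ext e⟩)
    (fun y hy => mem_center_iff.2 fun a => Subtype.ext
      (mem_center_iff.1 (hk (show y.1 ∈ f.ker from congrArg Subtype.val hy)) a.1))
    (map_injective Y.subtype_injective (by rw [← der1_eq_map, h5, H24.map_subtype_top])) h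
  refine f.ker_eq_bot_iff.1 (eq_bot_iff.2 fun x hx => ?_)
  have h8 : x ^ (X.comap f).index = 1 := congrArg Subtype.val
    (h6 (a₁ := ⟨_, h7 x hx⟩) (a₂ := 1) (by
      rw [map_one]; exact Subtype.ext (f.ker.pow_mem hx _)))
  obtain ⟨k, e⟩ := h2 ⟨x, hx⟩
  exact eq_one_of_two_odd (congrArg Subtype.val e) (h1.of_dvd_nat (orderOf_dvd_of_pow_eq_one h8))

end H20.So.NM
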