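import Mathlib
import Cfsg.Agent.H16.NM0
import Cfsg.Agent.H16.NMT
import Cfsg.Agent.H16.NMS
import Cfsg.Agent.H16.NMD

set_option autoImplicit false
set_option linter.unusedSectionVars false

namespace H20.So.NM

open Subgroup Equiv Equiv.Perm Cfsg H24 H23 H25.LB H5.Ly
open scoped commutatorElement

universe u

variable {G : Type*} [Group G] [Finite G] {n : ℕ} {E H W K K' M M' J L D : Subgroup G}
  {t u v q w y z b x : G}

/-! ### NME -/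
theorem diag_kc (hb : b * b = 1) (hbW : b ∈ W) (hD : Kc n (W ⊓ C{b}) D)
    (hL : IsPCompOf 2 L W) (hne : b ∉ N[L]) (hc : ¬ D ≤ cz L) : Kc n W L := by
  obtain ⟨f, hf, hk, h2, -⟩ := diag_map hb hbW hD.comp hL hne hc
  have inj := schur_ts hD.h8 f hf hk h2 (isQuasisimple_iff.1 (isPCompOf_iff.1 hL).2.2.2).1 hD.tb
  exact ⟨hD.hn, hL, TS.of_equiv hD.tb (MulEquiv.ofBijective f ⟨inj, hf⟩).symm⟩

theorem diag_pc (hn : 8 ≤ n) (hb : b * b = 1) (hbW : b ∈ W) (hz : W ≤ C{z})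
    (hD : Pc n (W ⊓ C{b}) z D) (hL : IsPCompOf 2 L W) (hne : b ∉ N[L]) (hc : ¬ D ≤ cz L) :
    Ty n L ∧ ∃ z1 ∈ L, orderOf z1 = 2 ∧ z1 ∈ cz L ∧ z * z1 ∈ cj b L ∧ orderOf (z * z1) = 2 ∧
      z * z1 ∈ cz (cj b L) := by
  obtain ⟨f, hf, hk, -, spec⟩ := diag_map hb hbW hD.comp hL hne hc
  have ty : TyG n (D ⧸ pPrimeCore 2 D) :=
    TyG.of_surj hn hD.ty (QuotientGroup.mk' _) (QuotientGroup.mk'_surjective _) sb_mk
  have inj := schur_dc hn f hf hk (isQuasisimple_iff.1 (isPCompOf_iff.1 hL).2.2.2).1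
    (dc_of_tyG hn ty (H2.pPrimeCore_quotient_pPrimeCore 2 D))
  refine ⟨TyG.comap (TyG.comap ty f hf (by rw [f.ker_eq_bot_iff.2 inj, card_bot]; exact odd_one))
    (QuotientGroup.mk' _) (QuotientGroup.mk'_surjective _) sb_mk, ?_⟩
  have z2 := iv_mul hD.iv
  have zz : ((⟨z, hD.mem⟩ : D) : D ⧸ pPrimeCore 2 D) * ((⟨z, hD.mem⟩ : D) : D ⧸ pPrimeCore 2 D) = 1 := by
    rw [← QuotientGroup.mk_mul, show (⟨z, hD.mem⟩ : D) * ⟨z, hD.mem⟩ = 1 from Subtype.ext z2,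
      QuotientGroup.mk_one]
  have mem : ∀ p : L, f (p : L ⧸ pPrimeCore 2 L) = 1 → (p : G) ∈ opp 2 L := fun p e =>
    ⟨p, (QuotientGroup.eq_one_iff p).1 (inj (e.trans (map_one f).symm)), rfl⟩
  obtain ⟨p', hp'⟩ := hf ((⟨z, hD.mem⟩ : D) : D ⧸ pPrimeCore 2 D)
  obtain ⟨p0, rfl⟩ := QuotientGroup.mk_surjective p'
  obtain ⟨m, hm, e⟩ := a_inv (odd_opp L) (x := (p0 : G))
    (mem (p0 * p0) (by rw [QuotientGroup.mk_mul, map_mul, hp', zz]))
  have hp : f ((p0 ^ m : L) : L ⧸ pPrimeCore 2 L) = ((⟨z, hD.mem⟩ : D) : D ⧸ pPrimeCore 2 D) := by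
    rw [QuotientGroup.mk_pow, map_pow, hp', a_odd_pow zz hm]
  rw [← Subgroup.coe_pow] at e
  generalize p0 ^ m = p at e hp
  have odd1 : ∀ {Y : Subgroup G} {x : G}, x * x = 1 → x ∈ opp 2 Y → x = 1 := fun h1 h2 =>
    eq_one_of_two_odd (a_sq h1) (odd_orderOf_of_mem (odd_opp _) h2)
  have p1 : (p : G) ≠ 1 := fun e1 => by
    rw [show p = 1 from Subtype.ext e1, QuotientGroup.mk_one, map_one, eq_comm,
      QuotientGroup.eq_one_iff] at hp
    exact iv_ne hD.iv (odd1 z2 (Y := D) ⟨_, hp, rfl⟩)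
  have pc : (p : G) ∈ cz L := So.mem_cz.2 ⟨norm_self L p.2, fun k hk' => by
    refine mem ⁅(⟨k, hk'⟩ : L), p⁆ ?_
    obtain ⟨d, hd⟩ := QuotientGroup.mk_surjective (f ((⟨k, hk'⟩ : L) : L ⧸ pPrimeCore 2 L))
    rw [← QuotientGroup.mk'_apply, map_commutatorElement, map_commutatorElement,
      QuotientGroup.mk'_apply, QuotientGroup.mk'_apply, hp, ← hd,
      commutatorElement_eq_one_iff_mul_comm, ← QuotientGroup.mk_mul, ← QuotientGroup.mk_mul]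
    exact congrArg _ (Subtype.ext (So.mem_C1.1 (hD.le_C d.2)))⟩
  have ho := (spec p ⟨z, hD.mem⟩).1 hp
  have c1 : (p : G) * z = z * p := So.mem_C1.1 (hz (hL.1 p.2))
  have c2 : b * p * b⁻¹ * z = z * (b * p * b⁻¹) :=
    So.mem_C1.1 (hz (mul_mem (mul_mem hbW (hL.1 p.2)) (inv_mem hbW)))
  have hL' := pc_cj_mem hL hbW
  have e1 : z * p = b * p * b⁻¹ * ((p : G) * (b * p * b⁻¹) * z⁻¹)⁻¹ := by
    rw [_root_.mul_inv_rev, _root_.mul_inv_rev, inv_inv, iv_inv e, ← mul_assoc, c2, ← mul_assoc,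
      mul_inv_cancel_right]
  have e2 : z * p * (z * p) = 1 := by
    rw [mul_assoc, ← mul_assoc (p : G), c1, mul_assoc, e, mul_one, z2]
  refine ⟨p, p.2, iv_of e p1, pc, ?_, iv_of e2 fun e3 => p1 ?_, ?_⟩
  · refine mem_of_two (opp_le_normalizer_pcomp hL') (odd_opp W) (a_sq e2) ?_
    rw [e1]
    exact mul_mem (mem_sup_left (conj_mem_cj b p.2)) (mem_sup_right (inv_mem ho))
  · rw [e1, mul_inv_eq_one] at e3
    exact (conj_eq_one_iff' (g := b)).1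
      (odd1 (Y := W) (by rw [conj_mul, e]; group) (by rw [e3]; exact ho))
  · rw [e1]
    exact mul_mem (by rw [cz_cj]; exact conj_mem_cj b pc) (inv_mem (opp_le_cz hL' ho))

end H20.So.NM
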