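import Mathlib
import Cfsg.Agent.H16.NM0
import Cfsg.Agent.H16.NMT
import Cfsg.Agent.H4.NMB

set_option autoImplicit false
set_option linter.unusedSectionVars false

namespace H20.So.NM

open Subgroup Equiv Equiv.Perm Cfsg H24 H23 H25.LB H5.Ly
open scoped commutatorElement

universe u

variable {G : Type*} [Group G] [Finite G] {n : ℕ} {E H W K K' M M' J L D : Subgroup G}
  {t u v q w y z b x : G}

namespace NMJx

theorem mem_opp {k : K} : (k : K ⧸ pPrimeCore 2 K) = 1 ↔ k.1 ∈ opp 2 K :=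
  (QuotientGroup.eq_one_iff k).trans
    ⟨fun h => ⟨k, h, rfl⟩, fun ⟨_, h, e⟩ => (Subtype.ext e : _ = k) ▸ h⟩

/-- `C_K(a)` in the quotient -/
def cm (a : K) : ↥(K ⊓ C{a.1}) →* C{(a : K ⧸ pPrimeCore 2 K)} :=
  ((QuotientGroup.mk' _).comp (inclusion inf_le_left)).codRestrict _ fun k =>
    So.mem_C1.2 (congrArg (QuotientGroup.mk (s := pPrimeCore 2 K))
      (show inclusion inf_le_left k * a = a * inclusion inf_le_left k from
        Subtype.ext (So.mem_C1.1 k.2.2)))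

theorem cm_one {a : K} {k : ↥(K ⊓ C{a.1})} : cm a k = 1 ↔ k.1 ∈ opp 2 K :=
  Subtype.ext_iff.trans (mem_opp (k := inclusion inf_le_left k))

theorem cm_surj {a : K} (h2 : a.1 * a.1 = 1) : Function.Surjective (cm a) := by
  rintro ⟨y, hy⟩
  obtain ⟨k, rfl⟩ := QuotientGroup.mk_surjective y
  obtain ⟨o, ho, e⟩ := lift_cent1 (odd_opp K) (a_sq h2) (le_normalizer_opp 2 (norm_self K) a.2)
    (g := k.1) ((mem_opp (k := ⁅a, k⁆)).1 (by
      rw [← QuotientGroup.mk'_apply, map_commutatorElement]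
      exact commutatorElement_eq_one_iff_mul_comm.2 (So.mem_C1.1 hy).symm))
  refine ⟨⟨o * k, mul_mem (opp_le 2 K ho) k.2, e⟩, Subtype.ext ?_⟩
  show ((⟨o, opp_le 2 K ho⟩ * k : K) : K ⧸ pPrimeCore 2 K) = k
  rw [QuotientGroup.mk_mul, mem_opp.2 ho, one_mul]

theorem cm_ker (a : K) : Odd (Nat.card (cm a).ker) := sb_odd.2 fun k hk e =>
  Subtype.ext (sb_odd.1 (odd_opp K) _ (cm_one.1 hk) (congrArg Subtype.val e))

theorem iv_mk {a : K} (h2 : orderOf a.1 = 2) : orderOf (a : K ⧸ pPrimeCore 2 K) = 2 :=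
  iv_of (by rw [← QuotientGroup.mk_mul, show a * a = 1 from Subtype.ext (iv_mul h2)]; rfl)
    fun e => iv_ne h2 (sb_odd.1 (odd_opp K) _ (mem_opp.1 e) (iv_mul h2))

theorem ty_of (hn : 8 ≤ n) {a : K} (h2 : orderOf a.1 = 2)
    (h : IsNonsplitDoubleCover C{(a : K ⧸ pPrimeCore 2 K)} (alternatingGroup (Fin n))) :
    Ty n (K ⊓ C{a.1}) ∧ opp 2 (K ⊓ C{a.1}) ≤ opp 2 K := by
  obtain ⟨θ, -⟩ := exists_theta (N := n) hn le_rfl h (z := ⟨_, So.mem_C1.2 rfl⟩)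
    (fun e => iv_ne (iv_mk h2) (congrArg Subtype.val e))
    (mem_center_iff.2 fun g => Subtype.ext (So.mem_C1.1 g.2))
  let f := ((Mn n n).subtype.comp θ.symm.toMonoidHom).comp (cm a)
  have f2 : ∀ k, f k = 1 → k.1 ∈ opp 2 K := fun k hk =>
    cm_one.1 ((map_eq_one_iff _ θ.symm.injective).1 (Subtype.ext hk))
  have f3 : f.range = Mn n n := by
    rw [MonoidHom.range_comp, MonoidHom.range_eq_top.2 (cm_surj (iv_mul h2)),
      ← MonoidHom.range_eq_map, MonoidHom.range_comp, MonoidHom.range_eq_top.2 θ.symm.surjective,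
      ← MonoidHom.range_eq_map, range_subtype]
  refine ⟨⟨f, f3, sb_odd.2 fun k hk e => Subtype.ext
    (sb_odd.1 (odd_opp K) _ (f2 k hk) (congrArg Subtype.val e))⟩, ?_⟩
  rintro _ ⟨k, hk, rfl⟩
  exact f2 k (sb_le_ker hn f3 (cop_two_iff_odd.1 (H2.pPrimeCore_coprime 2 _)) hk)

theorem dc_of (hn : 8 ≤ n) {a : K} (h2 : orderOf a.1 = 2) (h : Ty n (K ⊓ C{a.1}))
    (ho : opp 2 (K ⊓ C{a.1}) ≤ opp 2 K) : ∃ y : K ⧸ pPrimeCore 2 K, orderOf y = 2 ∧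
      IsNonsplitDoubleCover C{y} (alternatingGroup (Fin n)) := by
  have hs := cm_surj (iv_mul h2)
  refine ⟨a, iv_mk h2, dc_of_tyG hn (TyG.of_surj hn h (cm a) hs (cm_ker a)) (eq_bot_iff.2 fun y hy => ?_)⟩
  obtain ⟨k, rfl⟩ := hs y
  refine cm_one.2 (ho ⟨k, H2.le_pPrimeCore (N := (pPrimeCore 2 _).comap (cm a)) inferInstance
    (cop_two_iff_odd.2 (sb_odd.2 fun x hx e => ?_)) hy, rfl⟩)
  exact sb_odd.1 (cm_ker a) x (sb_odd.1 (cop_two_iff_odd.1 (H2.pPrimeCore_coprime 2 _)) _ hx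
    (by rw [← map_mul, e, map_one])) e

theorem self_comp (hK : IsPCompOf 2 K H) : IsPCompOf 2 K K :=
  t2_self hK le_rfl le_sup_left (pcomp_pGen_eq hK)

theorem jd_of (hn : 8 ≤ n) (hz : z ∈ K) (h2 : orderOf z = 2) (h : Ty n (K ⊓ C{z}))
    (ho : opp 2 (K ⊓ C{z}) ≤ opp 2 K) : Jd n K z (Kx K C{z}) := by
  obtain ⟨h3, h4⟩ := H4.NMM.pgen_self (H4.NMM.ty_quasi hn h)
  exact ⟨⟨h2, mem_pGen ⟨hz, So.mem_C1.2 rfl⟩ (a_sq (iv_mul h2)), h3, inf_le_right,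
    ty_of_le hn h (pGen_le 2 _) h4⟩, h4.trans (sup_le_sup_left ho _),
    (opp_le_of_cover (pGen_le 2 _) h4).trans ho⟩

end NMJx

open NMJx

/-! ### NMJ -/
theorem Kc.ex0 (h : Kc n H K) : ∃ z J, Jd n K z J := by
  obtain ⟨-, y, y2, hy⟩ := h.tb
  obtain ⟨k, rfl⟩ := QuotientGroup.mk_surjective y
  obtain ⟨m, hm, e⟩ := a_inv (odd_opp K) (x := k.1) ((mem_opp (k := k * k)).1 (iv_mul y2))
  have e1 : ((k ^ m : K) : K ⧸ pPrimeCore 2 K) = k := by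
    rw [QuotientGroup.mk_pow, a_odd_pow (iv_mul y2) hm]
  have h2 : orderOf (k ^ m).1 = 2 := iv_of e fun e2 => iv_ne y2 (by
    rw [← e1, show k ^ m = 1 from Subtype.ext e2]; rfl)
  obtain ⟨h3, h4⟩ := ty_of h.h8 h2 (e1.symm ▸ hy)
  exact ⟨_, _, jd_of h.h8 (k ^ m).2 h2 h3 h4⟩

theorem Kc.cls (h : Kc n H K) {a b : G} (ha : a ∈ K) (hb : b ∈ K) (ha2 : orderOf a = 2)
    (hb2 : orderOf b = 2) : ∃ k ∈ K, k * a * k⁻¹ = b := by
  obtain ⟨z, J, j⟩ := h.ex0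
  have c : Cn K z J K := ⟨self_comp h.comp, j.le, j.cent, j.core, .inr h.tb.1⟩
  obtain ⟨g, hg, rfl⟩ := c.b_one h.h8 h.h11 j.pc h.tb.1 ha ha2
  obtain ⟨g', hg', rfl⟩ := c.b_one h.h8 h.h11 j.pc h.tb.1 hb hb2
  exact ⟨g' * g⁻¹, mul_mem hg' (inv_mem hg), by group⟩

theorem Kc.exJ (h : Kc n H K) (hz : z ∈ K) (h2 : orderOf z = 2) : ∃ J, Jd n K z J := by
  obtain ⟨y, J, j⟩ := h.ex0
  obtain ⟨k, hk, rfl⟩ := h.cls j.mem hz j.pc.iv h2
  have := j.cj k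
  rw [cj_of_mem hk] at this
  exact ⟨_, this⟩

theorem tb_of_cn (hn : 8 ≤ n) (h : Pc n (W ⊓ C{t}) t K) (c : Cn W t K J)
    (hb : IsSimpleGroup (J ⧸ pPrimeCore 2 J)) : Kc n W J ∧ Jd n J t K := by
  have tJ := c.le h.mem
  have hle : K ≤ J ⊓ C{t} := le_inf c.le h.le_C
  have h1 : J ⊓ C{t} ≤ K ⊔ opp 2 (J ⊓ C{t}) := fun x hx => t2_ded hle (c.cent hx) hx.2
  have h2 : opp 2 (J ⊓ C{t}) ≤ opp 2 J := fun o ho => by
    obtain ⟨k, hk, a, ha, rfl⟩ := (mem_sup_of_norm' (c.le.trans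
      (le_normalizer_opp 2 (norm_self J)))).1 (c.cent (opp_le 2 _ ho))
    refine mul_mem (c.core (opp_inf_le hle ⟨(mul_mem_cancel_right (opp_inf_le' J _ ⟨ha, ?_⟩)).1 ho,
      hk⟩)) ha
    exact (mul_mem_cancel_left (H := C{t}) (hle hk).2).1 (opp_le 2 _ ho).2
  refine ⟨⟨c.b_n hn h hb, c.comp, hb, ?_⟩, h.of_le hle (inf_le_inf_right _ c.comp.1), c.cent, c.core⟩
  exact dc_of hn (a := ⟨t, tJ⟩) h.iv (ty_of_ge hn h.ty hle h1) h2

end H20.So.NM
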