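import Mathlib
import Cfsg.Agent.H16.NM0
import Cfsg.Agent.H16.NMJ

/-! # No 2-component of type `McL` or `Ly`: there is no intrinsic `2A_n` component -/

set_option autoImplicit false
set_option linter.unusedSectionVars false

namespace H20.So.NM

open Subgroup Equiv Equiv.Perm Cfsg H24 H23 H25.LB H5.Ly
open scoped commutatorElement

universe u

variable {G : Type*} [Group G] [Finite G] {n : ℕ} {E H W K K' M M' J L D : Subgroup G}
  {t u v q w y z b x : G}

namespace NMHx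

theorem comp_eq (s : Sit n E) (hA : IsComponent J) : J = E := by
  have := s.nml
  have h1 : J ≤ E := (H23.IsComponent.le_or_comm_of_le_normalizer hA (norm_of_normal J E)).resolve_right
    fun e => H23.IsQuasisimple.comm_ne_bot hA.2 (by
      rw [le_bot_iff.1 ((comm_eq_bot.1 e).trans s.cen.le), commutator_bot_left])
  rcases (hA.1.subgroupOf (K := E)).eq_bot_or_top_of_isSimpleGroup s.simp with e | e
  · rw [subgroupOf_eq_bot, disjoint_iff, inf_eq_left.2 h1] at e
    exact absurd (by rw [e, commutator_bot_left]) (H23.IsQuasisimple.comm_ne_bot hA.2)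
  · exact le_antisymm h1 (subgroupOf_eq_top.1 e)

theorem le_of_ty (hn : 8 ≤ n) {J0 : Subgroup G} (h0 : Pc n H z J0) (h1 : Pc n W z J) (hle : J0 ≤ J)
    (hO : opp 2 J = ⊥) : J ≤ J0 := fun x hx => by
  obtain ⟨A⟩ := exists_act hn h1.ty
  obtain ⟨d, hd, e⟩ := act_range A h0.comp (ty_big hn h0.ty) (norm_of_le hle)
    (fun e => not_sol h0.comp ((sol_inf_cz J).of_le (le_inf hle e))) (A.even hx)
  have m := mul_mem hx (inv_mem (hle hd))
  have e1 : pr (A.π (x * d⁻¹)) = 1 := by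
    rw [← A.φ_π m, A.φ_mul (norm_self _ hx) (norm_self _ (inv_mem (hle hd))),
      A.φ_inv (norm_self _ (hle hd)), e, mul_inv_cancel]
  rcases pr_eq_one e1 with e2 | e2
  · rw [mul_inv_eq_one.1 (mem_bot.1 (hO.le ((A.π_one m).1 e2)))]; exact hd
  · have := mem_bot.1 (hO.le (a_mul_t hn h1 A m e2))
    rw [show x = (x * d⁻¹ * z) * z⁻¹ * d by group, this, one_mul]
    exact mul_mem (inv_mem h0.mem) hd

end NMHx

open NMHx

/-! ### NMH -/
theorem Sit.hno (s : Sit n E) (h : Pq n u M) : Hno n G := fun a L hL => by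
  have h8 := h.kc.h8
  have hL' : Pc n (⊤ ⊓ C{a}) a L := by rwa [top_inf_eq]
  obtain ⟨J, c⟩ := s.sol n h8 ⊤ a L hL'
  have hJ := comp_eq s (IsPComponent.isComponent_of_pPrimeCore_eq_bot s.core (c.comp.isPComponent
    Subgroup.IsSubnormal.top))
  subst hJ
  have hb : opp 2 J = ⊥ := eq_bot_iff.2 ((opp_le_opp c.comp).trans (by rw [opp_top, s.core]))
  rcases c.ty with h1 | h1
  · exact iv_ne hL.iv (mem_bot.1 (s.cen.le fun k hk => commutatorElement_eq_one_iff_mul_comm.1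
      (mem_bot.1 (hb.le ((So.mem_cz.1 (c.a_cz hL' h1)).2 k hk)))))
  have hE := (tb_of_cn h8 hL' c h1).1
  have hM : M ≤ J := (pcomp_le_layer s.core _ (t2_pg (iv_mul h.iv)) M
    (by rw [C_zpowers]; exact h.kc.comp)).trans (layer_le fun A hA => (comp_eq s hA).le)
  obtain ⟨z, J0, j0⟩ := h.kc.ex0
  obtain ⟨J1, j1⟩ := hE.exJ (hM j0.mem) j0.pc.iv
  have h2 := le_of_ty h8 j0.pc j1.pc (j1.le_of (j0.pc.comp.1.trans (inf_le_inf_right _ hM))
    (pcomp_pGen_eq j0.pc.comp)) (le_bot_iff.1 (j1.core.trans hb.le))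
  obtain ⟨p, hp, r, hr, p2, r2, e3, e4⟩ := d8 h8 j0.pc.ty
  have h3 := se_le hM j0.mem (iv_mul j0.pc.iv) (fun g hg e => j0.le (h2 (by
      have := j1.cent ⟨hg, mem_C1.2 e⟩
      rwa [hb, sup_bot_eq] at this)))
    (fun w hw w2 w1 _ => h.kc.cls j0.mem hw j0.pc.iv (iv_of w2 w1)) (j0.le hp) (j0.le hr) p2 r2 e3 e4
  exact iv_ne h.iv (mem_bot.1 (s.cen.le (mem_C_iff_le_C1.2 (h3.trans h.le))))

end H20.So.NM
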