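import Mathlib
import Cfsg.Agent.H16.NM0
import Cfsg.Agent.H16.NMJ
import Cfsg.Agent.H4.NMM1

set_option autoImplicit false
set_option linter.unusedSectionVars false

namespace H20.So.NM

open Subgroup Equiv Equiv.Perm Cfsg H24 H23 H25.LB H5.Ly
open scoped commutatorElement

universe u

variable {G : Type*} [Group G] [Finite G] {n : ℕ} {E H W K K' M M' J L D : Subgroup G}
  {t u v q w y z b x : G}

namespace NMKx

/-- an automorphism fixing the centraliser of an involution `w` pointwise is `1` or `w` -/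
theorem ts_rigid {A : Type*} [Group A] [Finite A] (h8 : 8 ≤ n) (h11 : n ≤ 11) (h : TS n A)
    {w : A} (hw : orderOf w = 2) (α : MulAut A) (hα : ∀ a, a * w = w * a → α a = a) :
    (∀ a, α a = a) ∨ ∀ a, α a = w * a * w⁻¹ := by
  obtain ⟨hs, z0, hz0, hc⟩ := h
  obtain ⟨c0, e0⟩ := exists_cfg (N := 11) (iv_ne hz0) h8 h11 hc
  let c : Cf A n := ⟨c0, h8, h11⟩
  have ez : c.z = z0 := e0
  obtain ⟨g, h1, h2⟩ := not_isolated hz0 hc
  obtain ⟨σ, hσ⟩ := c.exists_np (x := g) (by rw [ez]; exact h1) (by rw [ez]; exact h2)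
  obtain ⟨k, rfl⟩ := isConj_iff.1 (H4.NMM.one_cls c hσ hw)
  have := H4.NMM.aut_rigid c hσ ((MulAut.conj k)⁻¹ * α * MulAut.conj k) (fun a => by
    simp only [MulAut.mul_apply, MulAut.conj_apply, MulAut.conj_inv_apply]
    rw [hα]
    · group
    · calc _ = k * (c.ψ a * c.z) * k⁻¹ := by group
        _ = _ := by rw [c.comm_z]; group)
  refine this.imp (fun e a => ?_) fun e a => ?_
  · have := congrArg (fun β : MulAut A => β (k⁻¹ * a * k)) e
    simp only [MulAut.mul_apply, MulAut.conj_apply, MulAut.conj_inv_apply, MulAut.one_apply] at this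
    rw [show k * (k⁻¹ * a * k) * k⁻¹ = a by group] at this
    calc _ = k * (k⁻¹ * α a * k) * k⁻¹ := by group
      _ = _ := by rw [this]; group
  · have := congrArg (fun β : MulAut A => β (k⁻¹ * a * k)) e
    simp only [MulAut.mul_apply, MulAut.conj_apply, MulAut.conj_inv_apply] at this
    rw [show k * (k⁻¹ * a * k) * k⁻¹ = a by group] at this
    calc _ = k * (k⁻¹ * α a * k) * k⁻¹ := by group
      _ = _ := by rw [this]; group

theorem mem_cz' {x : G} (hx : x ∈ N[K]) (h : ∀ k ∈ K, k⁻¹ * (x * k * x⁻¹) ∈ opp 2 K) :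
    x ∈ cz K := So.mem_cz.2 ⟨hx, fun k hk => by
  have := h k⁻¹ (inv_mem hk)
  rw [inv_inv] at this
  rw [commutatorElement_def]
  convert this using 1
  group⟩

theorem of_mem_cz {x k : G} (hx : x ∈ cz K) (hk : k ∈ K) : k⁻¹ * (x * k * x⁻¹) ∈ opp 2 K := by
  have := (So.mem_cz.1 hx).2 k⁻¹ (inv_mem hk)
  rw [commutatorElement_def, inv_inv] at this
  convert this using 1
  group

theorem mem_opp' {k : K} : (k : G) ∈ opp 2 K ↔ k ∈ pPrimeCore 2 K :=
  mem_map_iff_mem K.subtype_injective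

end NMKx

open NMKx

/-! ### NMK -/
theorem Kc.rigid (h : Kc n H K) (j : Jd n K z J) (hx : x ∈ N[K]) (hc : x ∈ cz J) :
    x ∈ cz K ∨ x * z ∈ cz K := by
  let α0 : K ≃* K := K.normalizerMonoidHom ⟨x, hx⟩
  have e0 : ∀ k : K, (α0 k : G) = x * k * x⁻¹ := fun k => rfl
  let α : MulAut (K ⧸ pPrimeCore 2 K) :=
    QuotientGroup.congr _ _ α0 (characteristic_iff_map_eq.1 inferInstance α0)
  have e1 : ∀ k : K, α (piO 2 K k) = piO 2 K (α0 k) := fun k => rfl
  have z2 := iv_mul j.pc.iv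
  let z' : K := ⟨z, j.mem⟩
  have z2' : z' * z' = 1 := Subtype.ext z2
  have hker : (Nat.card (piO 2 K).ker).Coprime 2 := cop_two_iff_odd.2 sb_mk
  have hz : orderOf (piO 2 K z') = 2 := iv_of (by rw [← map_mul, z2', map_one]) fun e =>
    iv_ne j.pc.iv (congrArg Subtype.val (sb_odd.1 sb_mk z' e z2'))
  have key : ∀ k : K, (k : G)⁻¹ * (x * k * x⁻¹) ∈ opp 2 K ↔ α (piO 2 K k) = piO 2 K k := fun k => by
    rw [e1, eq_comm]
    exact (mem_opp' (k := k⁻¹ * α0 k)).trans QuotientGroup.eq.symm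
  have hN : K ≤ N[opp 2 K] := le_normalizer.trans (normalizer_le_normalizer_opp 2 K)
  rcases ts_rigid h.h8 h.h11 h.tb hz α (fun a ha => by
    have h1 : a ∈ (centralizer ({z'} : Set K)).map (piO 2 K) := by
      rw [map_centralizer_singleton_of_cop_ker (piO_surj 2 K) hker (t2_pg z2')]
      exact mem_C1.2 ha
    obtain ⟨k, hk, rfl⟩ := h1
    have h2 : (k : G) ∈ J ⊔ opp 2 K :=
      j.cent ⟨k.2, mem_C1.2 (congrArg Subtype.val (mem_C1.1 hk))⟩
    obtain ⟨a, ha, o, ho, e⟩ := mem_sup_of_le_normalizer_right (j.le.trans hN) h2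
    have e' : k = ⟨a, j.le ha⟩ * ⟨o, opp_le 2 K ho⟩ := Subtype.ext e.symm
    rw [e', map_mul, map_mul, (key ⟨a, j.le ha⟩).1 (j.core (of_mem_cz hc ha)),
      (key ⟨o, opp_le 2 K ho⟩).1 (mul_mem (inv_mem ho)
        ((mem_normalizer_iff.1 (normalizer_le_normalizer_opp 2 K hx) o).1 ho))]) with h1 | h1
  · exact .inl (mem_cz' hx fun k hk => (key ⟨k, hk⟩).2 (h1 _))
  · refine .inr (mem_cz' (mul_mem hx (le_normalizer j.mem)) fun k hk => ?_)
    have h2 := h1 (piO 2 K (z' * ⟨k, hk⟩ * z'⁻¹))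
    rw [e1, ← map_inv, ← map_mul, ← map_mul, show z' * (z' * ⟨k, hk⟩ * z'⁻¹) * z'⁻¹ = ⟨k, hk⟩ by
      rw [iv_inv z2', ← mul_assoc, ← mul_assoc, z2', one_mul, mul_assoc, z2', mul_one]] at h2
    have h3 := (mem_opp' (k := (⟨k, hk⟩ : K)⁻¹ * α0 (z' * ⟨k, hk⟩ * z'⁻¹))).2
      (QuotientGroup.eq.1 h2.symm)
    convert h3 using 1
    change _ = k⁻¹ * (x * (z * k * z⁻¹) * x⁻¹)
    group

theorem Kc.out2 (h : Kc n H K) (hx : x ∈ N[K]) : x * x ∈ K ⊔ cz K := by
  obtain ⟨z, J, j⟩ := h.ex0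
  obtain ⟨k, hk, e⟩ := h.cls ((mem_normalizer_iff.1 hx z).1 j.mem) j.mem (iv_conj j.pc.iv x) j.pc.iv
  have hy : k * x ∈ N[K] := mul_mem (le_normalizer hk) hx
  have hyz : k * x ∈ C{z} := mem_C1.2 (by
    rw [← mul_inv_eq_iff_eq_mul]
    exact Eq.trans (by group) e)
  have hyJ := j.norm hy hyz
  obtain ⟨A⟩ := exists_act h.h8 j.pc.ty
  obtain ⟨a, ha, ea⟩ := A.φ_surj (ρ := A.φ (k * x * (k * x))) (by
    rw [A.φ_mul hyJ hyJ, map_mul, Int.units_mul_self])
  have h1 : k * x * (k * x) * a⁻¹ ∈ cz J := by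
    have haN : a ∈ N[J] := le_normalizer ha
    rw [← A.φ_one (mul_mem (mul_mem hyJ hyJ) (inv_mem haN)), A.φ_mul (mul_mem hyJ hyJ) (inv_mem haN),
      A.φ_inv haN, ea, mul_inv_cancel]
  have h2 : k * x * (k * x) * a⁻¹ ∈ K ⊔ cz K := by
    rcases h.rigid j (mul_mem (mul_mem hy hy) (inv_mem (le_normalizer (j.le ha)))) h1 with h2 | h2
    · exact mem_sup_right h2
    · exact (mul_mem_cancel_right (mem_sup_left j.mem)).1 (mem_sup_right h2)
  have h3 : k * x * (k * x) ∈ K ⊔ cz K :=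
    (mul_mem_cancel_right (inv_mem (mem_sup_left (j.le ha)))).1 h2
  rw [show k * x * (k * x) = k * (x * k * x⁻¹) * (x * x) by group] at h3
  exact (mul_mem_cancel_left (mem_sup_left (mul_mem hk ((mem_normalizer_iff.1 hx k).1 hk)))).1 h3

end H20.So.NM
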