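import Mathlib
import Cfsg.Agent.H16.NM0
import Cfsg.Agent.H16.NMT
import Cfsg.Agent.H16.NME

set_option autoImplicit false
set_option linter.unusedSectionVars false

namespace H20.So.NM

open Subgroup Equiv Equiv.Perm Cfsg H24 H23 H25.LB H5.Ly
open scoped commutatorElement

universe u

variable {G : Type*} [Group G] [Finite G] {n : ℕ} {E H W K K' M M' J L D : Subgroup G}
  {t u v q w y z b x : G}

/-! ### NMV -/

namespace NMVx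

theorem up (hn : 8 ≤ n) (hb : b * b = 1) (hc : b ∈ cz L) (hL : IsPCompOf 2 L C{z})
    (hD : Pc n (C{z} ⊓ C{b}) z D) (hle : D ≤ L) : Pr n z L := by
  obtain ⟨k1, k2⟩ := kx_comp hL (cover1 (a_sq hb) hc)
  have h1 : D ≤ Kx L C{b} :=
    (pcomp_pGen_eq hD.comp).ge.trans (pGen_mono 2 (le_inf hle (hD.comp.1.trans inf_le_right)))
  have e := pcomp_eq_of_le hD.comp k1 h1
  exact ⟨hD.iv, hle hD.mem, hL, le_rfl, ty_of_ge hn hD.ty hle (e ▸ k2)⟩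

theorem cc {z z1 : G} (h : z1 ∈ C{z}) : (C{z} ⊓ C{z1} : Subgroup G) = C{z1} ⊓ C{z * z1} := by
  ext x
  simp only [mem_inf, mem_C1]
  constructor
  · rintro ⟨h1, h2⟩
    exact ⟨h2, by rw [← mul_assoc, h1, mul_assoc, h2, mul_assoc]⟩
  · rintro ⟨h1, h2⟩
    refine ⟨mul_right_cancel (b := z1) ?_, h1⟩
    rw [mul_assoc, h2, mul_assoc, mul_assoc, h1]

end NMVx

open NMVx in
theorem Sit.vert (s : Sit n E) (hno : Hno n G) (h : Pq n u M) (j : Jd n M z J) :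
    ∃ L, Vt u z J L := by
  have h8 := h.kc.h8
  have hu2 := iv_mul h.iv
  have huz : u ∈ C{z} := mem_C1.2 (mem_C1.1 (h.le j.mem)).symm
  have hJ : Pc n (C{z} ⊓ C{u}) z J := inf_comm (C{u} : Subgroup G) C{z} ▸ h.kc.pcJ j
  obtain ⟨L, hL, hc, hle⟩ := tri hu2 huz hJ.comp
  by_cases hN : u ∈ N[L]
  · refine ⟨L, hL, hle hN, hN, fun e => hno z L (up h8 hu2 e hL hJ (hle hN))⟩
  exfalso
  obtain ⟨ty, z1, m1, o1, c1, m2, o2, c2⟩ := diag_pc h8 hu2 huz le_rfl hJ hL hN hc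
  have hL2 : IsPCompOf 2 (cj u L) C{z} := pc_cj_mem hL huz
  have hne : cj u L ≠ L := fun e => hN (mem_N_iff_cj.2 e)
  have z1z : z1 ∈ C{z} := hL.1 m1
  have s1 := a_sq (iv_mul o1)
  have cv1 := cover1 s1 c1
  have cv2 := cover1 s1 (ne_le_cz hL2 hL hne m1)
  obtain ⟨k1, k1'⟩ := kx_comp hL cv1
  obtain ⟨k2, k2'⟩ := kx_comp hL2 cv2
  rw [cc z1z] at k1 k2
  have l1 : Kx L C{z1} ≤ L := (pGen_le 2 _).trans inf_le_left
  have l2 : Kx (cj u L) C{z1} ≤ cj u L := (pGen_le 2 _).trans inf_le_left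
  have z21 : z * z1 ∈ C{z1} := mul_mem (mem_C1.2 (mem_C1.1 z1z).symm) (mem_C1.2 rfl)
  have p1 : Pc n (C{z1} ⊓ C{z * z1}) z1 (Kx L C{z1}) :=
    ⟨o1, mem_pGen ⟨m1, mem_C1.2 rfl⟩ s1, k1, inf_le_left, ty_of_le h8 ty l1 k1'⟩
  have p2 : Pc n (C{z1} ⊓ C{z * z1}) (z * z1) (Kx (cj u L) C{z1}) :=
    ⟨o2, mem_pGen ⟨m2, z21⟩ (a_sq (iv_mul o2)), k2, inf_le_right,
      ty_of_le h8 (ty_cj ty u) l2 k2'⟩
  obtain ⟨J2, c⟩ := s.sol n h8 _ _ _ p2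
  obtain ⟨L0, hL0, -, hle0⟩ := tri (iv_mul o2) z21 k1
  have m3 : z * z1 ∈ J2 := c.le p2.mem
  have l0 := hle0 (pc_le_N hL0 c.comp m3)
  by_cases e : L0 = J2
  · have := Cn.le_pgen p2 c (e ▸ l0) (k1.1.trans inf_le_right) (pcomp_pGen_eq k1)
    exact hne (pc_eq_of_not_sol hL2 hL (this.trans l2) l1 (not_sol k1))
  · exact hno z1 L0 (up h8 (iv_mul o2) (ne_le_cz hL0 c.comp e m3) hL0 p1 l0)

end H20.So.NM
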