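import Mathlib
import Cfsg.Agent.H16.NM0
import Cfsg.Agent.H16.NMK
import Cfsg.Agent.H16.NME
import Cfsg.Agent.H16.NMH
import Cfsg.Agent.H16.NMV
import Cfsg.Agent.H16.NMA

/-!
# No 2-component of type `McL` or `Ly`: uniqueness of the component
-/

set_option autoImplicit false
set_option linter.unusedSectionVars false

namespace H20.So.NM

open Subgroup Equiv Equiv.Perm Cfsg H24 H23 H25.LB H5.Ly
open scoped commutatorElement

universe u

variable {G : Type*} [Group G] [Finite G] {n : ℕ} {E H W K K' M M' J L D : Subgroup G}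
  {t u v q w y z b x : G}

open NMAx

theorem Sit.uniq (s : Sit n E) (h : Pq n u M) (h' : Pq n u M') : M = M' := by
  by_contra hne
  obtain ⟨z, J, j⟩ := h.kc.ex0
  obtain ⟨L, hL⟩ := s.vert (s.hno h) h j
  have u2 := iv_mul h.iv
  have z2 := iv_mul j.pc.iv
  have huz : u ∈ C{z} := C_symm (h.le j.mem)
  have zc : z ∈ cz M' := ne_le_cz h'.kc.comp h.kc.comp (Ne.symm hne) j.mem
  have kM : Kc n (C{z} ⊓ C{u}) (Kx M' C{z}) := by
    rw [inf_comm]; exact h'.kc.kx (cover1 (a_sq z2) zc)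
  rcases pump u2 huz kM.comp hL.comp hL.nm with e | e
  · exact hL.ncz (s.ih C{z} (s.ne_top (iv_ne j.pc.iv)) u _ L huz h.iv kM hL.comp e hL.nm)
  · obtain ⟨v, J', j'⟩ := kM.ex0
    exact s.lemA h j hL j'.pc.iv (kM.le j'.mem).2 (kM.le j'.mem).1
      (ne_le_cz h.kc.comp h'.kc.comp hne (kx_le _ _ j'.mem)) (e j'.mem)

theorem Sit.cN (s : Sit n E) (h : Pq n u M) : C{u} ≤ N[M] := by
  intro g hg
  have h' := h.cj g
  have e : g * u * g⁻¹ = u := by rw [mem_C1.1 hg]; simp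
  rw [e] at h'
  exact mem_N_iff_cj.2 (s.uniq h' h)

theorem Sit.p1 (s : Sit n E) (h : Pq n u M) (hv : orderOf v = 2) (hu : v ∈ C{u}) (hc : v ∈ cz M) :
    ∃ M', Pq n v M' ∧ u ∈ cz M' ∧ Kx M C{v} ≤ M' ∧
      ∀ x ∈ C{u} ⊓ C{v}, (x ∈ cz M ↔ x ∈ cz M') := by
  have v2 := a_sq (iv_mul hv)
  have u2 := iv_mul h.iv
  have huv : u ∈ C{v} := C_symm hu
  have hcM := cover1 v2 hc
  have covM := (kx_comp h.kc.comp hcM).2
  have kM : Kc n (C{v} ⊓ C{u}) (Kx M C{v}) := by rw [inf_comm]; exact h.kc.kx hcM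
  obtain ⟨M1, c1, nc1, le1⟩ := tri u2 huv kM.comp
  have hn : u ∈ N[M1] := by
    by_contra hn
    exact hn (s.cN ⟨hv, diag_kc u2 huv kM c1 hn nc1⟩ huv)
  have hle := le1 hn
  have ucz : u ∈ cz M1 := s.ih C{v} (s.ne_top (iv_ne hv)) u _ M1 huv h.iv kM c1 hle hn
  obtain ⟨c2, cov2⟩ := kx_comp c1 (cover1 (a_sq u2) ucz)
  have e : Kx M C{v} = Kx M1 C{u} := by
    refine pc_eq_of_not_sol kM.comp c2 le_rfl ?_ (not_sol kM.comp)
    rw [← pcomp_pGen_eq kM.comp]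
    exact pGen_mono 2 (le_inf hle (kM.le.trans inf_le_right))
  rw [← e] at cov2
  have h1 : Pq n v M1 := ⟨hv, kM.up c1 hle cov2⟩
  refine ⟨M1, h1, ucz, hle, fun x hx => ?_⟩
  have xN : x ∈ N[M] := s.cN h hx.1
  have xN1 : x ∈ N[M1] := s.cN h1 hx.2
  have xv : x ∈ N[Kx M C{v}] := norm_kx xN hx.2
  exact ⟨fun hx' => cz_of_cover hle cov2 xN1 (cz_sub (kx_le _ _) hx' xv),
    fun hx' => cz_of_cover (kx_le _ _) covM xN (cz_sub hle hx' xv)⟩

theorem Sit.p2 (s : Sit n E) (h : Pq n u M) (hz : z ∈ M) : ¬ Pq n z M' := by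
  intro h'
  obtain ⟨J, j⟩ := h.kc.exJ hz h'.iv
  obtain ⟨L, hL⟩ := s.vert (s.hno h) h j
  have u2 := iv_mul h.iv
  have z2 := iv_mul h'.iv
  have hzu : z ∈ C{u} := h.le hz
  have huz : u ∈ C{z} := C_symm hzu
  have nz : z ∉ M' := fun hm => iv_ne h'.iv (h'.kc.two hm h'.mem_cz (a_sq z2))
  have hne : L ≠ M' := fun e => nz (e ▸ hL.le j.pc.mem)
  have hM' : M' ≤ cz L := ne_le_cz hL.comp h'.kc.comp hne
  obtain ⟨w, J', j'⟩ := h'.kc.ex0
  obtain ⟨v, hvM, hv, huv⟩ := cent_inv (s.cN h' huz) u2 j'.mem j'.pc.iv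
  have hvu : v ∈ C{u} := mem_C1.2 huv.symm
  have hvz : v ∈ C{z} := h'.le hvM
  have vN : v ∈ N[M] := s.cN h hvu
  have vJ : v ∈ cz J := cz_sub hL.le (hM' hvM) (j.norm vN hvz)
  rcases h.kc.rigid j vN vJ with e | e
  · exact s.lemA h j hL hv hvu hvz e (hM' hvM)
  · have v2 := iv_mul hv
    have hs : v * z * (v * z) = 1 := by
      rw [show v * z * (v * z) = v * (z * v) * z by group, ← mem_C1.1 hvz,
        show v * (v * z) * z = v * v * (z * z) by group, v2, z2, one_mul]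
    have h1 : v * z ≠ 1 := fun e1 => nz (by
      have : z = v := by rw [← mul_one z, ← iv_inv v2, eq_inv_of_mul_eq_one_right e1]; simp
      rw [this]; exact hvM)
    exact s.lemA h j hL (iv_of hs h1) (mul_mem hvu hzu) (mul_mem hvz (mem_C1.2 rfl)) e
      (mul_mem (hM' hvM) (mem_cz_of_le hL.comp.1))

end H20.So.NM
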