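import Mathlib
import Cfsg.Agent.H16.NM0
import Cfsg.Agent.H16.NMB

/-! # No 2-component of type `McL` or `Ly`: commuting involutions with components -/

set_option autoImplicit false
set_option linter.unusedSectionVars false

namespace H20.So.NM

open Subgroup Equiv Equiv.Perm Cfsg H24 H23 H25.LB H5.Ly
open scoped commutatorElement

universe u

variable {G : Type*} [Group G] [Finite G] {n : ℕ} {E H W K K' M M' J L D : Subgroup G}
  {t u v q w y z b x : G}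

namespace NMCx

/-- an involution `c` centralising `K` and `q` has `c y` without component for `y ∈ K` -/
theorem key (s : Sit n E) (hp : NoPair n G) (h : Pq n q K) {c : G} (c2 : c * c = 1) (c1 : c ≠ 1)
    (hq : c ∈ C{q}) (hc : c ∈ cz K) (hy : y ∈ K) (y2 : orderOf y = 2) (e : y ∈ C{c}) :
    ¬ Pq n (c * y) K' := by
  obtain ⟨M', a, -, h1, -⟩ := s.p1 h (iv_of c2 c1) hq hc
  exact hp c y M' K' a (h1 (mem_pGen (k := 1) ⟨hy, e⟩ (a_sq (iv_mul y2)))) y2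

theorem split (h : Pq n q K) {a : G} (a2 : a * a = 1) (hq : a ∈ C{q}) (hm : a ∈ K ⊔ cz K)
    (hn : a ∉ cz K) : ∃ y ∈ K, orderOf y = 2 ∧ ∃ c ∈ cz K, c ∈ C{q} ∧ c * c = 1 ∧ y ∈ C{c} ∧
      a = c * y := by
  obtain ⟨y, hy, y2, e, hc⟩ := h.kc.split a2 hm
  refine ⟨y, hy, iv_of y2 fun e => hn (by simpa [e] using hc), a * y, hc, mul_mem hq (h.le hy), ?_,
    mem_C1.2 (by rw [← mul_assoc, ← e]), by rw [mul_assoc, y2, mul_one]⟩
  rw [mul_assoc, ← mul_assoc y, ← e, mul_assoc, y2, mul_one, a2]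

end NMCx

open NMCx

/-! ### NMC -/
theorem Sit.comm_cz (s : Sit n E) (hp : NoPair n G) (h : Pq n q K) (h' : Pq n w K')
    (hw : w ∈ C{q}) : w ∈ cz K := by
  by_contra hn
  have w2 := iv_mul h'.iv
  by_cases hm : w ∈ K ⊔ cz K
  · obtain ⟨y, hy, y2, c, hc, cq, c2, e, rfl⟩ := split h w2 hw hm hn
    refine key s hp h c2 (fun e => ?_) cq hc hy y2 e h'
    rw [e, one_mul] at h'
    exact s.p2 h hy h'
  have wN := s.cN h hw
  obtain ⟨z0, J0, j0⟩ := h.kc.ex0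
  obtain ⟨z, hz, z2, e⟩ := cent_inv wN w2 j0.mem j0.pc.iv
  obtain ⟨J, j⟩ := h.kc.exJ hz z2
  have wz : w ∈ C{z} := mem_C1.2 e
  have wJ := j.norm wN wz
  obtain ⟨k, -, e1⟩ := l1 h.kc.h8 j.pc w2 wJ wz fun hc => hm ((h.kc.rigid j wN hc).elim mem_sup_right
    fun a => by
      rw [show w = w * z * z by rw [mul_assoc, iv_mul z2, mul_one]]
      exact mul_mem (mem_sup_right a) (mem_sup_left hz))
  have h2 : Pq n (w * z) _ := e1 ▸ h'.cj k
  obtain ⟨m1, a1, m2, a2, o1, o2, hz'⟩ := g1 h.kc.h8 j.pc w2 wJ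
  have h3 : z ∈ K' ⊔ cz K' := zpowers_le.2 (mul_mem
    (mem_of_sq_mem o1 (h'.kc.out2 (s.cN h' a1.2))) (mem_of_sq_mem o2 (h'.kc.out2 (s.cN h' a2.2)))) hz'
  have zw : z ∈ C{w} := mem_C1.2 e.symm
  obtain ⟨y, hy, y2, c, hc, cw, c2, e2, rfl⟩ := split h' (iv_mul z2) zw h3 fun a => by
    obtain ⟨M', a, -⟩ := s.p1 h' z2 zw a
    exact s.p2 h hz a
  rw [← mul_assoc] at h2
  by_cases e3 : w * c = 1
  · rw [e3, one_mul] at h2
    exact s.p2 h' hy h2
  refine key s hp h' ?_ e3 (mul_mem (self_mem_C1 w) cw) (mul_mem h'.mem_cz hc) hy y2 ?_ h2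
  · rw [mul_assoc, ← mul_assoc c, mem_C1.1 cw, mul_assoc, c2, mul_one, w2]
  · exact mem_C1_comm.1 (mul_mem (mem_C1_comm.1 (h'.le hy)) (mem_C1_comm.1 e2))

end H20.So.NM
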