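import Mathlib
import Cfsg.Agent.H16.NM0
import Cfsg.Agent.H16.NMB

/-! # No 2-component of type `McL` or `Ly`: a pair `q`, `q y` forces a small centraliser -/

set_option autoImplicit false
set_option linter.unusedSectionVars false

namespace H20.So.NM

open Subgroup Equiv Equiv.Perm Cfsg H24 H23 H25.LB H5.Ly
open scoped commutatorElement

universe u

variable {G : Type*} [Group G] [Finite G] {n : ℕ} {E H W K K' M M' J L D : Subgroup G}
  {t u v q w y z b x : G}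

namespace NMFx

theorem inv_pow {k : ℕ} (h : x ^ 2 ^ k = 1) (h1 : x ≠ 1) :
    orderOf x = 2 ∨ ∃ m : ℕ, orderOf (x ^ (2 * m)) = 2 := by
  induction k with
  | zero => exact absurd (by simpa using h) h1
  | succ k ih =>
    by_cases e : x ^ 2 ^ k = 1
    · exact ih e
    · have := iv_of (t := x ^ 2 ^ k) (by rw [← pow_add, ← two_mul, ← pow_succ', h]) e
      rcases k with _ | k
      · exact Or.inl (by simpa using this)
      · exact Or.inr ⟨2 ^ k, by rwa [← pow_succ']⟩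

/-- no involution centralises both components -/
theorem both (s : Sit n E) (h : Pq n q K) (hy : y ∈ K) (h2 : orderOf y = 2)
    (h' : Pq n (q * y) K') (v2 : orderOf v = 2) (vq : v ∈ C{q}) (vy : v ∈ C{y}) (c : v ∈ cz K)
    (c' : v ∈ cz K') : False := by
  obtain ⟨M, a, a1, a2, -⟩ := s.p1 h v2 vq c
  obtain ⟨M', b, b1, -⟩ := s.p1 h' v2 (mem_C1_comm.1 (mul_mem (mem_C1_comm.1 vq) (mem_C1_comm.1 vy))) c'
  rw [← s.uniq a b] at b1
  refine iv_ne h2 (a.kc.two (a2 (mem_pGen (k := 1) ⟨hy, mem_C1_comm.1 vy⟩ (a_sq (iv_mul h2)))) ?_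
    (a_sq (iv_mul h2)))
  simpa using mul_mem (inv_mem a1) b1

end NMFx

open NMFx

/-! ### NMF -/
theorem Sit.f1 (s : Sit n E) (h : Pq n q K) (hy : y ∈ K) (h2 : orderOf y = 2)
    (h' : Pq n (q * y) K') : y ∈ K' ∧
      ∀ (x : G) (k : ℕ), x ∈ cz K → x ∈ C{q} → x ^ 2 ^ k = 1 → x = 1 ∨ x = q := by
  obtain ⟨J, j⟩ := h.kc.exJ hy h2
  have yq : y ∈ C{q} := h.le hy
  have q2 := iv_mul h.iv
  have y2 := iv_mul h2
  have m : ∀ {x : G}, x ∈ C{q} → x ∈ C{y} → x ∈ C{q * y} := fun a b =>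
    mem_C1_comm.1 (mul_mem (mem_C1_comm.1 a) (mem_C1_comm.1 b))
  have e : (C{q} ⊓ C{y} : Subgroup G) = C{q * y} ⊓ C{q} := le_antisymm
    (fun x hx => ⟨m hx.1 hx.2, hx.1⟩) fun x hx => ⟨hx.2, mem_C1_comm.1 (by
      simpa using mul_mem (inv_mem (mem_C1_comm.1 hx.2)) (mem_C1_comm.1 hx.1))⟩
  have pj := h.kc.pcJ j
  have qs : q ∈ C{q * y} := m (self_mem_C1 q) (mem_C1_comm.1 yq)
  have ys : y ∈ C{q * y} := m yq (self_mem_C1 y)
  have hJ : J ≤ K' := (pump q2 qs (e ▸ pj.comp) h'.kc.comp (s.cN h' qs)).resolve_right fun c => by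
    obtain ⟨M', a, -⟩ := s.p1 h' h2 ys (c j.pc.mem)
    exact s.p2 h hy a
  have yK := hJ j.pc.mem
  obtain ⟨J', j'⟩ := h'.kc.exJ yK h2
  have e' : (C{q * y} ⊓ C{y} : Subgroup G) = C{q} ⊓ C{y} := le_antisymm
    (fun x hx => ⟨mem_C1_comm.1 (by
      simpa using mul_mem (mem_C1_comm.1 hx.1) (inv_mem (mem_C1_comm.1 hx.2))), hx.2⟩)
    fun x hx => ⟨m hx.1 hx.2, hx.2⟩
  have eJ : J = J' := pc_eq_of_not_sol pj.comp (e' ▸ (h'.kc.pcJ j').comp) le_rfl
    (j'.le_of (le_inf hJ pj.le_C) (pcomp_pGen_eq pj.comp)) (not_sol pj.comp)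
  subst eJ
  have rg : ∀ {x : G}, x ∈ cz K → x ∈ C{q} → x ∈ C{y} → x ∈ cz K' ∨ x * y ∈ cz K' :=
    fun a b c => h'.kc.rigid j' (s.cN h' (m b c)) (j.cz_of a c)
  have key : ∀ (x : G) (k : ℕ), x ∈ cz K → x ∈ C{q} → x ∈ C{y} → x ^ 2 ^ k = 1 → x = 1 ∨ x = q :=
    fun x k a b c hk => by
      by_contra hh
      push Not at hh
      rcases inv_pow hk hh.1 with o | ⟨r, o⟩
      · have n1 : x ∉ cz K' := both s h hy h2 h' o b c a
        have xq : Commute x q := mem_C1.1 b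
        have o' : orderOf (x * q) = 2 := iv_of
          (by rw [← sq, xq.mul_pow, sq, sq, iv_mul o, q2, one_mul])
          fun e => hh.2 (by rw [eq_inv_of_mul_eq_one_left e, iv_inv q2])
        have a' := mul_mem a h.mem_cz
        have b' := mul_mem b (self_mem_C1 q)
        have c' := mul_mem c (mem_C1_comm.1 yq)
        refine (rg a' b' c').elim (both s h hy h2 h' o' b' c' a') fun e => n1 ?_
        simpa [mul_assoc] using mul_mem e (inv_mem h'.mem_cz)
      · refine both s h hy h2 h' o (pow_mem b _) (pow_mem c _) (pow_mem a _) ((rg a b c).elim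
          (fun e => pow_mem e _) fun e => ?_)
        have := pow_mem e (2 * r)
        rwa [(show Commute x y from mem_C1.1 c).mul_pow, pow_mul y, sq, y2, one_pow, mul_one] at this
  refine ⟨yK, fun x k a b hk => ?_⟩
  obtain ⟨o, ho, e1⟩ := lift_cent1 (odd_opp K) (b := y) (g := x) (a_sq y2)
    (normalizer_le_normalizer_opp 2 K (norm_self K hy)) ((So.mem_cz.1 a).2 y hy)
  have a1 := mul_mem (opp_le_cz' K ho) a
  have b1 := mul_mem (h.le (opp_le 2 K ho)) b
  obtain ⟨c, d, e2, hc, hd, ⟨r, hr⟩, od⟩ := two_odd (o * x)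
  have z1 : ∀ {w : G} {r : ℕ}, w ^ 2 ^ r = 1 → w = o⁻¹ * d → w = 1 := fun hw e =>
    eq_one_of_two_odd hw (odd_orderOf_of_mem (odd_opp K) (mem_of_two (Y := zpowers d)
      (zpowers_le.2 (normalizer_le_normalizer_opp 2 K (cz_le K (zpowers_le.2 a1 hd))))
      (by rwa [Nat.card_zpowers]) hw (e ▸ mul_mem (mem_sup_left (inv_mem ho)) (mem_sup_right (mem_zpowers d)))))
  refine (key c r (zpowers_le.2 a1 hc) (zpowers_le.2 b1 hc) (zpowers_le.2 e1 hc) hr).imp
    (fun e => z1 hk (by rw [eq_inv_mul_iff_mul_eq, e2, e, one_mul])) fun e => ?_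
  have xq : Commute x q := mem_C1.1 b
  have := z1 (w := x * q) (r := k + 1) (by
    rw [xq.mul_pow, pow_succ, pow_mul, hk, one_pow, one_mul, mul_comm, pow_mul, sq, q2, one_pow]) (by
    rw [eq_inv_mul_iff_mul_eq, ← mul_assoc, e2, e, mul_assoc, mem_C1.1 (zpowers_le.2 b1 hd),
      ← mul_assoc, q2, one_mul])
  rw [eq_inv_of_mul_eq_one_left this, iv_inv q2]

end H20.So.NM
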