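import Mathlib
import Cfsg.Agent.H16.NM0
import Cfsg.Agent.H16.NMK
import Cfsg.Agent.H4.NMC

set_option autoImplicit false
set_option linter.unusedSectionVars false
set_option linter.unusedVariables false

namespace H20.So.NM

open Subgroup Equiv Equiv.Perm Cfsg H24 H23 H25.LB H5.Ly
open scoped commutatorElement

universe u

variable {G : Type*} [Group G] [Finite G] {n : ℕ} {E H W K K' M M' J L D : Subgroup G}
  {t u v q w y z b x : G}

namespace NMOx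

/-- an automorphism fixing the involution `w` is inner on its centraliser -/
theorem ts_even {A : Type*} [Group A] [Finite A] (h : TS 11 A) {w : A} (hw : orderOf w = 2)
    (α : MulAut A) (hα : α w = w) : ∃ k ∈ C{w}, ∀ a ∈ C{w}, α a = k * a * k⁻¹ := by
  obtain ⟨hs, z0, hz0, hc⟩ := h
  obtain ⟨g, h1, h2⟩ := not_isolated hz0 hc
  obtain ⟨X, _, _, φ, c, -, σ, hσ⟩ := exists_cf (by decide) hz0 hc h1 h2
  obtain ⟨g, e⟩ := isConj_iff.1 (H4.NMM.one_cls c hσ (φ.orderOf_eq w ▸ hw : orderOf (φ w) = 2))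
  have e1 : (H4.NMM.cfMap c (MulAut.conj g)).z = φ w := e
  obtain ⟨k, hk, e2⟩ := H4.NMM.even_cf _ (H4.NMM.np_map c (MulAut.conj g) hσ)
    ((φ.symm.trans α).trans φ) (by rw [e1]; simp [hα])
  rw [e1] at hk e2
  refine ⟨φ.symm k, So.mem_C1.2 (φ.injective (by simpa using So.mem_C1.1 hk)),
    fun a ha => φ.injective ?_⟩
  simpa using e2 (φ a) (So.mem_C1.2 (by rw [← map_mul, So.mem_C1.1 ha, map_mul]))

end NMOx

open NMOx

/-! ### NMO -/
theorem out11 (hs : SolH G) (h : Kc 11 H K) (j : Jd 11 K z J) (A : Act 11 J) (hx : x ∈ N[K])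
    (hz : x ∈ C{z}) : sign (A.φ x) = 1 := by
  let α0 : K ≃* K := K.normalizerMonoidHom ⟨x, hx⟩
  let α : MulAut (K ⧸ pPrimeCore 2 K) :=
    QuotientGroup.congr _ _ α0 (characteristic_iff_map_eq.1 inferInstance α0)
  have e1 : ∀ k : K, α (k : K ⧸ pPrimeCore 2 K) = (α0 k : K ⧸ pPrimeCore 2 K) := fun k => rfl
  let z' : K := ⟨z, j.mem⟩
  obtain ⟨y, hy, e⟩ := ts_even h.tb (NMJx.iv_mk (a := z') j.pc.iv) α (by
    rw [e1, show α0 z' = z' from Subtype.ext (mul_inv_eq_iff_eq_mul.2 (So.mem_C1.1 hz))])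
  obtain ⟨k, e2⟩ := NMJx.cm_surj (a := z') (iv_mul j.pc.iv) ⟨y, hy⟩
  obtain ⟨a, ha, o, ho, e3⟩ :=
    (mem_sup_of_norm' (j.le.trans (le_normalizer_opp 2 (norm_self K)))).1 (j.cent k.2)
  have e4 : y = ((⟨a, j.le ha⟩ : K) : K ⧸ pPrimeCore 2 K) := by
    rw [← show ((⟨k.1, k.2.1⟩ : K) : K ⧸ pPrimeCore 2 K) = y from congrArg Subtype.val e2,
      show (⟨k.1, k.2.1⟩ : K) = ⟨a, j.le ha⟩ * ⟨o, opp_le 2 K ho⟩ from Subtype.ext e3,
      QuotientGroup.mk_mul, (NMJx.mem_opp (k := ⟨o, _⟩)).2 ho, mul_one]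
  have xJ := j.norm hx hz
  have aJ := norm_self J ha
  have h1 : a⁻¹ * x ∈ cz J := NMKx.mem_cz' (mul_mem (inv_mem aJ) xJ) fun l hl => by
    refine opp_inf_le j.le (mem_inf.2 ⟨?_, mul_mem (inv_mem hl) (conj_mem (mul_mem (inv_mem aJ) xJ) hl)⟩)
    have h2 := e ((⟨l, j.le hl⟩ : K) : K ⧸ pPrimeCore 2 K) (NMJx.cm z' ⟨l, j.pc.comp.1 hl⟩).2
    rw [e1, e4, ← QuotientGroup.mk_inv, ← QuotientGroup.mk_mul, ← QuotientGroup.mk_mul, eq_comm,
      QuotientGroup.eq, ← NMKx.mem_opp'] at h2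
    have h3 := conj_mem (inv_mem (le_normalizer_opp 2 (norm_self K) (j.le ha))) h2
    change a⁻¹ * ((a * l * a⁻¹)⁻¹ * (x * l * x⁻¹)) * a⁻¹⁻¹ ∈ _ at h3
    convert h3 using 1
    group
  rw [← A.φ_one (mul_mem (inv_mem aJ) xJ), A.φ_mul (inv_mem aJ) xJ, A.φ_inv aJ, inv_mul_eq_one] at h1
  rw [← h1, A.even ha]

end H20.So.NM
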