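import Mathlib
import Cfsg.Agent.H16.NM0
import Cfsg.Agent.H16.NMC
import Cfsg.Agent.S1173

/-! # No 2-component of type `McL` or `Ly`: existence of a pair `q`, `q y` -/

set_option autoImplicit false
set_option linter.unusedSectionVars false

namespace H20.So.NM

open Subgroup Equiv Equiv.Perm Cfsg H24 H23 H25.LB H5.Ly
open scoped commutatorElement

universe u

variable {G : Type*} [Group G] [Finite G] {n : ℕ} {E H W K K' M M' J L D : Subgroup G}
  {t u v q w y z b x : G}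

namespace NMPx

/-- a nontrivial 2-element has an involution among its powers -/
theorem inv_pow {k : ℕ} (h : x ^ 2 ^ k = 1) (h1 : x ≠ 1) : ∃ m : ℕ, orderOf (x ^ m) = 2 := by
  induction k with
  | zero => exact absurd (by simpa using h) h1
  | succ k ih =>
    by_cases e : x ^ 2 ^ k = 1
    · exact ih e
    · exact ⟨2 ^ k, iv_of (by rw [← pow_add, ← two_mul, ← pow_succ', h]) e⟩

theorem perf_le {C D : Subgroup G} (h : D ≤ C) (hp : ⁅D, D⁆ = D) :
    D ≤ (⨅ n : ℕ, derivedSeries C n).map C.subtype := by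
  have e : ∀ m : ℕ, D.subgroupOf C ≤ derivedSeries C m := fun m => by
    induction m with
    | zero => exact le_top
    | succ m ih =>
      rw [derivedSeries_succ]
      refine le_trans ?_ (commutator_mono ih ih)
      rw [← map_le_map_iff_of_injective C.subtype_injective, map_commutator,
        map_subgroupOf_eq_of_le h, hp]
  exact (map_subgroupOf_eq_of_le h).ge.trans (map_mono (le_iInf e))

/-- the data over which the order is maximised -/
def Dt (n : ℕ) (S : Subgroup G) : Prop :=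
  IsPGroup 2 S ∧ ∃ t K, t ∈ S ∧ S ≤ C{t} ∧ Pq n t K

theorem compat (s : Sit n E) (h : Pq n t K) (h' : Pq n v K') (ht : v ∈ C{t}) (hc : v ∈ cz K)
    (h1 : x ∈ C{t}) (h2 : x ∈ C{v}) : x ∈ cz K ↔ x ∈ cz K' := by
  obtain ⟨M', a, -, -, c⟩ := s.p1 h h'.iv ht hc
  exact s.uniq a h' ▸ c x ⟨h1, h2⟩

end NMPx

open NMPx

/-! ### NMP -/
theorem Sit.pair (s : Sit n E) (h : Pq n u M) : ¬ NoPair n G := fun hp => by
  obtain ⟨S, ⟨hS, t, K, tS, hSt, hK⟩, hmax⟩ := Set.exists_max_image {S : Subgroup G | Dt n S}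
    (fun S => Nat.card S) (Set.toFinite _)
    ⟨zpowers u, t2_pg (iv_mul h.iv), u, M, mem_zpowers u, zpowers_le_C1 u, h⟩
  have q0 : ∀ {w K'}, Pq n w K' → w ∈ S → w ∈ cz K := fun h' hw => s.comm_cz hp hK h' (hSt hw)
  obtain ⟨P, hP⟩ := hS.exists_le_sylow
  have pP : IsPi {2} (P : Subgroup G) := isPi_of_isPGroup Nat.prime_two P.isPGroup'
  have e : S = P := (pP.nil Nat.prime_two).eq_of_norm_le hP (by
    set Q1 := closure {w : G | w ∈ S ∧ ∃ K', Pq n w K'} with hQ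
    have h1 : Q1 ≤ S ⊓ cz K := (closure_le _).2 fun w ⟨a, K', c⟩ => ⟨a, q0 c a⟩
    have h2 : Q1 ⊴ (P : Subgroup G) ⊓ N[S] := ⟨h1.trans (inf_le_left.trans (le_inf hP (norm_self S))),
      norm_closure fun a ha w ⟨b, K', c⟩ => subset_closure ⟨conj_mem ha.2 b, _, c.cj a⟩⟩
    obtain ⟨c, ⟨c1, c2⟩, c3⟩ := exists_ne_one (((pP.nil Nat.prime_two).of_le inf_le_left).inf_C_ne_bot h2
      (ne_bot_of_mem (subset_closure ⟨tS, K, hK⟩) (iv_ne hK.iv)))
    obtain ⟨k, hk⟩ := hS ⟨c, (h1 c1).1⟩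
    obtain ⟨m, hm⟩ := inv_pow (congrArg Subtype.val hk : c ^ 2 ^ k = 1) c3
    obtain ⟨K', a, -⟩ := s.p1 hK hm (hSt (pow_mem (h1 c1).1 m)) (pow_mem (h1 c1).2 m)
    exact (eq_of_card_ge (le_inf hP (norm_self S)) (hmax _ ⟨P.isPGroup'.to_le inf_le_left, _, K',
      h2.le (pow_mem c1 m), mem_C_iff_le_C1.1 (pow_mem c2 m), a⟩)).ge)
  subst e
  have sc : IsStronglyClosed ((P : Subgroup G) ⊓ cz K) P := ⟨inf_le_left, fun x hx g hg => ⟨hg, by
    by_cases x1 : x = 1
    · rw [x1, mul_one, mul_inv_cancel]; exact one_mem _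
    obtain ⟨k, hk⟩ := hS ⟨x, hx.1⟩
    obtain ⟨m, hm⟩ := inv_pow (congrArg Subtype.val hk : x ^ 2 ^ k = 1) x1
    obtain ⟨K', a, -⟩ := s.p1 hK hm (hSt (pow_mem hx.1 m)) (pow_mem hx.2 m)
    have c1 : x ∈ C{x ^ m} := mem_C1.2 (Commute.self_pow x m)
    have c2 := (compat s hK a (hSt (pow_mem hx.1 m)) (pow_mem hx.2 m) (hSt hx.1) c1).1 hx.2
    have c3 : g * x ^ m * g⁻¹ ∈ (P : Subgroup G) := by rw [← conj_pow]; exact pow_mem hg m
    refine (compat s hK (a.cj g) (hSt c3) (q0 (a.cj g) c3) (hSt hg) ?_).2 ?_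
    · rw [← cj_C1]; exact conj_mem_cj g c1
    · rw [cz_cj]; exact conj_mem_cj g c2⟩⟩
  have hN := Cfsg.Agent.S1173.result s.core P _ sc
  set T := (P : Subgroup G) ⊓ cz K
  have hD := (kx_comp hK.kc.comp (cover_of_cz (P.isPGroup'.to_le inf_le_left : IsPGroup 2 T) inf_le_right)).1
  have hle := perf_le (hD.1.trans inf_le_right) hD.perfect
  set N := (⨅ n : ℕ, derivedSeries C[T] n).map (C[T]).subtype
  have hNC : N ≤ C[T] := map_subtype_le _
  have := s.nml
  have := s.simp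
  rcases (hN.subgroupOf E).eq_bot_or_eq_top with e | e
  · have h1 : N ≤ C[E] := cents_of_inf_eq_bot (norm_of_normal _ _) (norm_of_normal _ _)
      (by rwa [subgroupOf_eq_bot, disjoint_iff] at e)
    exact not_sol hD (le_bot_iff.1 (hle.trans (h1.trans s.cen.le)) ▸ sol_bot)
  · exact iv_ne hK.iv (mem_bot.1 (s.cen.le (cents_symm ((subgroupOf_eq_top.1 e).trans hNC) ⟨tS, hK.mem_cz⟩)))

end H20.So.NM
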