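import Mathlib
import Cfsg.Agent.H16.NMF
import Cfsg.Agent.H16.NMO
import Cfsg.Agent.H16.NMD
import Cfsg.Agent.H16.NMP

/-! # No 2-component of type `McL` or `Ly`: the facts about a pair `q`, `q y` -/

set_option autoImplicit false
set_option linter.unusedSectionVars false

namespace H20.So.NM

open Subgroup Equiv Equiv.Perm Cfsg H24 H23 H25.LB H5.Ly
open scoped commutatorElement

universe u

variable {G : Type*} [Group G] [Finite G] {n : ℕ} {E H W K K' M M' J L D : Subgroup G}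
  {t u v q w y z a b x : G}

/-- `⟨t⟩` is a Sylow 2-subgroup of the centraliser of `K / O(K)` in `C(t)` -/
def On (t : G) (K : Subgroup G) : Prop :=
  ∀ (x : G) (k : ℕ), x ∈ cz K → x ∈ C{t} → x ^ 2 ^ k = 1 → x = 1 ∨ x = t

theorem pc_cz_cent (hn : 8 ≤ n) (h : Pc n H z J) (hx : x ∈ cz J) : x ∈ C{z} := by
  have h1 := conj_mem (cz_le J hx) h.mem
  have h2 : x * z * x⁻¹ ∈ cz J := mul_mem (mul_mem hx h.mem_cz) (inv_mem hx)
  have h3 := iv_conj h.iv x
  exact mem_C1_iff_conj.2 ((t1 hn h h1 h2 (a_sq (iv_mul h3))).resolve_left (iv_ne h3))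

theorem On.comp_eq (o : On t K) (h : Pq n t K) (hL : IsPCompOf 2 L C{t}) : L = K := by
  by_contra e
  have h1 := ne_le_cz h.kc.comp hL (Ne.symm e)
  have h2 : L ≤ zpowers t := (pcomp_pGen_eq hL).ge.trans (pGen_le_iff.2 fun P hP pP x hx => by
    obtain ⟨k, hk⟩ := pP ⟨x, hx⟩
    rcases o x k (h1 (hP hx)) (hL.1 (hP hx)) (congrArg Subtype.val hk) with rfl | rfl
    · exact one_mem _
    · exact mem_zpowers _)
  exact not_sol hL ((hL.perfect.symm.trans (der1_eq_bot.2 ((abl_zpowers t).of_le h2))) ▸ sol_bot)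

theorem On.juniq (o : On t K) (h : Pq n t K) (j : Jd n K a J)
    (hL : IsPCompOf 2 L (C{t} ⊓ C{a})) : L = J := by
  obtain ⟨L0, h0, -, h1⟩ := tri (iv_mul j.pc.iv) (h.le j.mem) hL
  have h2 := h1 (pc_le_N h0 h.kc.comp j.mem)
  rw [o.comp_eq h h0] at h2
  exact pc_eq_of_not_sol hL (h.kc.pcJ j).comp le_rfl
    (j.le_of (le_inf h2 (hL.1.trans inf_le_right)) (pcomp_pGen_eq hL)) (not_sol hL)

theorem On.two (o : On t K) (s : Sit n E) (h : Pq n t K) (j : Jd n K a J) {k : ℕ} (hx : x ∈ cz J)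
    (ht : x ∈ C{t}) (h2 : x ^ 2 ^ k = 1) : x = 1 ∨ x = t ∨ x = a ∨ x = t * a := by
  have a2 := iv_mul j.pc.iv
  rcases h.kc.rigid j (s.cN h ht) hx with e | e
  · exact (o x k e ht h2).imp_right Or.inl
  · have c : Commute x a := mem_C1.1 (pc_cz_cent h.kc.h8 j.pc hx)
    refine Or.inr (Or.inr ((o _ (k + 1) e (mul_mem ht (h.le j.mem)) (by
      rw [c.mul_pow, pow_succ, pow_mul, h2, one_pow, one_mul, mul_comm, pow_mul, sq, a2,
        one_pow])).imp (fun e => ?_) fun e => ?_))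
    · rw [eq_inv_of_mul_eq_one_left e, iv_inv a2]
    · rw [← e, mul_assoc, a2, mul_one]

theorem Sit.nc1 (s : Sit n E) (h : Pq n t K) (ha : a ∈ K) (h' : Pq n q K') : ¬ IsConj a q := fun c => by
  obtain ⟨g, e⟩ := isConj_iff.1 c.symm
  exact s.p2 h ha (e ▸ h'.cj g)

theorem Sit.nc2 (s : Sit n E) (h : Pq n t K) (hy : y ∈ K) (y2 : orderOf y = 2) (h' : Pq n (t * y) K')
    (ha : a ∈ K) (hb : b ∈ K) (b2 : orderOf b = 2) : ¬ IsConj a (t * b) := by
  obtain ⟨k, hk, rfl⟩ := h.kc.cls hy hb y2 b2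
  have e : t * (k * y * k⁻¹) = k * (t * y) * k⁻¹ := by
    rw [← mul_assoc k t, mem_C1.1 (h.le hk)]; group
  exact e ▸ s.nc1 h ha (h'.cj k)

/-- the symmetric form of a pair -/
theorem Sit.pair2 (s : Sit n E) (h : Pq n u M) : ∃ (t y : G) (K K' : Subgroup G), Pq n t K ∧
    Pq n (t * y) K' ∧ y ∈ K ∧ y ∈ K' ∧ orderOf y = 2 ∧ On t K ∧ On (t * y) K' ∧ Pq n (t * y * y) K := by
  have := s.pair h
  unfold NoPair at this
  push Not at this
  obtain ⟨t, y, K, K', h1, hy, y2, h2⟩ := this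
  have h3 : Pq n (t * y * y) K := by rwa [mul_assoc, iv_mul y2, mul_one]
  have a := s.f1 h1 hy y2 h2
  exact ⟨t, y, K, K', h1, h2, hy, a.1, y2, a.2, (s.f1 h2 a.1 y2 h3).2, h3⟩

end H20.So.NM
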