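import Mathlib
import Cfsg.Agent.H16.NMI0
import Cfsg.Agent.H28.ND0

/-! # No 2-component of type `McL` or `Ly`: the interface of the doubling argument -/

set_option autoImplicit false
set_option linter.unusedSectionVars false

namespace H20.So.NM

open Subgroup Equiv Equiv.Perm Cfsg H24 H23 H25.LB H5.Ly
open scoped commutatorElement

universe u

variable {G : Type*} [Group G] [Finite G] {n : ℕ} {E K K' M : Subgroup G} {t u y : G}

theorem Sit.toIn (s : Sit n E) (h : Pq n t K) (o : On t K) (hy : y ∈ K) (y2 : orderOf y = 2)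
    (h' : Pq n (t * y) K') : ∃ J, H28.ND.In n t K J := by
  have : ∀ a : G, ∃ J : Subgroup G, a ∈ K → orderOf a = 2 → Jd n K a J := fun a => by
    by_cases e : a ∈ K ∧ orderOf a = 2
    · exact (h.kc.exJ e.1 e.2).imp fun J j _ _ => j
    · exact ⟨⊥, fun a1 a2 => absurd ⟨a1, a2⟩ e⟩
  choose J hJ using this
  refine ⟨J, h.kc.hn, h.iv, h.le, s.cN h, fun a a1 a2 => h.kc.pcJ (hJ a a1 a2),
    fun a a1 a2 => (hJ a a1 a2).le, fun a a1 a2 => (hJ a a1 a2).cent,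
    fun a a1 a2 L hL => o.juniq h (hJ a a1 a2) hL, fun a a1 b b1 a2 b2 => h.kc.cls a1 b1 a2 b2,
    fun a a1 a2 g hg => h.kc.rigid (hJ a a1 a2) (s.cN h hg.2) hg.1,
    fun g hg ⟨k, hk⟩ => o g k hg.1 hg.2 hk, fun e a a1 a2 A g hg => ?_,
    fun a a1 _ => s.nc1 h a1 h, fun a a1 b b1 _ b2 => s.nc2 h hy y2 h' a1 b1 b2⟩
  subst e
  exact out11 s.sol h.kc (hJ a a1 a2) A (s.cN h hg.1) hg.2

/-- the data for the doubling argument -/
theorem Sit.exIn (s : Sit n E) (h : Pq n u M) : ∃ (t z : G) (K K' : Subgroup G) (J J' : G → Subgroup G),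
    H28.ND.In n t K J ∧ H28.ND.In n (t * z) K' J' ∧ orderOf z = 2 ∧ z ∈ K ∧ z ∈ K' ∧ Hno n G := by
  obtain ⟨t, y, K, K', h1, h2, a1, a2, y2, o1, o2, h3⟩ := s.pair2 h
  obtain ⟨J, c⟩ := s.toIn h1 o1 a1 y2 h2
  obtain ⟨J', c'⟩ := s.toIn h2 o2 a2 y2 h3
  exact ⟨t, y, K, K', J, J', c, c', y2, a1, a2, s.hno h⟩

end H20.So.NM
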