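import Mathlib
import Cfsg.Agent.H16.NM0
import Cfsg.Agent.H16.NMT
import Cfsg.Agent.H20.SoF

set_option autoImplicit false
set_option linter.unusedSectionVars false

namespace H20.So.NM

open Subgroup Equiv Equiv.Perm Cfsg H24 H23 H25.LB H5.Ly
open scoped commutatorElement

universe u

variable {G : Type*} [Group G] [Finite G] {n : ℕ} {E H W K K' M M' J L D : Subgroup G}
  {t u v q w y z b x : G}

namespace NMRx

theorem cz_of_C (h : t ∈ C[L]) : t ∈ cz L :=
  So.mem_cz.2 ⟨C_le_N L h, fun k hk => by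
    rw [commutatorElement_eq_one_iff_mul_comm.2 (mem_C.1 h k hk)]; exact one_mem _⟩

theorem g_ih {X : Type u} [Group X] [Finite X]
    (h : ∀ (Y : Type u) [Group Y] [Finite Y], Nat.card Y < Nat.card X → MainB n Y) : IHn n X := by
  intro W hW t K L htW ht hK hL hKL hn
  have hKW : K ≤ W := hK.comp.1.trans inf_le_left
  have e := map_subgroupOf_eq_of_le hKW
  have e' := map_subgroupOf_eq_of_le hL.1
  have c := h W (card_top (G := X) ▸ card_lt (lt_top_iff_ne_top.2 hW)) ⟨t, htW⟩ (K.subgroupOf W)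
    (L.subgroupOf W) ⟨by rw [orderOf_mk, ht], hK.hn, by
      have := pcomp_subgroupOf hK.comp inf_le_left
      convert this using 1
      ext x
      exact ⟨fun h => ⟨x.2, So.mem_C1.2 (congrArg Subtype.val (So.mem_C1.1 h))⟩,
        fun h => So.mem_C1.2 (Subtype.ext (So.mem_C1.1 h.2))⟩,
      (tb_map W.subtype _ (by simp)).1 (e.symm ▸ hK.tb)⟩
    (by simpa using pcomp_subgroupOf hL le_rfl) (comap_mono hKL)
    (mem_N_of_finite fun x hx => H24.conj_mem (H := L) hn hx)
  refine So.mem_cz.2 ⟨hn, fun k hk => ?_⟩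
  have := mem_map_of_mem W.subtype ((So.mem_cz.1 c).2 ⟨k, hL.1 hk⟩ hk)
  rwa [map_opp_of_injective 2 _ W.subtype_injective, e'] at this

theorem map_N {G' : Type*} [Group G'] (f : G →* G') (hn : t ∈ N[L]) : f t ∈ N[L.map f] :=
  norm_map (X := zpowers t) (zpowers_le.2 hn) f (mem_map_of_mem f (mem_zpowers t))

theorem g_core (hM : MainB n (G ⧸ pPrimeCore 2 G)) : MainB n G := by
  intro t K L h hL hKL hn
  have hk := cop_ker_piO 2 G
  have hL' : IsPCompOf 2 (L.map (piO 2 G)) ⊤ := by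
    rw [← map_top_of_surjective _ (piO_surj 2 G)]
    exact pcomp_map_of_cop_ker hk hL
  have c := hM (piO 2 G t) (K.map (piO 2 G)) (L.map (piO 2 G))
    ⟨orderOf_map_of_cop_ker hk h.iv, h.kc.hn, by
      rw [← map_centralizer_singleton_of_cop_ker (piO_surj 2 G) hk (t2_pg (iv_mul h.iv))]
      exact pcomp_map_of_cop_ker hk h.kc.comp,
      (tb_map _ _ (cop_two_iff_odd.1 (cop_of_le hk inf_le_right))).2 h.kc.tb⟩
    hL' (map_mono hKL) (map_N _ hn)
  have h0 : opp 2 (L.map (piO 2 G)) = ⊥ := by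
    rw [pcomp_opp_eq hL', opp_top, H2.pPrimeCore_quotient_pPrimeCore, bot_inf_eq]
  refine t2_mem hL hn fun k hk' => ?_
  have := (So.mem_cz.1 c).2 _ (mem_map_of_mem _ hk')
  rw [h0, mem_bot, ← map_commutatorElement, ← MonoidHom.mem_ker, ker_piO] at this
  rwa [opp_top]

theorem g_pq (h : Pq n t K) (ht : t ∉ center G) (hK : K ⊓ center G = ⊥) :
    Pq n (QuotientGroup.mk' (center G) t) (K.map (QuotientGroup.mk' (center G))) := by
  set ψ := QuotientGroup.mk' (center G) with hψ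
  have hk : ψ.ker = center G := QuotientGroup.ker_mk' _
  have hs : Function.Surjective ψ := QuotientGroup.mk'_surjective _
  have h1 : (Nat.card ↥(K ⊓ ψ.ker)).Coprime 2 := by rw [hk, hK]; simp
  have h2 : C{t} ≤ C{ψ t}.comap ψ := fun x hx =>
    So.mem_C1.2 (by rw [← map_mul, So.mem_C1.1 hx, map_mul])
  have h3 : C{ψ t}.comap ψ ≤ N[C{t}] := fun g hg => mem_N_of_finite fun x hx => by
    have : g⁻¹ * t * g * t⁻¹ ∈ center G := by
      rw [← hk, MonoidHom.mem_ker, map_mul, map_mul, map_mul, map_inv, map_inv, mul_assoc _ (ψ t),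
        ← So.mem_C1.1 (mem_comap.1 hg)]
      group
    have e := mem_center_iff.1 this x
    rw [So.mem_C1]
    calc g * x * g⁻¹ * t = g * (x * (g⁻¹ * t * g * t⁻¹)) * t * g⁻¹ := by group
      _ = g * (g⁻¹ * t * g * t⁻¹) * (x * t) * g⁻¹ := by rw [e]; group
      _ = _ := by rw [So.mem_C1.1 hx]; group
  have h4 := isSubnormal_subgroupOf_trans h.kc.comp.1 h2 (pcomp_subnormal h.kc.comp)
    (isSubnormal_subgroupOf_of_le_normalizer h3)
  obtain ⟨e⟩ := f_equiv' ψ K h1
  refine ⟨iv_of (by rw [← map_mul, iv_mul h.iv, map_one]) fun e => ht (hk ▸ e), h.kc.hn,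
    isPCompOf_iff.2 ⟨map_le_iff_le_comap.2 (h.kc.comp.1.trans h2), ?_,
      le_antisymm (pGen_le 2 _) ((map_mono (pcomp_pGen_eq h.kc.comp).ge).trans (map_pGen_le 2 K ψ)),
      H23.IsQuasisimple.of_equiv (isPCompOf_iff.1 h.kc.comp).2.2.2 e⟩,
    (tb_map ψ K (cop_two_iff_odd.1 h1)).2 h.kc.tb⟩
  have := h4.map (f := ψ.subgroupComap C{ψ t}) (ψ.subgroupComap_surjective_of_surjective _ hs)
  convert this using 1
  ext y
  constructor
  · rintro ⟨x, hx, e⟩
    exact ⟨⟨x, h2 (h.kc.comp.1 hx)⟩, hx, Subtype.ext e⟩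
  · rintro ⟨x, hx, e⟩
    exact ⟨x, hx, congrArg Subtype.val e⟩

theorem g_center (hO : pPrimeCore 2 G = ⊥) (hM : MainB n (G ⧸ center G)) : MainB n G := by
  intro t K L h hL hKL hn
  by_cases ht : t ∈ center G
  · exact cz_of_C (center_le_centralizer _ ht)
  have hK : K ⊓ center G = ⊥ := eq_bot_iff.2 fun x hx => by
    obtain ⟨k, hk⟩ := f_two hO hx.2
    exact h.kc.two hx.1 (cz_of_C (center_le_centralizer _ hx.2)) hk
  have hA := IsPComponent.isComponent_of_pPrimeCore_eq_bot hO (hL.isPComponent IsSubnormal.top)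
  set ψ := QuotientGroup.mk' (center G) with hψ
  have hA' : IsComponent (L.map ψ) := IsComponent.map hA (QuotientGroup.mk'_surjective _) (by
    rw [Ne, H2.map_mk'_eq_bot_iff]
    exact fun e => not_le_cz hL fun x hx => cz_of_C (center_le_centralizer _ (e hx)))
  have hL' : IsPCompOf 2 (L.map ψ) ⊤ := IsPComponent.isPCompOf
    (IsComponent.isPComponent_of_dvd hA' (two_dvd_card_of_quasisimple hA'.2)) le_top
  have c := hM _ _ _ (g_pq h ht hK) hL' (map_mono hKL) (map_N ψ hn)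
  have hY : L ≤ N[(opp 2 (L.map ψ)).comap ψ] := le_N_iff.2 fun a ha x hx => by
    rw [mem_comap, map_mul, map_mul, map_inv]
    exact conj_mem (le_normalizer_opp 2 le_normalizer (mem_map_of_mem ψ ha)) hx
  have h1 : ⁅L, (opp 2 (L.map ψ)).comap ψ⁆ = ⊥ :=
    (IsComponent.le_or_comm_of_le_normalizer hA hY).resolve_left fun e =>
      pcomp_not_le_cop hL' (opp_cop 2 _) (map_le_iff_le_comap.2 e)
  have h2 : ⁅L, zpowers t⁆ ≤ (opp 2 (L.map ψ)).comap ψ := commutator_le.2 fun k hk s hs => by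
    rcases a_mem_zp (iv_mul h.iv) hs with rfl | rfl
    · simp
    · rw [mem_comap, map_commutatorElement]
      exact (So.mem_cz.1 c).2 _ (mem_map_of_mem ψ hk)
  have h3 : ⁅zpowers t, L⁆ = ⊥ := comm_bot_of_comm_comm_bot hL.perfect (by
    rw [commC (zpowers t)]
    exact comm_bot_symm (comm_bot_mono h1 le_rfl h2))
  exact cz_of_C (le_centralizer_of_comm_bot h3 (mem_zpowers t))

end NMRx

open NMRx

/-! ### NMR -/
theorem mainB (hsol : ∀ (X : Type u) [Group X] [Finite X], SolH X)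
    (hsit : ∀ (X : Type u) [Group X] [Finite X] (E : Subgroup X), Sit n E →
      ∀ (u : X) (M : Subgroup X), ¬ Pq n u M)
    (X : Type u) [Group X] [Finite X] : MainB n X := by
  induction' e : Nat.card X using Nat.strong_induction_on with m ih generalizing X
  have ih' : ∀ (Y : Type u) [Group Y] [Finite Y], Nat.card Y < Nat.card X → MainB n Y :=
    fun Y _ _ h => ih _ (e ▸ h) Y rfl
  have lt : ∀ (N : Subgroup X) [N.Normal], N ≠ ⊥ → Nat.card (X ⧸ N) < Nat.card X := fun N _ h => by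
    rw [card_eq_card_quotient_mul_card_subgroup N]
    exact lt_mul_of_one_lt_right Nat.card_pos (one_lt_card h)
  by_cases hO : pPrimeCore 2 X = ⊥
  swap
  · exact g_core (ih' _ (lt _ hO))
  by_cases hZ : center X = ⊥
  swap
  · exact g_center hO (ih' _ (lt _ hZ))
  intro t K L h hL hKL hn
  by_cases hW : L ⊔ zpowers t = ⊤
  swap
  · exact g_ih ih' _ hW t K L (mem_sup_right (mem_zpowers t)) h.iv
      ⟨h.kc.hn, h.kc.comp.of_le (le_inf (hKL.trans le_sup_left) h.le) inf_le_right, h.kc.tb⟩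
      (hL.of_le le_sup_left le_top) hKL hn
  exfalso
  have hN : (⊤ : Subgroup X) ≤ N[L] := hW ▸ sup_le (norm_self L) (zpowers_le.2 hn)
  have hC : C[L] = ⊥ := by
    have ho : Odd (Nat.card C[L]) := sb_odd.2 fun u hu u2 => by
      by_contra u1
      obtain ⟨v, hv, v2, e⟩ := cent_inv (N_le_NC L hn) (iv_mul h.iv) hu (iv_of u2 u1)
      refine iv_ne v2 (mem_bot.1 (hZ ▸ mem_center_iff.2 fun g => ?_))
      have : (⊤ : Subgroup X) ≤ C{v} :=
        hW ▸ sup_le (mem_C_iff_le_C1.1 hv) (zpowers_le.2 (So.mem_C1.2 e))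
      exact So.mem_C1.1 (this (mem_top g))
    have := le_opp (p := 2) le_top (norm_C hN) (cop_two_iff_odd.2 ho)
    rwa [opp_top, hO, le_bot_iff] at this
  have hA := IsPComponent.isComponent_of_pPrimeCore_eq_bot hO (hL.isPComponent IsSubnormal.top)
  refine hsit X L ⟨⟨fun x hx g => conj_mem (hN (mem_top g)) hx⟩, f_simple hA.2 ?_, not_sol hL, hC,
    hO, g_ih ih', hsol X⟩ t K h
  refine eq_bot_iff.2 fun x hx => mem_bot.2 (Subtype.ext (mem_bot.1 (hC ▸ mem_C.2 fun k hk => ?_)))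
  exact congrArg Subtype.val (mem_center_iff.1 hx ⟨k, hk⟩)

theorem of_mainB (hm : MainB n G) (hO : pPrimeCore 2 G = ⊥)
    (hF : IsQuasisimple (generalizedFittingSubgroup G)) : ¬ Pq n t K := by
  intro h
  have hA : IsComponent (generalizedFittingSubgroup G) := ⟨(fstar_normal G).isSubnormal, hF⟩
  have hP := IsComponent.isPComponent_of_dvd hA (two_dvd_card_of_quasisimple hF)
  have hL : IsPCompOf 2 (generalizedFittingSubgroup G) ⊤ := IsPComponent.isPCompOf hP le_top
  have h1 : K ≤ generalizedFittingSubgroup G :=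
    (pcomp_le_layer hO _ (t2_pg (iv_mul h.iv)) K (by rw [C_zpowers]; exact h.kc.comp)).trans
      (layer_le_fstar G)
  have c := hm t K _ h hL h1 (norm_of_normal ⊤ _ (mem_top t))
  have h2 : t ∈ C[generalizedFittingSubgroup G] := mem_C.2 fun k hk => by
    have := opp_le_opp hL ((So.mem_cz.1 c).2 k hk)
    rwa [opp_top, hO, mem_bot, commutatorElement_eq_one_iff_mul_comm] at this
  have h3 : K = generalizedFittingSubgroup G :=
    pcomp_eq_of_le h.kc.comp (IsPComponent.isPCompOf hP (mem_C_iff_le_C1.1 h2)) h1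
  exact iv_ne h.iv (h.kc.two (h3 ▸ centralizer_fstar_le h2) h.mem_cz (a_sq (iv_mul h.iv)))

end H20.So.NM
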