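import Mathlib
import Cfsg.Agent.H16.NM0
import Cfsg.Agent.H16.NMT
import Cfsg.Agent.H4.NMC
import Cfsg.Agent.H20.SoG

set_option autoImplicit false
set_option linter.unusedSectionVars false

namespace H20.So.NM

open Subgroup Equiv Equiv.Perm Cfsg H24 H23 H25.LB H5.Ly
open scoped commutatorElement

universe u

variable {G : Type*} [Group G] [Finite G] {n : ℕ} {E H W K K' M M' J L D : Subgroup G}
  {t u v q w y z b x : G}

/-! ### NMW -/
theorem ts_mcl {A : Type*} [Group A] [Finite A] (h : Spor.IsoMcL A) : TS 8 A := by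
  obtain ⟨X, _, _, -, c, σ, hσ⟩ := H4.NMM.ly_cf
  obtain ⟨c'⟩ := H4.NMM.mcl_cf c hσ
  obtain ⟨e⟩ := h
  obtain ⟨f⟩ := H5.McP.iso_mcl
  have := (f.trans e.symm).symm.isSimpleGroup_congr.2 H5.McP.simple
  let d := H4.NMM.cfMap c' (f.trans e.symm)
  obtain ⟨θ, h1, h2⟩ := H4.NMM.cen_cf (.inl rfl) d
  have h3 : Odd (Nat.card θ.ker) := by rw [θ.ker_eq_bot_iff.2 h1, Subgroup.card_bot]; exact odd_one
  exact ⟨this, d.z, iv_of d.z_mul_z d.z_ne, dc_of_tyG le_rfl ⟨θ, h2, h3⟩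
    ((sb_ker le_rfl h2 h3).symm.trans (θ.ker_eq_bot_iff.2 h1))⟩

theorem ts_ly {A : Type*} [Group A] [Finite A] (h : Spor.IsoLy A) : TS 11 A := by
  obtain ⟨e⟩ := h
  exact TS.of_equiv (A := H19.Ly.P.G) ⟨H19.Ly.simple, _, H19.Ly.cent_t.1, H19.Ly.cent_t.2.2⟩
    (show A ≃* H19.Ly.P.G from e).symm

theorem solH (X : Type*) [Group X] [Finite X] : SolH X := by
  intro m hm W t K hK
  have hKW : K ≤ W := hK.comp.1.trans inf_le_left
  have e := Subgroup.map_subgroupOf_eq_of_le hKW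
  obtain ⟨J, c⟩ := main hm (simple_case hm) W ⟨t, hKW hK.mem⟩ (K.subgroupOf W)
    ⟨by rw [Subgroup.orderOf_mk, hK.iv], hK.mem, by
      have := pcomp_subgroupOf hK.comp inf_le_left
      convert this using 1
      ext x
      exact ⟨fun h => ⟨x.2, So.mem_C1.2 (congrArg Subtype.val (So.mem_C1.1 h))⟩,
        fun h => So.mem_C1.2 (Subtype.ext (So.mem_C1.1 h.2))⟩, le_rfl,
      ty_of_map W.subtype (e.symm ▸ hK.ty) (by simp)⟩
  have := f_cn_map W.subtype W.subtype_injective c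
  rw [e, H24.map_subtype_top] at this
  exact ⟨_, this⟩

end H20.So.NM
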