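import Mathlib
import Cfsg.Agent.H16.QT4

/-!
Quasithin preliminaries, part 5: automorphisms of quasisimple subgroups of strongly quasithin groups.
-/

set_option autoImplicit false

namespace H16.QT

open Cfsg H24 Subgroup
open H25 hiding abl_iff cyc_zpowers cyc_bot exists_prime_dvd_card cyc_cj
open H26
open scoped commutatorElement

universe u v

variable {G : Type u} [Group G] [Finite G]
variable {A B C D E H J K L M N P Q R S T U V W X Y Z : Subgroup G} {p q r : ℕ}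

theorem G3.elem (h : G3 K) : ∃ p : ℕ, p.Prime ∧ p ≠ 2 ∧ ∃ a b c : G,
    (∃ g ∈ K, g * a * g⁻¹ = a⁻¹) ∧ (∃ g ∈ K, g * b * g⁻¹ = b⁻¹) ∧ (∃ g ∈ K, g * c * g⁻¹ = c⁻¹) ∧
    PnElem p 3 K (zpowers a ⊔ zpowers b ⊔ zpowers c) := by
  obtain ⟨p, hp, hp2, x, y, z, hx, hy, hz, c1, c2, c3, ⟨g1, r1⟩, ⟨g2, r2⟩, ⟨g3, r3⟩, hi⟩ := h
  haveI := Fact.mk hp
  have hi' : ∀ i j k : ℕ, (x : G) ^ i * (y : G) ^ j * (z : G) ^ k = 1 → p ∣ i ∧ p ∣ j ∧ p ∣ k :=
    fun i j k e => hi i j k (Subtype.ext e)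
  have n1 : ¬ p ∣ 1 := fun e => hp.one_lt.ne' (Nat.dvd_one.1 e)
  have c1' : (y : G) * x = x * y := congrArg Subtype.val c1.symm.eq
  refine ⟨p, hp, hp2, x, y, z, ⟨g1, g1.2, congrArg Subtype.val r1⟩,
    ⟨g2, g2.2, congrArg Subtype.val r2⟩, ⟨g3, g3.2, congrArg Subtype.val r3⟩, ?_⟩
  refine (pnElem_two hp x.2 y.2 (congrArg Subtype.val hx) (congrArg Subtype.val hy) c1'
    (fun e => n1 (hi' 1 0 0 (by simp [e])).1) fun e => ?_).sup_one (pnElem_zpowers z.2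
    (orderOf_eq_prime (congrArg Subtype.val hz) fun e => n1 (hi' 0 0 1 (by simp [e])).2.2)) hp
    ?_ fun e => ?_
  · obtain ⟨k, hk⟩ := mem_powers_iff_mem_zpowers.2 (inv_mem e)
    exact n1 (hi' k 1 0 (by simp only at hk; simp [hk])).2.1
  · rw [zpowers_le, C_sup, C_zpowers, C_zpowers]
    exact ⟨mem_C1.2 (congrArg Subtype.val c2.symm.eq), mem_C1.2 (congrArg Subtype.val c3.symm.eq)⟩
  · obtain ⟨a, ha, b, hb, e1⟩ := (mem_sup_of_norm (norm_zpowers_of_cent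
      (zpowers_le.2 (mem_C1.2 c1')))).1 (inv_mem (zpowers_le.1 e))
    obtain ⟨i, rfl⟩ := mem_powers_iff_mem_zpowers.2 ha
    obtain ⟨j, rfl⟩ := mem_powers_iff_mem_zpowers.2 hb
    exact n1 (hi' i j 1 (by simp only at e1; simp [← e1])).2.2

omit [Finite G] in
theorem lift_real (hp : Odd p) {a : QN Z[L]} (ha : a ∈ quo L Z[L]) (hap : a ^ p = 1)
    (hr : ∃ g ∈ quo L Z[L], g * a * g⁻¹ = a⁻¹) : ∃ x ∈ L, cs Z[L] x = a ∧ x ^ p = 1 := by
  obtain ⟨g', hg', e⟩ := hr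
  obtain ⟨x, hx, hx', rfl⟩ := mem_quo.1 ha
  obtain ⟨g, hg, hg1, rfl⟩ := mem_quo.1 hg'
  have hN := (center_nml L).norm
  have hy : g * x * g⁻¹ ∈ L := mul_mem (mul_mem hg hx) (inv_mem hg)
  have e1 : cs Z[L] (g * x * g⁻¹) = (cs Z[L] x)⁻¹ := (ap_conj _ hg1 hx').trans e
  have hz : x * (g * x * g⁻¹) ∈ Z[L] := by
    rw [← cs_eq_one (mul_mem hx' (hN hy)), cs, ap_mul _ hx' (hN hy)]
    exact mul_eq_one_iff_eq_inv'.2 e1
  have hc : Commute x (g * x * g⁻¹) := by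
    have := mem_C.1 hz.2 x hx
    rw [mul_assoc x _ x] at this
    exact mul_left_cancel this
  have hu : x ^ p ∈ Z[L] := by
    rw [← cs_eq_one (pow_mem hx' p), cs, ap_pow _ hx']; exact hap
  have h1 : (x * (g * x * g⁻¹)⁻¹) ^ p = 1 := by
    rw [hc.inv_right.mul_pow, inv_pow, conj_pow, mem_C.1 hu.2 g hg, mul_inv_cancel_right,
      mul_inv_cancel]
  obtain ⟨k, rfl⟩ := hp
  refine ⟨(x * (g * x * g⁻¹)⁻¹) ^ (k + 1), pow_mem (mul_mem hx (inv_mem hy)) _, ?_,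
    by rw [← pow_mul, mul_comm, pow_mul, h1, one_pow]⟩
  rw [cs, ap_pow _ (mul_mem hx' (inv_mem (hN hy))), ap_mul _ hx' (inv_mem (hN hy)),
    ap_inv _ (hN hy)]
  change (cs _ x * (cs _ (g * x * g⁻¹))⁻¹) ^ (k + 1) = cs _ x
  rw [e1, inv_inv, ← pow_two, ← pow_mul, show 2 * (k + 1) = 2 * k + 1 + 1 by ring, pow_succ, hap,
    one_mul]

theorem SQ.not_G3 (hs : SQ L) : ¬ G3 (H24.quo L Z[L]) := by
  intro h
  obtain ⟨p, hp, hp2, a, b, c, ra, rb, rc, hE⟩ := h.elem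
  have ho := hp.odd_of_ne_two hp2
  have ma : a ∈ zpowers a ⊔ zpowers b ⊔ zpowers c := mem_sup_left (mem_sup_left (mem_zpowers a))
  have mb : b ∈ zpowers a ⊔ zpowers b ⊔ zpowers c := mem_sup_left (mem_sup_right (mem_zpowers b))
  have mc : c ∈ zpowers a ⊔ zpowers b ⊔ zpowers c := mem_sup_right (mem_zpowers c)
  obtain ⟨x, hx, rfl, hxp⟩ := lift_real ho (hE.le ma) (hE.elem.2 _ ma) ra
  obtain ⟨y, hy, rfl, hyp⟩ := lift_real ho (hE.le mb) (hE.elem.2 _ mb) rb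
  obtain ⟨z, hz, rfl, hzp⟩ := lift_real ho (hE.le mc) (hE.elem.2 _ mc) rc
  have hN := (center_nml L).norm
  obtain ⟨P, hP⟩ : ∃ P, P = zpowers x ⊔ zpowers y ⊔ zpowers z := ⟨_, rfl⟩
  have hPL : P ≤ L := hP ▸ sup_le (sup_le (zpowers_le.2 hx) (zpowers_le.2 hy)) (zpowers_le.2 hz)
  rw [← quo_zpowers (hN hx), ← quo_zpowers (hN hy), ← quo_zpowers (hN hz),
    ← quo_sup (zpowers_le.2 (hN hx)) (zpowers_le.2 (hN hy)),
    ← quo_sup (sup_le (zpowers_le.2 (hN hx)) (zpowers_le.2 (hN hy))) (zpowers_le.2 (hN hz)),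
    ← hP] at hE
  have h1 : ⁅⁅P, P⁆, P⁆ = ⊥ := comm_eq_bot.2
    (cents_of_le (((abl_quo (hPL.trans hN)).1 hE.abl).trans inf_le_right) hPL)
  have key : ∀ Y : Subgroup G, (∀ w ∈ P, w ^ p = 1 → w ∈ Y) → P ≤ Y := fun Y hY => by
    refine hP.le.trans (sup_le (sup_le ?_ ?_) ?_) <;> refine zpowers_le.2 (hY _ ?_ ‹_›) <;> rw [hP]
    exacts [mem_sup_left (mem_sup_left (mem_zpowers x)),
      mem_sup_left (mem_sup_right (mem_zpowers y)), mem_sup_right (mem_zpowers z)]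
  have h2 : IsPi {p} P := (pcore_pi _ P).of_le (key _ fun w hw hwp =>
    (nil_of_comm_comm_eq_bot h1).mem_pcore (piElt_of_pow_eq_one (piNat_self hp) hwp) hw)
  have h3 := (exponent_odd_nil23 hp h2 (odd_of_pgroup hp hp2 h2) (Or.inl h1)).1
  have h4 : prank p P ≤ 2 := hs.mono hPL p hp hp2
  have h5 := rank2_exponent_p_p3group hp h2 (by rwa [rank_pgroup hp h2])
    fun w hw => h3 w (key _ (fun _ => mem_omegaOne) hw)
  have h6 : Z[L] ⊓ P = ⊥ := by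
    by_contra h7
    have := card_quo_lt (hPL.trans hN) h7
    rw [hE.card] at this
    exact absurd (Nat.le_of_dvd (pow_pos hp.pos 3) h5) (not_le.2 this)
  rw [← prank_quo_of_inf hp (hPL.trans hN) h6, hE.prank_eq hp] at h4
  omega

theorem NC.syl (h : NC p (H24.quo L N)) (hN : L ≤ N[N]) (hp : p.Prime) (h2 : p ≠ 2)
    (hP : Syl p L P) : ∃ A, PnElem p 2 P A := by
  refine (prank_geP hp).1 (odd_pgroup_two_le_prank hp hP.pi (odd_of_pgroup hp h2 hP.pi) fun hc => ?_)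
  exact not_cyc_of_prank hp ((prank_Syl hp (hP.quo hN)).symm ▸ h.two_le hp) (hc.quo N)

theorem SQ.not_dvd (hs : SQ H) (hp : p.Prime) (h2 : p ≠ 2) (hA : PnElem p 2 H A) (hD : Pf D)
    (hH : D ≤ H) (hc : D ≤ C[A]) : ¬ p ∣ ♯D :=
  hD.not_dvd_of_central hp h2 fun _ hx hxp => cents_symm hc (hs.mem hp h2 hA (hH hx) (hc hx) hxp)

theorem Pf.cover_syl (hX : Pf X) (hL : L ⊴ X) (hp : p.Prime) (hP : Syl p L P) :
    X ≤ L ⊔ pcr (X ⊓ N[P]) :=
  hX.cover hL.norm (inf_le_left.trans hL.norm) (Frattini_arg hp hL hP).sup_eq.ge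

theorem SQ.cov (hs : SQ X) (hX : Pf X) (hL : L ⊴ X) (hN : L ≤ N[N]) (hp : p.Prime) (h2 : p ≠ 2)
    (hnc : NC p (H24.quo L N)) (h3 : p = 3 ∨ ¬ 3 ∣ L.relIndex X) : ¬ p ∣ L.relIndex X := by
  obtain ⟨P, hP⟩ := Sylow_exists hp L
  obtain ⟨A, hA⟩ := hnc.syl hN hp h2 hP
  obtain ⟨M, hM, hc⟩ := hs.exists_rk2 hp h2 hP.pi (hP.le.trans hL.le)
    (inf_le_right : X ⊓ N[P] ≤ _)
  have hMX := hM.nml.le.trans inf_le_left
  have hD := pcr_pf (X ⊓ N[P])
  have hDA := pcr_le (X ⊓ N[P])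
  have h4 : pcr (X ⊓ N[P]) ≤ L ⊔ M := by
    rcases h3 with h3 | h3
    · exact (hM.three h3 _ hDA hD).trans le_sup_right
    · refine (hM.ac.mono (hD.le_der1 hDA) le_sup_right).le_of_three hD
        (norm_sup ((hDA.trans inf_le_left).trans hL.norm) (hDA.trans hM.nml.norm)) fun e => h3 ?_
      exact e.trans ((relIndex_dvd_of_le_left _ le_sup_left).trans
        (relIndex_dvd_of_nml hL (hDA.trans inf_le_left)))
  have h5 : X ≤ L ⊔ pcr M := hX.cover hL.norm (hMX.trans hL.norm)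
    ((hX.cover_syl hL hp hP).trans (sup_le le_sup_left h4))
  have h6 := cent_of_ker hp hc (pcr_pf M) (pcr_le M) ((pcr_le M).trans (hM.nml.le.trans inf_le_right))
  intro e
  refine hs.not_dvd hp h2 (hA.mono (hP.le.trans hL.le)) (pcr_pf M) ((pcr_le M).trans hMX)
    (cents_of_le h6 hA.le) (e.trans ?_)
  have h7 := hL.isProd_sup ((pcr_le M).trans hMX)
  rw [le_antisymm (sup_le hL.le ((pcr_le M).trans hMX)) h5] at h7
  exact h7.relIndex_dvd

theorem not_dvd_of_quo (hL : Pf L) (hp : p.Prime) (h2 : p ≠ 2) (h : ¬ p ∣ ♯(quo L Z[L])) :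
    ¬ p ∣ ♯L := by
  refine hL.not_dvd_of_central hp h2 fun x hx hxp => ?_
  have hN := (center_nml L).norm hx
  refine ((cs_eq_one hN).1 (PiElt.eq_one (π := {p}) ?_ ?_)).2
  · exact (piElt_of_pow_eq_one (piNat_self hp) hxp).ap _ hN
  · exact ((isPi_compl_iff hp).2 h).piElt (cs_mem_quo hx hN)

theorem Sp.cent_of_idx (hK : Sp K) (hA : A ≤ N[K]) (hS : Syl 2 K S) (hAS : A ≤ N[S])
    (h : PiNat {2} ((K ⊓ C[A]).relIndex K)) : A ≤ C[K] := by
  have h1 := (hS.isProd_of_idx inf_le_left h).comm_left_of_cent inf_le_right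
  rcases hK.eq_or ⟨comm_le_left hA, norm_comm_left K A⟩ with h2 | h2
  · exact comm_eq_bot'.1 h2
  · refine absurd ((hS.pi.sol Nat.prime_two).of_le ?_) hK.not_sol
    rw [← h2, h1]; exact comm_le_left hAS

theorem SQ.cent_of_N1 (hs : SQ L) (hL : IsQuasisimple L) (hp : p.Prime)
    (hd : ¬ p ∣ ♯(H24.quo L Z[L])) (h1 : N1 ♯(H24.quo L Z[L])) (hA : IsPi {p} A) (hn : A ≤ N[L]) :
    A ≤ C[L] := by
  have hK := sp_quo hL
  have hLp := H23.IsQuasisimple.perfect hL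
  have hN := (center_nml L).norm
  have h2 : p ≠ 2 := by rintro rfl; exact hd hK.two_dvd
  have hcop := ((isPi_compl_iff hp).2 (not_dvd_of_quo hLp hp h2 hd)).coprime' hA
  obtain ⟨S, hS, hAS⟩ := sol_coprime_Sylow_exists Nat.prime_two hn hcop (Or.inl (hA.sol hp))
  refine cent_of_quo hLp hn (hK.cent_of_idx (quo_norm _ hn) (hS.quo hN) (quo_norm _ hAS) ?_)
  intro r hr hrd
  by_contra hr2
  obtain ⟨R, hR, hAR⟩ := sol_coprime_Sylow_exists hr hn hcop (Or.inl (hA.sol hp))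
  have hR' := hR.quo hN
  have hrd' := hrd.trans (relIndex_dvd_card _ _)
  by_cases h3 : H24.quo A Z[L] ≤ C[H24.quo R Z[L]]
  · exact Syl.not_dvd hr hR' (hrd.trans (relIndex_dvd_of_le_left _ (le_inf hR'.le (cents_symm h3))))
  have hdvd : ∀ {G : Type u} [Group G] [Finite G] {A B : Subgroup G}, IsPi {p} A → ¬ A ≤ B →
      p ∣ B.relIndex A := fun hA h => by
    obtain ⟨k, hk⟩ := (piNat_singleton hp (relIndex_ne_zero' _ _)).1 (hA.relIndex _)
    rcases k with _ | k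
    · exact absurd (relIndex_eq_one.1 hk) h
    · exact hk ▸ dvd_pow_self p k.succ_ne_zero
  refine hd (h1 r p hr hp hr2 h2 hrd' ?_)
  by_cases h4 : r ^ 2 ∣ ♯(H24.quo L Z[L])
  · have h5 := (pi_Aut_rank2_pgroup hr hp hR.pi (odd_of_pgroup hr hr2 hR.pi)
      (by rw [rank_Syl hr hR]; exact hs r hr hr2) hAR (hdvd hA fun e => h3 (quo_cent _ e))
      (by rintro rfl; exact hd hrd')).1
    rw [show r ^ 2 - 1 = (r + 1) * (r - 1) by simpa using Nat.sq_sub_sq r 1, hp.dvd_mul] at h5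
    exact h5.symm.imp id fun e => ⟨h4, e⟩
  · obtain ⟨k, hk⟩ := hR'.pi.card_eq_pow hr
    have h5 : k ≤ 1 := by
      by_contra h6
      exact h4 ((pow_dvd_pow r (by omega)).trans (hk ▸ card_dvd hR'.le))
    have h6 : k ≠ 0 := by
      rintro rfl
      exact hR'.ne_bot hr rfl hrd' (card_eq_one.1 hk)
    rw [show k = 1 by omega, pow_one] at hk
    exact Or.inl ((hdvd (hA.quo _) h3).trans (relIndex_C_dvd_pred hr (quo_norm _ hAR) hk))

theorem Pf.le_of_idx_two_primes (hD : Pf D) (hn : D ≤ N[N]) (hp : p.Prime) (hq : q.Prime) {a b : ℕ}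
    (h : N.relIndex D ∣ p ^ a * q ^ b) : D ≤ N := by
  refine hD.le_of_sol_quo hn ?_
  rw [← card_quo hn] at h
  obtain ⟨x, y, hx, hy, e⟩ := Nat.dvd_mul.1 h
  obtain ⟨i, -, rfl⟩ := (Nat.dvd_prime_pow hp).1 hx
  obtain ⟨j, -, rfl⟩ := (Nat.dvd_prime_pow hq).1 hy
  exact Cfsg.Agent.S0144.result p q i j hp hq e.symm

theorem Pf.cent_of_Phi (hD : Pf D) (hp : p.Prime) (hS : IsPi {p} S) (hn : D ≤ N[S])
    (h : ⁅S, D⁆ ≤ Phi S) : D ≤ C[S] :=
  cent_of_ker (M := D) hp (fun _ hx hx' => zpowers_le.1 (coprime_cent_Phi (hS.coprime hx'.isPi)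
    ((comm_mono_right (zpowers_le.2 hx)).trans h))) hD le_rfl hn

theorem Sp.cent_of_eight (hK : Sp K) (hS : Syl 2 K S) (h8 : ♯S = 2 ^ 3) (hD : Pf D)
    (hn : D ≤ N[K]) (hDS : D ≤ N[S]) : D ≤ C[S] := by
  have he := Phi_quo_elem Nat.prime_two hS.pi
  by_cases h1 : Phi S = ⊥
  swap
  · refine hD.cent_of_Phi Nat.prime_two hS.pi hDS ?_
    rw [commC, ← quo_cents (norm_Phi hDS) (Phi_nml S).norm]
    refine (hD.quo (norm_Phi hDS)).le_of_idx_two_primes (norm_C (quo_norm _ hDS)) Nat.prime_two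
      Nat.prime_three (a := 1) (b := 1) (quotient_cent_abelem2_dvd Nat.prime_two (quo_norm _ hDS) he ?_)
    have h3 := (Phi_nml S).card_quo
    rw [h8, pow_succ'] at h3
    exact Nat.dvd_of_mul_dvd_mul_left two_pos
      ((Nat.mul_dvd_mul_right ((hS.pi.of_le (Phi_le S)).dvd_card h1) _).trans h3.dvd)
  have hE := (trivg_Phi Nat.prime_two hS.pi).1 h1
  have h2 := hK.pf.not_burnside Nat.prime_two hS (by rintro rfl; simp at h8)
  have hY : K ⊓ N[S] ≤ N[C[S]] := norm_C inf_le_right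
  have h3 : PiNat {2}ᶜ ((C[S]).relIndex (K ⊓ N[S])) := hS.subnorm.idx_of_ge hE.le_cent
  have h4 : D ≤ N[C[S] ⊔ K ⊓ N[S]] := norm_sup (norm_C hDS) (norm_inf hn (norm_N hDS))
  have h5 := relIndex_C_abelem_dvd Nat.prime_two
    (sup_le (sup_le (C_le_N S) inf_le_right) hDS : C[S] ⊔ K ⊓ N[S] ⊔ D ≤ _) hE h8
  rw [← relIndex_mul_relIndex C[S] (C[S] ⊔ K ⊓ N[S]) _ le_sup_left le_sup_left,
    relIndex_sup_of_norm hY, relIndex_sup_of_norm h4,
    show ∏ i : Fin 3, (2 ^ 3 - 2 ^ (i : ℕ)) = 168 by decide] at h5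
  obtain ⟨r, hr, hrd⟩ := Nat.exists_prime_and_dvd (mt relIndex_eq_one.1 h2)
  have h6 := (Nat.mul_dvd_mul_right hrd _).trans h5
  have h7 : D ≤ C[S] ⊔ K ⊓ N[S] := by
    have h9 : r ∣ 2 ^ 3 * 3 * 7 := (dvd_mul_right _ _).trans h6
    rw [hr.dvd_mul, hr.dvd_mul, Nat.prime_dvd_prime_iff_eq hr Nat.prime_three,
      Nat.prime_dvd_prime_iff_eq hr (by norm_num : Nat.Prime 7)] at h9
    rcases h9 with (h9 | rfl) | rfl
    · exact absurd ((Nat.prime_dvd_prime_iff_eq hr Nat.prime_two).1 (hr.dvd_of_dvd_pow h9))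
        (h3 r hr hrd)
    · exact hD.le_of_idx_two_primes h4 Nat.prime_two (by norm_num : Nat.Prime 7) (a := 3) (b := 1)
        (Nat.dvd_of_mul_dvd_mul_left (by norm_num) (h6.trans (by norm_num)))
    · exact hD.le_of_idx_two_primes h4 Nat.prime_two Nat.prime_three (a := 3) (b := 1)
        (Nat.dvd_of_mul_dvd_mul_left (by norm_num) (h6.trans (by norm_num)))
  refine hD.le_of_sol_quo (norm_C hDS) ((sol_of_pi2 ((isPi_quo_iff hY).2 h3)).of_le ?_)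
  rw [quo_le_quo_iff (norm_C hDS) hY, sup_comm]
  exact h7

theorem Sp.schr_J1 (hK : Sp K) (hc : ♯K = 175560) (hX : Pf X) (hn : K ⊴ X) : X ≤ K ⊔ C[K] := by
  obtain ⟨S, hS⟩ := Sylow_exists Nat.prime_two K
  have h8 : ♯S = 2 ^ 3 := by
    obtain ⟨k, hk⟩ := hS.pi.card_eq_pow Nat.prime_two
    have h1 : 2 ^ 3 ∣ ♯S := hS.dvd_card (piNat_self_pow Nat.prime_two 3) (by rw [hc]; norm_num)
    have h2 : ¬ 2 ^ 4 ∣ ♯S := fun e => absurd (e.trans (card_dvd hS.le)) (by rw [hc]; norm_num)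
    rw [hk, Nat.pow_dvd_pow_iff_le_right one_lt_two] at h1 h2
    rw [hk, show k = 3 by omega]
  have h1 := (pcr_le (X ⊓ N[S])).trans inf_le_left |>.trans hn.norm
  exact (hX.cover_syl hn Nat.prime_two hS).trans (sup_le_sup_left (hK.glaub hS (pcr_pf _) h1
    (hK.cent_of_eight hS h8 (pcr_pf _) h1 ((pcr_le _).trans inf_le_right))) _)

theorem N1_J1 : N1 175560 :=
  N1.of_list [2, 3, 5, 7, 11, 19] (by decide +kernel) (by decide +kernel) (by decide +kernel)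

end H16.QT
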