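import Mathlib
import Cfsg.Agent.H16.QT5

/-!
Quasithin preliminaries, part 6: the Schreier property in strongly quasithin groups.
-/

set_option autoImplicit false

namespace H16.QT

open Cfsg H24 Subgroup
open H25 hiding abl_iff cyc_zpowers cyc_bot exists_prime_dvd_card cyc_cj
open H26
open scoped commutatorElement

universe u v

variable {G : Type u} [Group G] [Finite G]
variable {A B C D E H J K L M N P Q R S T U V W X Y Z : Subgroup G} {p q r : ℕ}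

theorem orb_core (hH : Abl H) (hD : D ≤ C[H]) {x : G}
    (h : ∀ d ∈ D, ∃ k ∈ H, d * x * d⁻¹ = k * x * k⁻¹) (h' : Pf D ∨ (♯H).Coprime ♯D) :
    D ≤ C{x} := by
  have h1 : (H ⊔ D) ⊓ C{x} ≤ C[H] := inf_le_left.trans (sup_le hH.le_C hD)
  have h2 : H ⊔ (H ⊔ D) ⊓ C{x} = H ⊔ D := by
    refine le_antisymm (sup_le le_sup_left inf_le_left) (sup_le le_sup_left fun d hd => ?_)
    obtain ⟨k, hk, e⟩ := h d hd
    have h3 : k⁻¹ * d ∈ (H ⊔ D) ⊓ C{x} := by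
      refine ⟨mul_mem (mem_sup_left (inv_mem hk)) (mem_sup_right hd), mem_C1_iff_conj.2 ?_⟩
      calc k⁻¹ * d * x * (k⁻¹ * d)⁻¹ = k⁻¹ * (d * x * d⁻¹) * k := by group
        _ = x := by rw [e]; group
    simpa using mul_mem (mem_sup_left hk) (mem_sup_right h3)
  have h3 : ⁅H ⊔ D, H ⊔ D⁆ ≤ (H ⊔ D) ⊓ C{x} := by
    conv_lhs => rw [← h2, der1_sup_of_cent h1, der1_eq_bot.2 hH, bot_sup_eq]
    exact der1_le _
  refine le_trans ?_ (inf_le_right : (H ⊔ D) ⊓ C{x} ≤ _)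
  rcases h' with h' | h'
  · exact (h'.le_der1 le_sup_right).trans h3
  · refine le_of_idx_compl' (nml_of_der1_le h3 inf_le_left) ((isPi_primesOf H).piNat.dvd ?_)
      (isPi_compl_of_coprime h') le_sup_right
    have := (isProd_sup (norm_of_cent h1)).symm.relIndex_dvd
    rwa [h2] at this

omit [Finite G] in
theorem norm_sqs (h : X ≤ N[S]) : X ≤ N[sqs S] :=
  norm_closure fun a ha _ ⟨s, hs, e⟩ =>
    subset_closure ⟨a * s * a⁻¹, conj_mem (h ha) hs, by rw [e, conj_pow]⟩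

theorem sqs_le_Phi (hS : IsPi {2} S) : sqs S ≤ Phi S :=
  (closure_le _).2 fun _ ⟨_, hs, e⟩ => e ▸ hS.pow_mem_Phi Nat.prime_two hs

theorem tor_core (hS : IsPi {2} S) {Γ : Set G} (h1 : H ≤ N[S]) (h2 : Abl H) (h3 : closure Γ = S)
    (h4 : ∀ x ∈ Γ, ∃ h ∈ H, Commute h x ∧ ∀ y ∈ S, Commute h y →
      y ∈ sqs S ∨ ∃ k ∈ H, y⁻¹ * (k * x * k⁻¹) ∈ sqs S)
    (hD : D ≤ C[H]) (hn : D ≤ N[S]) (h' : Pf D ∨ (♯H).Coprime ♯D) : ⁅S, D⁆ ≤ Phi S := by
  have nS := norm_sqs (norm_self S)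
  have nD := norm_sqs hn
  have nH := norm_sqs h1
  have hΓ : Γ ⊆ S := h3 ▸ subset_closure
  refine le_trans ?_ (sqs_le_Phi hS)
  rw [← quo_cents nS nD]
  refine ((congrArg (img (coset (sqs S))) h3.symm).trans (img_closure _ (hΓ.trans nS))).le.trans
    ((closure_le _).2 ?_)
  rintro _ ⟨x, hx, rfl⟩
  refine mem_C_iff_le_C1.2 (orb_core (h2.quo _) (quo_cent _ hD) (fun d' hd' => ?_)
    (h'.imp (·.quo nD) (coprime_quo · _)))
  obtain ⟨d, hd, hd1, rfl⟩ := mem_quo.1 hd'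
  obtain ⟨h, hh, c1, h5⟩ := h4 x hx
  have hy := conj_mem (hn hd) (hΓ hx)
  have c2 : Commute h d := mem_C.1 (hD hd) h hh
  rcases h5 _ hy ((c2.mul_right c1).mul_right c2.inv_right) with h6 | ⟨k, hk, h6⟩
  · refine ⟨1, one_mem _, ?_⟩
    have : ap (coset (sqs S)) x = 1 := cs_of_mem ((conj_mem_iff hd1).1 h6)
    rw [this]; group
  · refine ⟨_, cs_mem_quo hk (nH hk), ?_⟩
    rw [← cs_eq_cs (nS hy) (nS (conj_mem (h1 hk) (hΓ hx)))] at h6
    exact (ap_conj _ hd1 (nS (hΓ hx))).symm.trans (h6.trans (ap_conj _ (nH hk) (nS (hΓ hx))))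

theorem Tor.pf (h : Tor K S) (hS : IsPi {2} S) (hD : Pf D) (hn : D ≤ N[S])
    (hc : ⁅D, K ⊓ N[S]⁆ ≤ S) : ∃ D₁, Pf D₁ ∧ D₁ ≤ S ⊔ D ∧ D₁ ≤ C[S] ∧ D ≤ S ⊔ D₁ := by
  obtain ⟨H, Γ, h0, h1, h2, ho, h3, h4⟩ := h
  have h5 := coprime_isProd_of_comm_le (X := S ⊔ D) h1 (hS.coprime (pi2_of_odd ho)) (Or.inr h2.sol)
    le_sup_left (comm_sup_le_left (norm_self S) hn h1 (comm_le_left h1)
      ((comm_mono_right (le_inf h0 h1)).trans hc))
  have h6 := pcr_le ((S ⊔ D) ⊓ C[H])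
  have h7 := h6.trans (inf_le_left.trans (sup_le (norm_self S) hn))
  exact ⟨_, pcr_pf _, h6.trans inf_le_left, (pcr_pf _).cent_of_Phi Nat.prime_two hS h7
    (tor_core hS h1 h2 h3 h4 (h6.trans inf_le_right) h7 (Or.inl (pcr_pf _))),
    hD.cover hn (inf_le_left.trans (sup_le (norm_self S) hn)) (le_sup_right.trans h5.sup_eq.ge)⟩

theorem Tor.cop (h : Tor K S) (hS : IsPi {2} S) (hp : p.Prime) (hp2 : p ≠ 2) (hP : IsPi {p} P)
    (hd : ¬ p ∣ ♯K) (hn : P ≤ N[S]) (hc : ⁅P, K ⊓ N[S]⁆ ≤ S) : P ≤ C[S] := by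
  obtain ⟨H, Γ, h0, h1, h2, ho, h3, h4⟩ := h
  have h5 := coprime_isProd_of_comm_le (X := S ⊔ P) h1 (hS.coprime (pi2_of_odd ho)) (Or.inr h2.sol)
    le_sup_left (comm_sup_le_left (norm_self S) hn h1 (comm_le_left h1)
      ((comm_mono_right (le_inf h0 h1)).trans hc))
  obtain ⟨P₁, hP₁⟩ := Sylow_exists hp ((S ⊔ P) ⊓ C[H])
  have h6 := sup_le (norm_self S) hn
  have h7 : P₁ ≤ C[S] := coprime_cent_Phi (hS.coprime_of_ne hP₁.pi hp2.symm)
    (tor_core hS h1 h2 h3 h4 (hP₁.le.trans inf_le_right) (hP₁.le.trans (inf_le_left.trans h6))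
      (Or.inr ((((isPi_compl_iff hp).2 hd).of_le h0).coprime' hP₁.pi)))
  obtain ⟨g, hg, h8⟩ := Sylow_subJ hp (hP₁.of_idx inf_le_left
    ((hS.compl_of_ne hp2.symm).piNat.dvd h5.symm.relIndex_dvd)) hP le_sup_right
  exact h8.trans (cj_le_of_mem_N h7 (norm_C h6 hg))

theorem comm_le_of_pcore (hS : Syl 2 Y S) (hY : Y ≤ N[S]) (hD : D ≤ N[Y]) (hn : D ≤ N[S])
    (h' : Pf D ∨ (♯Y).Coprime ♯D)
    (h : ∀ r, r.Prime → r ≠ 2 → quo D S ≤ C[O[{r}, quo Y S]]) : ⁅D, Y⁆ ≤ S := by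
  have h1 : IsPi {2}ᶜ (quo Y S) := (isPi_quo_iff hY).2 hS.idx
  have h2 : quo D S ≤ C[F[quo Y S]] := cent_Fitting_of_pcore fun r hr => by
    by_cases h2 : r = 2
    · subst h2; rw [h1.pcore_eq_bot, C_bot]; exact le_top
    · exact h r hr h2
  rw [← quo_cents hn hY]
  rcases h' with h' | h'
  · exact (h'.quo hn).cent_of_Fitting (quo_norm _ hD) (sol_of_pi2 h1) h2
  · exact (le_inf le_rfl h2).trans (coprime_cent_Fitting (quo_norm _ hD) (coprime_quo h' _)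
      (sol_of_pi2 h1))

theorem quo_norm_syl (hS : Syl 2 L S) :
    quo L Z[L] ⊓ N[quo S Z[L]] ≤ quo (L ⊓ N[S]) Z[L] := by
  have hN := (center_nml L).norm
  rw [← quo_sup_right (hS.le.trans hN), ← quo_inf_N L (nml_sup_right (hS.le.trans hN)) hN]
  exact quo_mono _ (inf_le_inf_left _ ((hS.of_le le_sup_left (sup_le hS.le inf_le_left)).norm_of_nml
    (sup_le (norm_self S) (norm_of_cent (cents_of_le inf_le_right hS.le))) le_rfl))

theorem cyc_pcore_quo (hr : r.Prime) (h2 : r ≠ 2) (hS : IsPi {2} S) (hY : Y ≤ N[S])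
    (h : prank r Y ≤ 1) : Cyc O[{r}, quo Y S] :=
  odd_pgroup_cyc hr (pcore_pi _ _) (odd_of_pgroup hr h2 (pcore_pi _ _))
    ((prank_mono hr (pcore_le _ _)).trans
      (by rwa [prank_quo_of_p' hr hY (hS.compl_of_ne h2.symm)]))

theorem SQ.comm_norm_syl (hs : SQ X) (hL : L ⊴ X) (h3 : ¬ 3 ∣ L.relIndex X) (hS : Syl 2 L S) :
    ⁅pcr (X ⊓ N[S]), L ⊓ N[S]⁆ ≤ S := by
  have hDA := pcr_le (X ⊓ N[S])
  have hD := pcr_pf (X ⊓ N[S])
  have n1 : X ⊓ N[S] ≤ N[L ⊓ N[S]] :=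
    norm_inf (inf_le_left.trans hL.norm) (norm_N inf_le_right)
  have hYA : L ⊓ N[S] ≤ X ⊓ N[S] := inf_le_inf_right _ hL.le
  refine comm_le_of_pcore hS.subnorm inf_le_right (hDA.trans n1) (hDA.trans inf_le_right)
    (Or.inl hD) fun r hr h2 => ?_
  obtain ⟨M, hM, hc⟩ := ((hs.mono inf_le_left).quo (inf_le_right : X ⊓ N[S] ≤ _) hS.pi).exists_rk2
    hr h2 (pcore_pi _ _) ((pcore_le _ _).trans (quo_mono S hYA)) (norm_pcore _ (quo_norm S n1))
  have hD' := hD.quo (hDA.trans inf_le_right)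
  have hDA' := quo_mono S hDA
  refine cent_of_ker hr hc hD' ?_ (hDA'.trans (norm_pcore _ (quo_norm S n1)))
  refine hD'.le_of_sol (X := H24.quo (L ⊓ N[S]) S) (hDA'.trans hM.nml.norm) ?_
    ((quo_mono S hYA).trans hM.nml.norm) (sol_of_pi2 ((isPi_quo_iff inf_le_right).2 hS.subnorm.idx))
  refine (hM.ac.mono (hD'.le_der1 hDA') le_sup_right).le_of_three hD'
    (hDA'.trans (norm_sup (quo_norm S n1) hM.nml.norm)) fun e => h3 ?_
  have e1 := e.trans (relIndex_dvd_of_le_left _ le_sup_left)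
  rw [relIndex_quo ⟨hS.subnorm.le, inf_le_right⟩ (hDA.trans inf_le_right), ← inf_relIndex_right,
    inf_assoc, inf_eq_right.2 (hDA.trans inf_le_right), inf_relIndex_right] at e1
  exact e1.trans (relIndex_dvd_of_nml hL (hDA.trans inf_le_left))

theorem SQ.schr_tor (hs : SQ X) (hL : IsQuasisimple L) (hX : Pf X) (hn : L ⊴ X)
    (h : TOR (H24.quo L Z[L])) : X ≤ L ⊔ C[L] := by
  obtain ⟨S, hS⟩ := Sylow_exists Nat.prime_two L
  have hN := (center_nml L).norm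
  have hXN := norm_Z hn.norm
  have hS' : Syl 2 _ _ := hS.quo hN
  obtain ⟨h1, -, h2⟩ := h.ambient hS'
  have hDA := pcr_le (X ⊓ N[S])
  have hD' := (pcr_pf (X ⊓ N[S])).quo ((hDA.trans inf_le_left).trans hXN)
  have n1 := quo_norm Z[L] (hDA.trans inf_le_right)
  have n2 := quo_norm Z[L] ((hDA.trans inf_le_left).trans hn.norm)
  have h3 : ⁅H24.quo (pcr (X ⊓ N[S])) Z[L], H24.quo L Z[L] ⊓ N[H24.quo S Z[L]]⁆ ≤
      H24.quo S Z[L] := by
    rcases h2 with h2 | h2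
    · refine (comm_mono_right (quo_norm_syl hS)).trans ?_
      rw [← quo_comm ((hDA.trans inf_le_left).trans hXN) (inf_le_left.trans hN)]
      exact quo_mono _ (hs.comm_norm_syl hn
        (hs.cov hX hn hN Nat.prime_three (by norm_num) h2 (Or.inl rfl)) hS)
    · refine comm_le_of_pcore hS'.subnorm inf_le_right (norm_inf n2 (norm_N n1)) n1 (Or.inl hD')
        fun r hr hr2 => (hD'.quo n1).ge.trans (cyc_der1_norm_le_cent
          (cyc_pcore_quo hr hr2 hS'.pi inf_le_right (h2 r hr hr2))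
          (norm_pcore _ (quo_norm _ (norm_inf n2 (norm_N n1)))))
  obtain ⟨D₁, d1, d2, d3, d4⟩ := h1.pf hS'.pi hD' n1 h3
  have d5 := (sp_quo hL).glaub hS' d1 (d2.trans (sup_le (norm_of_le hS'.le) n2)) d3
  refine le_sup_C_of_quo (H23.IsQuasisimple.perfect hL) hn.norm
    ((quo_mono _ (hX.cover_syl hn Nat.prime_two hS)).trans ?_)
  rw [quo_sup hN ((hDA.trans inf_le_left).trans hXN)]
  exact sup_le le_sup_left (d4.trans (sup_le_sup hS'.le d5))

theorem SQ.schr_num (hs : SQ X) (hk : KG X) (hL : IsQuasisimple L) (hX : Pf X) (hn : L ⊴ X)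
    (h : NUM (H24.quo L Z[L])) : X ≤ L ⊔ C[L] := by
  by_contra h1
  have hN := (center_nml L).norm
  obtain ⟨W, hW, h2, h3⟩ := hX.exists_sp (norm_sup hn.norm (norm_C hn.norm)) h1
  have h4 : W.relIndex X ∣ L.relIndex X :=
    relIndex_dvd_of_le_left _ ((le_inf hn.le le_sup_left).trans h2)
  have h5 := hs.cov hX hn hN Nat.prime_three (by norm_num) h.2.1 (Or.inl rfl)
  rcases (hk.ka le_rfl hW.norm h3).2.2 with h6 | h6
  · obtain ⟨m, hm, e⟩ := card_of_isoSuzuki h6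
    obtain ⟨p, hp, h7, h8⟩ := h.2.2 m hm
    rw [← e, card_quo hW.norm] at h7
    rcases h8 with h8 | ⟨h8, h9⟩
    · obtain ⟨P, hP⟩ := Sylow_exists hp X
      exact hP.not_dvd hp (h7.trans (relIndex_dvd_of_le_left _ ((le_inf hP.le
        (((hs.mono hn.le).cent_of_N1 hL hp h8 h.1 hP.pi (hP.le.trans hn.norm)).trans
          le_sup_right)).trans h2)))
    · exact hs.cov hX hn hN hp h8 h9 (Or.inr h5) (h7.trans h4)
  · rw [card_quo hW.norm] at h6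
    exact h5 (h6.trans h4)

/-- the Schreier property -/
theorem SQ.schr (hs : SQ H) (hk : KG H) (hL : IsQuasisimple L) (hLH : L ≤ H) (hX : Pf X)
    (hXH : X ≤ H) (hn : X ≤ N[L]) : X ≤ L ⊔ C[L] := by
  have hLp := H23.IsQuasisimple.perfect hL
  have hle := sup_le hLH hXH
  have hX' := Pf.sup hLp hX
  have hn' := nml_sup_left hn
  have hN := (center_nml L).norm
  have hXN := norm_Z hn'.norm
  refine le_sup_right.trans (?_ : L ⊔ X ≤ _)
  rcases (hk.ka hLH hN (sp_quo hL)).1 with h | ⟨h, -⟩ | ⟨h, -⟩ | h | h | h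
  · exact absurd h (hs.mono hLH).not_G3
  · exact le_sup_C_of_quo hLp hn'.norm (h.le (hX'.quo hXN) (quo_norm _ hn'.norm))
  · exact le_sup_C_of_quo hLp hn'.norm (h.le (hX'.quo hXN) (quo_norm _ hn'.norm))
  · exact (hs.mono hle).schr_num (hk.mono hle) hL hX' hn' h
  · exact le_sup_C_of_quo hLp hn'.norm ((sp_quo hL).schr_J1 h (hX'.quo hXN) (hn'.quo _))
  · exact (hs.mono hle).schr_tor hL hX' hn' h

end H16.QT
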