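import Mathlib
import Cfsg.Agent.H16.QT6

/-!
Quasithin preliminaries, part 7: structure of the `𝒞`-components.
-/

set_option autoImplicit false

namespace H16.QT

open Cfsg H24 Subgroup
open H25 hiding abl_iff cyc_zpowers cyc_bot exists_prime_dvd_card cyc_cj
open H26
open scoped commutatorElement

universe u v

variable {G : Type u} [Group G] [Finite G]
variable {A B C D E H J K L L₁ L₂ M N P Q R S T U V W X Y Z : Subgroup G} {p q r : ℕ}

omit [Finite G] in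
theorem idx2 (hn : ¬ H ≤ J) (h : ∀ g ∈ H, ∀ k ∈ H, g ∉ J → k ∉ J → g⁻¹ * k ∈ J) :
    J.relIndex H = 2 := by
  obtain ⟨g, hg, h1⟩ := SetLike.not_le_iff_exists.1 hn
  refine relIndex_eq_two_iff_exists_notMem_and'.2 ⟨g⁻¹, inv_mem hg, mt inv_mem_iff.1 h1, ?_⟩
  intro b hb
  by_cases h2 : b ∈ J
  · exact Or.inr h2
  · exact Or.inl (h g hg b hb h1 h2)

omit [Finite G] in
theorem nml_of_idx2 (h : H ≤ J ∨ J.relIndex H = 2) :
    H ⊓ J ⊴ H ∧ (H ⊓ J).relIndex H ∣ 2 := by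
  rw [inf_relIndex_left]
  rcases h with h | h
  · rw [inf_eq_left.2 h, relIndex_eq_one.2 h]; exact ⟨Nml.refl H, one_dvd _⟩
  · refine ⟨nml_of_normal inf_le_left ?_, h.dvd⟩
    rw [inf_subgroupOf_left]
    exact normal_of_index_eq_two h

theorem O2_sol (H : Subgroup G) : Sol O[{2}, H] := (pcore_pi _ H).sol Nat.prime_two

theorem SQ.bar (hs : SQ H) : SQ (H24.quo H O[{2}, H]) := hs.quo (pcore_nml _ H).norm (pcore_pi _ H)

theorem CC.bar (h : CC H L) : CC (H24.quo H O[{2}, H]) (H24.quo L O[{2}, H]) :=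
  h.quo (pcore_nml _ H) (O2_sol H)

theorem CC.mem_N_iff (h : CC H L) {g : G} (hg : g ∈ H) :
    cs O[{2}, H] g ∈ N[H24.quo L O[{2}, H]] ↔ g ∈ N[L] := by
  have h1 := (pcore_nml {2} H).norm hg
  refine ⟨fun h2 => zpowers_le.1 (h.norm_of_quo (pcore_nml _ H) (O2_sol H) (zpowers_le.2 h1) ?_),
    fun h2 => ap_mem_N _ h2 h1⟩
  rwa [quo_zpowers h1, zpowers_le]

theorem CC.idx (hs : SQ H) (h : CC H L) : H ≤ N[L] ∨ (N[L]).relIndex H = 2 := by
  refine or_iff_not_imp_left.2 fun hn => idx2 hn fun g hg k hk h1 h2 => ?_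
  have hN := (pcore_nml {2} H).norm
  rw [← h.mem_N_iff (mul_mem (inv_mem hg) hk), cs, ap_mul _ (inv_mem (hN hg)) (hN hk),
    ap_inv _ (hN hg)]
  exact h.bar.two_conj hs.bar (pcore_quo_pcore _ H) (cs_mem_quo hg (hN hg)) (cs_mem_quo hk (hN hk))
    (mt (h.mem_N_iff hg).1 h1) (mt (h.mem_N_iff hk).1 h2)

theorem CC.pf_norm (hs : SQ H) (h : CC H L) (hX : Pf X) (hXH : X ≤ H) : X ≤ N[L] := by
  obtain ⟨h1, h2⟩ := nml_of_idx2 (h.idx hs)
  exact (hX.le_of_pi_idx (hXH.trans h1.norm) Nat.prime_two ((piNat_self Nat.prime_two).dvd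
    ((relIndex_dvd_of_nml h1 hXH).trans h2))).trans inf_le_right

theorem CC.odd_norm (hs : SQ H) (h : CC H L) (hX : IsPi {2}ᶜ X) (hXH : X ≤ H) : X ≤ N[L] := by
  obtain ⟨h1, h2⟩ := nml_of_idx2 (h.idx hs)
  exact (le_of_idx_compl' h1 ((piNat_self Nat.prime_two).dvd h2) hX hXH).trans inf_le_right

theorem CC.comm_le_O2 (hs : SQ H) (h₁ : CC H L₁) (h₂ : CC H L₂) (hne : L₁ ≠ L₂) :
    ⁅L₁, L₂⁆ ≤ O[{2}, H] :=
  (quo_cents (h₁.le.trans (pcore_nml _ H).norm) (h₂.le.trans (pcore_nml _ H).norm)).1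
    (h₁.bar.cent hs.bar (pcore_quo_pcore _ H) h₂.bar (h₁.quo_ne h₂ (pcore_nml _ H) (O2_sol H) hne))

omit [Finite G] in
theorem sp_of_center (hL : IsQuasisimple L) (h : Z[L] = ⊥) : Sp L := by
  refine sp_of_minNml ⟨H23.IsQuasisimple.ne_bot hL, norm_self L, fun W hW h1 h2 => ?_⟩
    (H23.IsQuasisimple.perfect hL)
  exact (H23.IsQuasisimple.eq_or_comm hL hW h2).resolve_right fun e =>
    h1 (eq_bot_of_le h (le_inf hW (comm_eq_bot.1 e)))

theorem CC.lst (hs : SQ H) (hk : KG H) (h : CC H L) (hn : ¬ H ≤ N[L]) :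
    LST (H24.quo L O[{2}, H]) := by
  have hN := (pcore_nml {2} H).norm
  have h1 : ¬ H24.quo H O[{2}, H] ≤ N[H24.quo L O[{2}, H]] := fun e =>
    hn (h.norm_of_quo (pcore_nml _ H) (O2_sol H) hN e)
  obtain ⟨h2, h3⟩ := h.bar.simple hs.bar (pcore_quo_pcore _ H) h1
  refine (hk.ka h.le (h.le.trans hN) (sp_of_center h2 h3)).2.1.resolve_right ?_
  rintro ⟨p, hp, hp2, h4⟩
  have := h.bar.prank_le_one hs.bar (pcore_quo_pcore _ H) h1 hp hp2
  have := h4.two_le hp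
  omega

/-- the centraliser of `L` modulo the solvable radical -/
def CR (H L : Subgroup G) : Subgroup G := H ⊓ centQ L (rad H)

omit [Finite G] in
theorem le_CR (hL : L ≤ H) : X ≤ CR H L ↔ X ≤ H ∧ ⁅X, L⁆ ≤ rad H := by
  rw [CR, le_inf_iff, le_centQ (hL.trans (rad_nml H).norm)]
  exact ⟨fun h => ⟨h.1, h.2.2⟩, fun h => ⟨h.1, h.1.trans (rad_nml H).norm, h.2⟩⟩

theorem norm_CR (h1 : X ≤ N[H]) (h2 : X ≤ N[L]) : X ≤ N[CR H L] :=
  norm_inf h1 (norm_centQ h2 (norm_rad h1))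

theorem CC.not_le_CR (h : CC H L) : ¬ L ≤ CR H L := fun e =>
  h.not_sol ((rad_sol H).of_le (h.pf.ge.trans ((le_CR h.le).1 e).2))

theorem CC.qs_of_cent (h : CC H L) (hc : L ≤ C[F[H]]) : IsQuasisimple L :=
  h.qs (h.pf.cent_of_Fitting (h.le.trans (rad_nml H).norm) (rad_sol H) (by rwa [Fitting_rad]))

theorem CC.le_sup_CR' (hs : SQ H) (hk : KG H) (hO : O[{2}, H] = ⊥) (h : CC H L) (hX : Pf X)
    (hXH : X ≤ H) : X ≤ L ⊔ CR H L := by
  have hn := h.pf_norm hs hX hXH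
  by_cases h1 : L ≤ C[F[H]]
  · have h2 := le_inf (hs.schr hk (h.qs_of_cent h1) h.le hX hXH hn) hXH
    rw [← group_modl (C_le_N L) h.le] at h2
    refine h2.trans (sup_le_sup_left ((le_CR h.le).2 ⟨inf_le_right, ?_⟩) _)
    rw [comm_eq_bot.2 inf_le_left]; exact bot_le
  obtain ⟨r, hr, h2⟩ : ∃ r, r.Prime ∧ ¬ L ≤ C[O[{r}, H]] := by
    by_contra h3
    push Not at h3
    exact h1 (cent_Fitting_of_pcore h3)
  have hr2 : r ≠ 2 := by rintro rfl; rw [hO, C_bot] at h2; exact h2 le_top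
  obtain ⟨M, hM, hc⟩ := hs.exists_rk2 hr hr2 (pcore_pi _ H) (pcore_le _ H) (pcore_nml _ H).norm
  have h3 : ¬ L ≤ M := fun e => h2 (cent_of_ker hr hc h.pf e (h.le.trans (pcore_nml _ H).norm))
  have hp := h.pf.sup hX
  have hle := sup_le h.le hXH
  refine le_sup_right.trans (((hM.ac.mono (hp.le_der1 hle) le_rfl).le_sup hp
    (hle.trans hM.nml.norm) h.pf (nml_sup_left hn) h3).trans (sup_le_sup_left ?_ _))
  exact (le_CR h.le).2 ⟨hM.nml.le, commC L M ▸ (h.le_or_comm hM.nml.sbn).resolve_left h3⟩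

theorem CC.le_sup_CR (hs : SQ H) (hk : KG H) (h : CC H L) (hX : Pf X) (hXH : X ≤ H) :
    X ≤ L ⊔ CR H L := by
  have hO := pcore_nml {2} H
  have h1 := h.bar.le_sup_CR' hs.bar (hk.quo _) (pcore_quo_pcore _ H) (hX.quo (hXH.trans hO.norm))
    (quo_mono _ hXH)
  obtain ⟨h2, h3⟩ := (le_CR h.bar.le).1 le_rfl
  rw [← quo_coq (CR _ _), ← quo_sup (h.le.trans hO.norm) (coq_le_N _)] at h1
  refine (le_of_quo_le (hXH.trans hO.norm) ⟨(le_coq _).trans le_sup_right,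
    sup_le (h.le.trans hO.norm) (coq_le_N _)⟩ h1).trans (sup_le_sup_left ?_ _)
  have h4 := coq_le_of_le_quo hO h2
  refine (le_CR h.le).2 ⟨h4, le_of_quo_le ((comm_le_of_le h4 h.le).trans hO.norm)
    (hO.of_le (pcore_le_rad Nat.prime_two H) (rad_le H)) ?_⟩
  rwa [quo_comm (coq_le_N _) (h.le.trans hO.norm), quo_coq, quo_rad hO (O2_sol H)]

theorem sSup_CC_nml (H : Subgroup G) : sSup {L | CC H L} ⊴ H :=
  ⟨sSup_le fun _ h => h.le, le_N_iff.2 fun g hg _ hx => (sSup_le (fun L hL => le_cj_iff.2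
    (by rw [inv_inv]; exact le_sSup (CC.cj hL (norm_self H hg)))) :
      sSup {L | CC H L} ≤ cj g⁻¹ (sSup {L | CC H L})) hx |> fun h => by simpa using mem_cj.1 h⟩

theorem sSup_CC (hs : SQ H) (hk : KG H) : sSup {L | CC H L} = pcr H := by
  have hY : sSup {L | CC H L} ≤ pcr H := sSup_le fun L hL => hL.pf.le_pcr hL.le
  have hn := (pcr_le H).trans (sSup_CC_nml H).norm
  refine le_antisymm hY ?_
  obtain ⟨W, -, ⟨h1, h2⟩, hm⟩ := exists_min
    (P := fun W => W ⊴ pcr H ∧ pcr H ≤ sSup {L | CC H L} ⊔ W) ⟨Nml.refl _, le_sup_right⟩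
  have h3 : pcr W = W := hm _ ⟨Nml.pcr h1, (pcr_pf H).cover hn (h1.le.trans hn) h2⟩ (pcr_le W)
  by_cases h4 : W = ⊥
  · simpa [h4] using h2
  obtain ⟨L, hLW, hL⟩ := exists_CC (Sbn.step h1 (pcr_nml H).sbn) (h3 ▸ pcr_pf W) h4
  have h5 := hL.le_sup_CR hs hk (pcr_pf H) (pcr_le H)
  have h6 := norm_CR (norm_of_le (pcr_le H)) (hL.pf_norm hs (pcr_pf H) (pcr_le H))
  have h7 : W ≤ L ⊔ CR H L ⊓ W := by
    rw [group_modl' ((hLW.trans h1.le).trans h6) hLW]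
    exact le_inf (h1.le.trans h5) le_rfl
  have h8 := hm (CR H L ⊓ W) ⟨⟨inf_le_right.trans h1.le, norm_inf h6 h1.norm⟩,
    h2.trans (sup_le le_sup_left (h7.trans (sup_le_sup_right (le_sSup hL) _)))⟩ inf_le_right
  exact absurd (hLW.trans (inf_eq_right.1 h8)) hL.not_le_CR

omit [Finite G] in
theorem norm_sup_of_comm (hL : L ≤ N[V]) (hS : S ≤ N[V]) (h : ⁅L, S⁆ ≤ V) : L ≤ N[S ⊔ V] :=
  coq_quo hS ▸ norm_coq hL (norm_of_cent ((quo_cents hL hS).2 h))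

theorem CC.exists_ge (hs : SQ H) (hk : KG H) (hT : Syl 2 H T) (hTJ : T ≤ J) (hJ : J ≤ H)
    (h : CC J L) : ∃ K, CC H K ∧ L ≤ K := by
  by_contra h1
  push Not at h1
  have hLH := h.le.trans hJ
  have key : ∀ K, CC H K → K ≤ CR H L := fun K hK => by
    refine (le_CR hLH).2 ⟨hK.le, commC L K ▸ ((le_CR hK.le).1 ?_).2⟩
    have n1 := hK.pf_norm hs h.pf hLH
    have h2 : ⁅L, K ⊓ J⁆ ≤ rad J :=
      (h.le_or_comm (hK.sbn.inf_of_le hJ)).resolve_left fun e => h1 K hK (e.trans inf_le_left)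
    have hS := hK.sbn.hall_inf hT
    have n2 : L ≤ N[rad J ⊓ K] := norm_inf (h.le.trans (rad_nml J).norm) n1
    have n3 : T ⊓ K ≤ N[rad J ⊓ K] :=
      norm_inf ((inf_le_left.trans hTJ).trans (rad_nml J).norm) (norm_of_le inf_le_right)
    have n4 := norm_sup_of_comm n2 n3 (le_inf ((comm_mono_right
      (le_inf inf_le_right (inf_le_left.trans hTJ))).trans h2)
      ((comm_mono_right inf_le_right).trans (comm_le_right n1)))
    have s1 : Sol (T ⊓ K ⊔ rad J ⊓ K) := sup_comm (rad J ⊓ K) _ ▸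
      ((rad_sol J).of_le inf_le_left).sup (hS.pi.sol Nat.prime_two) n3
    have c1 := norm_CR (norm_of_le hK.le) (norm_self K)
    have c2 := norm_CR (norm_of_le hLH) n1
    have h3 := (quo_le_quo_iff c2 c1).2 (hK.le_sup_CR hs hk h.pf hLH)
    have h4 := quo_norm (CR H K) n4
    have h5 := quo_mono (CR H K) (le_sup_left : T ⊓ K ≤ T ⊓ K ⊔ rad J ⊓ K)
    have h6 := ((hS.quo c1).of_le (h5.trans le_sup_left)
      (sup_le (quo_mono _ (sup_le inf_le_right inf_le_right)) h3)).idx_of_ge h5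
    rw [relIndex_sup_of_norm h4] at h6
    exact h.pf.le_of_sol_quo c2 ((s1.quo _).of_le ((h.pf.quo c2).le_of_odd_idx h4 h6))
  have hY := sSup_CC_nml H
  have h2 : L ≤ CR H (sSup {L | CC H L}) :=
    (le_CR hY.le).2 ⟨hLH, commC _ L ▸ ((le_CR hLH).1 (sSup_le key)).2⟩
  have h3 : CR H (sSup {L | CC H L}) ⊴ H := ⟨inf_le_left, norm_CR (norm_self H) hY.norm⟩
  obtain ⟨K, h4, hK⟩ := exists_CC (Nml.pcr h3).sbn (pcr_pf _)
    (ne_bot_of_le h.ne (h.pf.le_pcr h2))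
  exact hK.not_le_CR ((le_CR hK.le).2 ⟨hK.le, (comm_mono_right (le_sSup hK)).trans
    ((le_CR hY.le).1 (h4.trans (pcr_le _))).2⟩)

end H16.QT
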