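import Mathlib
import Cfsg.Agent.H16.QT7

/-!
Quasithin preliminaries, part 8: the members of `Ξ(G, T)`.
-/

set_option autoImplicit false

namespace H16.QT

open Cfsg H24 Subgroup
open H25 hiding abl_iff cyc_zpowers cyc_bot exists_prime_dvd_card cyc_cj
open H26
open scoped commutatorElement

universe u v

variable {G : Type u} [Group G] [Finite G]
variable {A B C D E F H J K L M N P Q R S T T₀ U V W X Y Z : Subgroup G} {p q r : ℕ}

theorem not_le_der1_cyc (hp : p.Prime) (h2 : p ≠ 2) (hN : Pf N) (hs : SQ (N ⊔ P)) (hP : IsPi {p} P)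
    (hn : P ≤ N[N]) (hU : Syl p (N ⊔ P) U) (hPU : P ≤ U) (hc : Cyc (U ⊓ N)) (h1 : U ⊓ N ≠ ⊥)
    (h : P ⊓ N ≤ ⁅P, P⁆) : Cyc P := by
  have hNY := nml_sup_left hn
  have hR : Syl p _ _ := hU.inf_nml hNY
  have hRU : U ⊓ N ⊴ U := hNY.inf_left hU.le
  have n1 : (N ⊔ P) ⊓ N[U] ≤ N[U ⊓ N] := norm_inf inf_le_right (inf_le_left.trans hNY.norm)
  obtain ⟨g, hg, hg', hgc⟩ : ∃ g ∈ (N ⊔ P) ⊓ N[U], PiElt {p}ᶜ g ∧ g ∉ C[U ⊓ N] := by
    by_contra h3
    push Not at h3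
    have h4 := (piNat_relIndex_iff (norm_C n1)).2 h3
    have h5 : ((N ⊔ P) ⊓ C[U ⊓ N]) ⊔ U ⊴ (N ⊔ P) ⊓ N[U ⊓ N] := nml_of_der1_le
      ((le_inf ((der1_le _).trans inf_le_left) (cyc_der1_norm_le_cent hc inf_le_right)).trans
        le_sup_left) (sup_le (inf_le_inf_left _ (C_le_N _)) (le_inf hU.le hRU.norm))
    have h6 := (Frattini_arg hp h5 (hU.of_le le_sup_right (sup_le inf_le_left hU.le))).sup_eq
    have h7 : N ⊓ N[U ⊓ N] ≤ C[U ⊓ N] ⊔ (N ⊔ P) ⊓ N[U] :=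
      (inf_le_inf_right _ le_sup_left).trans (h6.ge.trans (sup_le (sup_le
        (inf_le_right.trans le_sup_left) ((le_inf hU.le (norm_self U)).trans le_sup_right))
        ((inf_le_inf_right _ inf_le_left).trans le_sup_right)))
    have h8 := relIndex_dvd_of_nml (nml_sup_left (norm_C n1)) h7
    rw [relIndex_sup_of_norm (norm_C n1)] at h8
    exact hN.not_burnside hp hR h1 (relIndex_eq_one.1
      ((h4.dvd h8).eq_one (hR.subnorm.idx_of_ge hc.abl.le_C)))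
  have hgN : zpowers g ≤ N := le_of_idx_compl' hNY
    (hP.piNat.dvd (isProd_sup hn).relIndex_dvd) hg'.isPi (zpowers_le.2 hg.1)
  have cop := hR.pi.coprime hg'.isPi
  have h3 := coprime_isProd_of_comm_le (zpowers_le.2 (n1 hg)) cop (Or.inl hc.sol) inf_le_left
    (le_inf (comm_le_left (zpowers_le.2 hg.2))
      ((comm_mono_right hgN).trans (comm_le_right (hU.le.trans hNY.norm))))
  by_contra h4
  have h5 : ¬ Cyc (U ⊓ C[zpowers g]) := fun e => h4 (cyc_of_le_der1 hp hP (hPU.trans hRU.norm)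
    ((inf_le_inf_left _ inf_le_right).trans h)
    (((h3.quo_eq hRU.norm) ▸ e.quo (U ⊓ N)).of_le (quo_mono _ hPU)))
  have h6 := hU.pi.inf_left C[zpowers g]
  obtain ⟨A, hA⟩ := (prank_geP hp).1 (odd_pgroup_two_le_prank hp h6 (odd_of_pgroup hp h2 h6) h5)
  have hZ := cyc_omegaOne_pnElem hp hc (hR.pi.dvd_card h1)
  have h7 : omegaOne p (U ⊓ N) ≤ Z[U] := hZ.le_of_inf_ne_bot hp
    (meet_center_nil (hU.pi.nil hp) (hRU.omegaOne p) (hZ.ne_bot hp one_pos))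
  refine hgc (zpowers_le.1 (coprime_odd_faithful_Ohm1 hp hR.pi (zpowers_le.2 (n1 hg)) cop
    (odd_of_pgroup hp h2 hR.pi) (cents_symm fun z hz => ?_)))
  exact (hA.le (hs.mem hp h2 (hA.mono (inf_le_left.trans hU.le)) (hU.le (h7 hz).1)
    (C_anti (hA.le.trans inf_le_left) (h7 hz).2) (hZ.elem.2 z hz))).2

theorem not_le_der1 (hp : p.Prime) (h2 : p ≠ 2) (hN : Pf N) (hs : SQ (N ⊔ P)) (hP : IsPi {p} P)
    (hn : P ≤ N[N]) (he : ∀ x ∈ P, x ^ p = 1) (hd : p ∣ ♯N) (h : P ⊓ N ≤ ⁅P, P⁆) : Cyc P := by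
  obtain ⟨U, hU, hPU⟩ := Sylow_superset hp hP (le_sup_right : P ≤ N ⊔ P)
  have hNY := nml_sup_left hn
  by_cases hc : Cyc (U ⊓ N)
  · exact not_le_der1_cyc hp h2 hN hs hP hn hU hPU hc ((hU.inf_nml hNY).ne_bot hp rfl hd) h
  obtain ⟨E, hE, hE'⟩ := odd_normal_p2Elem_exists hp hU.pi (odd_of_pgroup hp h2 hU.pi)
    (hNY.inf_left hU.le) hc
  have n1 := hPU.trans hE.norm
  refine cyc_of_le_der1 hp hP (norm_C n1) (le_trans (le_inf inf_le_left fun x hx => (hE'.le ?_).2) h) ?_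
  · exact hs.mem hp h2 (hE'.mono (inf_le_left.trans hU.le)) (mem_sup_right hx.1) hx.2 (he x hx.1)
  · haveI := Fact.mk hp
    refine isCyclic_of_card_dvd_prime (p := p) ?_
    rw [card_quo (norm_C n1)]
    exact pgroup_relIndex_cent_abelem2 hp hP n1 hE'.elem hE'.card.dvd

theorem exists_inv_line (hV : Abl V) (h1 : V ≠ ⊥) (hT : T ≤ N[V]) (hc : T₀ ≤ C[V])
    (h : ∀ s ∈ T, ∀ t ∈ T, s ∉ T₀ → t ∉ T₀ → s⁻¹ * t ∈ T₀) :
    ∃ w ∈ V, w ≠ 1 ∧ T ≤ N[zpowers w] := by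
  obtain ⟨v, hv, hv1⟩ := exists_ne_one h1
  have key : ∀ w ∈ V, (∀ t ∈ T, t ∉ T₀ → t * w * t⁻¹ ∈ zpowers w) → T ≤ N[zpowers w] :=
    fun w hw h2 t ht => mem_N_of_cj_le (by
      rw [cj_zpowers, zpowers_le]
      by_cases h3 : t ∈ T₀
      · rw [conj_eq_of_mem_C (hc h3) hw]; exact mem_zpowers w
      · exact h2 t ht h3)
  by_cases h2 : ∀ t ∈ T, t ∉ T₀ → v * (t * v * t⁻¹) = 1
  · exact ⟨v, hv, hv1, key v hv fun t ht h3 =>
      eq_inv_of_mul_eq_one_right (h2 t ht h3) ▸ inv_mem (mem_zpowers v)⟩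
  push Not at h2
  obtain ⟨t, ht, h3, h4⟩ := h2
  have hu := conj_mem (hT ht) hv
  refine ⟨_, mul_mem hv hu, h4, key _ (mul_mem hv hu) fun s hs h5 => ?_⟩
  have e1 := conj_eq_of_mem_C (hc (h t ht s hs h3 h5)) (mul_mem hv hu)
  have e2 := conj_eq_of_mem_C (hc (h t⁻¹ (inv_mem ht) t ht (mt inv_mem_iff.1 h3) h3)) hv
  have e3 : s * (v * (t * v * t⁻¹)) * s⁻¹ = v * (t * v * t⁻¹) := by
    calc _ = t * (t⁻¹ * s * (v * (t * v * t⁻¹)) * (t⁻¹ * s)⁻¹) * t⁻¹ := by group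
      _ = t * v * t⁻¹ * (t⁻¹⁻¹ * t * v * (t⁻¹⁻¹ * t)⁻¹) := by rw [e1]; group
      _ = _ := by rw [e2, hV.comm hu hv]
  rw [e3]; exact mem_zpowers _

/-- the properties of a member `X` of `Ξ(G, T)`; `F` is `O_{2,Φ}(X)` -/
structure XI (p : ℕ) (X T F P : Subgroup G) : Prop where
  prime : p.Prime
  odd : p ≠ 2
  two : IsPi {2} T
  nX : T ≤ N[X]
  syl : Syl p X P
  gen : X ≤ O[{2}, X] ⊔ P
  OT : O[{2}, X] ≤ T
  OF : O[{2}, X] ≤ F
  le : F ≤ X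
  TF : T ≤ N[F]
  der : ⁅X, X⁆ ≤ F
  inf : P ⊓ F ≤ ⁅P, P⁆
  ncyc : ¬ Cyc P
  exp : ∀ x ∈ P, x ^ p = 1
  irr : ∀ N, N ⊴ X → T ≤ N[N] → X ≤ N ∨ N ≤ F

namespace XI

omit [Finite G] in
theorem nF (h : XI p X T F P) : F ⊴ X := nml_of_der1_le h.der h.le

theorem not_le (h : XI p X T F P) : ¬ P ≤ F := fun e =>
  h.ncyc (cyc_of_le_der1 h.prime h.syl.pi (h.syl.le.trans h.nF.norm) h.inf
    (by rw [quo_eq_bot_of_le e]; exact cyc_bot))

omit [Finite G] in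
theorem irr' (h : XI p X T F P) (h1 : X ≤ N[N]) (h2 : T ≤ N[N]) : X ≤ N ∨ P ⊓ N ≤ ⁅P, P⁆ :=
  (h.irr _ (nml_inf_of_norm h1) (norm_inf h.nX h2)).imp (·.trans inf_le_right) fun e =>
    (le_inf inf_le_left ((inf_le_inf_right _ h.syl.le).trans e)).trans h.inf

theorem le_of_syl (h : XI p X T F P) (h1 : X ≤ N[N]) (h2 : P ≤ N) : X ≤ N :=
  ((h.irr _ p_elt_gen_normal (norm_pEltGen h.nX)).resolve_right fun e =>
    h.not_le ((le_pEltGen h.syl.pi h.syl.le).trans e)).trans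
    ((pEltGen_le (nml_inf_of_norm h1) (h.syl.idx_of_ge (le_inf h.syl.le h2))).trans inf_le_right)

theorem pi (h : XI p X T F P) (h2 : r ≠ 2) (hr : r ≠ p) : IsPi {r}ᶜ X :=
  (((pcore_pi _ X).compl_of_ne h2.symm).sup (h.syl.pi.compl_of_ne hr.symm)
    (h.syl.le.trans (pcore_nml _ X).norm)).of_le h.gen

theorem le_O2 (h : XI p X T F P) (hY : Y ≤ X) (h1 : IsPi {p}ᶜ Y) : Y ≤ O[{2}, X] := by
  refine le_of_idx_compl' (pcore_nml _ X) (h.syl.pi.piNat.dvd ?_) h1 hY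
  have := (isProd_sup (h.syl.le.trans (pcore_nml {2} X).norm)).relIndex_dvd
  rwa [le_antisymm (sup_le (pcore_le _ X) h.syl.le) h.gen] at this

theorem le_comm (h : XI p X T F P) (h0 : T₀ ≤ T)
    (h1 : ∀ s ∈ T, ∀ t ∈ T, s ∉ T₀ → t ∉ T₀ → s⁻¹ * t ∈ T₀) : X ≤ ⁅X, T₀⁆ := by
  have h2 : T ≤ N[T₀] := by
    have := (nml_of_idx2 (or_iff_not_imp_left.2 fun hn => idx2 hn h1)).1.norm
    rwa [inf_eq_right.2 h0] at this
  refine (h.irr _ ⟨comm_le_left (h0.trans h.nX), norm_comm_left _ _⟩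
    (norm_comm h.nX h2)).resolve_right fun e => ?_
  have hN := h.nF.norm
  obtain ⟨w, hw, h3, h4⟩ := exists_inv_line (T := quo T F) (T₀ := quo T₀ F) ((abl_quo hN).2 h.der)
    (fun e => h.not_le (h.syl.le.trans ((quo_eq_bot hN).1 e))) (quo_norm F h.nX)
    (cents_symm ((quo_cents hN (h0.trans h.TF)).2 e)) (by
      intro s' hs0 t' ht0 h3 h4
      obtain ⟨s, hs, hs', rfl⟩ := mem_quo.1 hs0
      obtain ⟨t, ht, ht', rfl⟩ := mem_quo.1 ht0
      have := cs_mem_quo (h1 s hs t ht (fun e => h3 (cs_mem_quo e hs'))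
        (fun e => h4 (cs_mem_quo e ht'))) (mul_mem (inv_mem hs') ht')
      rwa [cs, ap_mul _ (inv_mem hs') ht', ap_inv _ hs'] at this)
  rcases h.irr _ (nml_of_der1_le (h.der.trans (le_coq _))
    (coq_le_of_le_quo h.nF (zpowers_le.2 hw))) (norm_coq h.TF h4) with h5 | h5
  · exact h.ncyc (cyc_of_le_der1 h.prime h.syl.pi (h.syl.le.trans hN) h.inf ((cyc_zpowers w).of_le
      ((quo_le_iff (h.syl.le.trans hN)).2 (h.syl.le.trans h5))))
  · have := quo_eq_bot_of_le h5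
    rw [quo_coq, zpowers_eq_bot] at this
    exact h3 this

theorem le_der1 (h : XI p X T F P) (h1 : X ≤ A) (h2 : T ≤ A) : X ≤ ⁅A, A⁆ :=
  (h.le_comm le_rfl fun _ hs _ _ h3 => absurd hs h3).trans (commutator_mono h1 h2)

theorem le_ker (h : XI p X T F P) (hM : Rk2 r A M) (h1 : X ≤ A) (h2 : T ≤ A) : X ≤ M :=
  (h.irr' (h1.trans hM.nml.norm) (h2.trans hM.nml.norm)).resolve_right fun e =>
    h.ncyc (hM.cy p h.prime h.odd P (h.syl.le.trans (h.le_der1 h1 h2)) h.syl.pi e)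

theorem quo (h : XI p X T F P) (hN : IsPi {2} N) (h1 : X ≤ N[N]) (h2 : T ≤ N[N]) :
    XI p (quo X N) (quo T N) (quo F N) (quo P N) := by
  have hO : H24.quo O[{2}, X] N = O[{2}, H24.quo X N] :=
    img_pcore_of_inj _ _ h1 (by rw [ker_coset]; exact hN.inf_left X)
  have hP := h.syl.le.trans h1
  have hF := h.le.trans h1
  have hNX : N ⊓ X ≤ F := (pcore_max (hN.inf_left X) (nml_inf_of_norm' h1)).trans h.OF
  have key : ∀ Y ≤ X, Y ⊓ (F ⊔ N) ≤ F := fun Y hY => by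
    refine (inf_le_inf_right _ hY).trans ?_
    rw [inf_comm, ← group_modl' hF h.le]
    exact sup_le le_rfl hNX
  refine ⟨h.prime, h.odd, h.two.quo N, quo_norm N h.nX, h.syl.quo h1, ?_, hO ▸ quo_mono N h.OT,
    hO ▸ quo_mono N h.OF, quo_mono N h.le, quo_norm N h.TF, quo_comm h1 h1 ▸ quo_mono N h.der, ?_,
    fun e => h.ncyc (cyc_of_quo hP ((hN.compl_of_ne h.odd.symm).inf_eq_bot' h.syl.pi) e), ?_, ?_⟩
  · rw [← hO, ← quo_sup ((pcore_le _ X).trans h1) hP]; exact quo_mono N h.gen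
  · rw [← quo_sup_right hF, ← quo_inf P (nml_sup_right hF), ← quo_comm hP hP]
    exact quo_mono N ((le_inf inf_le_left (key P h.syl.le)).trans h.inf)
  · intro x' hx0
    obtain ⟨x, hx, hx', rfl⟩ := mem_quo.1 hx0
    rw [cs, ← ap_pow _ hx', h.exp x hx, ap_one]
  · intro M hM h3
    refine (h.irr (X ⊓ coq N M) (nml_inf_of_norm (norm_coq h1 hM.norm))
      (norm_inf h.nX (norm_coq h2 h3))).imp (fun e => ?_) fun e => ?_
    · exact (quo_le_iff h1).2 (e.trans inf_le_right)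
    · have := quo_mono N e
      rwa [quo_inf_coq, inf_eq_right.2 hM.le] at this

theorem cent_pcore (h : XI p X T F P) (hs : SQ H) (hr : r.Prime) (h2 : r ≠ 2) (hrp : r ≠ p)
    (hR : IsPi {r} R) (hRH : R ≤ H) (h3 : X ≤ N[R]) (h4 : T ≤ N[R]) : X ≤ C[R] := by
  obtain ⟨M, hM, hc⟩ := hs.exists_rk2 hr h2 hR hRH (sup_le h3 h4)
  exact fun x hx => hc x (h.le_ker hM le_sup_left le_sup_right hx) ((h.pi h2 hrp).piElt hx)

/-- a member of `Ξ` inside a normal `p`-subgroup is normal -/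
theorem nml_of_le (h : XI p X T F P) (hs : SQ H) (hT : T ≤ H) (hX : X ≤ O[{p}, H]) :
    H ≤ N[X] := by
  have hp := h.prime
  have hR := pcore_pi {p} H
  have hRH := pcore_nml {p} H
  obtain rfl : P = X := h.syl.eq_self (hR.of_le hX)
  have hPp := h.syl.pi
  obtain ⟨A, hA⟩ := (prank_geP hp).1
    (odd_pgroup_two_le_prank hp hPp (odd_of_pgroup hp h.odd hPp) h.ncyc)
  have hA' := hA.mono (hX.trans hRH.le)
  have hR1 : O[{p}, H] ≠ ⊥ := ne_bot_of_le (ne_bot_of_not_cyc h.ncyc) hX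
  have cen : ∀ z ∈ H, z ∈ C[P] → z ^ p = 1 → z ∈ P := fun z hz hc hzp =>
    hA.le (hs.mem hp h.odd hA' hz (C_anti hA.le hc) hzp)
  have hZ : omegaOne p Z[O[{p}, H]] ≤ P := omegaOne_le_iff.2 fun z hz hzp =>
    cen z (hRH.le hz.1) (C_anti hX hz.2) hzp
  have hZ1 : omegaOne p Z[O[{p}, H]] ≠ ⊥ :=
    omegaOne_ne_bot_of_pgroup (hR.inf_left _) ((hR.nil hp).center_ne_bot hR1)
  have hZn : H ≤ N[omegaOne p Z[O[{p}, H]]] := norm_omegaOne p (norm_Z hRH.norm)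
  rcases h.irr' ((hX.trans hRH.le).trans hZn) (hT.trans hZn) with h1 | h1
  · rwa [← le_antisymm hZ h1]
  rw [inf_eq_right.2 hZ] at h1
  have hna : ¬ Abl P := fun e => hZ1 (eq_bot_of_le (der1_eq_bot.2 e) h1)
  have hrk : ∀ Y ≤ O[{p}, H], rank Y ≤ 2 := fun Y hY => by
    rw [rank_pgroup hp (hR.of_le hY)]; exact hs.mono (hY.trans hRH.le) p hp h.odd
  have h3 : ♯P = p ^ 3 := by
    refine eq_pow_succ_of_not_dvd hp (rank2_exponent_p_p3group hp hPp (hrk P hX) h.exp) fun e => ?_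
    exact hna (eq_of_card_ge hA.le (hA.card ▸ Nat.le_of_dvd (pow_pos hp.pos 2) e) ▸ hA.abl)
  obtain ⟨h4, h5⟩ := Ohm1_odd_ucn2 hp hR (odd_of_pgroup hp h.odd hR)
    fun e => h.ncyc (e.of_le hX)
  have hW : omegaOne p (ucn 2 O[{p}, H]) ≤ O[{p}, H] := (omegaOne_le _ _).trans (ucn_le _ _)
  have hWn : H ≤ N[omegaOne p (ucn 2 O[{p}, H])] := norm_omegaOne p (norm_ucn 2 hRH.norm)
  have h6 : omegaOne p (ucn 2 O[{p}, H]) ≤ P := by
    have h7 : ⁅P, omegaOne p (ucn 2 O[{p}, H])⁆ ≤ ⁅P, P⁆ := by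
      rw [commC]
      exact (comm_mono_right hX).trans
        ((comm_Ohm1_ucn2_le hp hR (odd_of_pgroup hp h.odd hR)).trans h1)
    have n1 := norm_of_comm_le_left (h7.trans (der1_le P))
    have h8 := p3group_cent_cprod hp (le_sup_left : P ≤ P ⊔ omegaOne p (ucn 2 O[{p}, H])) h3 hna
      (comm_sup_le_right (der1_nml P).norm (norm_der1 n1) (der1_nml P).norm le_rfl h7)
    intro w hw
    obtain ⟨s, hs', c, hc, rfl⟩ := h8.isProd.mul w (mem_sup_right hw)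
    refine mul_mem hs' (cen c (hRH.le (sup_le hX hW hc.1)) hc.2 ?_)
    have := h5 _ hw
    rwa [Commute.mul_pow (mem_C.1 hc.2 s hs'), h.exp s hs', one_mul] at this
  rcases h.irr' ((hX.trans hRH.le).trans hWn) (hT.trans hWn) with h7 | h7
  · rwa [← le_antisymm h6 h7]
  rw [inf_eq_right.2 h6] at h7
  refine absurd (Cyc.of_le ?_ h7) h4
  haveI := Fact.mk hp
  refine isCyclic_of_card_dvd_prime (p := p) ?_
  have h8 := (der1_nml P).card_quo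
  have h9 : p ^ 2 ∣ ♯(H24.quo P ⁅P, P⁆) := by
    obtain ⟨B, hB⟩ := (prank_geP hp).1 (odd_pgroup_two_le_prank hp (hPp.quo ⁅P, P⁆)
      (odd_quo (odd_of_pgroup hp h.odd hPp) _) fun e => h.ncyc ((hPp.nil hp).cyc_of_quo_der1 e))
    exact hB.dvd_card
  rw [h3, pow_succ'] at h8
  exact Nat.dvd_of_mul_dvd_mul_right (pow_pos hp.pos 2)
    ((Nat.mul_dvd_mul_left _ h9).trans h8.dvd)

end XI

end H16.QT
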