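import Mathlib
import Cfsg.Agent.H16.QT8

/-!
Quasithin preliminaries, part 9: members of `Ξ(G, T)` are normal or lie in a `𝒞`-component.
-/

set_option autoImplicit false

namespace H16.QT

open Cfsg H24 Subgroup
open H25 hiding abl_iff cyc_zpowers cyc_bot exists_prime_dvd_card cyc_cj
open H26
open scoped commutatorElement

universe u v

variable {G : Type u} [Group G] [Finite G]
variable {A B C D E F H J K L M N P Q R S T T₀ U V W X Y Z : Subgroup G} {p q r : ℕ}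

theorem nml_sSup_of_cj {Φ : Subgroup G → Prop} (h1 : ∀ L, Φ L → L ≤ H)
    (h2 : ∀ L, Φ L → ∀ g ∈ H, Φ (cj g L)) : sSup {L | Φ L} ⊴ H :=
  ⟨sSup_le h1, fun g hg => mem_N_of_le_cj (sSup_le fun L hL =>
    le_cj_iff.2 (le_sSup (h2 L hL _ (inv_mem hg))))⟩

omit [Finite G] in
theorem le_conjClosure (L T : Subgroup G) : L ≤ conjClosure L T :=
  le_iSup_of_le 1 (cj_one L).ge

omit [Finite G] in
theorem cj_le_conjClosure (L : Subgroup G) {t : G} (ht : t ∈ T) : cj t L ≤ conjClosure L T :=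
  le_iSup_of_le ⟨t, ht⟩ le_rfl

omit [Finite G] in
theorem conjClosure_le (h : ∀ t ∈ T, cj t L ≤ Y) : conjClosure L T ≤ Y :=
  iSup_le fun t => h t t.2

omit [Finite G] in
theorem conjClosure_le_sup (L T : Subgroup G) : conjClosure L T ≤ L ⊔ T :=
  conjClosure_le fun _ ht => cj_le_of_mem le_sup_left (mem_sup_right ht)

theorem mem_N_conjClosure {g : G} (h : ∀ t ∈ T, ∃ s ∈ T, cj (g⁻¹ * t) L = cj s L) :
    g ∈ N[conjClosure L T] :=
  mem_N_of_le_cj (conjClosure_le fun t ht => by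
    obtain ⟨s, hs, e⟩ := h t ht
    rw [le_cj_iff, ← cj_mul, e]
    exact cj_le_conjClosure L hs)

theorem norm_conjClosure (L T : Subgroup G) : T ≤ N[conjClosure L T] := fun _ hg =>
  mem_N_conjClosure fun _ ht => ⟨_, mul_mem (inv_mem hg) ht, rfl⟩

omit [Finite G] in
theorem Pf.conjClosure (h : Pf L) (T : Subgroup G) : Pf (conjClosure L T) :=
  le_antisymm (der1_le _) (conjClosure_le fun t ht => (h.cj t).le_der1 (cj_le_conjClosure L ht))

namespace XI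

theorem norm_CC (h : XI p X T F P) (hs : SQ H) (hX : X ≤ H) (hL : CC H L) : X ≤ N[L] := by
  have h1 := (nml_of_idx2 (hL.idx hs)).1
  exact (h.le_of_syl (hX.trans h1.norm) (le_inf (h.syl.le.trans hX) (hL.odd_norm hs
    (h.syl.pi.compl_of_ne h.odd) (h.syl.le.trans hX)))).trans inf_le_right

theorem le_pcore (h : XI p X T F P) (hs : SQ H) (hO : O[{2}, H] = ⊥) (hT : T ≤ H) (hX : X ≤ H)
    (hc : ∀ L, CC H L → IsQuasisimple L → X ≤ C[L]) : X ≤ O[{p}, H] := by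
  have hp := h.prime
  have hR := pcore_nml {p} H
  obtain ⟨M, hM, hMc⟩ := hs.exists_rk2 hp h.odd (pcore_pi _ H) hR.le hR.norm
  have hE : sSup {L | CC H L ∧ IsQuasisimple L} ⊴ H := nml_sSup_of_cj (fun _ h => h.1.le)
    fun L hL g hg => ⟨hL.1.cj (norm_self H hg), H23.IsQuasisimple.of_equiv hL.2 (cjEquiv g L)⟩
  have hF' := pcore_Fitting_nml {p}ᶜ H
  obtain ⟨W, hW⟩ : ∃ W, W = M ⊓ C[O[{p}ᶜ, F[H]]] ⊓ C[sSup {L | CC H L ∧ IsQuasisimple L}] :=
    ⟨_, rfl⟩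
  have w1 : W ≤ M := hW.le.trans (inf_le_left.trans inf_le_left)
  have w2 : W ≤ C[O[{p}ᶜ, F[H]]] := hW.le.trans (inf_le_left.trans inf_le_right)
  have w3 : W ≤ C[sSup {L | CC H L ∧ IsQuasisimple L}] := hW.le.trans inf_le_right
  have w4 : W ⊴ H := ⟨w1.trans hM.nml.le,
    hW ▸ norm_inf (norm_inf hM.nml.norm (norm_C hF'.norm)) (norm_C hE.norm)⟩
  have w5 : X ≤ W := by
    rw [hW]
    refine le_inf (le_inf (h.le_ker hM hX hT) (cents_symm ?_))
      (cents_symm (sSup_le fun L hL => cents_symm (hc L hL.1 hL.2)))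
    refine ((Fitting_nil H).of_le (pcore_le _ _)).le_of_pcore_le fun r hr hd => ?_
    refine (hF'.pcore_le {r}).trans (cents_symm ?_)
    by_cases h2 : r = 2
    · subst h2; rw [hO, C_bot]; exact le_top
    · exact h.cent_pcore hs hr h2 (pcore_pi _ _ r hr hd) (pcore_pi _ H) (pcore_le _ H)
        (hX.trans (pcore_nml _ H).norm) (hT.trans (pcore_nml _ H).norm)
  have v1 : W ⊓ C[O[{p}, H]] ⊴ H := ⟨inf_le_left.trans w4.le, norm_inf w4.norm (norm_C hR.norm)⟩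
  have v2 : W ⊓ C[O[{p}, H]] ≤ C[F[H]] := by
    rw [(Fitting_nil H).C_eq {p}, p_core_Fitting hp]
    exact le_inf inf_le_right (inf_le_left.trans w2)
  have v3 : Sol (W ⊓ C[O[{p}, H]]) := by
    by_contra h1
    obtain ⟨L, h2, hL⟩ := exists_CC (Nml.pcr v1).sbn (pcr_pf _) (mt sol_iff_pcr.2 h1)
    have h3 := h2.trans (pcr_le _)
    exact hL.not_sol (abl_iff.2 (cents_of_le (h3.trans (inf_le_left.trans w3))
      (le_sSup ⟨hL, hL.qs_of_cent (h3.trans v2)⟩))).sol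
  have v4 : W ⊓ C[O[{p}, H]] ≤ F[H] := Fitting_rad H ▸
    le_Fitting_of_cent (rad_sol H) (le_rad v1 v3) (by rwa [Fitting_rad])
  have v5 := (Fitting_nil H).of_le v4
  have z1 : O[{p}ᶜ, W ⊓ C[O[{p}, H]]] ≤ Z[W] := le_inf ((pcore_le _ _).trans inf_le_left)
    (cents_symm (cents_of_le w2 ((Fitting_nil H).pcore_mono _ v4)))
  have z2 : IsPi {p} (H24.quo W O[{p}ᶜ, W ⊓ C[O[{p}, H]]]) := by
    rw [isPi_quo_iff (nml_of_le_center z1).norm, piNat_relIndex_iff (nml_of_le_center z1).norm]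
    exact fun x hx hx' => v5.mem_pcore hx' ⟨hx, hMc x (w1 hx) hx'⟩
  exact h.le_of_syl (hX.trans hR.norm) (le_pcore_of_le_Fitting h.syl.pi ((h.syl.le.trans w5).trans
    (Fitting_max w4 (nil_of_quo_center z1 (z2.nil hp)))))

section B2

variable (h : XI p X T F P) (hs : SQ H) (hO : O[{2}, H] = ⊥) (hT : Syl 2 H T) (hX : X ≤ H)
  (hL : CC H L) (hd : ¬ p ∣ ♯L)
include h hs hT hX hL hd

omit hT in
theorem norm_syl : X ≤ N[T ⊓ L] := by
  have h1 := h.norm_CC hs hX hL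
  have h2 : ⁅T ⊓ L, X⁆ ≤ L := (comm_mono_left inf_le_right).trans (comm_le_left h1)
  exact norm_of_comm_le_left (le_inf ((h.le_O2 ((comm_mono_left inf_le_left).trans
    (comm_le_right h.nX)) (((isPi_compl_iff h.prime).2 hd).of_le h2)).trans h.OT) h2)

include hO

omit hd in
theorem le_der1_N : X ≤ ⁅X ⊔ T ⊓ N[L], X ⊔ T ⊓ N[L]⁆ :=
  (h.le_comm inf_le_left fun s hs' t ht h1 h2 => ⟨T.mul_mem (T.inv_mem hs') ht,
    hL.two_conj hs hO (hT.le hs') (hT.le ht) (fun e => h1 ⟨hs', e⟩) fun e => h2 ⟨ht, e⟩⟩).trans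
    (commutator_mono le_sup_left le_sup_right)

theorem comm_norm_syl : ⁅P, L ⊓ N[T ⊓ L]⁆ ≤ T ⊓ L := by
  have hS : Syl 2 _ _ := hL.sbn.hall_inf hT
  have n1 := h.norm_CC hs hX hL
  have n2 := h.norm_syl hs hX hL hd
  have hL' := (isPi_compl_iff h.prime).2 hd
  have n3 : X ⊔ T ⊓ N[L] ≤ N[T ⊓ L] :=
    sup_le n2 (norm_inf (norm_of_le inf_le_left) inf_le_right)
  have n5 : ∀ r, H24.quo (X ⊔ T ⊓ N[L]) (T ⊓ L) ≤
      N[O[{r}, H24.quo (L ⊓ N[T ⊓ L]) (T ⊓ L)]] := fun r =>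
    norm_pcore _ (quo_norm _ (norm_inf (sup_le n1 inf_le_right) (norm_N n3)))
  refine comm_le_of_pcore hS.subnorm inf_le_right
    (h.syl.le.trans (norm_inf n1 (norm_N n2))) (h.syl.le.trans n2)
    (Or.inr ((hL'.inf_left _).coprime' h.syl.pi)) fun r hr h2 =>
      (quo_mono _ h.syl.le).trans ?_
  by_cases hrp : r = p
  · subst hrp
    rw [((hL'.inf_left _).quo _).pcore_eq_bot, C_bot]; exact le_top
  by_cases hn : H ≤ N[L]
  · rw [inf_eq_left.2 (hT.le.trans hn)] at n3 n5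
    exact (h.quo hS.pi n2 (le_sup_right.trans n3)).cent_pcore
      ((hs.mono inf_le_left).quo (inf_le_right : H ⊓ N[T ⊓ L] ≤ _) hS.pi) hr h2 hrp (pcore_pi _ _)
      ((pcore_le _ _).trans (quo_mono _ (inf_le_inf_right _ hL.le)))
      ((quo_mono _ le_sup_left).trans (n5 r)) ((quo_mono _ le_sup_right).trans (n5 r))
  · refine (quo_mono _ (h.le_der1_N hs hO hT hX hL)).trans ?_
    rw [quo_comm n3 n3]
    exact cyc_der1_norm_le_cent (cyc_pcore_quo hr h2 hS.pi inf_le_right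
      ((prank_mono hr inf_le_left).trans (hL.prank_le_one hs hO hn hr h2))) (n5 r)

theorem cent_of_not_dvd (hk : KG H) (hq : IsQuasisimple L) : X ≤ C[L] := by
  have hp := h.prime
  have n1 := h.norm_CC hs hX hL
  have nP := h.syl.le.trans n1
  have hN := (center_nml L).norm
  have hd' : ¬ p ∣ ♯(H24.quo L Z[L]) := fun e => hd (e.trans (card_quo_dvd _ _))
  have cop : ∀ a ∈ H24.quo P Z[L], (orderOf a).Coprime ♯(H24.quo L Z[L]) := fun a ha =>
    PiNat.coprime ((h.syl.pi.quo _).piElt ha) ((isPi_compl_iff hp).2 hd')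
  refine h.le_of_syl (norm_C n1) ?_
  rcases (hk.ka hL.le hN (sp_quo hq)).1 with h1 | ⟨-, h1, r, hr, hr2, h2⟩ | ⟨-, h1⟩ | h1 | h1 | h1
  · exact absurd h1 (hs.mono hL.le).not_G3
  · have hn : H ≤ N[L] := by
      by_contra hn
      obtain ⟨R, hR⟩ := Sylow_exists hr L
      obtain ⟨A, hA⟩ := h2.syl hN hr hr2 hR
      have := (hA.mono hR.le).le_prank hr
      have := hL.prank_le_one hs hO hn hr hr2
      omega
    refine h.syl.le.trans ((h.irr' (norm_C n1) (norm_C (hT.le.trans hn))).resolve_right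
      fun e => h.ncyc ?_)
    refine cyc_of_quo (norm_Z nP) ((((isPi_compl_iff hp).2 hd).inf_left _).inf_eq_bot' h.syl.pi)
      (cyc_of_img_cyc hp (h.syl.pi.quo _) _ le_rfl ?_
        (h1.cyc hp hd' (h.syl.pi.quo _) (quo_norm _ nP)))
    rintro y ⟨hy, hy'⟩
    obtain ⟨x, hx, hx', rfl⟩ := mem_quo.1 hy
    rw [← quo_comm (norm_Z nP) (norm_Z nP)]
    refine cs_mem_quo (e ⟨hx, zpowers_le.1 (cent_of_quo hL.pf (zpowers_le.2 (nP hx)) ?_)⟩) hx'
    rw [quo_zpowers hx', zpowers_le]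
    exact ker_conjAct _ hy'
  · have n2 : X ⊔ T ⊓ N[L] ≤ N[L] := sup_le n1 inf_le_right
    refine cent_of_quo hL.pf nP fun a ha => h1.mem (quo_norm _ n2) ?_ (cop a ha)
    rw [← quo_comm (norm_Z n2) (norm_Z n2)]
    exact quo_mono _ (h.syl.le.trans (h.le_der1_N hs hO hT hX hL)) ha
  · exact (hs.mono hL.le).cent_of_N1 hq hp hd' h1.1 h.syl.pi nP
  · exact (hs.mono hL.le).cent_of_N1 hq hp hd' (h1 ▸ N1_J1) h.syl.pi nP
  · have hS : Syl 2 _ _ := hL.sbn.hall_inf hT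
    have hS' : Syl 2 _ _ := hS.quo hN
    obtain ⟨h2, h3, -⟩ := h1.ambient hS'
    refine cent_of_quo hL.pf nP fun a ha => h3 a (quo_norm _ nP ha) (cop a ha)
      (h2.cop hS'.pi hp h.odd (h.syl.pi.quo _) hd'
        (quo_norm _ (h.syl.le.trans (h.norm_syl hs hX hL hd))) ?_ ha)
    refine (comm_mono_right (quo_norm_syl hS)).trans ?_
    rw [← quo_comm (norm_Z nP) (inf_le_left.trans hN)]
    exact quo_mono _ (h.comm_norm_syl hs hO hT hX hL hd)

end B2

theorem main' (h : XI p X T F P) (hs : SQ H) (hk : KG H) (hO : O[{2}, H] = ⊥) (hT : Syl 2 H T)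
    (hX : X ≤ H) : H ≤ N[X] ∨ ∃ L, CC H L ∧ IsQuasisimple L ∧ X ≤ L ⊔ T := by
  by_cases hc : ∀ L, CC H L → IsQuasisimple L → X ≤ C[L]
  · exact Or.inl (h.nml_of_le hs hT.le (h.le_pcore hs hO hT.le hX hc))
  push Not at hc
  obtain ⟨L, hL, hq, hc⟩ := hc
  refine Or.inr ⟨L, hL, hq, le_trans ?_ (conjClosure_le_sup L T)⟩
  have hd : p ∣ ♯L := by
    by_contra hd
    exact hc (h.cent_of_not_dvd hs hO hT hX hL hd hk hq)
  have n1 : X ≤ N[conjClosure L T] :=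
    norm_iSup fun t => h.norm_CC hs hX (hL.cj (norm_self H (hT.le t.2)))
  refine (h.irr' n1 (norm_conjClosure L T)).resolve_right fun e => h.ncyc ?_
  exact not_le_der1 h.prime h.odd (hL.pf.conjClosure T) (hs.mono (sup_le
    ((conjClosure_le_sup L T).trans (sup_le hL.le hT.le)) (h.syl.le.trans hX))) h.syl.pi
    (h.syl.le.trans n1) h.exp (hd.trans (card_dvd (le_conjClosure L T))) e

theorem main (h : XI p X T F P) (hs : SQ H) (hk : KG H) (hT : Syl 2 H T) (hX : X ≤ H) :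
    H ≤ N[X] ∨ ∃ L, CC H L ∧ IsQuasisimple (H24.quo L O[{2}, H]) ∧ X ≤ L ⊔ T := by
  have hO := pcore_nml {2} H
  have hOT : O[{2}, H] ≤ T := pcore_le_Hall hT
  refine ((h.quo (pcore_pi _ H) (hX.trans hO.norm) (hT.le.trans hO.norm)).main' hs.bar (hk.quo _)
    (pcore_quo_pcore _ H) (hT.quo hO.norm) (quo_mono _ hX)).imp (fun h1 => ?_) ?_
  · have h2 := norm_coq hO.norm h1
    rw [coq_quo (hX.trans hO.norm)] at h2
    have h3 := nml_sup_left (hOT.trans h.nX)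
    have h4 : pEltGen p (X ⊔ O[{2}, H]) = X := le_antisymm (pEltGen_le h3
      (((pcore_pi {2} H).compl_of_ne h.odd.symm).piNat.dvd
        (isProd_sup (hOT.trans h.nX)).relIndex_dvd))
      (h.le_of_syl (norm_pEltGen (norm_of_le le_sup_left))
        (le_pEltGen h.syl.pi (h.syl.le.trans le_sup_left)))
    exact h4 ▸ norm_pEltGen h2
  · rintro ⟨L, hL, hq, h1⟩
    obtain ⟨h2, h3⟩ := CC.coq hO (O2_sol H) hL
    refine ⟨_, h2, h3.symm ▸ hq, le_of_quo_le (hX.trans hO.norm)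
      (hO.of_le (hOT.trans le_sup_right) (sup_le h2.le hT.le)) ?_⟩
    rwa [quo_sup (h2.le.trans hO.norm) (hT.le.trans hO.norm), h3]

end XI

end H16.QT
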