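import Mathlib
import Cfsg.Agent.H16.QT9

/-!
Quasithin preliminaries, part 10: translation into the language of the statements.
-/

set_option autoImplicit false

namespace H16.QT

open Cfsg H24 Subgroup
open H25 hiding abl_iff cyc_zpowers cyc_bot exists_prime_dvd_card cyc_cj
open H26
open scoped commutatorElement

universe u v

/-- The facts about the known simple groups. -/
def KN : Prop :=
  ∀ (K : Type u) [Group K] [Finite K], IsSimpleGroup K → ¬ IsMulCommutative K →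
    IsKnownSimple' K → KA K

variable {G : Type u} [Group G] [Finite G]
variable {A B C D E F H J K L M N P Q R S T U V W X Y Z : Subgroup G} {p q r : ℕ}

theorem O2_ne_iff : O[{2}, H] ≠ ⊥ ↔ pCore 2 H ≠ ⊥ := by
  rw [pcore_singleton Nat.prime_two, Ne, map_eq_bot_iff_of_injective _ H.subtype_injective]

theorem twoLocal_N (h : O[{2}, H] ≠ ⊥) : IsTwoLocal N[O[{2}, H]] :=
  ⟨_, (pcore_pi _ H).isPGroup Nat.prime_two, h, rfl⟩

theorem O2_ne_of_twoLocal (h : IsTwoLocal M) : O[{2}, M] ≠ ⊥ := by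
  obtain ⟨Q, hQ, h1, rfl⟩ := h
  exact ne_bot_of_le_ne_bot h1 (pcore_max (isPi_of_isPGroup Nat.prime_two hQ) (nml_N Q))

theorem qt_sq (hQ : IsQTKE G) (hH : O[{2}, H] ≠ ⊥) : SQ H := fun p hp h2 =>
  (prank_mono hp (pcore_nml _ H).norm).trans ((prank_le_iff hp).2 (hQ.1 p hp h2 _ (twoLocal_N hH)))

theorem ne_top_of_O2 [IsSimpleGroup G] (hG : ¬ IsMulCommutative G) (hH : O[{2}, H] ≠ ⊥) :
    H ≠ ⊤ := by
  rintro rfl
  have hs : Sp (⊤ : Subgroup G) := ⟨topEquiv.isSimpleGroup, mt abl_top_iff.1 hG⟩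
  exact hs.not_sol ((hs.eq_or (pcore_nml _ _)).resolve_left hH ▸ O2_sol ⊤)

omit [Finite G] in
theorem kg_of_surj {G' : Type u} [Group G'] [Finite G'] (kn : KN.{u})
    (h : IsKGroupWith IsKnownSimple' G') (A : Subgroup G') (K : Type u) [Group K] (f : A →* K)
    (hf : Function.Surjective f) (hs : IsSimpleGroup K) (hn : ¬ IsMulCommutative K) : KA K := by
  have e := QuotientGroup.quotientKerEquivOfSurjective f hf
  have h1 : IsSimpleGroup (A ⧸ f.ker) := e.isSimpleGroup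
  have h2 : ¬ IsMulCommutative (A ⧸ f.ker) := fun hc => hn ⟨⟨fun a b => e.symm.injective (by
    rw [map_mul, map_mul, hc.is_comm.comm])⟩⟩
  haveI : Finite K := Finite.of_surjective f hf
  exact KA.of_equiv e.symm (kn _ h1 h2 (h A f.ker h1 h2))

theorem qt_kg_top [IsSimpleGroup G] (kn : KN.{u}) (hG : ¬ IsMulCommutative G) (hQ : IsQTKE G)
    (hH : O[{2}, H] ≠ ⊥) : KG (⊤ : Subgroup H) := fun A _ K _ f hf hs hn =>
  kg_of_surj kn (hQ.2.1 H (ne_top_of_O2 hG hH)) A K f hf hs hn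

theorem qt_kg [IsSimpleGroup G] (kn : KN.{u}) (hG : ¬ IsMulCommutative G) (hQ : IsQTKE G)
    (hH : O[{2}, H] ≠ ⊥) : KG H := fun A hA K _ f hf hs hn =>
  kg_of_surj kn (hQ.2.1 H (ne_top_of_O2 hG hH)) (A.subgroupOf H) K
    (f.comp (subgroupOfEquivOfLe hA).toMonoidHom) (hf.comp (subgroupOfEquivOfLe hA).surjective) hs hn

omit [Finite G] in
theorem mem_calC : L ∈ calC G ↔ CC ⊤ L := by
  constructor
  · rintro ⟨h1, h2, h3, h4⟩
    refine ⟨h1, h2, sbn_top_iff.2 h3, fun K hK a b c => ?_⟩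
    by_contra hne
    exact h4 K (lt_of_le_of_ne hK hne) ⟨a, b, sbn_top_iff.1 c⟩
  · intro h
    exact ⟨h.ne, h.pf, sbn_top_iff.1 h.sbn, fun K hK ⟨a, b, c⟩ =>
      hK.ne (h.min K hK.le a b (sbn_top_iff.2 c))⟩

omit [Finite G] in
theorem pf_subgroupOf (hL : L ≤ H) : Pf (L.subgroupOf H) ↔ Pf L := by
  unfold Pf
  rw [← subgroupOf_comm hL hL, subgroupOf_inj, inf_eq_left.2 hL,
    inf_eq_left.2 ((der1_le L).trans hL)]

omit [Finite G] in
theorem cc_subgroupOf (hL : L ≤ H) : L.subgroupOf H ∈ calC H ↔ CC H L := by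
  rw [mem_calC]
  have hb : ∀ K : Subgroup G, K ≤ H → (K.subgroupOf H ≠ ⊥ ↔ K ≠ ⊥) := fun K hK => by
    rw [Ne, subgroupOf_eq_bot, disjoint_iff, inf_eq_left.2 hK]
  constructor
  · intro h
    refine ⟨(hb L hL).1 h.ne, (pf_subgroupOf hL).1 h.pf, ⟨hL, sbn_top_iff.1 h.sbn⟩,
      fun K hK a b c => ?_⟩
    have := h.min (K.subgroupOf H) (subgroupOf_mono H hK) ((hb K c.le).2 a)
      ((pf_subgroupOf c.le).2 b) (sbn_top_iff.2 c.2)
    rwa [subgroupOf_inj, inf_eq_left.2 hL, inf_eq_left.2 c.le] at this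
  · intro h
    refine ⟨(hb L hL).2 h.ne, (pf_subgroupOf hL).2 h.pf, sbn_top_iff.2 h.sbn.2, fun K hK a b c => ?_⟩
    have h1 := map_subtype_le' K
    rw [← subgroupOf_map_subtype' K] at a b c ⊢
    rw [h.min (K.map H.subtype) (map_le_iff_le_comap.2 hK) ((hb _ h1).1 a)
      ((pf_subgroupOf h1).1 b) ⟨h1, sbn_top_iff.1 c⟩]

theorem Sbn.inf_O2 (h : Sbn L H) : O[{2}, H] ⊓ L = O[{2}, L] :=
  le_antisymm (pcore_inf_le _ h.le) (le_inf (h.pcore_le _) (pcore_le _ _))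

theorem Sbn.nonempty_equiv (h : Sbn L H) : Nonempty (L ⧸ pCore 2 L ≃* quo L O[{2}, H]) := by
  have hn : L ≤ N[O[{2}, H]] := h.le.trans (pcore_nml _ H).norm
  have h1 : (O[{2}, H].subgroupOf L).Normal := normal_subgroupOf_of_le_normalizer hn
  have h2 : pCore 2 L = O[{2}, H].subgroupOf L := by
    rw [← inf_subgroupOf_right, Sbn.inf_O2 h, pcore_singleton Nat.prime_two,
      subgroupOf_map_subtype']
  exact ⟨(QuotientGroup.quotientMulEquivOfEq h2).trans (quoEquivQuotient hn)⟩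

theorem t1820 (hs : SQ (⊤ : Subgroup G)) (hk : KG (⊤ : Subgroup G)) :
    sSup (calC G) = perfectCore G ∧
    (∀ L₁ ∈ calC G, ∀ L₂ ∈ calC G, L₁ ≠ L₂ →
        ⁅L₁, L₂⁆ ≤ (pCore 2 L₁).map L₁.subtype ⊓ (pCore 2 L₂).map L₂.subtype ∧
        (pCore 2 L₁).map L₁.subtype ⊓ (pCore 2 L₂).map L₂.subtype ≤ pCore 2 G) ∧
    (∀ L ∈ calC G, L.Normal ∨
        ((normalizer (L : Set G)).index = 2 ∧ LST (L ⧸ pCore 2 L))) := by
  refine ⟨?_, fun L₁ h₁ L₂ h₂ hne => ?_, fun L h => ?_⟩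
  · have := sSup_CC hs hk
    simp only [pcr, le_top, true_and, ← mem_calC] at this
    exact this
  · rw [mem_calC] at h₁ h₂
    rw [← pcore_singleton Nat.prime_two, ← pcore_singleton Nat.prime_two,
      ← pcore_singleton_top Nat.prime_two, ← Sbn.inf_O2 h₁.sbn, ← Sbn.inf_O2 h₂.sbn]
    have h := CC.comm_le_O2 hs h₁ h₂ hne
    exact ⟨le_inf (le_inf h (comm_le_left (h₂.norm h₁))) (le_inf h (comm_le_right (h₁.norm h₂))),
      inf_le_left.trans inf_le_left⟩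
  · rw [mem_calC] at h
    by_cases hn : ⊤ ≤ N[L]
    · exact Or.inl (nml_top_iff.1 ⟨le_top, hn⟩)
    · obtain ⟨e⟩ := Sbn.nonempty_equiv h.sbn
      exact Or.inr ⟨by simpa using (h.idx hs).resolve_left hn, LST.of_equiv e (h.lst hs hk hn)⟩

theorem qt_sq_top (hQ : IsQTKE G) (hH : O[{2}, H] ≠ ⊥) : SQ (⊤ : Subgroup H) := fun p hp h2 =>
  (prank_top_subtype hp H).le.trans (qt_sq hQ hH p hp h2)

theorem mem_calL (hT : Syl 2 ⊤ T) : L ∈ calL T ↔ CC (L ⊔ T) L ∧ O[{2}, L ⊔ T] ≠ ⊥ := by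
  rw [← cc_subgroupOf le_sup_left, O2_ne_iff]
  refine ⟨fun h => ⟨h.1, h.2.2⟩, fun h => ⟨h.1, ?_, h.2⟩⟩
  have h1 : Syl 2 (L ⊔ T) T := hT.of_le le_sup_right le_top
  obtain ⟨S, hS⟩ := h1.exists_sylow Nat.prime_two
  exact ⟨S, (subgroupOf_map_subtype' _).symm.trans (congrArg (subgroupOf · (L ⊔ T)) hS)⟩

theorem CC.mem_calL (h : CC H L) (hT : Syl 2 ⊤ T) (hTH : T ≤ H) (hH : O[{2}, H] ≠ ⊥) :
    L ∈ calL T :=
  (QT.mem_calL hT).2 ⟨h.mono le_sup_left (sup_le h.le hTH), ne_bot_of_le_ne_bot hH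
    (pcore_le_pcore_of_le (sup_le h.le hTH)
      ((pcore_le_Hall (hT.of_le hTH le_top)).trans le_sup_right))⟩

theorem fstar_sbn (hM : IsOfCharacteristicTwo M) (h : Sbn L M) :
    generalizedFittingSubgroup L = pCore 2 L := by
  haveI : Fact (Nat.Prime 2) := ⟨Nat.prime_two⟩
  have h1 := H23.map_subtype_fstar_of_isSubnormal h.2
  rw [H23.fstar_eq_pCore_iff.2 hM] at h1
  have h2 : IsPGroup 2 (generalizedFittingSubgroup (L.subgroupOf M)) :=
    IsPGroup.of_injective ((H2.pCore_isPGroup 2 M).to_le (h1.le.trans inf_le_left))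
      (equivMapOfInjective _ _ (L.subgroupOf M).subtype_injective).toMonoidHom
      (MulEquiv.injective _)
  rw [H23.fstar_eq_pCore_iff_isPGroup, ← H23.map_fstar_equiv (subgroupOfEquivOfLe h.le)]
  exact h2.map _

theorem O2_ne_of_sbn (hM : IsOfCharacteristicTwo M) (h : Sbn L M) (h1 : L ≠ ⊥) :
    O[{2}, L] ≠ ⊥ := by
  haveI := (nontrivial_iff_ne_bot L).2 h1
  rw [O2_ne_iff, ← fstar_sbn hM h]
  exact H23.fstar_ne_bot

theorem uniq_max (h : ∀ M, IsTwoLocal M → U ≤ M → M ≤ N[Y]) (h1 : O[{2}, Y] ≠ ⊥) (h2 : U ≤ N[Y]) :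
    maxTwoLocalsContaining U = {N[Y]} := by
  obtain ⟨M, hM, hM1, hM2⟩ := exists_max (P := IsTwoLocal) (twoLocal_N h1)
  have h3 : N[Y] ≤ M := (N_le_N_pcore _ Y).trans hM
  obtain e : M = N[Y] := le_antisymm (h M hM1 (h2.trans h3)) h3
  ext K
  constructor
  · rintro ⟨hK, hU⟩
    exact (hK.2 _ (e ▸ hM1) (h K hK.1 hU)).symm
  · rintro rfl
    exact ⟨e ▸ ⟨hM1, hM2⟩, h2⟩

section
variable [IsSimpleGroup G] (kn : KN.{u}) (hG : ¬ IsMulCommutative G) (hQ : IsQTKE G)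
include kn hG hQ

theorem t1821a (hT : Syl 2 ⊤ T) (hL : L ∈ calLMax T) (hH : O[{2}, H] ≠ ⊥) (h : L ⊔ T ≤ H) :
    CC H L := by
  have hTH := le_sup_right.trans h
  obtain ⟨K, hK, hLK⟩ := CC.exists_ge (qt_sq hQ hH) (qt_kg kn hG hQ hH) (hT.of_le hTH le_top)
    le_sup_right h ((mem_calL hT).1 hL.1).1
  exact hL.2 K (hK.mem_calL hT hTH hH) hLK ▸ hK

theorem t1821 (T : Sylow 2 G) (hL : L ∈ calLMax (T : Subgroup G)) :
    (∀ H ∈ calHOver (L ⊔ (T : Subgroup G)), L.subgroupOf H ∈ calC H) ∧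
    generalizedFittingSubgroup L = pCore 2 L ∧
    maxTwoLocalsContaining (L ⊔ (T : Subgroup G)) =
      {normalizer (conjClosure L (T : Subgroup G) : Set G)} := by
  have hT : Syl 2 ⊤ (T : Subgroup G) := syl_top_of_sylow Nat.prime_two T
  obtain ⟨hc, hO⟩ := (mem_calL hT).1 hL.1
  have hM := twoLocal_N hO
  have hJ : L ⊔ T ≤ N[O[{2}, L ⊔ (T : Subgroup G)]] := (pcore_nml _ _).norm
  have h2 := hQ.2.2 _ hM ⟨T, le_sup_right.trans hJ⟩
  have hs := (t1821a kn hG hQ hT hL (O2_ne_of_twoLocal hM) hJ).sbn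
  refine ⟨fun H hH => (cc_subgroupOf (le_sup_left.trans hH.2)).2
    (t1821a kn hG hQ hT hL (O2_ne_iff.2 hH.1) hH.2), fstar_sbn h2 hs, uniq_max ?_ ?_ ?_⟩
  · intro M hM hJ g hg
    have hO := O2_ne_of_twoLocal hM
    have hTM := le_sup_right.trans hJ
    refine mem_N_conjClosure fun t ht => ?_
    have h1 : g⁻¹ * t ∈ M := mul_mem (inv_mem hg) (hTM ht)
    by_cases h3 : g⁻¹ * t ∈ N[L]
    · exact ⟨1, one_mem _, by rw [cj_of_mem_N h3, cj_one]⟩
    have h4 := ((t1821a kn hG hQ hT hL hO hJ).idx (qt_sq hQ hO)).resolve_left fun e => h3 (e h1)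
    have h5 : ¬ (T : Subgroup G) ≤ N[L] := fun e => by
      have hS : Syl 2 M T := hT.of_le hTM le_top
      exact hS.not_dvd Nat.prime_two (h4.symm.dvd.trans (relIndex_dvd_of_le_left M e))
    obtain ⟨s, hs, h6⟩ := SetLike.not_le_iff_exists.1 h5
    refine ⟨s, hs, cj_eq_cj_iff.2 ?_⟩
    have := (mul_mem_iff_of_index_two h4 (a := ⟨s⁻¹, inv_mem (hTM hs)⟩) (b := ⟨_, h1⟩)).2
      (by simp only [mem_subgroupOf, inv_mem_iff, h6, h3])
    exact this
  · exact ne_bot_of_le_ne_bot (O2_ne_of_sbn h2 hs hc.ne)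
      ((hc.sbn.of_le (le_conjClosure L T) (conjClosure_le_sup L T)).pcore_le _)
  · exact sup_le (norm_of_le (le_conjClosure L T)) (norm_conjClosure L T)

end

theorem exists_XI (hT : Syl 2 ⊤ T) (hX : X ∈ Xi T) : ∃ p F P, XI p X T F P := by
  obtain ⟨h1, h2, -, ⟨p, hp, hp2, h3⟩, h4⟩ := hX
  set f : X →* X ⧸ pCore 2 X := QuotientGroup.mk' (pCore 2 X) with hf
  have hk : pre f ⊥ = O[{2}, X] := by
    rw [pcore_singleton Nat.prime_two, pre, MonoidHom.comap_bot, QuotientGroup.ker_mk']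
  have hF : twoPhiCore X = pre f (Phi ⊤) := by rw [Phi_top]; rfl
  have hi : img f X = ⊤ := by
    rw [img_dom, MonoidHom.range_eq_top]; exact QuotientGroup.mk'_surjective _
  have hchr : ∀ Y : Subgroup (X ⧸ pCore 2 X), Chr Y ⊤ → Chr (pre f Y) X := fun Y hY =>
    haveI := Characteristic.comap_quotient_mk (chr_top_iff.1 hY)
    chr_map_subtype _
  have hpi : IsPi {p} (⊤ : Subgroup (X ⧸ pCore 2 X)) := by
    rcases h3 with h | h
    · exact isPi_of_card hp (card_top.trans h.1)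
    · exact isPi_of_card hp (card_top.trans h.1)
  obtain ⟨P, hP⟩ := Sylow_exists hp X
  have hP1 : img f P = ⊤ := by
    have := hP.img f le_rfl
    rw [hi] at this
    exact this.eq_self hpi
  have hO : O[{2}, X] ⊓ P = ⊥ := pcore_inf_eq_bot (hP.pi.mono (by simpa using hp2.symm)) X
  have hirr : ∀ N, N ⊴ X → T ≤ N[N] → X ≤ N ∨ N ≤ pre f (Phi ⊤) := by
    intro N hN hTN
    rcases h4 (N ⊔ twoPhiCore X) le_sup_right (sup_le hN.le (hF ▸ pre_le _ _))
      (norm_sup hTN (hF ▸ (hchr _ (chr_Phi _)).norm h2)) with e | e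
    · exact Or.inr (hF ▸ e ▸ le_sup_left)
    left
    have e1 : img f N = ⊤ := by
      refine Phi_nongen le_top ?_
      refine hi.ge.trans ((img_mono f e.ge).trans ?_)
      rw [img_sup f hN.le (hF ▸ pre_le _ _), hF]
      exact sup_le_sup_left (img_pre_le _ _) _
    have e2 : X ≤ N ⊔ O[{2}, X] := hk ▸ (img_le_img_iff le_rfl hN.le).1 (e1 ▸ le_top)
    have e3 : PiNat {2} (N.relIndex X) := by
      rw [← isPi_quo_iff hN.norm]
      refine ((pcore_pi {2} X).quo N).of_le ?_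
      exact (quo_le_quo_iff hN.norm ((pcore_le _ _).trans hN.norm)).2 (by rwa [sup_comm])
    rw [← h1]
    refine (closure_le _).2 fun x hx => ?_
    exact le_of_idx_compl' hN e3 (pi2_of_odd (by rw [card_zpowers']; exact hx.2))
      (zpowers_le.2 hx.1) (mem_zpowers x)
  have hnc : ¬ Cyc (⊤ : Subgroup (X ⧸ pCore 2 X)) := by
    intro hc
    rcases h3 with h | h
    · obtain ⟨x, -, hx⟩ := hc.exists_gen
      have e1 : orderOf x = p ^ 2 := by rw [← card_zpowers', hx, card_top, h.1]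
      have e2 := orderOf_dvd_of_pow_eq_one (h.2.2 x)
      rw [e1] at e2
      have := (Nat.pow_dvd_pow_iff_le_right hp.one_lt).1 (e2.trans (pow_one p).symm.dvd)
      omega
    · exact h.2 (abl_top_iff.1 hc.abl)
  have hexp : ∀ x : X ⧸ pCore 2 X, x ^ p = 1 := by
    rcases h3 with h | h
    · exact h.2.2
    have hc : ♯(⊤ : Subgroup (X ⧸ pCore 2 X)) = p ^ 3 := card_top.trans h.1
    have hodd : Odd ♯(⊤ : Subgroup (X ⧸ pCore 2 X)) := hc ▸ (hp.odd_of_ne_two hp2).pow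
    have hc1 := hchr _ (chr_omegaOne p ⊤)
    rcases hirr _ hc1.nml (hc1.norm h2) with e | e
    · have e1 := (img_le_iff le_rfl).2 e
      rw [hi] at e1
      refine fun x => (exponent_odd_nil23 hp hpi hodd (Or.inl ?_)).1 x (e1 (mem_top x))
      rw [p3_der1_eq_center hp hc (mt abl_top_iff.1 h.2), comm_eq_bot]
      exact inf_le_right
    · exfalso
      have e1 := img_mono f e
      rw [img_pre_of_le_img (hi ▸ le_top), img_pre_of_le_img (hi ▸ le_top)] at e1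
      obtain ⟨A, hA⟩ := (prank_geP hp).1 (odd_pgroup_two_le_prank hp hpi hodd hnc)
      have e2 := (hA.of_le (hA.le_omegaOne.trans e1)).dvd_card
      refine hnc (cyc_of_quo_Phi (cyc_of_card_dvd_prime hp ?_))
      have e3 := (Phi_nml (⊤ : Subgroup (X ⧸ pCore 2 X))).card_quo
      obtain ⟨c, e2⟩ := e2
      rw [hc, e2, pow_succ, mul_assoc] at e3
      exact Dvd.intro_left _ (Nat.eq_of_mul_eq_mul_left (pow_pos hp.pos 2) e3)
  have hexp' : ∀ x ∈ P, x ^ p = 1 := fun x hx => by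
    rw [← mem_bot, ← hO, ← hk]
    exact ⟨mem_pre_bot.2 ⟨pow_mem (hP.le hx) p, by rw [ap_pow f (hP.le hx), hexp]⟩, pow_mem hx p⟩
  refine ⟨p, pre f (Phi ⊤), P, hp, hp2, hT.pi, h2, hP, ?_,
    hT.le_of_norm' (pcore_pi _ _) le_top (norm_pcore _ h2), hk ▸ ker_le_pre _ _, pre_le _ _,
    (hchr _ (chr_Phi _)).norm h2, ?_, ?_, fun hc => hnc (hP1 ▸ hc.img f), hexp', hirr⟩
  · rw [sup_comm, ← hk, ← img_le_img_iff le_rfl hP.le, hP1]; exact le_top
  · rw [← img_le_iff (der1_le X), img_comm f le_rfl le_rfl, hi]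
    exact hpi.der1_le_Phi hp
  · have e1 : P ⊓ pre f (Phi ⊤) ≤ Phi P ⊔ O[{2}, X] := by
      rw [← hk, ← img_le_img_iff (inf_le_left.trans hP.le) ((Phi_le P).trans hP.le),
        img_Phi hp hP.pi f hP.le, hP1]
      exact img_le_of_le_pre inf_le_right
    have e2 := group_modl' (A := Phi P) (B := O[{2}, X]) (L := P)
      ((Phi_le P).trans (hP.le.trans (pcore_nml _ _).norm)) (Phi_le P)
    rw [hO, sup_bot_eq] at e2
    refine (le_inf e1 inf_le_left).trans (e2 ▸ Phi_le_of_pow hp le_rfl fun x hx => ?_)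
    rw [hexp' x hx]; exact one_mem _

theorem t1822 [IsSimpleGroup G] (kn : KN.{u}) (hG : ¬ IsMulCommutative G) (hQ : IsQTKE G)
    (T : Sylow 2 G) (hX : X ∈ XiStar (T : Subgroup G)) :
    maxTwoLocalsContaining (X ⊔ (T : Subgroup G)) = {normalizer (X : Set G)} := by
  have hT : Syl 2 ⊤ (T : Subgroup G) := syl_top_of_sylow Nat.prime_two T
  obtain ⟨p, F, P, h⟩ := exists_XI hT hX.1
  have h1 : ∀ M, IsTwoLocal M → X ⊔ T ≤ M → M ≤ N[X] := by
    intro M hM hJ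
    have hO := O2_ne_of_twoLocal hM
    have hTM := le_sup_right.trans hJ
    refine (h.main (qt_sq hQ hO) (qt_kg kn hG hQ hO) (hT.of_le hTM le_top)
      (le_sup_left.trans hJ)).resolve_right ?_
    rintro ⟨L, hL, hq, hXL⟩
    obtain ⟨e⟩ := Sbn.nonempty_equiv hL.sbn
    exact hX.2 L (hL.mem_calL hT hTM hO) (H23.IsQuasisimple.of_equiv hq e.symm)
      (sup_le hXL le_sup_right)
  have hO := O2_ne_iff.2 hX.1.2.2.1
  have hM := twoLocal_N hO
  have hJ : X ⊔ T ≤ N[O[{2}, X ⊔ (T : Subgroup G)]] := (pcore_nml _ _).norm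
  refine uniq_max h1 (O2_ne_of_sbn (hQ.2.2 _ hM ⟨T, le_sup_right.trans hJ⟩)
    (Nml.sbn ⟨le_sup_left.trans hJ, h1 _ hM hJ⟩) ?_) (sup_le (norm_self X) h.nX)
  rintro rfl
  exact h.not_le (h.syl.le.trans bot_le)

end H16.QT
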