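import Mathlib
import Cfsg.Agent.H16.QT10
import Cfsg.Agent.H16.QTCla2
import Cfsg.Agent.H1.QTSpo
import Cfsg.Agent.H22.QTTor
import Cfsg.Agent.H22.QTEx3
import Cfsg.Agent.H22.QTCoxON

/-!
Quasithin preliminaries, part 11: every known simple group has the properties `KA`.
-/

set_option autoImplicit false

namespace H16.QT

open Cfsg Subgroup

universe u

theorem ka_known : KN.{u} := by
  intro K _ _ hs hK h
  have h2 : 2 ∣ Nat.card K := by
    have h1 : Sp (⊤ : Subgroup K) := ⟨topEquiv.isSimpleGroup, mt H24.abl_top_iff.1 hK⟩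
    exact card_top (G := K) ▸ h1.two_dvd
  rcases h with h | h | h | h | h | h | h | h | h | h
  · haveI : Fact (Nat.card K).Prime := ⟨h⟩
    haveI := isCyclic_of_prime_card (α := K) rfl
    exact absurd (inferInstance : IsMulCommutative K) hK
  · obtain ⟨n, hn, ⟨e⟩⟩ := h
    by_cases h9 : 9 ≤ n
    · exact ka_An h9 ⟨e⟩
    obtain rfl | rfl | rfl | rfl : n = 5 ∨ n = 6 ∨ n = 7 ∨ n = 8 := by omega
    exacts [ka_A5 h2 e, ka_A6 h2 e, ka_A7 ⟨e⟩, ka_A8 h2 e]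
  · exact ka_PSL h2 h
  · exact ka_PSp h2 h
  · exact ka_PSU h2 h
  · exact ka_POo h2 h
  · exact ka_POp h2 h
  · exact ka_POm h2 h
  · rcases h with ⟨F, _, _, h3, ⟨e⟩⟩ | h | h | h | h | h | ⟨F, _, _, q, hq, hF, ⟨e⟩⟩ | h | h | h | h
    · refine KA.of_equiv e ((Nat.even_or_odd (Fintype.card F)).elim (fun he => ka_G2_even F he ?_)
        (ka_G2_odd F))
      obtain ⟨k, hk⟩ := he
      omega
    exacts [ka_F4 h, ka_E6 h, ka_E7 h, ka_E8 h, ka_2E6 h, KA.of_equiv e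
      ((Nat.even_or_odd q).elim (ka_3D4_even F q hq hF) (ka_3D4_odd F q hq hF)), ka_Sz h, ka_Ree h,
      ka_2F4 h, ka_Tits h]
  · rcases h with h | h | h | h | h | h | h | h | h | h | h | h | h | h | h | h | h | h | h | h |
      h | h | h | h | h | h
    exacts [ka_M11 h, ka_M12 h, ka_M22 h, ka_M23 h, ka_M24 h, ka_J1 h, ka_J2 h, ka_J3 h, ka_J4 h,
      ka_Co1 h, ka_Co2 h, ka_Co3 h, ka_McL h, ka_HS h, ka_Suz h, ka_He h, ka_Ru h, ka_ON hK h,
      ka_Ly h, ka_Fi22 hK h, ka_Fi23 hK h, ka_Fi24 hK h, ka_HN h, ka_Th hK h, ka_B hK h, ka_M hK h]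

end H16.QT
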