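import Mathlib
import Cfsg.Agent.H16.SL2Dickson

/-! Dickson's generation theorem for `SL₂(F)`. -/

set_option autoImplicit false

namespace H16

open MulAction Matrix OnePoint
open scoped MatrixGroups

variable {F : Type*} [Field F]

theorem sl2_trace_of_pow (g : SL(2, F)) (hg : g 1 0 ≠ 0) :
    (slPGL g ^ 2 = 1 → g 0 0 + g 1 1 = 0) ∧ (slPGL g ^ 3 = 1 → (g 0 0 + g 1 1) ^ 2 = 1) ∧
      (slPGL g ^ 5 = 1 → (g 0 0 + g 1 1) ^ 4 - 3 * (g 0 0 + g 1 1) ^ 2 + 1 = 0) := by
  have hd := sl2_det g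
  simp only [← map_pow, slPGL_apply, pgl2_mk_eq_one_iff]
  refine ⟨fun h => ?_, fun h => ?_, fun h => ?_⟩
  · have h1 := h.2.1
    simp [pow_succ, mul_apply, Fin.sum_univ_two] at h1
    apply mul_left_cancel₀ hg
    linear_combination h1
  · have h1 := h.2.1
    simp [pow_succ, mul_apply, Fin.sum_univ_two] at h1
    apply mul_left_cancel₀ hg
    linear_combination h1 + g 1 0 * hd
  · have h1 := h.2.1
    simp [pow_succ, mul_apply, Fin.sum_univ_two] at h1
    apply mul_left_cancel₀ hg
    linear_combination h1 + g 1 0 * (3 * (g 0 0 + g 1 1) ^ 2 - 1 -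
      (g 0 0 * g 1 1 - g 0 1 * g 1 0)) * hd

/-- The invariant set of 40 vectors over the field with nine elements. -/
def inv40 (w : ZMod 3 × ZMod 3 × ZMod 3 × ZMod 3) : Bool :=
  Nat.testBit 1127152730517861190864816
    (27 * w.1.val + 9 * w.2.1.val + 3 * w.2.2.1.val + w.2.2.2.val)

theorem sl2_gen_ne_top [Finite F] [CharP F 3] (lam : F) (hl : lam ^ 2 = -1) :
    Subgroup.closure {g : SL(2, F) | (g : Matrix (Fin 2) (Fin 2) F) = !![1, 0; 1, 1] ∨
      (g : Matrix (Fin 2) (Fin 2) F) = !![1, lam; 0, 1]} ≠ ⊤ := by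
  intro h
  let c : ZMod 3 →+* F := ZMod.castHom (dvd_refl 3) F
  let Ψ : ZMod 3 × ZMod 3 × ZMod 3 × ZMod 3 → Fin 2 → F := fun w =>
    ![c w.1 + c w.2.1 * lam, c w.2.2.1 + c w.2.2.2 * lam]
  have hinj : ∀ x y : ZMod 3, c x + c y * lam = 0 → x = 0 ∧ y = 0 := by
    intro x y h
    have h1 : c (x ^ 2 + y ^ 2) = 0 := by
      rw [map_add, map_pow, map_pow]
      linear_combination (c x - c y * lam) * h + c y ^ 2 * hl
    rw [map_eq_zero] at h1
    clear h
    revert x y
    decide
  let M : Submonoid SL(2, F) :=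
    { carrier := {g | ∀ w, inv40 w = true → ∃ w', inv40 w' = true ∧ g.1 *ᵥ Ψ w = Ψ w'}
      one_mem' := fun w hw => ⟨w, hw, by simp⟩
      mul_mem' := fun {a b} ha hb w hw => by
        obtain ⟨w', h1, h2⟩ := hb w hw
        obtain ⟨w'', h3, h4⟩ := ha w' h1
        exact ⟨w'', h3, by rw [← h4, ← h2, mulVec_mulVec]; rfl⟩ }
  have hle : Submonoid.closure {g : SL(2, F) | (g : Matrix (Fin 2) (Fin 2) F) = !![1, 0; 1, 1] ∨
      (g : Matrix (Fin 2) (Fin 2) F) = !![1, lam; 0, 1]} ≤ M := by
    rw [Submonoid.closure_le]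
    rintro g (hg | hg) w hw
    · refine ⟨(w.1, w.2.1, w.1 + w.2.2.1, w.2.1 + w.2.2.2), by revert w; decide, ?_⟩
      ext i
      fin_cases i <;> simp [hg, Ψ, mulVec, dotProduct, Fin.sum_univ_two]
      ring
    · refine ⟨(w.1 - w.2.2.2, w.2.1 + w.2.2.1, w.2.2.1, w.2.2.2), by revert w; decide, ?_⟩
      ext i
      fin_cases i <;> simp [hg, Ψ, mulVec, dotProduct, Fin.sum_univ_two]
      linear_combination c w.2.2.2 * hl
  rw [← Subgroup.closure_toSubmonoid_of_finite, h] at hle
  obtain ⟨⟨x1, y1, x2, y2⟩, h1, h2⟩ := hle (show sl2 (1 : F) 1 0 1 (by simp) ∈ _ from trivial)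
    (0, 0, 1, 1) (by decide)
  have h3 := congrFun h2 0
  have h4 := congrFun h2 1
  simp [Ψ, mulVec, dotProduct, Fin.sum_univ_two] at h3 h4
  obtain ⟨h5, h6⟩ := hinj (x1 - 1) (y1 - 1) (by simp only [map_sub, map_one]; linear_combination -h3)
  obtain ⟨h7, h8⟩ := hinj (x2 - 1) (y2 - 1) (by simp only [map_sub, map_one]; linear_combination -h4)
  rw [sub_eq_zero] at h5 h6 h7 h8
  subst h5 h6 h7 h8
  revert h1
  decide

theorem card_eq_three_of_closure [Finite F] [CharP F 3] (lam : F) (h : lam = 1 ∨ lam = -1)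
    (hgen : Subfield.closure ({lam} : Set F) = ⊤) : Nat.card F = 3 := by
  let c : ZMod 3 →+* F := ZMod.castHom (dvd_refl 3) F
  have h1 : Subfield.closure ({lam} : Set F) ≤ c.fieldRange := by
    rw [Subfield.closure_le, Set.singleton_subset_iff]
    rcases h with rfl | rfl
    · exact one_mem _
    · exact neg_mem (one_mem _)
  rw [hgen, top_le_iff, RingHom.fieldRange_eq_top_iff] at h1
  rw [← Nat.card_eq_of_bijective c ⟨c.injective, h1⟩, Nat.card_zmod]

theorem card_eq_nine_of_closure [Finite F] [CharP F 3] (lam : F) (hl : lam ^ 2 = -1)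
    (hgen : Subfield.closure ({lam} : Set F) = ⊤) : Nat.card F = 9 := by
  let c : ZMod 3 →+* F := ZMod.castHom (dvd_refl 3) F
  let ψ : ZMod 3 × ZMod 3 → F := fun w => c w.1 + c w.2 * lam
  have hinj : ∀ x y : ZMod 3, c x + c y * lam = 0 → x = 0 ∧ y = 0 := by
    intro x y h
    have h1 : c (x ^ 2 + y ^ 2) = 0 := by
      rw [map_add, map_pow, map_pow]
      linear_combination (c x - c y * lam) * h + c y ^ 2 * hl
    rw [map_eq_zero] at h1
    clear h
    revert x y
    decide
  let S : Subring F :=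
    { carrier := Set.range ψ
      mul_mem' := by
        rintro _ _ ⟨a, rfl⟩ ⟨b, rfl⟩
        refine ⟨(a.1 * b.1 - a.2 * b.2, a.1 * b.2 + a.2 * b.1), ?_⟩
        simp only [ψ, map_sub, map_add, map_mul]
        linear_combination -(c a.2 * c b.2) * hl
      one_mem' := ⟨(1, 0), by simp [ψ]⟩
      add_mem' := by
        rintro _ _ ⟨a, rfl⟩ ⟨b, rfl⟩
        refine ⟨a + b, ?_⟩
        simp only [ψ, map_add, Prod.fst_add, Prod.snd_add]
        ring
      zero_mem' := ⟨0, by simp [ψ]⟩
      neg_mem' := by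
        rintro _ ⟨a, rfl⟩
        refine ⟨-a, ?_⟩
        simp only [ψ, map_neg, Prod.fst_neg, Prod.snd_neg]
        ring }
  let L : Subfield F := { S with
    inv_mem' := fun x hx => by
      rcases eq_or_ne x 0 with rfl | h0
      · rw [_root_.inv_zero]; exact S.zero_mem
      · have := Fintype.ofFinite F
        have h1 := FiniteField.pow_card_sub_one_eq_one x h0
        obtain ⟨k, hk⟩ : ∃ k, Fintype.card F - 1 = k + 1 :=
          ⟨Fintype.card F - 2, by have := Fintype.one_lt_card (α := F); omega⟩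
        rw [hk, pow_succ] at h1
        rw [← eq_inv_of_mul_eq_one_left h1]
        exact S.pow_mem hx k }
  have h1 : Subfield.closure ({lam} : Set F) ≤ L := by
    rw [Subfield.closure_le, Set.singleton_subset_iff]
    exact ⟨(0, 1), by simp [ψ]⟩
  rw [hgen] at h1
  have hb : Function.Bijective ψ := by
    refine ⟨fun a b h => ?_, fun x => h1 (Subfield.mem_top x)⟩
    obtain ⟨h2, h3⟩ := hinj (a.1 - b.1) (a.2 - b.2) (by
      simp only [map_sub]; simp only [ψ] at h; linear_combination h)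
    exact Prod.ext (sub_eq_zero.1 h2) (sub_eq_zero.1 h3)
  rw [← Nat.card_eq_of_bijective ψ hb]
  simp

theorem card_eq_two_mul_of_neg_one_mem [Finite F] (h2 : (2 : F) ≠ 0) (H : Subgroup SL(2, F))
    (h : -1 ∈ H) : Nat.card H = 2 * Nat.card (H.map slPGL) := by
  let π : H →* H.map slPGL := slPGL.subgroupMap H
  have hπ : Function.Surjective π := slPGL.subgroupMap_surjective H
  have h1 := π.ker.card_mul_index
  rw [Subgroup.index_ker, MonoidHom.range_eq_top.2 hπ, Subgroup.card_top] at h1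
  rw [← h1]
  congr 1
  have : π.ker = Subgroup.zpowers ⟨-1, h⟩ := by
    apply le_antisymm
    · intro g hg
      rcases (slPGL_eq_one_iff g.1).1 (congrArg Subtype.val hg) with e | e
      · rw [show g = 1 from Subtype.ext e]; exact one_mem _
      · rw [show g = ⟨-1, h⟩ from Subtype.ext e]; exact Subgroup.mem_zpowers _
    · rw [Subgroup.zpowers_le]
      exact Subtype.ext ((slPGL_eq_one_iff _).2 (Or.inr rfl))
  rw [this, Nat.card_zpowers]
  exact orderOf_eq_prime (Subtype.ext (by simp)) (fun e => sl2_neg_one_ne h2 (congrArg Subtype.val e))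

theorem sl2_generation [Fintype F] (h2 : (2 : F) ≠ 0) (lam : F) (hlam : lam ≠ 0)
    (hgen : Subfield.closure ({lam} : Set F) = ⊤) (G : Subgroup SL(2, F))
    (hG : G = Subgroup.closure {g : SL(2, F) | (g : Matrix (Fin 2) (Fin 2) F) = !![1, 0; 1, 1] ∨
      (g : Matrix (Fin 2) (Fin 2) F) = !![1, lam; 0, 1]}) :
    (G = ⊤ ∧ ¬ (Fintype.card F = 9 ∧ lam ^ 2 = -1)) ∨
      (Fintype.card F = 9 ∧ lam ^ 2 = -1 ∧ Nat.card G = 120) := by
  classical
  obtain ⟨p, hc⟩ := CharP.exists F
  have hp : Fact p.Prime := ⟨CharP.char_is_prime F p⟩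
  have hp2 : p ≠ 2 := by
    rintro rfl
    exact h2 (CharP.cast_eq_zero F 2)
  let a : SL(2, F) := sl2 1 0 1 1 (by simp)
  let b : SL(2, F) := sl2 1 lam 0 1 (by simp)
  have ha : a ∈ G := hG ▸ Subgroup.subset_closure (Or.inl rfl)
  have hb : b ∈ G := hG ▸ Subgroup.subset_closure (Or.inr rfl)
  have hb' : transl lam ∈ G.map slPGL := ⟨b, hb, toPGL_sl2_transl lam⟩
  have LA := (lineAct_PLine (F := F) p).subgroup (G.map slPGL)
  have hsm : ∀ (g : G.map slPGL) (x : OnePoint F),
      g • PLine.rat x = PLine.rat ((g : PGL(2, F)) • x) := fun g x => PLine.smul_rat _ _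
  have h0 : ∃ g ∈ G.map slPGL, g • (∞ : OnePoint F) = ((0 : F) : OnePoint F) := by
    have h3 : 2 ≤ Nat.card (LA.U (PLine.rat ∞)) :=
      Finite.one_lt_card_iff_nontrivial.2 ⟨⟨⟨_, hb'⟩, by rw [hsm, transl_smul_infty],
        Subtype.ext (transl_pow_char p lam)⟩, 1, fun h =>
          hlam ((transl_eq_one_iff _).1 (congrArg (fun y => (y.1 : PGL(2, F))) h))⟩
    have h4 : 2 ≤ Nat.card (LA.U (PLine.rat ((0 : F) : OnePoint F))) := by
      refine Finite.one_lt_card_iff_nontrivial.2 ⟨⟨⟨_, ⟨a, ha, rfl⟩⟩, ?_, Subtype.ext ?_⟩, 1,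
        fun h => ?_⟩
      · rw [hsm]
        congr 1
        simp [slPGL_apply, pgl_mk_smul, smul_some_eq_ite, a]
      · let w : SL(2, F) := sl2 0 1 (-1) 0 (by simp)
        have : a = w * sl2 1 (-1) 0 1 (by simp) * w⁻¹ := by
          rw [eq_mul_inv_iff_mul_eq]
          ext i j
          fin_cases i <;> fin_cases j <;> simp [a, w, mul_apply, Fin.sum_univ_two]
        change slPGL a ^ p = 1
        rw [this, map_mul, map_mul, map_inv, conj_pow, ← toPGL_mk_eq (sl2 1 (-1) 0 1 _),
          toPGL_sl2_transl, transl_pow_char]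
        simp
      · have h5 : slPGL a = 1 := congrArg (fun y => (y.1 : PGL(2, F))) h
        rw [slPGL_apply, pgl2_mk_eq_one_iff] at h5
        simp [a] at h5
    obtain ⟨g, hg⟩ := LA.mem_orbit_of_two_le h3 h4
    exact ⟨g, g.2, PLine.rat_injective (by rw [← hsm]; exact hg)⟩
  have h1 : ∃ g ∈ G.map slPGL, g • (∞ : OnePoint F) = ((1 : F) : OnePoint F) :=
    ⟨_, ⟨a, ha, rfl⟩, by simp [slPGL_apply, pgl_mk_smul, smul_infty_eq_ite, a]⟩
  rcases dickson_normalized p (G.map slPGL) ⟨lam, hlam, hb'⟩ h0 h1 with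
    h | ⟨rfl, h3, h4⟩ | ⟨L, -, h3, h4⟩
  · exact absurd h.1 hp2
  · right
    have h30 : (3 : F) = 0 := CharP.cast_eq_zero F 3
    have hne : ¬ (lam = 1 ∨ lam = -1) := by
      intro h
      have h5 := (G.map slPGL).card_subgroup_dvd_card
      rw [h3, card_pgl_two, card_eq_three_of_closure lam h hgen] at h5
      revert h5
      decide
    have key : ∀ g ∈ G, g 1 0 ≠ 0 → g 0 0 + g 1 1 = 0 ∨ (g 0 0 + g 1 1) ^ 2 = 1 ∨
        (g 0 0 + g 1 1) ^ 4 - 3 * (g 0 0 + g 1 1) ^ 2 + 1 = 0 := by
      intro g hg h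
      obtain ⟨k1, k2, k3⟩ := sl2_trace_of_pow g h
      rcases h4 ⟨_, g, hg, rfl⟩ with e | e | e
      · exact Or.inl (k1 (congrArg Subtype.val e))
      · exact Or.inr (Or.inl (k2 (congrArg Subtype.val e)))
      · exact Or.inr (Or.inr (k3 (congrArg Subtype.val e)))
    have k1 := key _ (mul_mem ha hb) (by simp [a, b, mul_apply, Fin.sum_univ_two])
    have k2 := key _ (mul_mem ha (mul_mem hb hb)) (by simp [a, b, mul_apply, Fin.sum_univ_two])
    simp [a, b, mul_apply, Fin.sum_univ_two] at k1 k2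
    have hl : lam ^ 2 = -1 := by
      by_contra hl
      have hl' : lam ^ 2 + 1 ≠ 0 := fun h => hl (by linear_combination h)
      have e1 : lam ^ 2 - lam - 1 = 0 := by
        rcases k1 with k | (k | k) | k
        · exact absurd (Or.inl (by linear_combination k - h30)) hne
        · exact absurd (Or.inr (by linear_combination k)) hne
        · exact absurd (by linear_combination k - h30) hlam
        · apply mul_left_cancel₀ hl'
          linear_combination k + (-2 - 7 * lam - 7 * lam ^ 2 - 3 * lam ^ 3) * h30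
      have e2 : lam ^ 2 + lam - 1 = 0 := by
        rcases k2 with k | (k | k) | k
        · exact absurd (Or.inr (by linear_combination -k + (lam + 1) * h30)) hne
        · exact absurd (Or.inl (by linear_combination -k + lam * h30)) hne
        · exact absurd (by linear_combination -k + (lam + 1) * h30) hlam
        · apply mul_left_cancel₀ hl'
          linear_combination k + (-2 - 13 * lam - 28 * lam ^ 2 - 21 * lam ^ 3 - 5 * lam ^ 4) * h30
      exact hlam (by linear_combination e1 - e2 + lam * h30)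
    refine ⟨by rw [← Nat.card_eq_fintype_card, card_eq_nine_of_closure lam hl hgen], hl, ?_⟩
    obtain ⟨⟨_, t, ht, rfl⟩, ht2⟩ := exists_prime_orderOf_dvd_card' (G := G.map slPGL) 2
      (by rw [h3]; decide)
    rw [← Subgroup.orderOf_coe] at ht2
    have h5 : slPGL t ≠ 1 := by
      intro h
      simp [h] at ht2
    have h6 : t * t = -1 := by
      have := pow_orderOf_eq_one (slPGL t)
      change slPGL t ^ orderOf (slPGL t) = 1 at this
      change orderOf (slPGL t) = 2 at ht2
      rw [ht2, sq, ← map_mul, slPGL_eq_one_iff] at this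
      refine this.resolve_left fun h => h5 ?_
      rw [slPGL_eq_one_iff, ← sl2_mem_center_iff']
      exact H7.sl2_sq_mem_center h2 t h
    rw [card_eq_two_mul_of_neg_one_mem h2 G (h6 ▸ mul_mem ht ht), h3]
  · left
    have hL : L = ⊤ := by
      rw [eq_top_iff, ← hgen, Subfield.closure_le, Set.singleton_subset_iff]
      exact (h3 lam).1 hb'
    subst hL
    have htop : G = ⊤ := by
      have := range_le_of_slPGL G (SpecialLinearGroup.map (⊤ : Subfield F).subtype)
        (by ext i j; fin_cases i <;> fin_cases j <;> simp) (fun g => by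
          rw [slPGL_map]
          rcases h4 with h | ⟨-, h⟩ <;> rw [h]
          · exact ⟨_, rfl⟩
          · exact ⟨(g : PSL(2, (⊤ : Subfield F))), rfl⟩)
      rw [eq_top_iff]
      intro g _
      apply this
      exact (slCongr (n := Fin 2) (Subfield.topEquiv (K := F))).surjective g
    refine ⟨htop, fun ⟨h9, hl⟩ => ?_⟩
    have : p = 3 := by
      obtain ⟨n, -, hn⟩ := FiniteField.card F p
      have : p ∣ 3 ^ 2 := by
        rw [show 3 ^ 2 = Fintype.card F from h9.symm, hn]
        exact dvd_pow_self p n.ne_zero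
      exact (Nat.prime_dvd_prime_iff_eq hp.out Nat.prime_three).1 (hp.out.dvd_of_dvd_pow this)
    subst this
    exact sl2_gen_ne_top lam hl (hG ▸ htop)

end H16
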