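import Mathlib
import Cfsg.Agent.H16.U42
import Cfsg.Agent.H15.GL

/-! `SO(3,3) ≅ S₄`. -/

set_option autoImplicit false

namespace H16

open Matrix H15 Module

/-- Representatives of the four singular points of the conic over the field with three elements. -/
def conic3 (j : Fin 4) : Unit ⊕ (Fin 1 ⊕ Fin 1) → ZMod 3 :=
  Sum.elim (fun _ => ![0, 0, 1, 1] j) (Sum.elim (fun _ => ![1, 0, 1, -1] j) fun _ => ![0, 1, -1, 1] j)

theorem so33_zmod : Nonempty (Cfsg.specialIsometryGroup (ZMod 3) (Cfsg.quadFormOdd 1 (ZMod 3)) ≃*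
    Equiv.Perm (Fin 4)) := by
  let Q := H7.qOdd 1 (ZMod 3)
  have h2 : (2 : ZMod 3) ≠ 0 := by decide
  let R : (ofQuad Q).det.ker → Equiv.Perm (Fin 4) → Prop := fun g k =>
    ∀ j, ∃ c : ZMod 3, g.1.1 (conic3 j) = c • conic3 (k j)
  have h0 : ∀ j, conic3 j ≠ 0 := by decide
  have hinj : ∀ (j j' : Fin 4) (c c' : ZMod 3), c • conic3 j = c' • conic3 j' → c = 0 ∨ j = j' := by
    decide +kernel
  have hne : ∀ (g : (ofQuad Q).det.ker) {i j : Fin 4} {c : ZMod 3},
      g.1.1 (conic3 i) = c • conic3 j → c ≠ 0 := by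
    rintro g i j c h rfl
    exact h0 i (by simpa using h)
  have huniq : ∀ g k k', R g k → R g k' → k = k' := fun g k k' h h' => Equiv.ext fun j => by
    obtain ⟨c, hc⟩ := h j
    obtain ⟨c', hc'⟩ := h' j
    exact (hinj _ _ _ _ (hc.symm.trans hc')).resolve_left (hne g hc)
  obtain ⟨φ, hφ⟩ := exists_hom_of_rel R (fun g g' k k' h h' j => by
    obtain ⟨c', hc'⟩ := h' j
    obtain ⟨c, hc⟩ := h (k' j)
    refine ⟨c' * c, ?_⟩
    change g.1.1 (g'.1.1 _) = _
    rw [hc', map_smul, hc, smul_smul]; rfl) (fun g => by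
      have : ∀ j, ∃ i, ∃ c : ZMod 3, g.1.1 (conic3 j) = c • conic3 i := fun j =>
        (by decide +kernel : ∀ y, Cfsg.quadFormOdd 1 (ZMod 3) y = 0 →
          ∃ i, ∃ c : ZMod 3, y = c • conic3 i) _ ((Form.Isom.map_quad g.1 _).trans
          ((by decide +kernel : ∀ j, Cfsg.quadFormOdd 1 (ZMod 3) (conic3 j) = 0) j))
      choose π hπ using this
      have hπi : Function.Injective π := fun i j h => by
        obtain ⟨c, hc⟩ := hπ i
        obtain ⟨c', hc'⟩ := hπ j
        have : c' • conic3 i = c • conic3 j := g.1.1.injective (by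
          rw [map_smul, map_smul, hc, hc', h, smul_comm])
        exact (hinj _ _ _ _ this).resolve_left (hne g hc')
      exact ⟨Equiv.ofBijective π (Finite.injective_iff_bijective.1 hπi), hπ⟩) huniq
  have hφi : Function.Injective φ := (injective_iff_map_eq_one _).2 fun g hg => by
    have h := hφ g
    rw [hg] at h
    obtain ⟨c0, h0⟩ := h 0
    obtain ⟨c1, h1⟩ := h 1
    obtain ⟨c2, h2⟩ := h 2
    obtain ⟨c3, h3⟩ := h 3
    simp only [Equiv.Perm.coe_one, id] at h0 h1 h2 h3
    have h4 := h3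
    rw [show conic3 3 = conic3 2 + conic3 0 - conic3 1 by decide, map_sub, map_add, h0, h1,
      h2] at h4
    have e2 : c2 = c3 := by simpa [conic3] using congrFun h4 (.inl ())
    have e0 : c0 = c3 := by
      have := congrFun h4 (.inr (.inl 0))
      simp [conic3, e2] at this
      linear_combination this
    have e1 : c1 = c3 := by
      have := congrFun h4 (.inr (.inr 0))
      simp [conic3, e2] at this
      linear_combination -this
    have hk : ∀ v, g.1.1 v = c3 • v := fun v => by
      obtain ⟨a, b, c, rfl⟩ := (by decide +kernel : ∀ v, ∃ a b c : ZMod 3,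
        v = a • conic3 0 + b • conic3 1 + c • conic3 2) v
      simp only [map_add, map_smul, h0, h1, h2, e0, e1, e2]
      module
    have hd := H7.det_of_scalar g.1 hk
    rw [MonoidHom.mem_ker.1 g.2] at hd
    have hz : c3 = 1 := (by decide : ∀ z : ZMod 3, 1 = z ^ 3 → z = 1) _ (by simpa using hd)
    exact Subtype.ext (Form.Isom.ext fun v => by rw [hk, hz, one_smul]; rfl)
  have hc := H7.card_isom_qOdd h2 1
  simp only [ZMod.card, Finset.prod_range_succ, Finset.prod_range_zero] at hc
  have hr : Nat.card (ofQuad Q).det.range = 2 := by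
    have hv : Q (Pi.single (.inl ()) 1) ≠ 0 := by decide +kernel
    have : (ofQuad Q).det.range = ⊤ := by
      rw [eq_top_iff]
      intro u _
      rcases (by decide : ∀ u : (ZMod 3)ˣ, u = 1 ∨ u = -1) u with rfl | rfl
      · exact one_mem _
      · exact ⟨_, det_refl Q hv⟩
    rw [this, Subgroup.card_top, Nat.card_eq_fintype_card, ZMod.card_units]
  have h3 := card_eq_card_ker_mul_card_range (ofQuad Q).det
  have : Finite (ofQuad Q).det.ker := Finite.of_injective φ hφi
  obtain ⟨e⟩ := equiv_perm_of_injective φ hφi (by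
    change Nat.card (ofQuad Q).Isom = _ at hc
    rw [hc, hr] at h3
    norm_num [Nat.factorial] at h3 ⊢
    omega)
  exact ⟨(subgroupEquivOfMem (orthEquiv Q) _ _ fun g => by
    rw [MonoidHom.mem_ker, det_orthEquiv]; rfl).trans e⟩

theorem so33_equiv {F : Type*} [Field F] [Fintype F] (hF : Fintype.card F = 3) :
    Nonempty (Cfsg.specialIsometryGroup F (Cfsg.quadFormOdd 1 F) ≃* Equiv.Perm (Fin 4)) := by
  obtain ⟨e⟩ := H7.nonempty_ringEquiv_zmod 3 hF
  obtain ⟨e'⟩ := so33_zmod
  exact ⟨(specialIsometryGroupCongr e _ _ fun v => by simp [Cfsg.quadFormOdd]).trans e'⟩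

end H16
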