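import Mathlib
import Cfsg.Agent.H16.U42

/-! The structure of `PSU(3,2)`. -/

set_option autoImplicit false

namespace H16

open Matrix H15 H7 Module

/-- Generators of the extraspecial normal subgroup of `SU(3,2)`. -/
def heis (v : ZMod 3 × ZMod 3) : Matrix (Fin 3) (Fin 3) F4 :=
  !![1, 0, 0; 0, F4.mk 2, 0; 0, 0, F4.mk 3] ^ v.1.val * !![0, 1, 0; 0, 0, 1; 1, 0, 0] ^ v.2.val

/-- The action of the quaternion group on the plane over the field with three elements. -/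
def q8act : QuaternionGroup 2 → ZMod 3 × ZMod 3 → ZMod 3 × ZMod 3
  | .a i, v => (fun w : ZMod 3 × ZMod 3 => (-w.2, w.1))^[i.val] v
  | .xa i, v => (fun w : ZMod 3 × ZMod 3 => (w.1 + w.2, w.1 - w.2))
      ((fun w : ZMod 3 × ZMod 3 => (-w.2, w.1))^[i.val] v)

theorem q8act_mul : ∀ k k' v, q8act (k * k') v = q8act k (q8act k' v) := by decide +kernel

set_option synthInstance.maxSize 2000 in
theorem su32_key : ∀ a b c : F4, a * a ^ 2 + b * b ^ 2 + c * c ^ 2 = 1 →
    ∀ d e f : F4, d * d ^ 2 + e * e ^ 2 + f * f ^ 2 = 1 → a * d ^ 2 + b * e ^ 2 + c * f ^ 2 = 0 →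
    ∀ g h i : F4, g * g ^ 2 + h * h ^ 2 + i * i ^ 2 = 1 → a * g ^ 2 + b * h ^ 2 + c * i ^ 2 = 0 →
    d * g ^ 2 + e * h ^ 2 + f * i ^ 2 = 0 →
    a * e * i - a * h * f - d * b * i + d * h * c + g * b * f - g * e * c = 1 →
    ∃ k, ∀ v, ∃ z : F4, !![a, d, g; b, e, h; c, f, i] * heis v =
      z • heis (q8act k v) * !![a, d, g; b, e, h; c, f, i] := by
  decide +kernel

theorem mem_su_of_mul {K : Type*} [Field K] [Fintype K] {q : ℕ} (hK : Fintype.card K = q ^ 2)
    {n : ℕ} (g : Matrix.SpecialLinearGroup (Fin n) K) (h : g.1ᵀ * g.1.map (frob hK) = 1) :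
    g ∈ Cfsg.SU n K q := fun u v => by
  change (g.1 *ᵥ u) ⬝ᵥ (frob hK ∘ (g.1 *ᵥ v)) = u ⬝ᵥ (frob hK ∘ v)
  have : frob hK ∘ (g.1 *ᵥ v) = g.1.map (frob hK) *ᵥ (frob hK ∘ v) :=
    funext fun i => RingHom.map_mulVec _ _ _ _
  rw [this, ← vecMul_transpose, ← dotProduct_mulVec, mulVec_mulVec, h, one_mulVec]

theorem psu32_model : ∃ ψ : Cfsg.PSU 3 F4 2 →* QuaternionGroup 2, Function.Surjective ψ ∧
    Nat.card ψ.ker = 9 ∧ ∀ x ∈ ψ.ker, x ^ 3 = 1 := by
  let R : Cfsg.SU 3 F4 2 → QuaternionGroup 2 → Prop := fun g k =>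
    ∀ v, ∃ z : F4, g.1.1 * heis v = z • heis (q8act k v) * g.1.1
  have hdet : ∀ v, (heis v).det = 1 := fun v => by
    rw [det_fin_three]; revert v; decide +kernel
  have hinj : ∀ (v w : ZMod 3 × ZMod 3) (z z' : F4), z • heis v = z' • heis w → z = 0 ∨ v = w := by
    decide +kernel
  have huniq : ∀ g k k', R g k → R g k' → k = k' := fun g k k' h h' => by
    refine (by decide +kernel : ∀ k k', (∀ v, q8act k v = q8act k' v) → k = k') k k' fun v => ?_
    obtain ⟨z, hz⟩ := h v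
    obtain ⟨z', hz'⟩ := h' v
    have h1 := congrArg (· * (g.1⁻¹).1) (hz.symm.trans hz')
    simp only [Matrix.mul_assoc, sl_coe_mul_inv, Matrix.mul_one] at h1
    refine (hinj _ _ _ _ h1).resolve_left ?_
    rintro rfl
    have := congrArg Matrix.det hz
    simp [hdet] at this
  obtain ⟨φ, hφ⟩ := exists_hom_of_rel R (fun g g' k k' h h' v => by
    obtain ⟨z', hz'⟩ := h' v
    obtain ⟨z, hz⟩ := h (q8act k' v)
    refine ⟨z' * z, ?_⟩
    change g.1.1 * g'.1.1 * _ = _ * (g.1.1 * g'.1.1)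
    rw [Matrix.mul_assoc, hz', smul_mul_assoc, Matrix.mul_smul, ← Matrix.mul_assoc, hz, q8act_mul]
    simp only [smul_mul_assoc, smul_smul, Matrix.mul_assoc]) (fun g => by
      have h1 := su_transpose_mul_map F4.card_sq g
      have h2 := g.1.2
      have h3 := fun i j => congrFun (congrFun h1 i) j
      simp only [Matrix.mul_apply, Fin.sum_univ_three, transpose_apply, map_apply, frob_apply] at h3
      rw [det_fin_three] at h2
      have := su32_key _ _ _ (h3 0 0) _ _ _ (h3 1 1) (h3 0 1) _ _ _ (h3 2 2) (h3 0 2) (h3 1 2)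
        (by linear_combination h2)
      rwa [← eta_fin_three g.1.1] at this) huniq
  have hZ : Subgroup.center _ ≤ φ.ker := fun g hg => by
    obtain ⟨r, -, -, hr⟩ := su_center_smul F4.card_sq (by norm_num) hg
    exact huniq _ _ _ (hφ g) fun v => ⟨1, by rw [hr]; simp [show q8act 1 v = v from rfl]⟩
  have hs : Function.Surjective φ := by
    have h1 : φ ⟨⟨!![1, 1, 1; 1, F4.mk 2, F4.mk 3; 1, F4.mk 3, F4.mk 2], by
        rw [det_fin_three]; decide⟩, mem_su_of_mul F4.card_sq _ (by decide +kernel)⟩ = .a 1 :=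
      huniq _ _ _ (hφ _) (by simp only [R]; decide +kernel)
    have h2 : φ ⟨⟨!![1, 1, F4.mk 2; 1, F4.mk 2, 1; F4.mk 3, F4.mk 2, F4.mk 2], by
        rw [det_fin_three]; decide⟩, mem_su_of_mul F4.card_sq _ (by decide +kernel)⟩ = .xa 0 :=
      huniq _ _ _ (hφ _) (by simp only [R]; decide +kernel)
    intro k
    obtain ⟨n, rfl | rfl⟩ := (by decide : ∀ k : QuaternionGroup 2, ∃ n : Fin 4,
      k = .a 1 ^ n.val ∨ k = .xa 0 * .a 1 ^ n.val) k
    · exact ⟨_, by rw [← h1, ← map_pow]⟩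
    · exact ⟨_, by rw [← h1, ← h2, ← map_pow, ← map_mul]⟩
  let ψ := QuotientGroup.lift _ φ hZ
  have hψ : Function.Surjective ψ := fun k => by
    obtain ⟨g, rfl⟩ := hs k
    exact ⟨g, rfl⟩
  have hc : Nat.card ψ.ker = 9 := by
    have h1 := card_psu F4.card_sq 3 (by norm_num)
    have h2 := Subgroup.card_eq_card_quotient_mul_card_subgroup ψ.ker
    rw [Nat.card_congr (QuotientGroup.quotientKerEquivOfSurjective ψ hψ).toEquiv,
      Nat.card_eq_fintype_card (α := QuaternionGroup 2), QuaternionGroup.card] at h2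
    simp only [Finset.prod_range_succ, Finset.prod_range_zero] at h1
    norm_num at h1
    change Nat.card (Cfsg.PSU 3 F4 2) = _ at h2
    omega
  refine ⟨ψ, hψ, hc, fun x hx => ?_⟩
  let A : ZMod 3 × ZMod 3 → Cfsg.SU 3 F4 2 := fun v =>
    ⟨⟨heis v, hdet v⟩, mem_su_of_mul F4.card_sq _
      ((by decide +kernel : ∀ v, (heis v)ᵀ * (heis v).map (· ^ 2) = 1) v)⟩
  let j : ZMod 3 × ZMod 3 → ψ.ker := fun v => ⟨A v, huniq _ _ _ (hφ (A v))
    ((by decide +kernel : ∀ v w, ∃ z : F4, heis v * heis w = z • heis (q8act 1 w) * heis v) v)⟩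
  have hj : Function.Injective j := fun v w h => by
    obtain ⟨r, -, -, hr⟩ := su_center_smul F4.card_sq (by norm_num)
      (QuotientGroup.eq.1 (congrArg Subtype.val h))
    have h1 : heis v * ((A v)⁻¹ * A w).1.1 = heis w :=
      congrArg (fun g : Cfsg.SU 3 F4 2 => g.1.1) (mul_inv_cancel_left (A v) (A w))
    rw [hr, Matrix.mul_smul, Matrix.mul_one, ← one_smul F4 (heis w)] at h1
    exact ((hinj _ _ _ _ h1.symm).resolve_left one_ne_zero).symm
  obtain ⟨v, hv⟩ := (hj.bijective_of_nat_card_le (by rw [hc]; simp)).2 ⟨x, hx⟩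
  have : x = (A v : Cfsg.PSU 3 F4 2) := (congrArg Subtype.val hv).symm
  rw [this, ← QuotientGroup.mk_pow, show A v ^ 3 = 1 from Subtype.ext (Subtype.ext
    ((by decide +kernel : ∀ v, heis v ^ 3 = 1) v)), QuotientGroup.mk_one]

theorem psu32_structure {F : Type*} [Field F] [Fintype F] (hF : Fintype.card F = 4) :
    ∃ (N : Subgroup (Cfsg.PSU 3 F 2)) (_ : N.Normal), Nat.card N = 9 ∧ (∀ x ∈ N, x ^ 3 = 1) ∧
      Nonempty (Cfsg.PSU 3 F 2 ⧸ N ≃* QuaternionGroup 2) := by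
  obtain ⟨ψ, h1, h2, h3⟩ := psu32_model
  let e : Cfsg.PSU 3 F 2 ≃* Cfsg.PSU 3 F4 2 :=
    quotCenterCongr (suCongr (FiniteField.ringEquivOfCardEq (hF.trans F4.card.symm)) 3 2)
  refine ⟨(ψ.comp e.toMonoidHom).ker, inferInstance, ?_, fun x hx => e.injective ?_,
    ⟨QuotientGroup.quotientKerEquivOfSurjective _ (h1.comp e.surjective)⟩⟩
  · rw [← h2]
    exact Nat.card_congr (subgroupEquivOfMem e _ _ fun _ => Iff.rfl).toEquiv
  · rw [map_pow, map_one]
    exact h3 _ hx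

end H16
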